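import Mathlib

set_option autoImplicit false

open Polynomial

namespace Groth.Agent.Helper12

/-- a linear functional maps `I·C` into `I`. -/
theorem linearMap_mem_of_mem_map {A C : Type*} [CommRing A] [CommRing C] [Algebra A C]
    (I : Ideal A) (l : C →ₗ[A] A) {x : C} (hx : x ∈ I.map (algebraMap A C)) : l x ∈ I := by
  have hx' : x ∈ (I • ⊤ : Submodule A C) := by
    rw [Ideal.smul_top_eq_map]; exact hx
  refine Submodule.smul_induction_on hx' ?_ ?_
  · intro i hi y _
    rw [map_smul, smul_eq_mul]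
    exact I.mul_mem_right _ hi
  · intro y z hy hz
    rw [map_add]; exact I.add_mem hy hz

/-- a polynomial with coefficients in `I` evaluates into `I·C`. -/
theorem aeval_mem_map_of_coeff_mem {A C : Type*} [CommRing A] [CommRing C] [Algebra A C]
    (I : Ideal A) (p : A[X]) (hp : ∀ i, p.coeff i ∈ I) (c : C) :
    aeval c p ∈ I.map (algebraMap A C) := by
  rw [aeval_eq_sum_range]
  refine Ideal.sum_mem _ fun i _ => ?_
  rw [Algebra.smul_def]
  exact Ideal.mul_mem_right _ _ (Ideal.mem_map_of_mem _ (hp i))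

/-- The rank-one-summand argument: an idempotent `e` of a finite `A`-algebra `C = A[c]` on which
`c` acts as `1` modulo `I`, together with a functional `l` with `l e ≡ 1`, yields a root in `A`
congruent to `1` of any polynomial killing `c`. -/
theorem exists_root_of_idempotent {A C : Type*} [CommRing A] [CommRing C] [Algebra A C]
    [Module.Finite A C] (I : Ideal A) (hI : I ≤ Ideal.jacobson ⊥) (c : C)
    (hgen : ∀ y : C, ∃ g : A[X], aeval c g = y) (l : C →ₗ[A] A) (e : C)
    (he : IsIdempotentElem e) (hce : (c - 1) * e ∈ I.map (algebraMap A C))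
    (hle : l e - 1 ∈ I) (f : A[X]) (hf : aeval c f = 0) :
    ∃ α : A, α - 1 ∈ I ∧ f.IsRoot α := by
  have hee : e * e = e := he
  obtain ⟨u, hu⟩ := Ideal.isUnit_of_sub_one_mem_jacobson_bot (l e) (hI hle)
  -- the A-submodule eC
  obtain ⟨N, hN⟩ : ∃ N : Submodule A C, N = LinearMap.range (LinearMap.mulLeft A e) := ⟨_, rfl⟩
  have hNmem : ∀ y : C, e * y ∈ N := fun y => by rw [hN]; exact ⟨y, rfl⟩
  have hNfg : N.FG := by
    rw [hN, LinearMap.range_eq_map]
    exact (Module.Finite.fg_top).map _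
  have hIN : ∀ z ∈ I.map (algebraMap A C), ∀ w : C, e * z * w ∈ I • N := by
    intro z hz w
    have hz' : z ∈ (I • ⊤ : Submodule A C) := by
      rw [Ideal.smul_top_eq_map]; exact hz
    refine Submodule.smul_induction_on hz' ?_ ?_
    · intro i hi y _
      have : e * (i • y) * w = i • (e * (y * w)) := by
        rw [mul_smul_comm, smul_mul_assoc, mul_assoc]
      rw [this]
      exact Submodule.smul_mem_smul hi (hNmem _)
    · intro y z hy hz
      rw [mul_add, add_mul]
      exact Submodule.add_mem _ hy hz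
  have hle' : N ≤ Submodule.span A {e} ⊔ I • N := by
    intro x hx
    rw [hN] at hx
    obtain ⟨y, rfl⟩ := hx
    obtain ⟨g, rfl⟩ := hgen y
    obtain ⟨q, hq⟩ := X_sub_C_dvd_sub_C_eval (a := (1 : A)) (p := g)
    have h1 : aeval c g = algebraMap A C (g.eval 1) + (c - 1) * aeval c q := by
      have := congrArg (aeval c) hq
      simp only [map_sub, map_mul, aeval_X, aeval_C, map_one] at this
      rw [← this]; ring
    show e * aeval c g ∈ _
    have h2 : e * aeval c g = g.eval 1 • e + e * ((c - 1) * e) * aeval c q := by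
      rw [h1, Algebra.smul_def]
      have : e * ((c - 1) * e) * aeval c q = (c - 1) * (e * e) * aeval c q := by ring
      rw [this, hee]; ring
    rw [h2]
    exact Submodule.add_mem_sup (Submodule.smul_mem _ _ (Submodule.mem_span_singleton_self e))
      (hIN _ hce _)
  have hNle : N ≤ Submodule.span A {e} :=
    Submodule.le_of_le_smul_of_le_jacobson_bot hNfg hI hle'
  obtain ⟨α, hα⟩ := Submodule.mem_span_singleton.mp (hNle (hNmem c))
  refine ⟨α, ?_, ?_⟩
  · have h3 : (α - 1) • e = (c - 1) * e := by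
      rw [sub_smul, hα, one_smul]; ring
    have h4 : (α - 1) * l e ∈ I := by
      have := linearMap_mem_of_mem_map I l hce
      rw [← h3, map_smul, smul_eq_mul] at this
      exact this
    have h5 : α - 1 = (α - 1) * l e - (α - 1) * (l e - 1) := by ring
    rw [h5]
    exact I.sub_mem h4 (I.mul_mem_left _ hle)
  · obtain ⟨q, hq⟩ := X_sub_C_dvd_sub_C_eval (a := α) (p := f)
    have h6 : - algebraMap A C (f.eval α) = (c - algebraMap A C α) * aeval c q := by
      have := congrArg (aeval c) hq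
      simp only [map_sub, map_mul, aeval_X, aeval_C, hf, zero_sub] at this
      exact this
    have h7 : (c - algebraMap A C α) * e = 0 := by
      rw [sub_mul, ← Algebra.smul_def, hα, mul_comm, sub_self]
    have h8 : f.eval α • e = 0 := by
      rw [Algebra.smul_def]
      have : algebraMap A C (f.eval α) * e = - ((c - algebraMap A C α) * e * aeval c q) := by
        rw [mul_right_comm, ← h6]; ring
      rw [this, h7, zero_mul, neg_zero]
    have h9 : f.eval α * l e = 0 := by
      have := congrArg l h8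
      rwa [map_smul, map_zero, smul_eq_mul] at this
    rw [← hu] at h9
    exact (Units.mul_left_eq_zero u).mp h9

theorem map_eq_zero_of_coeff_mem {A : Type*} [CommRing A] (I : Ideal A) (p : A[X])
    (hp : ∀ i, p.coeff i ∈ I) : p.map (Ideal.Quotient.mk I) = 0 := by
  ext i
  rw [coeff_map, coeff_zero]
  exact Ideal.Quotient.eq_zero_iff_mem.mpr (hp i)

theorem coeff_mem_of_map_eq {A : Type*} [CommRing A] (I : Ideal A) (p q : A[X])
    (h : p.map (Ideal.Quotient.mk I) = q.map (Ideal.Quotient.mk I)) (i : ℕ) :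
    (p - q).coeff i ∈ I := by
  rw [coeff_sub, ← Ideal.Quotient.eq_zero_iff_mem, map_sub, ← coeff_map, ← coeff_map, h, sub_self]

theorem exists_gabber_root {A : Type*} [CommRing A] (I : Ideal A) (hI : I ≤ Ideal.jacobson ⊥)
    (h : ∀ (m : ℕ) (p : Polynomial A), p.Monic →
      Polynomial.map (Ideal.Quotient.mk I) p =
        Polynomial.map (Ideal.Quotient.mk I) ((Polynomial.X ^ 2 - Polynomial.X) ^ m) →
      Set.SurjOn (Ideal.Quotient.mk (Ideal.map (algebraMap A (AdjoinRoot p)) I))
        {e : AdjoinRoot p | IsIdempotentElem e} {e | IsIdempotentElem e})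
    (n : ℕ) (hn : 0 < n) (p : A[X]) (hp : p.natDegree ≤ n) (hpI : ∀ i, p.coeff i ∈ I) :
    ∃ α : A, α - 1 ∈ I ∧ IsRoot (X ^ n * (X - 1) + p) α := by
  classical
  nontriviality A
  obtain ⟨f, hfdef⟩ : ∃ f : A[X], f = X ^ n * (X - 1) + p := ⟨_, rfl⟩
  rw [← hfdef]
  have h0 : (X - 1 : A[X]) = X - C 1 := by simp
  have hfmonic : f.Monic := by
    rw [hfdef]
    have h1 : (X ^ n * (X - 1) : A[X]).Monic := by
      rw [h0]; exact (monic_X_pow n).mul (monic_X_sub_C (1 : A))
    have hnd : (X ^ n * (X - 1) : A[X]).natDegree = n + 1 := by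
      rw [h0, (monic_X_pow n).natDegree_mul (monic_X_sub_C 1), natDegree_X_pow, natDegree_X_sub_C]
    apply h1.add_of_left
    apply degree_lt_degree
    rw [hnd]; omega
  have hfdeg : f.natDegree = n + 1 := by
    have hnd : (X ^ n * (X - 1) : A[X]).natDegree = n + 1 := by
      rw [h0, (monic_X_pow n).natDegree_mul (monic_X_sub_C 1), natDegree_X_pow, natDegree_X_sub_C]
    rw [hfdef, natDegree_add_eq_left_of_natDegree_lt (by rw [hnd]; omega), hnd]
  obtain ⟨g, hgdef⟩ : ∃ g : A[X], g = X * (X - 1) ^ n := ⟨_, rfl⟩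
  have hgmonic : g.Monic := by
    rw [hgdef, h0]; exact monic_X.mul ((monic_X_sub_C (1 : A)).pow n)
  have hPmonic : (f * g).Monic := hfmonic.mul hgmonic
  have hpmap := map_eq_zero_of_coeff_mem I p hpI
  have hPmap : (f * g).map (Ideal.Quotient.mk I) =
      ((X ^ 2 - X) ^ (n + 1) : A[X]).map (Ideal.Quotient.mk I) := by
    rw [hfdef, hgdef]
    simp only [Polynomial.map_mul, Polynomial.map_add, Polynomial.map_pow, Polynomial.map_sub,
      Polynomial.map_X, Polynomial.map_one, hpmap]
    have h1 : (X ^ 2 - X : (A ⧸ I)[X]) = X * (X - 1) := by ring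
    rw [h1, mul_pow]
    ring
  have hsurj := h (n + 1) (f * g) hPmonic hPmap
  -- notation
  obtain ⟨t, ht⟩ : ∃ t : AdjoinRoot (f * g), t = AdjoinRoot.root (f * g) := ⟨_, rfl⟩
  have htP : aeval t (f * g) = 0 := by
    rw [ht, AdjoinRoot.aeval_eq, AdjoinRoot.mk_self]
  -- (t^2 - t)^(n+1) ∈ I B
  have hnil : aeval t ((X ^ 2 - X) ^ (n + 1) : A[X]) ∈
      Ideal.map (algebraMap A (AdjoinRoot (f * g))) I := by
    have h1 := aeval_mem_map_of_coeff_mem I _ (coeff_mem_of_map_eq I _ _ hPmap) t
    rw [map_sub, htP, zero_sub] at h1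
    have := Ideal.neg_mem_iff _ |>.mp h1
    exact this
  -- the idempotent polynomial
  have hcop : IsCoprime (X ^ (n + 1) : A[X]) ((1 - X) ^ (n + 1)) :=
    IsCoprime.pow ⟨1, 1, by ring⟩
  obtain ⟨a, b, hab⟩ := hcop
  obtain ⟨E, hE⟩ : ∃ E : A[X], E = a * X ^ (n + 1) := ⟨_, rfl⟩
  have hEE : E * E - E = - (a * b * (-1) ^ (n + 1)) * (X ^ 2 - X) ^ (n + 1) := by
    have h1 : E * E - E = - (E * (1 - E)) := by ring
    have h2 : 1 - E = b * (1 - X) ^ (n + 1) := by
      rw [hE]; linear_combination (-1 : A[X]) * hab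
    rw [h1, h2, hE]
    have h3 : (X ^ 2 - X : A[X]) ^ (n + 1) = (-1) ^ (n + 1) * (X ^ (n + 1) * (1 - X) ^ (n + 1)) := by
      rw [← mul_pow, ← mul_pow]; congr 1; ring
    rw [h3]
    have h4 : ((-1 : A[X]) ^ (n + 1)) * (-1) ^ (n + 1) = 1 := by
      rw [← mul_pow]; simp
    linear_combination (a * b * X ^ (n + 1) * (1 - X) ^ (n + 1)) * h4
  have hidem : IsIdempotentElem (Ideal.Quotient.mk
      (Ideal.map (algebraMap A (AdjoinRoot (f * g))) I) (aeval t E)) := by
    show _ * _ = _
    rw [← map_mul, ← sub_eq_zero, ← map_sub, Ideal.Quotient.eq_zero_iff_mem, ← map_mul,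
      ← map_sub, hEE, map_mul]
    exact Ideal.mul_mem_left _ _ hnil
  obtain ⟨ε, hεidem, hε⟩ := hsurj hidem
  have hεmem : ε - aeval t E ∈ Ideal.map (algebraMap A (AdjoinRoot (f * g))) I := by
    rw [← Ideal.Quotient.eq_zero_iff_mem, map_sub, hε, sub_self]
  -- the map to C
  obtain ⟨c, hc⟩ : ∃ c : AdjoinRoot f, c = AdjoinRoot.root f := ⟨_, rfl⟩
  have hcf : aeval c f = 0 := by rw [hc, AdjoinRoot.aeval_eq, AdjoinRoot.mk_self]
  have hcP : (f * g).eval₂ (Algebra.ofId A (AdjoinRoot f)) c = 0 := by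
    have : aeval c (f * g) = 0 := by rw [map_mul, hcf, zero_mul]
    exact this
  obtain ⟨φ, hφ⟩ : ∃ φ : AdjoinRoot (f * g) →ₐ[A] AdjoinRoot f, φ t = c :=
    ⟨AdjoinRoot.liftAlgHom (f * g) (Algebra.ofId A (AdjoinRoot f)) c hcP, by
      rw [ht]; exact AdjoinRoot.liftAlgHom_root _ _ _ _⟩
  have hφI : ∀ x ∈ Ideal.map (algebraMap A (AdjoinRoot (f * g))) I,
      φ x ∈ Ideal.map (algebraMap A (AdjoinRoot f)) I := by
    intro x hx
    have h1 : Ideal.map φ.toRingHom (Ideal.map (algebraMap A (AdjoinRoot (f * g))) I) =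
        Ideal.map (algebraMap A (AdjoinRoot f)) I := by
      rw [Ideal.map_map]
      congr 1
      exact φ.comp_algebraMap
    rw [← h1]
    exact Ideal.mem_map_of_mem _ hx
  obtain ⟨e, he⟩ : ∃ e : AdjoinRoot f, e = φ ε := ⟨_, rfl⟩
  have heidem : IsIdempotentElem e := by
    rw [he]; exact hεidem.map φ
  have heE : e - aeval c E ∈ Ideal.map (algebraMap A (AdjoinRoot f)) I := by
    have := hφI _ hεmem
    rw [map_sub, ← aeval_algHom_apply, hφ, ← he] at this
    exact this
  -- c^n (c-1) ∈ I C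
  have hcn : c ^ n * (c - 1) ∈ Ideal.map (algebraMap A (AdjoinRoot f)) I := by
    have h1 := aeval_mem_map_of_coeff_mem I p hpI c
    have h2 : c ^ n * (c - 1) = - aeval c p := by
      have := (congrArg (aeval c) hfdef).symm.trans hcf
      rw [map_add, map_mul, map_pow, map_sub, aeval_X, map_one] at this
      linear_combination this
    rw [h2]
    exact Ideal.neg_mem_iff _ |>.mpr h1
  have hce : (c - 1) * e ∈ Ideal.map (algebraMap A (AdjoinRoot f)) I := by
    have h1 : (c - 1) * e = (c - 1) * (e - aeval c E) + aeval c a * c * (c ^ n * (c - 1)) := by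
      rw [hE, map_mul, map_pow, aeval_X]; ring
    rw [h1]
    exact Ideal.add_mem _ (Ideal.mul_mem_left _ _ heE) (Ideal.mul_mem_left _ _ hcn)
  have ha1 : a.eval 1 = 1 := by
    have := congrArg (eval (1 : A)) hab
    simpa using this
  have hecn : e - c ^ n ∈ Ideal.map (algebraMap A (AdjoinRoot f)) I := by
    obtain ⟨q, hq⟩ := X_sub_C_dvd_sub_C_eval (a := (1 : A)) (p := a * X - 1)
    have h1 : aeval c a * c - 1 = (c - 1) * aeval c q := by
      have := congrArg (aeval c) hq
      simp only [eval_sub, eval_mul, eval_X, eval_one, ha1, mul_one, sub_self, map_zero,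
        sub_zero, map_sub, map_mul, aeval_X, map_one, aeval_C] at this
      exact this
    have h2 : e - c ^ n = (e - aeval c E) + aeval c q * (c ^ n * (c - 1)) := by
      have : aeval c E - c ^ n = c ^ n * (aeval c a * c - 1) := by
        rw [hE, map_mul, map_pow, aeval_X]; ring
      linear_combination this + c ^ n * h1
    rw [h2]
    exact Ideal.add_mem _ heE (Ideal.mul_mem_left _ _ hcn)
  -- the functional
  obtain ⟨pb, hpbdim, hpbgen⟩ : ∃ pb : PowerBasis A (AdjoinRoot f), pb.dim = n + 1 ∧ pb.gen = c :=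
    ⟨AdjoinRoot.powerBasis' hfmonic, hfdeg, hc.symm⟩
  have hfin : Module.Finite A (AdjoinRoot f) := hfmonic.finite_adjoinRoot
  obtain ⟨l, hl⟩ : ∃ l : AdjoinRoot f →ₗ[A] A, l (c ^ n) = 1 := by
    refine ⟨pb.basis.coord ⟨n, by rw [hpbdim]; omega⟩, ?_⟩
    have : c ^ n = pb.basis ⟨n, by rw [hpbdim]; omega⟩ := by
      rw [pb.basis_eq_pow, hpbgen]
    rw [this, Module.Basis.coord_apply, Module.Basis.repr_self, Finsupp.single_eq_same]
  have hle : l e - 1 ∈ I := by
    have := linearMap_mem_of_mem_map I l hecn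
    rwa [map_sub, hl] at this
  have hgen : ∀ y : AdjoinRoot f, ∃ g' : A[X], aeval c g' = y := by
    intro y
    obtain ⟨g', rfl⟩ := AdjoinRoot.mk_surjective y
    exact ⟨g', by rw [hc, AdjoinRoot.aeval_eq]⟩
  exact exists_root_of_idempotent I hI c hgen l e heidem hce hle f hcf

end Groth.Agent.Helper12
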