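import Mathlib

set_option autoImplicit false

namespace Groth.Agent.Helper12.Kap

universe u v

variable {R : Type*} [CommRing R] {M : Type*} [AddCommGroup M] [Module R M]

/-- countably generated submodule -/
def CG (C : Submodule R M) : Prop := ∃ s : Set M, s.Countable ∧ Submodule.span R s = C

theorem CG.map {M' : Type*} [AddCommGroup M'] [Module R M'] {C : Submodule R M} (h : CG C)
    (f : M →ₗ[R] M') : CG (Submodule.map f C) := by
  obtain ⟨s, hs, rfl⟩ := h
  exact ⟨f '' s, hs.image f, (Submodule.map_span f s).symm⟩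

section
variable {ι : Type*} (N : ι → Submodule R M)

/-- the partial sum over a set of indices -/
def MJ (J : Set ι) : Submodule R M := ⨆ i ∈ J, N i

theorem MJ_mono {J J' : Set ι} (h : J ⊆ J') : MJ N J ≤ MJ N J' :=
  biSup_mono h

theorem MJ_union (J S : Set ι) : MJ N (J ∪ S) = MJ N J ⊔ MJ N S := iSup_union

theorem le_MJ {J : Set ι} {i : ι} (hi : i ∈ J) : N i ≤ MJ N J := le_biSup N hi

theorem MJ_empty : MJ N (∅ : Set ι) = ⊥ := by simp [MJ]

theorem MJ_univ (htop : ⨆ i, N i = ⊤) : MJ N (Set.univ : Set ι) = ⊤ := by simp [MJ, htop]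

theorem MJ_cg (gen : ι → Set M) (hgen : ∀ i, (gen i).Countable ∧ Submodule.span R (gen i) = N i)
    {S : Set ι} (hS : S.Countable) : CG (MJ N S) := by
  refine ⟨⋃ i ∈ S, gen i, hS.biUnion fun i _ => (hgen i).1, ?_⟩
  rw [Submodule.span_iUnion₂, MJ]
  exact biSup_congr fun i _ => (hgen i).2

theorem exists_proj (hind : iSupIndep N) (htop : ⨆ i, N i = ⊤) (J : Set ι) :
    ∃ ρ : M →ₗ[R] M, (∀ x, ρ x ∈ MJ N Jᶜ) ∧ (∀ x, x - ρ x ∈ MJ N J) ∧
      (∀ x ∈ MJ N J, ρ x = 0) ∧ (∀ x ∈ MJ N Jᶜ, ρ x = x) := by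
  have hcompl : IsCompl (MJ N Jᶜ) (MJ N J) := by
    constructor
    · exact hind.disjoint_biSup_biSup disjoint_compl_left
    · rw [codisjoint_iff, ← MJ_union, Set.compl_union_self, MJ_univ N htop]
  refine ⟨(MJ N Jᶜ).projection (MJ N J) hcompl, ?_, ?_, ?_, ?_⟩
  · exact fun x => Submodule.projection_apply_mem hcompl x
  · exact fun x => Submodule.sub_projection_mem hcompl x
  · exact fun x hx => Submodule.projection_apply_right hcompl ⟨x, hx⟩
  · exact fun x hx => Submodule.projection_apply_of_mem_left hcompl hx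

end


section Step
variable {ι : Type*} (N : ι → Submodule R M)
  (P : Submodule R M) (p : M →ₗ[R] M)

/-- `J` is good when the projection preserves the partial sum. -/
def Good (J : Set ι) : Prop := ∀ x ∈ MJ N J, p x ∈ MJ N J

theorem ext_step (hind : iSupIndep N) (htop : ⨆ i, N i = ⊤)
    (hpP : ∀ x, p x ∈ P) (hpid : ∀ x ∈ P, p x = x)
    (J S : Set ι) (hJ : Good N p J) (hJS : Good N p (J ∪ S)) :
    ∃ L : Submodule R M, L ≤ P ∧ Disjoint (MJ N J ⊓ P) L ∧
      (MJ N J ⊓ P) ⊔ L = MJ N (J ∪ S) ⊓ P ∧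
      ∃ f : M →ₗ[R] M, L = Submodule.map f (MJ N S) := by
  obtain ⟨ρ, hρ1, hρ2, hρ3, hρ4⟩ := exists_proj N hind htop J
  have hB : MJ N (J ∪ S) ⊓ P = Submodule.map p (MJ N (J ∪ S)) := by
    apply le_antisymm
    · rintro x ⟨hx1, hx2⟩
      exact ⟨x, hx1, hpid x hx2⟩
    · rintro _ ⟨x, hx, rfl⟩
      exact ⟨hJS x hx, hpP x⟩
  have hρJS : ∀ x ∈ MJ N (J ∪ S), ρ x ∈ MJ N (J ∪ S) := by
    intro x hx
    have hu : J ∪ S = J ∪ (S \ J) := Set.union_diff_self.symm
    have hx' : x ∈ MJ N J ⊔ MJ N (S \ J) := by rw [← MJ_union, ← hu]; exact hx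
    obtain ⟨u, hu', v, hv, rfl⟩ := Submodule.mem_sup.mp hx'
    rw [map_add, hρ3 u hu', zero_add, hρ4 v (MJ_mono N (fun i hi => hi.2) hv)]
    exact MJ_mono N (fun i hi => Or.inr hi.1) hv
  refine ⟨Submodule.map (p ∘ₗ ρ) (MJ N (J ∪ S) ⊓ P), ?_, ?_, ?_, p ∘ₗ ρ ∘ₗ p, ?_⟩
  · rintro _ ⟨x, -, rfl⟩
    exact hpP _
  · rw [Submodule.disjoint_def]
    rintro y ⟨hyJ, -⟩ ⟨x, ⟨hx1, hx2⟩, rfl⟩
    have hpx : p x = x := hpid x hx2
    have h1 : ρ x = (p ∘ₗ ρ) x + p (x - ρ x) - (x - ρ x) := by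
      rw [LinearMap.comp_apply, map_sub, hpx]; abel
    have h2 : ρ x ∈ MJ N J := by
      rw [h1]
      exact Submodule.sub_mem _ (Submodule.add_mem _ hyJ (hJ _ (hρ2 x))) (hρ2 x)
    have h3 : ρ x = 0 := by
      rw [← hρ4 (ρ x) (hρ1 x)]; exact hρ3 _ h2
    rw [LinearMap.comp_apply, h3, map_zero]
  · apply le_antisymm
    · refine sup_le (inf_le_inf_right _ (MJ_mono N Set.subset_union_left)) ?_
      rintro _ ⟨x, ⟨hx1, -⟩, rfl⟩
      exact ⟨hJS _ (hρJS x hx1), hpP _⟩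
    · rintro x ⟨hx1, hx2⟩
      have hpx : p x = x := hpid x hx2
      have h1 : x = p (x - ρ x) + (p ∘ₗ ρ) x := by
        rw [LinearMap.comp_apply, ← map_add, sub_add_cancel, hpx]
      rw [h1]
      refine Submodule.add_mem_sup ⟨hJ _ (hρ2 x), hpP _⟩ ?_
      exact ⟨x, ⟨hx1, hx2⟩, rfl⟩
  · rw [hB, ← Submodule.map_comp, MJ_union, Submodule.map_sup]
    have h1 : Submodule.map ((p ∘ₗ ρ) ∘ₗ p) (MJ N J) = ⊥ := by
      rw [eq_bot_iff]
      rintro _ ⟨x, hx, rfl⟩
      rw [LinearMap.comp_apply, LinearMap.comp_apply, hρ3 (p x) (hJ x hx), map_zero]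
      exact Submodule.zero_mem _
    rw [h1, bot_sup_eq]
    rfl

end Step


section Closure
variable {ι : Type*} (N : ι → Submodule R M) (p : M →ₗ[R] M)

theorem exists_good_union (gen : ι → Set M)
    (hgen : ∀ i, (gen i).Countable ∧ Submodule.span R (gen i) = N i)
    (htop : ⨆ i, N i = ⊤) (J : Set ι) (hJ : Good N p J) (i₀ : ι) :
    ∃ S : Set ι, S.Countable ∧ i₀ ∈ S ∧ Good N p (J ∪ S) := by
  classical
  have hsupp : ∀ x : M, ∃ s : Finset ι, x ∈ ⨆ i ∈ s, N i := fun x =>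
    Submodule.mem_iSup_iff_exists_finset.mp (htop ▸ Submodule.mem_top)
  choose supp hsupp using hsupp
  obtain ⟨step, hstep⟩ : ∃ step : Set ι → Set ι, ∀ S, step S =
      S ∪ ⋃ i ∈ S, ⋃ g ∈ gen i, (↑(supp (p g)) : Set ι) := ⟨_, fun _ => rfl⟩
  obtain ⟨Sn, hSn⟩ : ∃ Sn : ℕ → Set ι, ∀ n, Sn n = step^[n] {i₀} := ⟨_, fun _ => rfl⟩
  have hSn0 : Sn 0 = {i₀} := by rw [hSn]; rfl
  have hSnsucc : ∀ n, Sn (n + 1) = step (Sn n) := by
    intro n; rw [hSn, hSn, Function.iterate_succ_apply']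
  have hcount : ∀ n, (Sn n).Countable := by
    intro n
    induction n with
    | zero => rw [hSn0]; exact Set.countable_singleton _
    | succ n ih =>
      rw [hSnsucc, hstep]
      exact ih.union (ih.biUnion fun i _ => (hgen i).1.biUnion fun g _ => Finset.countable_toSet _)
  refine ⟨⋃ n, Sn n, Set.countable_iUnion hcount, Set.mem_iUnion.mpr ⟨0, by rw [hSn0]; rfl⟩, ?_⟩
  have hclosed : ∀ i ∈ ⋃ n, Sn n, ∀ g ∈ gen i, (↑(supp (p g)) : Set ι) ⊆ ⋃ n, Sn n := by
    intro i hi g hg j hj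
    obtain ⟨n, hn⟩ := Set.mem_iUnion.mp hi
    refine Set.mem_iUnion.mpr ⟨n + 1, ?_⟩
    rw [hSnsucc, hstep]
    refine Or.inr ?_
    simp only [Set.mem_iUnion]
    exact ⟨i, hn, g, hg, hj⟩
  have hS : MJ N (⋃ n, Sn n) ≤ Submodule.comap p (MJ N (⋃ n, Sn n)) := by
    refine iSup₂_le fun i hi => ?_
    rw [← (hgen i).2, Submodule.span_le]
    intro g hg
    show p g ∈ MJ N (⋃ n, Sn n)
    exact (biSup_mono (hclosed i hi g hg) : (⨆ j ∈ (↑(supp (p g)) : Set ι), N j) ≤ _) (hsupp (p g))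
  intro x hx
  rw [MJ_union] at hx ⊢
  obtain ⟨u, hu, v, hv, rfl⟩ := Submodule.mem_sup.mp hx
  rw [map_add]
  exact Submodule.add_mem_sup (hJ u hu) (hS hv)

end Closure


section Zorn
variable {ι : Type*} (N : ι → Submodule R M) (P : Submodule R M) (p : M →ₗ[R] M)

/-- the admissible partial decompositions -/
def Ok (x : Set ι × Set (Submodule R M)) : Prop :=
  Good N p x.1 ∧ (∀ C ∈ x.2, C ≤ P ∧ CG C) ∧ sSupIndep x.2 ∧ sSup x.2 = MJ N x.1 ⊓ P

theorem ok_empty : Ok N P p (∅, ∅) := by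
  refine ⟨?_, ?_, ?_, ?_⟩
  · intro x hx
    rw [MJ_empty, Submodule.mem_bot] at hx
    rw [hx, map_zero]; exact Submodule.zero_mem _
  · intro C hC; exact absurd hC (Set.notMem_empty C)
  · exact sSupIndep_empty
  · show sSup (∅ : Set (Submodule R M)) = MJ N (∅ : Set ι) ⊓ P
    rw [sSup_empty, MJ_empty, bot_inf_eq]

theorem ok_chain (c : Set (Set ι × Set (Submodule R M))) (hc : c ⊆ {x | Ok N P p x})
    (hchain : IsChain (· ≤ ·) c) :
    ∃ ub ∈ {x | Ok N P p x}, ∀ z ∈ c, z ≤ ub := by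
  rcases c.eq_empty_or_nonempty with rfl | hne
  · exact ⟨(∅, ∅), ok_empty N P p, fun z hz => absurd hz (Set.notMem_empty z)⟩
  haveI : Nonempty ↥c := hne.to_subtype
  have hMJ : MJ N (⋃ x : ↥c, x.1.1) = ⨆ x : ↥c, MJ N x.1.1 := by
    apply le_antisymm
    · refine iSup₂_le fun i hi => ?_
      obtain ⟨x, hx⟩ := Set.mem_iUnion.mp hi
      exact (le_MJ N hx).trans (le_iSup (fun x : ↥c => MJ N x.1.1) x)
    · exact iSup_le fun x => MJ_mono N (Set.subset_iUnion (fun x : ↥c => x.1.1) x)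
  have hdir1 : Directed (· ≤ ·) (fun x : ↥c => MJ N x.1.1) := by
    intro x y
    rcases hchain.total x.2 y.2 with h | h
    · exact ⟨y, MJ_mono N h.1, le_rfl⟩
    · exact ⟨x, le_rfl, MJ_mono N h.1⟩
  have hdir2 : Directed (· ⊆ ·) (fun x : ↥c => x.1.2) := by
    intro x y
    rcases hchain.total x.2 y.2 with h | h
    · exact ⟨y, h.2, subset_rfl⟩
    · exact ⟨x, subset_rfl, h.2⟩
  refine ⟨(⋃ x : ↥c, x.1.1, ⋃ x : ↥c, x.1.2), ⟨?_, ?_, ?_, ?_⟩, ?_⟩
  · intro y hy
    show p y ∈ MJ N (⋃ x : ↥c, x.1.1)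
    have hy' : y ∈ MJ N (⋃ x : ↥c, x.1.1) := hy
    rw [hMJ] at hy' ⊢
    obtain ⟨x, hx⟩ := (Submodule.mem_iSup_of_directed _ hdir1).mp hy'
    exact (Submodule.mem_iSup_of_directed _ hdir1).mpr ⟨x, (hc x.2).1 y hx⟩
  · intro C hC
    obtain ⟨x, hx⟩ := Set.mem_iUnion.mp hC
    exact (hc x.2).2.1 C hx
  · show sSupIndep (⋃ x : ↥c, x.1.2)
    rw [sSupIndep_iff_finite]
    intro t ht
    obtain ⟨x, hx⟩ := hdir2.exists_mem_subset_of_finset_subset_biUnion ht
    exact (hc x.2).2.2.1.mono hx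
  · show sSup (⋃ x : ↥c, x.1.2) = MJ N (⋃ x : ↥c, x.1.1) ⊓ P
    rw [sSup_iUnion, hMJ, hdir1.iSup_inf_eq]
    exact iSup_congr fun x => (hc x.2).2.2.2
  · intro z hz
    exact ⟨Set.subset_iUnion (fun x : ↥c => x.1.1) ⟨z, hz⟩,
      Set.subset_iUnion (fun x : ↥c => x.1.2) ⟨z, hz⟩⟩

end Zorn


section Main

theorem exists_decomp {ι : Type*} (N : ι → Submodule R M) (hind : iSupIndep N)
    (htop : ⨆ i, N i = ⊤) (hcg : ∀ i, CG (N i)) (P : Submodule R M) (p : M →ₗ[R] M)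
    (hpP : ∀ x, p x ∈ P) (hpid : ∀ x ∈ P, p x = x) :
    ∃ 𝒞 : Set (Submodule R M), (∀ C ∈ 𝒞, C ≤ P ∧ CG C) ∧ sSupIndep 𝒞 ∧ sSup 𝒞 = P := by
  choose gen hgen using hcg
  obtain ⟨⟨J, 𝒞⟩, hm⟩ := zorn_le₀ {x | Ok N P p x} (ok_chain N P p)
  have hok : Ok N P p (J, 𝒞) := hm.1
  have hJuniv : J = Set.univ := by
    by_contra hne
    obtain ⟨i₀, hi₀⟩ := (Set.ne_univ_iff_exists_notMem J).mp hne
    obtain ⟨S, hScount, hi₀S, hgood⟩ := exists_good_union N p gen hgen htop J hok.1 i₀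
    obtain ⟨L, hLP, hdisj, hsup, f, hLf⟩ := ext_step N P p hind htop hpP hpid J S hok.1 hgood
    have hLcg : CG L := hLf ▸ (MJ_cg N gen hgen hScount).map f
    have hdisj' : Disjoint (sSup 𝒞) L := by
      have := hok.2.2.2
      rw [this]; exact hdisj
    have hnew : Ok N P p (J ∪ S, insert L 𝒞) := by
      refine ⟨hgood, ?_, ?_, ?_⟩
      · intro C hC
        rcases Set.mem_insert_iff.mp hC with rfl | hC
        · exact ⟨hLP, hLcg⟩
        · exact hok.2.1 C hC
      · intro a ha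
        by_cases haL : a = L
        · subst haL
          refine Disjoint.mono_right (sSup_le_sSup ?_) hdisj'.symm
          intro C hC
          rcases Set.mem_insert_iff.mp hC.1 with h | h
          · exact absurd h hC.2
          · exact h
        · have ha' : a ∈ 𝒞 := (Set.mem_insert_iff.mp ha).resolve_left haL
          have h1 : Disjoint a (sSup (𝒞 \ {a})) := hok.2.2.1 ha'
          have h2 : Disjoint (a ⊔ sSup (𝒞 \ {a})) L := by
            refine Disjoint.mono_left ?_ hdisj'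
            exact sup_le (le_sSup ha') (sSup_le_sSup Set.diff_subset)
          have h3 := h1.disjoint_sup_right_of_disjoint_sup_left h2
          refine h3.mono_right ?_
          apply sSup_le
          intro C hC
          rcases Set.mem_insert_iff.mp hC.1 with h | h
          · rw [h]; exact le_sup_right
          · exact le_sup_of_le_left (le_sSup ⟨h, hC.2⟩)
      · show sSup (insert L 𝒞) = MJ N (J ∪ S) ⊓ P
        rw [sSup_insert, hok.2.2.2, sup_comm, hsup]
    have hle : ((J, 𝒞) : Set ι × Set (Submodule R M)) ≤ (J ∪ S, insert L 𝒞) :=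
      ⟨Set.subset_union_left, Set.subset_insert _ _⟩
    have := hm.2 hnew hle
    exact hi₀ (this.1 (Or.inr hi₀S))
  refine ⟨𝒞, hok.2.1, hok.2.2.1, ?_⟩
  have := hok.2.2.2
  rw [this]
  show MJ N J ⊓ P = P
  rw [hJuniv, MJ_univ N htop, top_inf_eq]

end Main


section Convert

theorem cg_of_injective {X : Type*} [AddCommGroup X] [Module R X] (j : X →ₗ[R] M)
    (hj : Function.Injective j) (C : Submodule R M) (hrange : LinearMap.range j = C)
    (hC : CG C) : ∃ s : Set X, s.Countable ∧ Submodule.span R s = ⊤ := by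
  obtain ⟨s, hs, hspan⟩ := hC
  refine ⟨j ⁻¹' s, hs.preimage_of_injOn hj.injOn, ?_⟩
  apply Submodule.map_injective_of_injective hj
  rw [Submodule.map_span, Submodule.map_top, hrange]
  have hsub : s ⊆ Set.range j := by
    intro x hx
    have : x ∈ C := hspan ▸ Submodule.subset_span hx
    rw [← hrange] at this
    exact this
  rw [Set.image_preimage_eq_of_subset hsub, hspan]

theorem cg_of_top {X : Type*} [AddCommGroup X] [Module R X] (C : Submodule R X)
    (h : ∃ s : Set C, s.Countable ∧ Submodule.span R s = ⊤) : CG C := by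
  obtain ⟨s, hs, hspan⟩ := h
  refine ⟨C.subtype '' s, hs.image _, ?_⟩
  rw [← Submodule.map_span, hspan, Submodule.map_subtype_top]

/-- Kaplansky's theorem, with the decomposition of the summand `P` given inside `P`. -/
theorem kaplansky {ι : Type*} (N : ι → Submodule R M) (hind : iSupIndep N)
    (htop : ⨆ i, N i = ⊤) (hcg : ∀ i, CG (N i)) (P Q : Submodule R M) (hPQ : IsCompl P Q) :
    ∃ 𝒞 : Set (Submodule R M), iSupIndep (fun k : ↥𝒞 => (k.1).comap P.subtype) ∧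
      (⨆ k : ↥𝒞, (k.1).comap P.subtype) = ⊤ ∧
      ∀ k : ↥𝒞, ∃ s : Set ↥((k.1).comap P.subtype), s.Countable ∧ Submodule.span R s = ⊤ := by
  obtain ⟨𝒞, h𝒞, hindep, hsup⟩ := exists_decomp N hind htop hcg P (P.projection Q hPQ)
    (fun x => Submodule.projection_apply_mem hPQ x)
    (fun x hx => Submodule.projection_apply_of_mem_left hPQ hx)
  refine ⟨𝒞, ?_, ?_, ?_⟩
  · intro k
    rw [Submodule.disjoint_def]
    intro x hxk hx
    have h1 : (x : M) ∈ k.1 := hxk
    have h2 : (x : M) ∈ sSup (𝒞 \ {k.1}) := by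
      have h3 : P.subtype x ∈ Submodule.map P.subtype
          (⨆ (j : ↥𝒞) (_ : j ≠ k), (j.1).comap P.subtype) := ⟨x, hx, rfl⟩
      rw [Submodule.map_iSup] at h3
      refine (iSup_le fun j => ?_ : _ ≤ sSup (𝒞 \ {k.1})) h3
      rw [Submodule.map_iSup]
      refine iSup_le fun hjk => ?_
      refine (Submodule.map_comap_le _ _).trans (le_sSup ⟨j.2, ?_⟩)
      intro h
      exact hjk (Subtype.ext h)
    have h4 := (Submodule.disjoint_def.mp (hindep k.2)) _ h1 h2
    exact Subtype.ext h4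
  · apply Submodule.map_injective_of_injective P.subtype_injective
    rw [Submodule.map_iSup, Submodule.map_subtype_top]
    have h1 : ∀ k : ↥𝒞, Submodule.map P.subtype ((k.1).comap P.subtype) = k.1 := by
      intro k
      rw [Submodule.map_comap_subtype]
      exact inf_eq_right.mpr (h𝒞 k.1 k.2).1
    rw [iSup_congr h1, ← sSup_eq_iSup', hsup]
  · intro k
    refine cg_of_injective (P.subtype ∘ₗ ((k.1).comap P.subtype).subtype)
      (P.subtype_injective.comp (Submodule.subtype_injective _)) k.1 ?_ (h𝒞 k.1 k.2).2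
    rw [LinearMap.range_comp, Submodule.range_subtype, Submodule.map_comap_subtype]
    exact inf_eq_right.mpr (h𝒞 k.1 k.2).1

end Convert

end Groth.Agent.Helper12.Kap
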