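import Mathlib
import Groth.Agent.Lib.Helper12.Kaplansky

set_option autoImplicit false

namespace Groth.Agent.Helper12.KapLocal

universe u

section MinGen
variable {R : Type*} [CommRing R]

theorem remove_gen {m : ℕ} (a r : Fin (m + 1) → R) (hr : ∑ j, r j * a j = 0) (j : Fin (m + 1))
    (hu : IsUnit (r j)) :
    Ideal.span (Set.range (a ∘ j.succAbove)) = Ideal.span (Set.range a) := by
  apply le_antisymm
  · exact Ideal.span_mono (Set.range_comp_subset_range _ _)
  · have hj : a j ∈ Ideal.span (Set.range (a ∘ j.succAbove)) := by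
      obtain ⟨u, hu'⟩ := hu
      rw [Fin.sum_univ_succAbove _ j] at hr
      have h2 : r j * a j = -∑ k, r (j.succAbove k) * a (j.succAbove k) :=
        eq_neg_of_add_eq_zero_left hr
      have h1 : a j = -(↑u⁻¹ : R) * ∑ k, r (j.succAbove k) * a (j.succAbove k) := by
        calc a j = ↑u⁻¹ * (r j * a j) := by
              rw [← mul_assoc, ← hu', Units.inv_mul, one_mul]
          _ = _ := by rw [h2]; ring
      rw [h1]
      apply Ideal.mul_mem_left
      apply Ideal.sum_mem
      intro k _
      apply Ideal.mul_mem_left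
      exact Ideal.subset_span ⟨k, rfl⟩
    rw [Ideal.span_le]
    rintro _ ⟨i, rfl⟩
    by_cases hij : i = j
    · rw [hij]; exact hj
    · obtain ⟨k, rfl⟩ := Fin.exists_succAbove_eq hij
      exact Ideal.subset_span ⟨k, rfl⟩

theorem exists_min_gen [IsLocalRing R] (I : Ideal R) (hI : I.FG) :
    ∃ (n : ℕ) (a : Fin n → R), Ideal.span (Set.range a) = I ∧
      ∀ r : Fin n → R, ∑ j, r j * a j = 0 → ∀ j, r j ∈ IsLocalRing.maximalIdeal R := by
  classical
  have hex : ∃ n : ℕ, ∃ a : Fin n → R, Ideal.span (Set.range a) = I :=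
    Submodule.fg_iff_exists_fin_generating_family.mp hI
  obtain ⟨n, hn⟩ : ∃ n, n = Nat.find hex := ⟨_, rfl⟩
  obtain ⟨a, ha⟩ : ∃ a : Fin n → R, Ideal.span (Set.range a) = I := hn ▸ Nat.find_spec hex
  have hmin : ∀ m < n, ¬ ∃ a : Fin m → R, Ideal.span (Set.range a) = I :=
    fun m hm => Nat.find_min hex (hn ▸ hm)
  clear hn
  refine ⟨n, a, ha, ?_⟩
  intro r hr j
  by_contra hj
  have hu : IsUnit (r j) := by
    by_contra h
    exact hj ((IsLocalRing.mem_maximalIdeal _).mpr h)
  cases n with
  | zero => exact j.elim0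
  | succ m =>
    exact hmin m (Nat.lt_succ_self m) ⟨a ∘ j.succAbove, (remove_gen a r hr j hu).trans ha⟩

end MinGen

section FreeSummand
variable {R : Type*} [CommRing R] [IsLocalRing R] {P : Type*} [AddCommGroup P] [Module R P]

theorem exists_free_summand [Module.Projective R P] (y : P) :
    ∃ (n : ℕ) (φ : (Fin n → R) →ₗ[R] P) (θ : P →ₗ[R] (Fin n → R)),
      θ ∘ₗ φ = LinearMap.id ∧ y ∈ LinearMap.range φ := by
  classical
  obtain ⟨s, hs⟩ := Module.projective_def'.mp (inferInstance : Module.Projective R P)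
  obtain ⟨c, hc⟩ : ∃ c : P →₀ R, c = s y := ⟨_, rfl⟩
  have hy : y = ∑ x ∈ c.support, c x • x := by
    have h1 := LinearMap.congr_fun hs y
    rw [LinearMap.comp_apply, LinearMap.id_apply, ← hc, Finsupp.linearCombination_apply,
      Finsupp.sum] at h1
    simpa using h1.symm
  have hcx : ∀ x, (Finsupp.lapply x ∘ₗ s : P →ₗ[R] R) y = c x := by
    intro x
    rw [hc]; rfl
  -- the ideal o(y)
  let ev : (P →ₗ[R] R) →ₗ[R] R := LinearMap.applyₗ y
  let 𝔞 : Ideal R := LinearMap.range ev
  have hmem : ∀ g : P →ₗ[R] R, g y ∈ 𝔞 := fun g => ⟨g, rfl⟩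
  have hgy : ∀ g : P →ₗ[R] R, g y = ∑ x ∈ c.support, c x * g x := by
    intro g
    have := congrArg g hy
    rw [this, map_sum]
    exact Finset.sum_congr rfl fun x _ => by rw [map_smul, smul_eq_mul]
  have hfg : 𝔞.FG := by
    refine ⟨c.support.image c, le_antisymm ?_ ?_⟩
    · rw [Submodule.span_le]
      intro b hb
      rw [Finset.coe_image] at hb
      obtain ⟨x, _, rfl⟩ := hb
      exact ⟨Finsupp.lapply x ∘ₗ s, hcx x⟩
    · rintro _ ⟨g, rfl⟩
      show g y ∈ _
      rw [hgy g]
      refine Submodule.sum_mem _ fun x hx => ?_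
      exact Ideal.mul_mem_right _ _
        (Submodule.subset_span (Finset.mem_coe.mpr (Finset.mem_image_of_mem c hx)))
  obtain ⟨n, a, ha, hmin⟩ := exists_min_gen 𝔞 hfg
  have hag : ∀ j, ∃ g : P →ₗ[R] R, g y = a j := by
    intro j
    have h1 : a j ∈ 𝔞 := by rw [← ha]; exact Ideal.subset_span ⟨j, rfl⟩
    obtain ⟨g, hg⟩ := h1
    exact ⟨g, hg⟩
  choose g hg using hag
  have hct : ∀ x, ∃ t : Fin n → R, ∑ j, t j * a j = c x := by
    intro x
    have h1 : c x ∈ Ideal.span (Set.range a) := by
      rw [ha, ← hcx x]; exact hmem _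
    exact Ideal.mem_span_range_iff_exists_fun.mp h1
  choose t ht using hct
  obtain ⟨p, hp⟩ : ∃ p : Fin n → P, p = fun j => ∑ x ∈ c.support, t x j • x := ⟨_, rfl⟩
  have hyp : y = ∑ j, a j • p j := by
    calc y = ∑ x ∈ c.support, c x • x := hy
      _ = ∑ x ∈ c.support, ∑ j, (t x j * a j) • x := by
          refine Finset.sum_congr rfl fun x _ => ?_
          rw [← ht x, Finset.sum_smul]
      _ = ∑ j, ∑ x ∈ c.support, (t x j * a j) • x := Finset.sum_comm
      _ = ∑ j, a j • p j := by
          refine Finset.sum_congr rfl fun j _ => ?_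
          rw [hp, Finset.smul_sum]
          refine Finset.sum_congr rfl fun x _ => ?_
          rw [smul_smul, mul_comm]
  obtain ⟨G, hG⟩ : ∃ G : Matrix (Fin n) (Fin n) R, G = Matrix.of fun i j => g i (p j) :=
    ⟨_, rfl⟩
  have hGij : ∀ i j, G i j = g i (p j) := fun i j => by rw [hG]; rfl
  have hGa : ∀ i, ∑ j, (G i j - (1 : Matrix (Fin n) (Fin n) R) i j) * a j = 0 := by
    intro i
    have h1 : ∑ j, G i j * a j = a i := by
      have e1 : g i y = a i := hg i
      rw [← e1]
      have := congrArg (g i) hyp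
      rw [this, map_sum]
      refine Finset.sum_congr rfl fun j _ => ?_
      rw [map_smul, smul_eq_mul, hGij, mul_comm]
    have h2 : ∑ j, (1 : Matrix (Fin n) (Fin n) R) i j * a j = a i := by
      simp [Matrix.one_apply]
    simp only [sub_mul, Finset.sum_sub_distrib, h1, h2, sub_self]
  have hGm : ∀ i j, G i j - (1 : Matrix (Fin n) (Fin n) R) i j ∈ IsLocalRing.maximalIdeal R :=
    fun i j => hmin (fun j => G i j - (1 : Matrix (Fin n) (Fin n) R) i j) (hGa i) j
  have hdet : IsUnit G.det := by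
    by_contra hnu
    have hm : G.det ∈ IsLocalRing.maximalIdeal R := (IsLocalRing.mem_maximalIdeal _).mpr hnu
    have h1 : (IsLocalRing.residue R) G.det = 1 := by
      rw [RingHom.map_det]
      have h3 : (IsLocalRing.residue R).mapMatrix G = 1 := by
        ext i j
        have h := (IsLocalRing.residue_eq_zero_iff _).mpr (hGm i j)
        rw [map_sub, sub_eq_zero] at h
        rw [RingHom.mapMatrix_apply, Matrix.map_apply, h, Matrix.one_apply, Matrix.one_apply]
        split_ifs <;> simp
      rw [h3, Matrix.det_one]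
    rw [(IsLocalRing.residue_eq_zero_iff _).mpr hm] at h1
    exact zero_ne_one h1
  have hGinv : G⁻¹ * G = 1 := Matrix.nonsing_inv_mul G hdet
  let φ : (Fin n → R) →ₗ[R] P := Fintype.linearCombination R p
  let ψ : P →ₗ[R] (Fin n → R) := LinearMap.pi g
  let θ : P →ₗ[R] (Fin n → R) := (Matrix.toLin' G⁻¹) ∘ₗ ψ
  refine ⟨n, φ, θ, ?_, ?_⟩
  · apply LinearMap.ext
    intro e
    have h1 : ψ (φ e) = G.mulVec e := by
      ext i
      simp only [ψ, φ, LinearMap.pi_apply, Fintype.linearCombination_apply, map_sum, map_smul,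
        smul_eq_mul, Matrix.mulVec, dotProduct, hGij]
      exact Finset.sum_congr rfl fun j _ => mul_comm _ _
    show (Matrix.toLin' G⁻¹) (ψ (φ e)) = e
    rw [h1, Matrix.toLin'_apply, Matrix.mulVec_mulVec, hGinv, Matrix.one_mulVec]
  · exact ⟨a, by rw [Fintype.linearCombination_apply]; exact hyp.symm⟩

end FreeSummand

section Step
variable {R : Type*} [CommRing R] [IsLocalRing R] {P : Type*} [AddCommGroup P] [Module R P]

/-- invariant of the construction -/
def Inv (b : Set P) (C : Submodule R P) : Prop :=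
  LinearIndepOn R id b ∧ IsCompl (Submodule.span R b) C

theorem step [Module.Projective R P] (b : Set P) (C : Submodule R P) (h : Inv b C) (x : P) :
    ∃ (b' : Set P) (C' : Submodule R P), Inv b' C' ∧ b ⊆ b' ∧ x ∈ Submodule.span R b' := by
  classical
  obtain ⟨hli, hFC⟩ := h
  obtain ⟨F, hF⟩ : ∃ F : Submodule R P, F = Submodule.span R b := ⟨_, rfl⟩
  rw [← hF] at hFC
  have hCF : IsCompl C F := hFC.symm
  haveI : Module.Projective R C :=
    Module.Projective.of_split C.subtype (C.projectionOnto F hCF) (by ext z; simp)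
  obtain ⟨n, φ, θ, hθφ, hyφ⟩ := exists_free_summand (R := R) (P := C) (C.projectionOnto F hCF x)
  have hθφ' : ∀ w, θ (φ w) = w := fun w => LinearMap.congr_fun hθφ w
  have hφinj : Function.Injective φ := Function.LeftInverse.injective hθφ'
  obtain ⟨ι', hι'⟩ : ∃ ι' : (Fin n → R) →ₗ[R] P, ι' = C.subtype ∘ₗ φ := ⟨_, rfl⟩
  have hι'app : ∀ w, ι' w = (φ w : P) := fun w => by rw [hι']; rfl
  have hι'inj : Function.Injective ι' := by
    intro w w' hww
    rw [hι'app, hι'app] at hww
    exact hφinj (Subtype.ext hww)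
  obtain ⟨e, he⟩ : ∃ e : Fin n → P, e = ι' ∘ (Pi.basisFun R (Fin n)) := ⟨_, rfl⟩
  have heli : LinearIndependent R e := by
    rw [he]
    exact (Pi.basisFun R (Fin n)).linearIndependent.map' ι' (LinearMap.ker_eq_bot.mpr hι'inj)
  have hE : Submodule.span R (Set.range e) = LinearMap.range ι' := by
    rw [he, Set.range_comp, ← Submodule.map_span, Module.Basis.span_eq, Submodule.map_top]
  have hEC : LinearMap.range ι' ≤ C := by
    rintro _ ⟨w, rfl⟩
    rw [hι'app]
    exact (φ w).2
  obtain ⟨C', hC'⟩ : ∃ C' : Submodule R P, C' = Submodule.map C.subtype (LinearMap.ker θ) :=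
    ⟨_, rfl⟩
  have hspan : Submodule.span R (b ∪ Set.range e) = F ⊔ LinearMap.range ι' := by
    rw [Submodule.span_union, hE, hF]
  refine ⟨b ∪ Set.range e, C', ⟨?_, ?_⟩, Set.subset_union_left, ?_⟩
  · apply LinearIndepOn.union hli heli.linearIndepOn_id
    simp only [id, Set.image_id']
    rw [hE, ← hF]
    exact hFC.disjoint.mono_right hEC
  · rw [hspan]
    constructor
    · rw [Submodule.disjoint_def]
      intro v hv hvC'
      obtain ⟨f, hf, ε, hε, rfl⟩ := Submodule.mem_sup.mp hv
      rw [hC'] at hvC'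
      obtain ⟨z, hz, hzv⟩ := hvC'
      obtain ⟨w, rfl⟩ := hε
      have hzv' : (z : P) = f + (φ w : P) := by rw [← hι'app]; exact hzv
      have hfC : f ∈ C := by
        have h1 : f = (z : P) - (φ w : P) := by rw [hzv']; abel
        rw [h1]; exact C.sub_mem z.2 (φ w).2
      have hf0 : f = 0 := (Submodule.disjoint_def.mp hFC.disjoint) f hf hfC
      rw [hf0, zero_add] at hzv' ⊢
      have hzw : z = φ w := Subtype.ext hzv'
      have hw : w = 0 := by
        have h2 := hθφ' w
        rw [← hzw, LinearMap.mem_ker.mp hz] at h2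
        exact h2.symm
      rw [hw, map_zero]
    · rw [codisjoint_iff, eq_top_iff]
      intro v _
      have hv : v ∈ F ⊔ C := by rw [hFC.sup_eq_top]; trivial
      obtain ⟨f, hf, c, hc, rfl⟩ := Submodule.mem_sup.mp hv
      obtain ⟨c', hc'⟩ : ∃ c' : C, c' = ⟨c, hc⟩ := ⟨_, rfl⟩
      have h1 : c = ι' (θ c') + C.subtype (c' - φ (θ c')) := by
        rw [hι'app, hc']
        simp
      have hk : c' - φ (θ c') ∈ LinearMap.ker θ := by
        rw [LinearMap.mem_ker, map_sub, hθφ', sub_self]
      have hmemC' : C.subtype (c' - φ (θ c')) ∈ C' := by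
        rw [hC']; exact ⟨_, hk, rfl⟩
      rw [h1, ← add_assoc]
      exact Submodule.add_mem _
        (Submodule.mem_sup_left (Submodule.add_mem _ (Submodule.mem_sup_left hf)
          (Submodule.mem_sup_right ⟨_, rfl⟩)))
        (Submodule.mem_sup_right hmemC')
  · rw [hspan]
    have h1 : x - C.projection F hCF x ∈ F := Submodule.sub_projection_mem hCF x
    obtain ⟨w, hw⟩ := hyφ
    have h2 : C.projection F hCF x = ι' w := by
      rw [Submodule.projection_apply, ← hw, hι'app]
    have h3 : x = (x - C.projection F hCF x) + ι' w := by rw [← h2]; abel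
    rw [h3]
    exact Submodule.add_mem _ (Submodule.mem_sup_left h1) (Submodule.mem_sup_right ⟨w, rfl⟩)

theorem free_of_countable [Module.Projective R P] (s : Set P) (hs : s.Countable)
    (hspan : Submodule.span R s = ⊤) : Module.Free R P := by
  classical
  obtain ⟨g, hg⟩ := (hs.insert 0).exists_eq_range (Set.insert_nonempty 0 s)
  have hgspan : Submodule.span R (Set.range g) = ⊤ := by
    rw [← hg, eq_top_iff, ← hspan]; exact Submodule.span_mono (Set.subset_insert 0 s)
  have hstep : ∀ (st : {bc : Set P × Submodule R P // Inv (R := R) bc.1 bc.2}) (x : P),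
      ∃ st' : {bc : Set P × Submodule R P // Inv (R := R) bc.1 bc.2},
        st.1.1 ⊆ st'.1.1 ∧ x ∈ Submodule.span R st'.1.1 := by
    intro st x
    obtain ⟨b', C', hinv, hsub, hx⟩ := step st.1.1 st.1.2 st.2 x
    exact ⟨⟨(b', C'), hinv⟩, hsub, hx⟩
  choose next hnext1 hnext2 using hstep
  have h0 : Inv (R := R) (∅ : Set P) (⊤ : Submodule R P) := by
    refine ⟨linearIndepOn_empty R id, ?_⟩
    rw [Submodule.span_empty]; exact isCompl_bot_top
  let seq : ℕ → {bc : Set P × Submodule R P // Inv (R := R) bc.1 bc.2} :=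
    fun k => Nat.rec ⟨(∅, ⊤), h0⟩ (fun k prev => next prev (g k)) k
  have hseq : ∀ k, seq (k + 1) = next (seq k) (g k) := fun k => rfl
  have hmono : Monotone fun k => (seq k).1.1 := monotone_nat_of_le_succ fun k => by
    show (seq k).1.1 ⊆ (seq (k + 1)).1.1
    rw [hseq]; exact hnext1 _ _
  have hBli : LinearIndepOn R id (⋃ k, (seq k).1.1) :=
    linearIndepOn_iUnion_of_directed (directed_of_isDirected_le (fun i j hij => hmono hij))
      fun k => (seq k).2.1
  have hBspan : ⊤ ≤ Submodule.span R (⋃ k, (seq k).1.1) := by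
    rw [← hgspan, Submodule.span_le]
    rintro _ ⟨k, rfl⟩
    have h1 : g k ∈ Submodule.span R (seq (k + 1)).1.1 := by rw [hseq]; exact hnext2 _ _
    exact Submodule.span_mono (Set.subset_iUnion (fun k => (seq k).1.1) (k + 1)) h1
  have hBli' : LinearIndependent R (fun x : (⋃ k, (seq k).1.1 : Set P) => (x : P)) := hBli
  exact Module.Free.of_basis (Module.Basis.mk hBli' (by rw [Subtype.range_coe]; exact hBspan))

end Step

end Groth.Agent.Helper12.KapLocal
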