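import Mathlib
import Groth.Prelude.Def_Smoothing

set_option autoImplicit false
universe u

open KaehlerDifferential MvPolynomial Smoothing

namespace Groth.Agent.Helper12


theorem isStandardSmooth_away_of_kaehler {R A : Type u} [CommRing R] [CommRing A] [Algebra R A]
    [Algebra.FinitePresentation R A] (a : A)
    (h1 : ∀ z : Algebra.H1Cotangent R A, ∃ k : ℕ, a ^ k • z = 0)
    {κ : Type} [Fintype κ] (w : κ → A)
    (hspan : ∀ ω : Ω[A⁄R], ∃ k : ℕ,
      a ^ k • ω ∈ Submodule.span A (Set.range fun i => D R A (w i)))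
    (hindep : ∀ b : κ → A, ∑ i, b i • D R A (w i) = 0 → ∀ i, ∃ k : ℕ, a ^ k * b i = 0) :
    Algebra.IsStandardSmooth R (Localization.Away a) := by
  classical
  have hfpAS : Algebra.FinitePresentation A (Localization.Away a) :=
    IsLocalization.Away.finitePresentation a
  have hfp : Algebra.FinitePresentation R (Localization.Away a) :=
    Algebra.FinitePresentation.trans R A (Localization.Away a)
  have hunit : ∀ k : ℕ, IsUnit (algebraMap A (Localization.Away a) (a ^ k)) := fun k => by
    rw [map_pow]; exact (IsLocalization.Away.algebraMap_isUnit a).pow k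
  have hzero : ∀ {M : Type u} [AddCommGroup M] [Module A M] [Module (Localization.Away a) M]
      [IsScalarTower A (Localization.Away a) M] (k : ℕ) (y : M), a ^ k • y = 0 → y = 0 := by
    intro M _ _ _ _ k y h
    rw [← algebraMap_smul (Localization.Away a) (a ^ k) y] at h
    exact (hunit k).smul_eq_zero.mp h
  have hH1 : Subsingleton (Algebra.H1Cotangent R (Localization.Away a)) := by
    refine ⟨fun y y' => ?_⟩
    suffices h : ∀ y : Algebra.H1Cotangent R (Localization.Away a), y = 0 by rw [h y, h y']
    intro y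
    obtain ⟨⟨z, ⟨_, j, rfl⟩⟩, hs⟩ := IsLocalizedModule.surj (Submonoid.powers a)
      (Algebra.H1Cotangent.map R R A (Localization.Away a)) y
    obtain ⟨k, hk⟩ := h1 z
    have hs' : a ^ j • y = Algebra.H1Cotangent.map R R A (Localization.Away a) z := hs
    have h2 : a ^ k • (a ^ j • y) = 0 := by rw [hs', ← map_smul, hk, map_zero]
    exact hzero j y (hzero k _ h2)
  have hfv : ∀ i, KaehlerDifferential.map R R A (Localization.Away a) (D R A (w i)) =
      D R (Localization.Away a) (algebraMap A (Localization.Away a) (w i)) := fun i =>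
    KaehlerDifferential.map_D _ _ _ _ _
  have hli : LinearIndependent (Localization.Away a)
      (fun i => D R (Localization.Away a) (algebraMap A (Localization.Away a) (w i))) := by
    rw [Fintype.linearIndependent_iff]
    intro g hg i
    obtain ⟨⟨_, N, rfl⟩, hN⟩ :=
      IsLocalization.exist_integer_multiples_of_finite (Submonoid.powers a) g
    choose b hb using hN
    have hb' : ∀ i, algebraMap A (Localization.Away a) (b i) =
        algebraMap A (Localization.Away a) (a ^ N) * g i := fun i => by
      rw [hb i, Algebra.smul_def]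
    have h3 : KaehlerDifferential.map R R A (Localization.Away a)
        (∑ i, b i • D R A (w i)) = 0 := by
      rw [map_sum]
      simp_rw [map_smul, hfv]
      have : ∀ i, b i • D R (Localization.Away a) (algebraMap A (Localization.Away a) (w i)) =
          algebraMap A (Localization.Away a) (a ^ N) •
            (g i • D R (Localization.Away a) (algebraMap A (Localization.Away a) (w i))) := by
        intro i
        rw [← algebraMap_smul (Localization.Away a) (b i), hb' i, mul_smul]
      simp_rw [this]
      rw [← Finset.smul_sum, hg, smul_zero]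
    obtain ⟨⟨_, j, rfl⟩, hj⟩ := (IsLocalizedModule.eq_zero_iff (Submonoid.powers a)
      (KaehlerDifferential.map R R A (Localization.Away a))).mp h3
    have hj' : a ^ j • ∑ i, b i • D R A (w i) = 0 := hj
    have h4 : ∑ i, (a ^ j * b i) • D R A (w i) = 0 := by
      rw [← hj', Finset.smul_sum]
      simp_rw [mul_smul]
    obtain ⟨k, hk⟩ := hindep _ h4 i
    have h5 : algebraMap A (Localization.Away a) (a ^ (k + j + N)) * g i = 0 := by
      rw [pow_add, map_mul, mul_assoc, ← hb' i, ← map_mul, pow_add, mul_assoc, hk, map_zero]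
    exact (hunit _).mul_right_eq_zero.mp h5
  have hsp : ⊤ ≤ Submodule.span (Localization.Away a) (Set.range
      (fun i => D R (Localization.Away a) (algebraMap A (Localization.Away a) (w i)))) := by
    intro y _
    obtain ⟨⟨ω, ⟨_, j, rfl⟩⟩, hs⟩ := IsLocalizedModule.surj (Submonoid.powers a)
      (KaehlerDifferential.map R R A (Localization.Away a)) y
    have hs' : a ^ j • y = KaehlerDifferential.map R R A (Localization.Away a) ω := hs
    obtain ⟨k, hk⟩ := hspan ω
    have hle : Submodule.map (KaehlerDifferential.map R R A (Localization.Away a))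
        (Submodule.span A (Set.range fun i => D R A (w i))) ≤
        (Submodule.span (Localization.Away a) (Set.range
          (fun i => D R (Localization.Away a) (algebraMap A (Localization.Away a) (w i))))
          ).restrictScalars A := by
      rw [Submodule.map_span, ← Set.range_comp]
      have : (⇑(KaehlerDifferential.map R R A (Localization.Away a)) ∘ fun i => D R A (w i)) =
          (fun i => D R (Localization.Away a) (algebraMap A (Localization.Away a) (w i))) :=
        funext hfv
      rw [this]
      exact Submodule.span_le_restrictScalars A (Localization.Away a) _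
    have h5 : KaehlerDifferential.map R R A (Localization.Away a) (a ^ k • ω) ∈
        Submodule.span (Localization.Away a) (Set.range
          (fun i => D R (Localization.Away a) (algebraMap A (Localization.Away a) (w i)))) :=
      hle (Submodule.mem_map_of_mem hk)
    rw [map_smul, ← hs', ← mul_smul, ← pow_add,
      ← algebraMap_smul (Localization.Away a) (a ^ (k + j)) y] at h5
    have h6 := Submodule.smul_mem _ ((hunit (k + j)).unit⁻¹ : (Localization.Away a)ˣ).val h5
    rwa [← mul_smul, IsUnit.val_inv_mul, one_smul] at h6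
  refine Algebra.IsStandardSmooth.of_basis_kaehlerDifferential (Module.Basis.mk hli hsp) ?_
  rintro _ ⟨i, rfl⟩
  exact ⟨algebraMap A (Localization.Away a) (w i), (Module.Basis.mk_apply hli hsp i).symm⟩



theorem sum_fin_split {M : Type*} [AddCommMonoid M] {n c : ℕ} (hcn : c ≤ n) (g : Fin n → M) :
    ∑ i, g i = ∑ k : Fin c, g (Fin.castLE hcn k) + ∑ i : {i : Fin n // c ≤ (i : ℕ)}, g i.1 := by
  classical
  rw [← Finset.sum_filter_add_sum_filter_not Finset.univ (fun i : Fin n => (i : ℕ) < c) g]
  congr 1
  · symm
    refine Finset.sum_bij (fun k _ => Fin.castLE hcn k) ?_ ?_ ?_ ?_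
    · intro k _
      simp
    · intro k _ k' _ h
      exact Fin.castLE_injective hcn h
    · intro i hi
      simp only [Finset.mem_filter, Finset.mem_univ, true_and] at hi
      exact ⟨⟨i, hi⟩, Finset.mem_univ _, by ext; rfl⟩
    · intro k _; rfl
  · simp only [not_lt]
    rw [← Finset.sum_subtype (Finset.univ.filter fun i : Fin n => c ≤ (i : ℕ)) (by simp) g]

theorem vecMul_eq_zero_det_smul {A : Type*} [CommRing A] {c : ℕ} (J : Matrix (Fin c) (Fin c) A)
    (t : Fin c → A) (h : Matrix.vecMul t J = 0) : ∀ l, J.det * t l = 0 := by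
  intro l
  have h1 : Matrix.vecMul (Matrix.vecMul t J) J.adjugate = 0 := by rw [h, Matrix.zero_vecMul]
  rw [Matrix.vecMul_vecMul, Matrix.mul_adjugate, Matrix.vecMul_smul, Matrix.vecMul_one] at h1
  have := congrFun h1 l
  simpa using this



theorem elemStd_abstract {A : Type*} [CommRing A] {Cot CS Om : Type*}
    [AddCommGroup Cot] [Module A Cot] [AddCommGroup CS] [Module A CS] [AddCommGroup Om] [Module A Om]
    {n m c : ℕ} (hcn : c ≤ n) (hcm : c ≤ m)
    (β : Module.Basis (Fin n) A CS) (d : Cot →ₗ[A] CS) (toK : CS →ₗ[A] Om)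
    (hex : Function.Exact d toK) (hsurj : Function.Surjective toK)
    (F : Fin m → Cot) (hF : Submodule.span A (Set.range F) = ⊤)
    (a a' : A)
    (ha : a = a' * Matrix.det (Matrix.of fun l k : Fin c =>
      β.repr (d (F (Fin.castLE hcm l))) (Fin.castLE hcn k)))
    (hkill : ∀ j : Fin m, c ≤ (j : ℕ) →
      a • F j ∈ Submodule.span A (Set.range fun l : Fin c => F (Fin.castLE hcm l))) :
    (∀ z : Cot, d z = 0 → a ^ 2 • z = 0) ∧
    (∀ ω : Om, a • ω ∈ Submodule.span A
      (Set.range fun i : {i : Fin n // c ≤ (i : ℕ)} => toK (β i.1))) ∧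
    (∀ b : {i : Fin n // c ≤ (i : ℕ)} → A, ∑ i, b i • toK (β i.1) = 0 → ∀ i, a ^ 2 * b i = 0) := by
  classical
  set J : Matrix (Fin c) (Fin c) A := Matrix.of fun l k : Fin c =>
      β.repr (d (F (Fin.castLE hcm l))) (Fin.castLE hcn k) with hJ
  set Sub : Submodule A Cot := Submodule.span A (Set.range fun l : Fin c => F (Fin.castLE hcm l))
    with hSub
  set W : Submodule A Om := Submodule.span A
      (Set.range fun i : {i : Fin n // c ≤ (i : ℕ)} => toK (β i.1)) with hW
  -- (K')
  have hK : ∀ z : Cot, a • z ∈ Sub := by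
    intro z
    have hz : z ∈ Submodule.span A (Set.range F) := by rw [hF]; trivial
    induction hz using Submodule.span_induction with
    | mem x hx =>
      obtain ⟨j, rfl⟩ := hx
      by_cases hj : (j : ℕ) < c
      · refine Submodule.smul_mem _ _ (Submodule.subset_span ⟨⟨j, hj⟩, ?_⟩)
        congr 1
      · exact hkill j (not_lt.mp hj)
    | zero => rw [smul_zero]; exact Submodule.zero_mem _
    | add x y _ _ hx hy => rw [smul_add]; exact Submodule.add_mem _ hx hy
    | smul r x _ hx => rw [smul_comm]; exact Submodule.smul_mem _ _ hx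
  -- (M')
  have hM : ∀ y ∈ Sub, (∀ k : Fin c, β.repr (d y) (Fin.castLE hcn k) = 0) → a • y = 0 := by
    intro y hy hcoord
    obtain ⟨t, rfl⟩ := (Submodule.mem_span_range_iff_exists_fun A).mp hy
    have hv : Matrix.vecMul t J = 0 := by
      funext k
      have := hcoord k
      rw [map_sum, map_sum, Finsupp.finsetSum_apply] at this
      simp only [map_smul, Finsupp.smul_apply, smul_eq_mul] at this
      simpa [Matrix.vecMul, dotProduct, hJ] using this
    have h1 := vecMul_eq_zero_det_smul J t hv
    rw [Finset.smul_sum]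
    refine Finset.sum_eq_zero fun l _ => ?_
    rw [← mul_smul, ha, mul_assoc, h1 l, mul_zero, zero_smul]
  refine ⟨?_, ?_, ?_⟩
  · intro z hz
    rw [sq, mul_smul]
    refine hM _ (hK z) fun k => ?_
    rw [map_smul, hz, smul_zero, map_zero, Finsupp.zero_apply]
  · intro ω
    obtain ⟨ξ, rfl⟩ := hsurj ω
    have key : ∀ i : Fin n, a • toK (β i) ∈ W := by
      intro i
      by_cases hi : c ≤ (i : ℕ)
      · exact Submodule.smul_mem _ _ (Submodule.subset_span ⟨⟨i, hi⟩, rfl⟩)
      · have hi' : (i : ℕ) < c := not_le.mp hi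
        obtain ⟨k, rfl⟩ : ∃ k : Fin c, Fin.castLE hcn k = i := ⟨⟨i, hi'⟩, by ext; rfl⟩
        set y : Cot := ∑ l : Fin c, J.adjugate k l • F (Fin.castLE hcm l) with hy
        have hcoord : ∀ k' : Fin c, β.repr (d y) (Fin.castLE hcn k') =
            if k = k' then J.det else 0 := by
          intro k'
          rw [hy, map_sum, map_sum, Finsupp.finsetSum_apply]
          simp only [map_smul, Finsupp.smul_apply, smul_eq_mul]
          have h2 : (J.adjugate * J) k k' = (J.det • (1 : Matrix (Fin c) (Fin c) A)) k k' := by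
            rw [Matrix.adjugate_mul]
          rw [Matrix.mul_apply] at h2
          rw [Matrix.smul_apply, Matrix.one_apply, smul_eq_mul, mul_ite, mul_one, mul_zero] at h2
          exact h2
        have h3 : toK (d y) = 0 := hex.apply_apply_eq_zero y
        have h4 : d y = ∑ i, β.repr (d y) i • β i := (β.sum_repr (d y)).symm
        rw [sum_fin_split hcn] at h4
        have h5 : ∑ k' : Fin c, β.repr (d y) (Fin.castLE hcn k') • β (Fin.castLE hcn k') =
            J.det • β (Fin.castLE hcn k) := by
          simp_rw [hcoord]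
          simp
        rw [h5] at h4
        rw [h4, map_add, map_smul, map_sum] at h3
        have h6 : J.det • toK (β (Fin.castLE hcn k)) ∈ W := by
          rw [eq_neg_of_add_eq_zero_left h3]
          refine Submodule.neg_mem _ (Submodule.sum_mem _ fun i _ => ?_)
          rw [map_smul]
          exact Submodule.smul_mem _ _ (Submodule.subset_span ⟨i, rfl⟩)
        rw [ha, mul_smul]
        exact Submodule.smul_mem _ _ h6
    rw [← β.sum_repr ξ, map_sum, Finset.smul_sum]
    refine Submodule.sum_mem _ fun i _ => ?_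
    rw [map_smul, smul_comm]
    exact Submodule.smul_mem _ _ (key i)
  · intro b hb i
    set ξ : CS := ∑ i : {i : Fin n // c ≤ (i : ℕ)}, b i • β i.1 with hξ
    have h1 : toK ξ = 0 := by
      rw [hξ, map_sum]
      simp_rw [map_smul]
      exact hb
    obtain ⟨z, hz⟩ := (hex ξ).mp h1
    have hrepr : ∀ j : Fin n, β.repr ξ j = ∑ i : {i : Fin n // c ≤ (i : ℕ)},
        b i * (if i.1 = j then 1 else 0) := by
      intro j
      rw [hξ, map_sum, Finsupp.finsetSum_apply]
      refine Finset.sum_congr rfl fun i _ => ?_
      rw [map_smul, Finsupp.smul_apply, smul_eq_mul, Module.Basis.repr_self, Finsupp.single_apply]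
    have h2 : a • (a • z) = 0 := by
      refine hM _ (hK z) fun k => ?_
      rw [map_smul, hz, map_smul, Finsupp.smul_apply, hrepr]
      rw [Finset.sum_eq_zero, smul_zero]
      intro i _
      have : i.1 ≠ Fin.castLE hcn k := by
        intro h
        have := i.2
        rw [h] at this
        simp at this
        omega
      rw [if_neg this, mul_zero]
    have h3 : a • (a • ξ) = 0 := by
      rw [← hz, ← map_smul, ← map_smul, h2, map_zero]
    have h4 : β.repr (a • (a • ξ)) i.1 = 0 := by rw [h3, map_zero, Finsupp.zero_apply]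
    rw [map_smul, map_smul, Finsupp.smul_apply, Finsupp.smul_apply, hrepr, smul_eq_mul,
      smul_eq_mul] at h4
    have h5 : ∑ j : {i : Fin n // c ≤ (i : ℕ)}, b j * (if j.1 = i.1 then 1 else 0) = b i := by
      rw [Finset.sum_eq_single i]
      · simp
      · intro j _ hj
        have : j.1 ≠ i.1 := fun h => hj (Subtype.ext h)
        rw [if_neg this, mul_zero]
      · intro h; exact absurd (Finset.mem_univ _) h
    rw [h5] at h4
    rw [sq, mul_assoc]
    exact h4



theorem isStandardSmooth_away_of_marked {R A : Type u} [CommRing R] [CommRing A]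
    [Algebra R A] [Algebra.FinitePresentation R A] (a : A)
    (Pm : MarkedPresentation R A) (a' : A)
    (ha' : a = a' * Pm.hom (jacobianMinor Pm.rel (Fin.castLE Pm.hcm) (Fin.castLE Pm.hcn)))
    (hkill : KillsTail Pm a) : Algebra.IsStandardSmooth R (Localization.Away a) := by
  classical
  have hsurj : Function.Surjective (aeval (R := R) fun i => Pm.hom (X i)) := by
    have := Pm.surj
    rwa [aeval_unique Pm.hom] at this
  obtain ⟨P, hPval⟩ : ∃ P : Algebra.Generators R A (Fin Pm.n), P.val = fun i => Pm.hom (X i) :=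
    ⟨.ofSurjective (fun i => Pm.hom (X i)) hsurj, rfl⟩
  have hval : (aeval P.val : MvPolynomial (Fin Pm.n) R →ₐ[R] A) = Pm.hom := by
    rw [hPval]
    exact (aeval_unique Pm.hom).symm
  have hker : Ideal.span (Set.range Pm.rel) = P.toExtension.ker := by
    rw [← Pm.ker_eq]
    change _ = P.ker
    rw [P.ker_eq_ker_aeval_val, hval]
    rfl
  have hmem : ∀ j, Pm.rel j ∈ P.toExtension.ker := fun j =>
    hker.le (Ideal.subset_span ⟨j, rfl⟩)
  have hFspan := Algebra.Extension.Cotangent.span_eq_top_of_span_eq_ker (P := P.toExtension) Pm.rel hker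
  obtain ⟨F, hFdef⟩ : ∃ F : Fin Pm.m → P.toExtension.Cotangent, F = fun j =>
    Algebra.Extension.Cotangent.mk (P := P.toExtension) ⟨Pm.rel j, hmem j⟩ := ⟨_, rfl⟩
  rw [← hFdef] at hFspan
  have hentry : ∀ (j : Fin Pm.m) (i : Fin Pm.n),
      P.cotangentSpaceBasis.repr (P.toExtension.cotangentComplex (F j)) i =
        Pm.hom (pderiv i (Pm.rel j)) := by
    intro j i
    rw [hFdef]
    simp only
    rw [Algebra.Extension.cotangentComplex_mk]
    erw [Algebra.Generators.cotangentSpaceBasis_repr_one_tmul]
    rw [hval]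
  have hdet : a = a' * Matrix.det (Matrix.of fun l k : Fin Pm.c =>
      P.cotangentSpaceBasis.repr (P.toExtension.cotangentComplex (F (Fin.castLE Pm.hcm l)))
        (Fin.castLE Pm.hcn k)) := by
    rw [ha', jacobianMinor, AlgHom.map_det]
    congr 2
    ext l k
    rw [Matrix.of_apply, hentry]
    rfl
  have hkill' : ∀ j : Fin Pm.m, Pm.c ≤ (j : ℕ) →
      a • F j ∈ Submodule.span A (Set.range fun l : Fin Pm.c => F (Fin.castLE Pm.hcm l)) := by
    intro j hj
    obtain ⟨ã, hã⟩ : ∃ ã : P.toExtension.Ring, Pm.hom ã = a := Pm.surj a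
    have h1 := hkill ã hã j hj
    obtain ⟨u, hu, v, hv, huv⟩ := Submodule.mem_sup.mp h1
    set Sub := Submodule.span A (Set.range fun l : Fin Pm.c => F (Fin.castLE Pm.hcm l)) with hSub
    let I' : Ideal P.toExtension.Ring := Submodule.map (Submodule.subtype P.toExtension.ker)
      (Submodule.comap (Algebra.Extension.Cotangent.mk (P := P.toExtension))
        (Sub.restrictScalars P.toExtension.Ring))
    have hle : Ideal.span (Pm.rel '' {j' : Fin Pm.m | (j' : ℕ) < Pm.c}) ≤ I' := by
      rw [Ideal.span_le]
      rintro _ ⟨j', hj', rfl⟩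
      refine ⟨⟨Pm.rel j', hmem j'⟩, ?_, rfl⟩
      show Algebra.Extension.Cotangent.mk ⟨Pm.rel j', hmem j'⟩ ∈ Sub
      refine Submodule.subset_span ⟨⟨j', hj'⟩, ?_⟩
      rw [hFdef]
      rfl
    obtain ⟨x, hx, hxu⟩ := hle hu
    have hx' : Algebra.Extension.Cotangent.mk x ∈ Sub := hx
    have hv' : v ∈ P.toExtension.ker ^ 2 := by rw [← hker]; exact hv
    have hvker : v ∈ P.toExtension.ker := Ideal.pow_le_self two_ne_zero hv'
    have h2 : (ã • (⟨Pm.rel j, hmem j⟩ : P.toExtension.ker)) = x + ⟨v, hvker⟩ := by
      apply Subtype.ext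
      let x1 : MvPolynomial (Fin Pm.n) R := x.1
      have e : u + v = x1 + v := by rw [← hxu]; rfl
      exact huv.symm.trans e
    have h3 : a • F j = Algebra.Extension.Cotangent.mk x := by
      have : F j = Algebra.Extension.Cotangent.mk ⟨Pm.rel j, hmem j⟩ := by rw [hFdef]
      rw [this, ← hã]
      have h4 : Pm.hom ã = algebraMap P.toExtension.Ring A ã := by
        rw [← hval]; exact (P.algebraMap_apply ã).symm
      rw [h4, algebraMap_smul, ← map_smul, h2, map_add]
      rw [(Algebra.Extension.Cotangent.mk_eq_zero_iff (⟨v, hvker⟩ : P.toExtension.ker)).mpr hv', add_zero]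
    rw [h3]; exact hx'
  obtain ⟨h1, h2, h3⟩ := elemStd_abstract Pm.hcn Pm.hcm P.cotangentSpaceBasis
    P.toExtension.cotangentComplex P.toExtension.toKaehler
    P.toExtension.exact_cotangentComplex_toKaehler P.toExtension.toKaehler_surjective
    F hFspan a a' hdet hkill'
  have hK : ∀ i : Fin Pm.n, P.toExtension.toKaehler (P.cotangentSpaceBasis i) =
      D R A (P.val i) := fun i => P.toKaehler_cotangentSpaceBasis i
  simp only [hK] at h2 h3
  refine isStandardSmooth_away_of_kaehler a ?_ (κ := {i : Fin Pm.n // Pm.c ≤ (i : ℕ)})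
    (fun i => P.val i.1) (fun ω => ⟨1, by rw [pow_one]; exact h2 ω⟩)
    (fun b hb i => ⟨2, h3 b hb i⟩)
  intro z
  refine ⟨2, ?_⟩
  have hz := h1 (P.equivH1Cotangent.symm z).1 (P.equivH1Cotangent.symm z).2
  have hz' : a ^ 2 • P.equivH1Cotangent.symm z = 0 := by
    apply Algebra.Extension.h1Cotangentι_ext
    exact hz
  rw [← P.equivH1Cotangent.apply_symm_apply z, ← map_smul, hz', map_zero]

end Groth.Agent.Helper12
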