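import Mathlib

/-!
# Cauchy–Binet (subset form) and an application to ideals of minors (S17662)
-/

set_option autoImplicit false
universe u

namespace Groth.Agent.Helper12.CauchyBinet

open Finset Matrix

variable {R : Type u} [CommRing R] {e r : ℕ}

theorem det_mul_expand (X : Matrix (Fin e) (Fin r) R) (Y : Matrix (Fin r) (Fin e) R) :
    (X * Y).det = ∑ p : Fin e → Fin r, (X.submatrix id p).det * ∏ i, Y (p i) i := by
  rw [Matrix.det_apply']
  simp only [Matrix.mul_apply, Finset.prod_univ_sum, Fintype.piFinset_univ, Finset.mul_sum]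
  rw [Finset.sum_comm]
  refine Finset.sum_congr rfl fun p _ => ?_
  rw [Matrix.det_apply', Finset.sum_mul]
  refine Finset.sum_congr rfl fun σ _ => ?_
  simp only [Matrix.submatrix_apply, id_eq, Finset.prod_mul_distrib]
  ring

/-- the reindexing map -/
def Φ (q : {s : Finset (Fin r) // s.card = e} × Equiv.Perm (Fin e)) : Fin e → Fin r :=
  fun i => q.1.1.orderEmbOfFin q.1.2 (q.2 i)

theorem Φ_apply (q : {s : Finset (Fin r) // s.card = e} × Equiv.Perm (Fin e)) (i : Fin e) :
    Φ q i = q.1.1.orderEmbOfFin q.1.2 (q.2 i) := rfl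

theorem range_Φ (L : {s : Finset (Fin r) // s.card = e}) (σ : Equiv.Perm (Fin e)) :
    Set.range (Φ (L, σ)) = (L.1 : Set (Fin r)) := by
  rw [← Finset.range_orderEmbOfFin L.1 L.2]
  ext y
  constructor
  · rintro ⟨i, rfl⟩
    exact ⟨σ i, rfl⟩
  · rintro ⟨i, rfl⟩
    exact ⟨σ.symm i, by rw [Φ_apply]; simp⟩

theorem Φ_injective : Function.Injective (Φ (e := e) (r := r)) := by
  rintro ⟨L, σ⟩ ⟨L', σ'⟩ h
  have hL : L = L' := by
    apply Subtype.ext
    apply Finset.coe_injective
    rw [← range_Φ L σ, ← range_Φ L' σ', h]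
  subst hL
  have hσ : σ = σ' := Equiv.ext fun i => (L.1.orderEmbOfFin L.2).injective (congrFun h i)
  rw [hσ]

theorem mem_range_Φ (p : Fin e → Fin r) (hp : Function.Injective p) : p ∈ Set.range (Φ (e := e)) := by
  have hcard : (Finset.univ.image p).card = e := by
    rw [Finset.card_image_of_injective _ hp, Finset.card_univ, Fintype.card_fin]
  have hmem : ∀ i, p i ∈ Finset.univ.image p := fun i => Finset.mem_image_of_mem p (Finset.mem_univ i)
  have hτ : ∀ i, (Finset.univ.image p).orderEmbOfFin hcard
      (((Finset.univ.image p).orderIsoOfFin hcard).symm ⟨p i, hmem i⟩) = p i := by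
    intro i
    rw [← Finset.coe_orderIsoOfFin_apply, OrderIso.apply_symm_apply]
  have hτinj : Function.Injective
      (fun i => ((Finset.univ.image p).orderIsoOfFin hcard).symm ⟨p i, hmem i⟩) := by
    intro i j hij
    apply hp
    have hij' : ((Finset.univ.image p).orderIsoOfFin hcard).symm ⟨p i, hmem i⟩ =
      ((Finset.univ.image p).orderIsoOfFin hcard).symm ⟨p j, hmem j⟩ := hij
    rw [← hτ i, ← hτ j, hij']
  refine ⟨(⟨Finset.univ.image p, hcard⟩, Equiv.ofBijective _ hτinj.bijective_of_finite), ?_⟩
  funext i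
  exact hτ i

theorem cauchy_binet (X : Matrix (Fin e) (Fin r) R) (Y : Matrix (Fin r) (Fin e) R) :
    (X * Y).det = ∑ L : {s : Finset (Fin r) // s.card = e},
      (X.submatrix id (L.1.orderEmbOfFin L.2)).det *
        (Y.submatrix (L.1.orderEmbOfFin L.2) id).det := by
  rw [det_mul_expand]
  have hsum : ∑ q : {s : Finset (Fin r) // s.card = e} × Equiv.Perm (Fin e),
        ((X.submatrix id (Φ q)).det * ∏ i, Y (Φ q i) i) =
      ∑ p : Fin e → Fin r, (X.submatrix id p).det * ∏ i, Y (p i) i := by
    refine Finset.sum_of_injOn Φ Φ_injective.injOn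
      (fun _ _ => Finset.mem_coe.mpr (Finset.mem_univ _)) ?_ (fun _ _ => rfl)
    intro p _ hp
    have hnotinj : ¬ Function.Injective p := fun hinj => hp (by
      obtain ⟨q, hq⟩ := mem_range_Φ p hinj
      exact ⟨q, Finset.mem_coe.mpr (Finset.mem_univ q), hq⟩)
    rw [Function.Injective] at hnotinj
    push_neg at hnotinj
    obtain ⟨i, j, hij, hne⟩ := hnotinj
    rw [Matrix.det_zero_of_column_eq hne (fun k => by
      simp only [Matrix.submatrix_apply, hij]), zero_mul]
  rw [← hsum, Fintype.sum_prod_type]
  refine Finset.sum_congr rfl fun L _ => ?_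
  rw [Matrix.det_apply' (Y.submatrix (L.1.orderEmbOfFin L.2) id), Finset.mul_sum]
  refine Finset.sum_congr rfl fun σ _ => ?_
  have h1 : X.submatrix id (Φ (L, σ)) =
      (X.submatrix id (L.1.orderEmbOfFin L.2)).submatrix id σ := by
    ext a b
    rfl
  rw [h1, Matrix.det_permute']
  simp only [Matrix.submatrix_apply, id_eq, Φ_apply]
  ring

theorem main {R : Type u} [CommRing R] (e r n : ℕ)
    (M : Matrix (Fin r) (Fin n) R)
    (A : {s : Finset (Fin r) // s.card = e} → Matrix (Fin e) (Fin r) R)
    (hA : IsUnit (Matrix.det (Matrix.of fun i j : {s : Finset (Fin r) // s.card = e} =>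
      ((A i).submatrix id (j.1.orderEmbOfFin j.2)).det))) :
    (⨆ i, Ideal.span (Set.range fun t : {s : Finset (Fin n) // s.card = e} =>
        ((A i * M).submatrix id (t.1.orderEmbOfFin t.2)).det)) =
      Ideal.span (Set.range fun p : {s : Finset (Fin r) // s.card = e} × {s : Finset (Fin n) // s.card = e} =>
        (M.submatrix (p.1.1.orderEmbOfFin p.1.2) (p.2.1.orderEmbOfFin p.2.2)).det) := by
  have key : ∀ (i : {s : Finset (Fin r) // s.card = e}) (t : {s : Finset (Fin n) // s.card = e}),
      ((A i * M).submatrix id (t.1.orderEmbOfFin t.2)).det =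
        ∑ L : {s : Finset (Fin r) // s.card = e},
          ((A i).submatrix id (L.1.orderEmbOfFin L.2)).det *
            (M.submatrix (L.1.orderEmbOfFin L.2) (t.1.orderEmbOfFin t.2)).det := by
    intro i t
    have h1 : (A i * M).submatrix id (t.1.orderEmbOfFin t.2) =
        A i * M.submatrix id (t.1.orderEmbOfFin t.2) := by
      ext a b
      simp only [Matrix.submatrix_apply, Matrix.mul_apply, id_eq]
    rw [h1, cauchy_binet]
    refine Finset.sum_congr rfl fun L _ => ?_
    rfl
  have hinv := Matrix.nonsing_inv_mul _ hA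
  apply le_antisymm
  · apply iSup_le
    intro i
    rw [Ideal.span_le]
    rintro _ ⟨t, rfl⟩
    beta_reduce
    rw [SetLike.mem_coe, key]
    exact Ideal.sum_mem _ fun L _ => Ideal.mul_mem_left _ _ (Ideal.subset_span ⟨(L, t), rfl⟩)
  · rw [Ideal.span_le]
    rintro _ ⟨⟨L, t⟩, rfl⟩
    beta_reduce
    rw [SetLike.mem_coe]
    have h2 : (M.submatrix (L.1.orderEmbOfFin L.2) (t.1.orderEmbOfFin t.2)).det =
        ∑ i : {s : Finset (Fin r) // s.card = e},
          ((Matrix.of fun i j : {s : Finset (Fin r) // s.card = e} =>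
            ((A i).submatrix id (j.1.orderEmbOfFin j.2)).det)⁻¹ L i) *
            ((A i * M).submatrix id (t.1.orderEmbOfFin t.2)).det := by
      simp only [key, Finset.mul_sum]
      rw [Finset.sum_comm]
      have h3 : ∀ L' : {s : Finset (Fin r) // s.card = e},
          ∑ i : {s : Finset (Fin r) // s.card = e},
            ((Matrix.of fun i j : {s : Finset (Fin r) // s.card = e} =>
              ((A i).submatrix id (j.1.orderEmbOfFin j.2)).det)⁻¹ L i) *
              (((A i).submatrix id (L'.1.orderEmbOfFin L'.2)).det *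
                (M.submatrix (L'.1.orderEmbOfFin L'.2) (t.1.orderEmbOfFin t.2)).det) =
          (1 : Matrix _ _ R) L L' *
            (M.submatrix (L'.1.orderEmbOfFin L'.2) (t.1.orderEmbOfFin t.2)).det := by
        intro L'
        rw [← hinv, Matrix.mul_apply, Finset.sum_mul]
        refine Finset.sum_congr rfl fun i _ => ?_
        rw [Matrix.of_apply, mul_assoc]
      simp only [h3]
      rw [Finset.sum_eq_single L]
      · rw [Matrix.one_apply_eq, one_mul]
      · intro L' _ hne
        rw [Matrix.one_apply_ne hne.symm, zero_mul]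
      · intro h
        exact absurd (Finset.mem_univ L) h
    rw [h2]
    exact Ideal.sum_mem _ fun i _ => Ideal.mul_mem_left _ _
      ((le_iSup (fun i => Ideal.span (Set.range fun t : {s : Finset (Fin n) // s.card = e} =>
        ((A i * M).submatrix id (t.1.orderEmbOfFin t.2)).det)) i) (Ideal.subset_span ⟨t, rfl⟩))

end Groth.Agent.Helper12.CauchyBinet
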