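import Mathlib

set_option autoImplicit false

namespace Groth.Agent.Helper12.KA

variable {R : Type*} [CommRing R]

section Pow
variable (N : Type*) [AddCommGroup N] [Module R N] (a : R)

/-- the submodule `a^n N`. -/
def aN (n : ℕ) : Submodule R N := LinearMap.range (LinearMap.lsmul R N (a ^ n))

variable {N a}

theorem mem_aN {n : ℕ} {x : N} : x ∈ aN N a n ↔ ∃ y, a ^ n • y = x := by
  rw [aN, LinearMap.mem_range]; rfl

variable (N a)

theorem length_succ (ha : ∀ x : N, a • x = 0 → x = 0) (n : ℕ) :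
    Module.length R (N ⧸ aN N a (n + 1)) =
      Module.length R (N ⧸ aN N a n) + Module.length R (N ⧸ aN N a 1) := by
  have hmap : aN N a n ≤ Submodule.comap (LinearMap.lsmul R N a) (aN N a (n + 1)) := by
    intro x hx
    obtain ⟨y, rfl⟩ := mem_aN.mp hx
    rw [Submodule.mem_comap, LinearMap.lsmul_apply]
    exact mem_aN.mpr ⟨y, by rw [pow_succ, mul_smul, smul_comm]⟩
  have hle : aN N a (n + 1) ≤ aN N a 1 := by
    intro x hx
    obtain ⟨y, rfl⟩ := mem_aN.mp hx
    exact mem_aN.mpr ⟨a ^ n • y, by rw [pow_one, pow_succ, mul_smul, smul_comm]⟩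
  obtain ⟨f, hf⟩ : ∃ f : (N ⧸ aN N a n) →ₗ[R] (N ⧸ aN N a (n + 1)),
      ∀ x : N, f (Submodule.Quotient.mk x) = Submodule.Quotient.mk (a • x) :=
    ⟨Submodule.mapQ _ _ (LinearMap.lsmul R N a) hmap, fun x => rfl⟩
  obtain ⟨g, hg⟩ : ∃ g : (N ⧸ aN N a (n + 1)) →ₗ[R] (N ⧸ aN N a 1),
      ∀ x : N, g (Submodule.Quotient.mk x) = Submodule.Quotient.mk x :=
    ⟨Submodule.mapQ _ _ LinearMap.id hle, fun x => rfl⟩
  have hfinj : Function.Injective f := by
    rw [← LinearMap.ker_eq_bot, LinearMap.ker_eq_bot']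
    intro x hx
    obtain ⟨x, rfl⟩ := Submodule.Quotient.mk_surjective _ x
    rw [hf, Submodule.Quotient.mk_eq_zero] at hx
    obtain ⟨y, hy⟩ := mem_aN.mp hx
    rw [Submodule.Quotient.mk_eq_zero]
    refine mem_aN.mpr ⟨y, ?_⟩
    have h1 : a • (a ^ n • y - x) = 0 := by
      rw [smul_sub, ← mul_smul, ← pow_succ', hy, sub_self]
    exact sub_eq_zero.mp (ha _ h1)
  have hgsurj : Function.Surjective g := by
    intro y
    obtain ⟨y, rfl⟩ := Submodule.Quotient.mk_surjective _ y
    exact ⟨Submodule.Quotient.mk y, hg y⟩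
  have hex : Function.Exact f g := by
    intro y
    obtain ⟨y, rfl⟩ := Submodule.Quotient.mk_surjective _ y
    rw [hg, Submodule.Quotient.mk_eq_zero]
    constructor
    · intro hy
      obtain ⟨z, hz⟩ := mem_aN.mp hy
      rw [pow_one] at hz
      exact ⟨Submodule.Quotient.mk z, by rw [hf, hz]⟩
    · rintro ⟨z, hz⟩
      obtain ⟨z, rfl⟩ := Submodule.Quotient.mk_surjective _ z
      rw [hf, Submodule.Quotient.eq] at hz
      obtain ⟨w, hw⟩ := mem_aN.mp hz
      refine mem_aN.mpr ⟨z - a ^ n • w, ?_⟩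
      rw [pow_one, smul_sub, ← mul_smul, ← pow_succ', hw]
      abel
  exact Module.length_eq_add_of_exact f g hfinj hgsurj hex

theorem length_pow (ha : ∀ x : N, a • x = 0 → x = 0) (n : ℕ) :
    Module.length R (N ⧸ aN N a n) = n * Module.length R (N ⧸ aN N a 1) := by
  induction n with
  | zero =>
    have : Subsingleton (N ⧸ aN N a 0) := by
      rw [Submodule.Quotient.subsingleton_iff]
      rw [eq_top_iff]
      intro x _
      exact mem_aN.mpr ⟨x, by rw [pow_zero, one_smul]⟩
    rw [Module.length_eq_zero_iff.mpr this]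
    simp
  | succ n ih =>
    rw [length_succ N a ha n, ih]
    push_cast
    ring

end Pow


section Ineq
variable (N : Type*) [AddCommGroup N] [Module R N] (a : R)

theorem length_le_add (F : Submodule R N) (n : ℕ) :
    Module.length R (N ⧸ aN N a n) ≤
      Module.length R (↥F ⧸ aN ↥F a n) + Module.length R (N ⧸ F) := by
  have hmap : aN ↥F a n ≤ Submodule.comap F.subtype (aN N a n) := by
    intro x hx
    obtain ⟨y, rfl⟩ := mem_aN.mp hx
    rw [Submodule.mem_comap]
    exact mem_aN.mpr ⟨(y : N), by simp⟩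
  obtain ⟨φ, hφ⟩ : ∃ φ : (↥F ⧸ aN ↥F a n) →ₗ[R] (N ⧸ aN N a n),
      ∀ x : F, φ (Submodule.Quotient.mk x) = Submodule.Quotient.mk (x : N) :=
    ⟨Submodule.mapQ _ _ F.subtype hmap, fun x => rfl⟩
  have h1 := Module.length_eq_add_of_exact (LinearMap.range φ).subtype (LinearMap.range φ).mkQ
    (Submodule.subtype_injective _) (Submodule.mkQ_surjective _)
    (LinearMap.exact_subtype_mkQ (LinearMap.range φ))
  have h2 : Module.length R (LinearMap.range φ) ≤ Module.length R (↥F ⧸ aN ↥F a n) :=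
    Module.length_le_of_surjective φ.rangeRestrict φ.surjective_rangeRestrict
  -- surjection N/F → (N/a^n N)/range φ
  have hker : F ≤ LinearMap.ker ((LinearMap.range φ).mkQ ∘ₗ (aN N a n).mkQ) := by
    intro x hx
    rw [LinearMap.mem_ker, LinearMap.comp_apply, Submodule.mkQ_apply, Submodule.mkQ_apply,
      Submodule.Quotient.mk_eq_zero]
    exact ⟨Submodule.Quotient.mk ⟨x, hx⟩, hφ _⟩
  have h3 : Module.length R ((N ⧸ aN N a n) ⧸ LinearMap.range φ) ≤ Module.length R (N ⧸ F) := by
    refine Module.length_le_of_surjective (F.liftQ _ hker) ?_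
    intro y
    obtain ⟨y, rfl⟩ := Submodule.Quotient.mk_surjective _ y
    obtain ⟨y, rfl⟩ := Submodule.Quotient.mk_surjective _ y
    exact ⟨Submodule.Quotient.mk y, rfl⟩
  rw [h1]
  exact add_le_add h2 h3

/-- Matsumura's inequality. -/
theorem length_quot_le (ha : ∀ x : N, a • x = 0 → x = 0) (F : Submodule R N)
    (hc : Module.length R (N ⧸ F) ≠ ⊤) (hF : Module.length R (↥F ⧸ aN ↥F a 1) ≠ ⊤) :
    Module.length R (N ⧸ aN N a 1) ≤ Module.length R (↥F ⧸ aN ↥F a 1) := by
  have haF : ∀ x : F, a • x = 0 → x = 0 := by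
    intro x hx
    apply Subtype.ext
    apply ha
    have := congrArg Subtype.val hx
    simpa using this
  have key : ∀ n : ℕ, n * Module.length R (N ⧸ aN N a 1) ≤
      n * Module.length R (↥F ⧸ aN ↥F a 1) + Module.length R (N ⧸ F) := by
    intro n
    rw [← length_pow N a ha n, ← length_pow ↥F a haF n]
    exact length_le_add N a F n
  obtain ⟨c, hc'⟩ := ENat.ne_top_iff_exists.mp hc
  obtain ⟨y, hy'⟩ := ENat.ne_top_iff_exists.mp hF
  rw [← hc', ← hy'] at key
  rw [← hy']
  by_contra hlt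
  rw [not_le] at hlt
  generalize Module.length R (N ⧸ aN N a 1) = x at key hlt
  induction x using ENat.recTopCoe with
  | top =>
    have h1 := key 1
    have h2 : ((1 : ℕ) : ℕ∞) * ⊤ = ⊤ := by simp
    rw [h2, top_le_iff] at h1
    have h3 : ((1 : ℕ) : ℕ∞) * (y : ℕ∞) + (c : ℕ∞) = ((1 * y + c : ℕ) : ℕ∞) := by push_cast; rfl
    rw [h3] at h1
    exact ENat.coe_ne_top _ h1
  | coe x' =>
    have hlt' : y < x' := by exact_mod_cast hlt
    have h1 := key (c + 1)
    have h2 : (c + 1) * x' ≤ (c + 1) * y + c := by exact_mod_cast h1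
    nlinarith [Nat.mul_le_mul_left (c + 1) hlt']

end Ineq


section FiniteLength

theorem isArtinianRing_quotient [IsDomain R] [IsNoetherianRing R] (hdim : ringKrullDim R = 1)
    (c : R) (hc : c ≠ 0) : IsArtinianRing (R ⧸ Ideal.span {c}) := by
  have hc' : c ∈ nonZeroDivisors R := mem_nonZeroDivisors_of_ne_zero hc
  have h1 := ringKrullDim_quotient_succ_le_of_nonZeroDivisor hc'
  rw [hdim] at h1
  have h2 : ringKrullDim (R ⧸ Ideal.span {c}) ≤ 0 := by
    generalize ringKrullDim (R ⧸ Ideal.span {c}) = x at h1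
    induction x using WithBot.recBotCoe with
    | bot => exact bot_le
    | coe n =>
      have : ((n + 1 : ℕ∞) : WithBot ℕ∞) ≤ ((1 : ℕ∞) : WithBot ℕ∞) := by exact_mod_cast h1
      rw [WithBot.coe_le_coe] at this
      have hn : n = 0 := by
        induction n using ENat.recTopCoe with
        | top => simp at this
        | coe m =>
          have : m + 1 ≤ 1 := by exact_mod_cast this
          have : m = 0 := by omega
          simp [this]
      rw [hn]
      rfl
  haveI : Ring.KrullDimLE 0 (R ⧸ Ideal.span {c}) := Ring.krullDimLE_iff.mpr (by simpa using h2)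
  exact isArtinianRing_iff_krullDimLE_zero.mpr inferInstance

theorem length_ne_top_of_smul_eq_zero [IsDomain R] [IsNoetherianRing R]
    (hdim : ringKrullDim R = 1) (Q : Type*) [AddCommGroup Q] [Module R Q] [Module.Finite R Q]
    (c : R) (hc : c ≠ 0) (hQ : ∀ q : Q, c • q = 0) : Module.length R Q ≠ ⊤ := by
  haveI := isArtinianRing_quotient hdim c hc
  have htor : Module.IsTorsionBySet R Q (Ideal.span {c} : Ideal R) := by
    intro x ⟨r, hr⟩
    obtain ⟨s, rfl⟩ := Ideal.mem_span_singleton'.mp hr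
    show (s * c) • x = 0
    rw [mul_smul, hQ, smul_zero]
  letI := htor.module
  haveI : IsScalarTower R (R ⧸ Ideal.span {c}) Q := htor.isScalarTower
  haveI : Module.Finite (R ⧸ Ideal.span {c}) Q := Module.Finite.of_restrictScalars_finite R _ Q
  rw [Module.length_eq_of_surjective (S := R) (R := R ⧸ Ideal.span {c}) (M := Q)
    Ideal.Quotient.mk_surjective]
  exact Module.length_ne_top

end FiniteLength


section Bound

theorem isNoetherian_of_fg_length_le (Q : Type*) [AddCommGroup Q] [Module R Q] (B : ℕ)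
    (h : ∀ G : Submodule R Q, G.FG → Module.length R G ≤ B) : IsNoetherian R Q := by
  have hlen : (Module.length R Q : WithBot ℕ∞) ≤ ((B : ℕ∞) : WithBot ℕ∞) := by
    rw [Module.coe_length]
    unfold Order.krullDim
    apply iSup_le
    intro p
    have hex : ∀ i : Fin p.length, ∃ x : Q, x ∈ p i.succ ∧ x ∉ p i.castSucc := fun i =>
      SetLike.exists_of_lt (p.step i)
    choose x hx1 hx2 using hex
    obtain ⟨G, hG⟩ : ∃ G : Submodule R Q, G = Submodule.span R (Set.range x) := ⟨_, rfl⟩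
    have hGfg : G.FG := by
      rw [hG]; exact Submodule.fg_span (Set.finite_range x)
    have hxG : ∀ i, x i ∈ G := fun i => hG ▸ Submodule.subset_span ⟨i, rfl⟩
    let q : LTSeries (Submodule R G) :=
      { length := p.length
        toFun := fun j => (p j).comap G.subtype
        step := fun i => by
          refine lt_of_le_of_ne (Submodule.comap_mono (p.step i).le) ?_
          intro heq
          have h1 : (⟨x i, hxG i⟩ : G) ∈ (p i.succ).comap G.subtype := hx1 i
          rw [← heq] at h1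
          exact hx2 i h1 }
    have h1 := Order.LTSeries.length_le_krullDim q
    rw [← Module.coe_length] at h1
    have h2 : ((p.length : ℕ∞) : WithBot ℕ∞) ≤ (Module.length R G : WithBot ℕ∞) := by
      exact_mod_cast h1
    refine le_trans ?_ (le_trans h2 (by exact_mod_cast h G hGfg))
    exact_mod_cast le_rfl
  have hlen' : Module.length R Q ≤ B := by exact_mod_cast hlen
  have hne : Module.length R Q ≠ ⊤ := ne_top_of_le_ne_top (ENat.coe_ne_top B) hlen'
  exact (isFiniteLength_iff_isNoetherian_isArtinian.mp (Module.length_ne_top_iff.mp hne)).1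

end Bound


section Funct

theorem length_aN_le_of_surjective {N N' : Type*} [AddCommGroup N] [Module R N] [AddCommGroup N']
    [Module R N'] (e : N →ₗ[R] N') (he : Function.Surjective e) (a : R) (n : ℕ) :
    Module.length R (N' ⧸ aN N' a n) ≤ Module.length R (N ⧸ aN N a n) := by
  have hmap : aN N a n ≤ Submodule.comap e (aN N' a n) := by
    intro x hx
    obtain ⟨y, rfl⟩ := mem_aN.mp hx
    rw [Submodule.mem_comap, map_smul]
    exact mem_aN.mpr ⟨e y, rfl⟩
  refine Module.length_le_of_surjective (Submodule.mapQ _ _ e hmap) ?_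
  intro y
  obtain ⟨y, rfl⟩ := Submodule.Quotient.mk_surjective _ y
  obtain ⟨x, rfl⟩ := he y
  exact ⟨Submodule.Quotient.mk x, rfl⟩

theorem smul_aN_quot_eq_zero {N : Type*} [AddCommGroup N] [Module R N] (a : R)
    (q : N ⧸ aN N a 1) : a • q = 0 := by
  obtain ⟨x, rfl⟩ := Submodule.Quotient.mk_surjective _ q
  rw [← Submodule.Quotient.mk_smul, Submodule.Quotient.mk_eq_zero]
  exact mem_aN.mpr ⟨x, by rw [pow_one]⟩

end Funct

section Denominators

theorem exists_smul_mem_span {K V : Type*} [IsDomain R] [Field K] [Algebra R K]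
    [IsFractionRing R K] [AddCommGroup V] [Module K V] [Module R V] [IsScalarTower R K V]
    (S : Set V) {x : V} (hx : x ∈ Submodule.span K S) :
    ∃ d : R, d ≠ 0 ∧ d • x ∈ Submodule.span R S := by
  induction hx using Submodule.span_induction with
  | mem x hx => exact ⟨1, one_ne_zero, by rw [one_smul]; exact Submodule.subset_span hx⟩
  | zero => exact ⟨1, one_ne_zero, by rw [smul_zero]; exact Submodule.zero_mem _⟩
  | add x y _ _ hx hy =>
    obtain ⟨d₁, hd₁, h₁⟩ := hx
    obtain ⟨d₂, hd₂, h₂⟩ := hy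
    refine ⟨d₁ * d₂, mul_ne_zero hd₁ hd₂, ?_⟩
    rw [smul_add]
    refine Submodule.add_mem _ ?_ ?_
    · rw [mul_comm, mul_smul]; exact Submodule.smul_mem _ _ h₁
    · rw [mul_smul]; exact Submodule.smul_mem _ _ h₂
  | smul k x _ hx =>
    obtain ⟨d, hd, h⟩ := hx
    obtain ⟨⟨n, d'⟩, hnd⟩ := IsLocalization.surj (nonZeroDivisors R) k
    refine ⟨d' * d, mul_ne_zero (nonZeroDivisors.ne_zero d'.2) hd, ?_⟩
    have h1 : ((d' : R) * d) • (k • x) = n • (d • x) := by
      rw [mul_smul, smul_comm d k x, ← algebraMap_smul K (d' : R) (k • d • x), ← mul_smul,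
        mul_comm, hnd, algebraMap_smul]
    rw [h1]
    exact Submodule.smul_mem _ _ h

end Denominators


section Main

theorem isNoetherian_quot (R : Type*) [CommRing R] [IsDomain R] [IsNoetherianRing R]
    (hdim : ringKrullDim R = 1) (K V : Type*) [Field K] [Algebra R K] [IsFractionRing R K]
    [AddCommGroup V] [Module K V] [Module R V] [IsScalarTower R K V] [FiniteDimensional K V]
    (M : Type*) [AddCommGroup M] [Module R M] (ι : M →ₗ[R] V) (hι : Function.Injective ι)
    (a : R) (ha : a ≠ 0) : IsNoetherian R (M ⧸ aN M a 1) := by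
  classical
  -- torsion-free
  have htf : ∀ (d : R), d ≠ 0 → ∀ x : M, d • x = 0 → x = 0 := by
    intro d hd x hx
    apply hι
    rw [map_zero]
    have h1 : d • ι x = 0 := by rw [← map_smul, hx, map_zero]
    rw [← algebraMap_smul K d (ι x), smul_eq_zero] at h1
    rcases h1 with h1 | h1
    · exact absurd h1 ((map_ne_zero_iff _ (IsFractionRing.injective R K)).mpr hd)
    · exact h1
  -- finite spanning subset
  have hfg : (Submodule.span K (Set.range ι)).FG := IsNoetherian.noetherian _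
  obtain ⟨s', hs's, hspan⟩ := (Submodule.fg_span_iff_fg_span_finset_subset _).mp hfg
  obtain ⟨T, hT⟩ : ∃ T : Set M, T = ι ⁻¹' (s' : Set V) := ⟨_, rfl⟩
  have hTfin : T.Finite := by
    rw [hT]; exact (s'.finite_toSet).preimage (hι.injOn)
  have hιT : ι '' T = (s' : Set V) := by
    rw [hT]; exact Set.image_preimage_eq_of_subset hs's
  obtain ⟨F, hF⟩ : ∃ F : Submodule R M, F = Submodule.span R T := ⟨_, rfl⟩
  have hFfg : F.FG := by rw [hF]; exact Submodule.fg_span hTfin
  have hden : ∀ x : M, ∃ d : R, d ≠ 0 ∧ d • x ∈ F := by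
    intro x
    have hx : ι x ∈ Submodule.span K (ι '' T) := by
      rw [hιT, ← hspan]; exact Submodule.subset_span ⟨x, rfl⟩
    obtain ⟨d, hd, hdx⟩ := exists_smul_mem_span (R := R) (ι '' T) hx
    refine ⟨d, hd, ?_⟩
    rw [← Submodule.map_span, ← hF] at hdx
    obtain ⟨y, hy, hyx⟩ := hdx
    rw [← map_smul] at hyx
    rw [← hι hyx]; exact hy
  -- the bound
  haveI : Module.Finite R F := Module.Finite.iff_fg.mpr hFfg
  have hB : Module.length R (↥F ⧸ aN ↥F a 1) ≠ ⊤ :=
    length_ne_top_of_smul_eq_zero hdim _ a ha (smul_aN_quot_eq_zero a)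
  obtain ⟨B, hB'⟩ := ENat.ne_top_iff_exists.mp hB
  apply isNoetherian_of_fg_length_le _ B
  intro G hG
  obtain ⟨n, x, hx⟩ := Submodule.fg_iff_exists_fin_generating_family.mp hG
  have hex : ∀ i, ∃ y : M, Submodule.Quotient.mk y = x i :=
    fun i => Submodule.Quotient.mk_surjective _ (x i)
  choose y hy using hex
  obtain ⟨M₁, hM₁⟩ : ∃ M₁ : Submodule R M, M₁ = Submodule.span R (Set.range y) ⊔ F := ⟨_, rfl⟩
  have hM₁fg : M₁.FG := by rw [hM₁]; exact (Submodule.fg_span (Set.finite_range y)).sup hFfg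
  have hFM₁ : F ≤ M₁ := hM₁ ▸ le_sup_right
  have hGle : G ≤ Submodule.map (aN M a 1).mkQ M₁ := by
    rw [← hx, Submodule.span_le]
    rintro _ ⟨i, rfl⟩
    exact ⟨y i, hM₁ ▸ Submodule.mem_sup_left (Submodule.subset_span ⟨i, rfl⟩), hy i⟩
  have h1 : Module.length R G ≤ Module.length R (Submodule.map (aN M a 1).mkQ M₁) :=
    Module.length_le_of_injective (Submodule.inclusion hGle) (Submodule.inclusion_injective hGle)
  obtain ⟨ψ, hψ⟩ : ∃ ψ : M₁ →ₗ[R] (M ⧸ aN M a 1), ψ = (aN M a 1).mkQ ∘ₗ M₁.subtype := ⟨_, rfl⟩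
  have hψker : aN ↥M₁ a 1 ≤ LinearMap.ker ψ := by
    intro z hz
    obtain ⟨w, rfl⟩ := mem_aN.mp hz
    rw [LinearMap.mem_ker, hψ, LinearMap.comp_apply, Submodule.mkQ_apply,
      Submodule.Quotient.mk_eq_zero]
    exact mem_aN.mpr ⟨(w : M), by simp⟩
  have hrange : LinearMap.range ((aN ↥M₁ a 1).liftQ ψ hψker) =
      Submodule.map (aN M a 1).mkQ M₁ := by
    rw [Submodule.range_liftQ, hψ, LinearMap.range_comp, Submodule.range_subtype]
  have h2 : Module.length R (Submodule.map (aN M a 1).mkQ M₁) ≤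
      Module.length R (↥M₁ ⧸ aN ↥M₁ a 1) := by
    rw [← hrange]
    exact Module.length_le_of_surjective _ (LinearMap.surjective_rangeRestrict _)
  -- common denominator for M₁
  haveI : Module.Finite R M₁ := Module.Finite.iff_fg.mpr hM₁fg
  obtain ⟨m, z, hz⟩ := Submodule.fg_iff_exists_fin_generating_family.mp hM₁fg
  have hdz : ∀ i, ∃ d : R, d ≠ 0 ∧ d • z i ∈ F := fun i => hden (z i)
  choose dz hdz0 hdzF using hdz
  obtain ⟨D, hD⟩ : ∃ D : R, D = ∏ i, dz i := ⟨_, rfl⟩
  have hD0 : D ≠ 0 := by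
    rw [hD]; exact Finset.prod_ne_zero_iff.mpr fun i _ => hdz0 i
  have hDF : ∀ w ∈ M₁, D • w ∈ F := by
    intro w hw
    rw [← hz] at hw
    induction hw using Submodule.span_induction with
    | mem w hw =>
      obtain ⟨i, rfl⟩ := hw
      have : D = (∏ j ∈ Finset.univ.erase i, dz j) * dz i := by
        rw [hD]; exact (Finset.prod_erase_mul _ _ (Finset.mem_univ i)).symm
      rw [this, mul_smul]
      exact Submodule.smul_mem _ _ (hdzF i)
    | zero => rw [smul_zero]; exact F.zero_mem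
    | add u v _ _ hu hv => rw [smul_add]; exact F.add_mem hu hv
    | smul r u _ hu => rw [smul_comm]; exact F.smul_mem _ hu
  obtain ⟨F₁, hF₁⟩ : ∃ F₁ : Submodule R M₁, F₁ = F.comap M₁.subtype := ⟨_, rfl⟩
  have hc : Module.length R (↥M₁ ⧸ F₁) ≠ ⊤ := by
    refine length_ne_top_of_smul_eq_zero hdim _ D hD0 ?_
    intro q
    obtain ⟨w, rfl⟩ := Submodule.Quotient.mk_surjective _ q
    rw [← Submodule.Quotient.mk_smul, Submodule.Quotient.mk_eq_zero, hF₁, Submodule.mem_comap]
    exact hDF _ w.2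
  have h4 : Module.length R (↥F₁ ⧸ aN ↥F₁ a 1) ≤ Module.length R (↥F ⧸ aN ↥F a 1) := by
    rw [hF₁]
    exact length_aN_le_of_surjective (Submodule.comapSubtypeEquivOfLe hFM₁).symm.toLinearMap
      (Submodule.comapSubtypeEquivOfLe hFM₁).symm.surjective a 1
  have hF₁top : Module.length R (↥F₁ ⧸ aN ↥F₁ a 1) ≠ ⊤ :=
    ne_top_of_le_ne_top hB h4
  have ha' : ∀ w : M₁, a • w = 0 → w = 0 := by
    intro w hw
    apply Subtype.ext
    apply htf a ha
    have := congrArg Subtype.val hw
    simpa using this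
  have h3 := length_quot_le ↥M₁ a ha' F₁ hc hF₁top
  rw [hB']
  exact h1.trans (h2.trans (h3.trans h4))

end Main


section Sharp

theorem length_le_of_fg_length_le (Q : Type*) [AddCommGroup Q] [Module R Q] (B : ℕ)
    (h : ∀ G : Submodule R Q, G.FG → Module.length R G ≤ B) : Module.length R Q ≤ B := by
  have hlen : (Module.length R Q : WithBot ℕ∞) ≤ ((B : ℕ∞) : WithBot ℕ∞) := by
    rw [Module.coe_length]
    unfold Order.krullDim
    apply iSup_le
    intro p
    have hex : ∀ i : Fin p.length, ∃ x : Q, x ∈ p i.succ ∧ x ∉ p i.castSucc := fun i =>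
      SetLike.exists_of_lt (p.step i)
    choose x hx1 hx2 using hex
    obtain ⟨G, hG⟩ : ∃ G : Submodule R Q, G = Submodule.span R (Set.range x) := ⟨_, rfl⟩
    have hGfg : G.FG := by
      rw [hG]; exact Submodule.fg_span (Set.finite_range x)
    have hxG : ∀ i, x i ∈ G := fun i => hG ▸ Submodule.subset_span ⟨i, rfl⟩
    let q : LTSeries (Submodule R G) :=
      { length := p.length
        toFun := fun j => (p j).comap G.subtype
        step := fun i => by
          refine lt_of_le_of_ne (Submodule.comap_mono (p.step i).le) ?_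
          intro heq
          have h1 : (⟨x i, hxG i⟩ : G) ∈ (p i.succ).comap G.subtype := hx1 i
          rw [← heq] at h1
          exact hx2 i h1 }
    have h1 := Order.LTSeries.length_le_krullDim q
    rw [← Module.coe_length] at h1
    have h2 : ((p.length : ℕ∞) : WithBot ℕ∞) ≤ (Module.length R G : WithBot ℕ∞) := by
      exact_mod_cast h1
    refine le_trans ?_ (le_trans h2 (by exact_mod_cast h G hGfg))
    exact_mod_cast le_rfl
  exact_mod_cast hlen

theorem length_pi_quot (a : R) (κ : Type*) [Fintype κ] :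
    Module.length R ((κ → R) ⧸ aN (κ → R) a 1) =
      Fintype.card κ * Module.length R (R ⧸ Ideal.span ({a} : Set R)) := by
  classical
  have h1 : aN (κ → R) a 1 =
      Submodule.pi Set.univ (fun _ : κ => (Ideal.span ({a} : Set R) : Submodule R R)) := by
    ext y
    rw [mem_aN, Submodule.mem_pi]
    constructor
    · rintro ⟨z, rfl⟩ i _
      rw [pow_one]
      exact Ideal.mem_span_singleton'.mpr ⟨z i, by rw [mul_comm]; rfl⟩
    · intro h
      have : ∀ i, ∃ z, z * a = y i := fun i => Ideal.mem_span_singleton'.mp (h i trivial)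
      choose z hz using this
      refine ⟨z, ?_⟩
      ext i
      rw [pow_one, Pi.smul_apply, smul_eq_mul, mul_comm, hz]
  rw [(Submodule.quotEquivOfEq _ _ h1).length_eq, (Submodule.quotientPi _).length_eq,
    Module.length_pi_of_fintype]
  simp

theorem bound_core (R : Type*) [CommRing R] [IsDomain R] [IsNoetherianRing R]
    (hdim : ringKrullDim R = 1)
    (M : Type*) [AddCommGroup M] [Module R M]
    (htf : ∀ (d : R), d ≠ 0 → ∀ x : M, d • x = 0 → x = 0)
    (a : R) (ha : a ≠ 0) (F : Submodule R M) (hFfg : F.FG)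
    (hden : ∀ x : M, ∃ d : R, d ≠ 0 ∧ d • x ∈ F) (B : ℕ)
    (hB : Module.length R (↥F ⧸ aN ↥F a 1) ≤ B) :
    Module.length R (M ⧸ aN M a 1) ≤ B := by
  classical
  have hBtop : Module.length R (↥F ⧸ aN ↥F a 1) ≠ ⊤ := ne_top_of_le_ne_top (ENat.coe_ne_top B) hB
  apply length_le_of_fg_length_le _ B
  intro G hG
  obtain ⟨n, x, hx⟩ := Submodule.fg_iff_exists_fin_generating_family.mp hG
  have hex : ∀ i, ∃ y : M, Submodule.Quotient.mk y = x i :=
    fun i => Submodule.Quotient.mk_surjective _ (x i)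
  choose y hy using hex
  obtain ⟨M₁, hM₁⟩ : ∃ M₁ : Submodule R M, M₁ = Submodule.span R (Set.range y) ⊔ F := ⟨_, rfl⟩
  have hM₁fg : M₁.FG := by rw [hM₁]; exact (Submodule.fg_span (Set.finite_range y)).sup hFfg
  have hFM₁ : F ≤ M₁ := hM₁ ▸ le_sup_right
  have hGle : G ≤ Submodule.map (aN M a 1).mkQ M₁ := by
    rw [← hx, Submodule.span_le]
    rintro _ ⟨i, rfl⟩
    exact ⟨y i, hM₁ ▸ Submodule.mem_sup_left (Submodule.subset_span ⟨i, rfl⟩), hy i⟩
  have h1 : Module.length R G ≤ Module.length R (Submodule.map (aN M a 1).mkQ M₁) :=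
    Module.length_le_of_injective (Submodule.inclusion hGle) (Submodule.inclusion_injective hGle)
  obtain ⟨ψ, hψ⟩ : ∃ ψ : M₁ →ₗ[R] (M ⧸ aN M a 1), ψ = (aN M a 1).mkQ ∘ₗ M₁.subtype := ⟨_, rfl⟩
  have hψker : aN ↥M₁ a 1 ≤ LinearMap.ker ψ := by
    intro z hz
    obtain ⟨w, rfl⟩ := mem_aN.mp hz
    rw [LinearMap.mem_ker, hψ, LinearMap.comp_apply, Submodule.mkQ_apply,
      Submodule.Quotient.mk_eq_zero]
    exact mem_aN.mpr ⟨(w : M), by simp⟩
  have hrange : LinearMap.range ((aN ↥M₁ a 1).liftQ ψ hψker) =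
      Submodule.map (aN M a 1).mkQ M₁ := by
    rw [Submodule.range_liftQ, hψ, LinearMap.range_comp, Submodule.range_subtype]
  have h2 : Module.length R (Submodule.map (aN M a 1).mkQ M₁) ≤
      Module.length R (↥M₁ ⧸ aN ↥M₁ a 1) := by
    rw [← hrange]
    exact Module.length_le_of_surjective _ (LinearMap.surjective_rangeRestrict _)
  haveI : Module.Finite R M₁ := Module.Finite.iff_fg.mpr hM₁fg
  obtain ⟨m, z, hz⟩ := Submodule.fg_iff_exists_fin_generating_family.mp hM₁fg
  have hdz : ∀ i, ∃ d : R, d ≠ 0 ∧ d • z i ∈ F := fun i => hden (z i)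
  choose dz hdz0 hdzF using hdz
  obtain ⟨D, hD⟩ : ∃ D : R, D = ∏ i, dz i := ⟨_, rfl⟩
  have hD0 : D ≠ 0 := by
    rw [hD]; exact Finset.prod_ne_zero_iff.mpr fun i _ => hdz0 i
  have hDF : ∀ w ∈ M₁, D • w ∈ F := by
    intro w hw
    rw [← hz] at hw
    induction hw using Submodule.span_induction with
    | mem w hw =>
      obtain ⟨i, rfl⟩ := hw
      have : D = (∏ j ∈ Finset.univ.erase i, dz j) * dz i := by
        rw [hD]; exact (Finset.prod_erase_mul _ _ (Finset.mem_univ i)).symm
      rw [this, mul_smul]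
      exact Submodule.smul_mem _ _ (hdzF i)
    | zero => rw [smul_zero]; exact F.zero_mem
    | add u v _ _ hu hv => rw [smul_add]; exact F.add_mem hu hv
    | smul r u _ hu => rw [smul_comm]; exact F.smul_mem _ hu
  obtain ⟨F₁, hF₁⟩ : ∃ F₁ : Submodule R M₁, F₁ = F.comap M₁.subtype := ⟨_, rfl⟩
  have hc : Module.length R (↥M₁ ⧸ F₁) ≠ ⊤ := by
    refine length_ne_top_of_smul_eq_zero hdim _ D hD0 ?_
    intro q
    obtain ⟨w, rfl⟩ := Submodule.Quotient.mk_surjective _ q
    rw [← Submodule.Quotient.mk_smul, Submodule.Quotient.mk_eq_zero, hF₁, Submodule.mem_comap]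
    exact hDF _ w.2
  have h4 : Module.length R (↥F₁ ⧸ aN ↥F₁ a 1) ≤ Module.length R (↥F ⧸ aN ↥F a 1) := by
    rw [hF₁]
    exact length_aN_le_of_surjective (Submodule.comapSubtypeEquivOfLe hFM₁).symm.toLinearMap
      (Submodule.comapSubtypeEquivOfLe hFM₁).symm.surjective a 1
  have hF₁top : Module.length R (↥F₁ ⧸ aN ↥F₁ a 1) ≠ ⊤ :=
    ne_top_of_le_ne_top hBtop h4
  have ha' : ∀ w : M₁, a • w = 0 → w = 0 := by
    intro w hw
    apply Subtype.ext
    apply htf a ha
    have := congrArg Subtype.val hw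
    simpa using this
  have h3 := length_quot_le ↥M₁ a ha' F₁ hc hF₁top
  exact h1.trans (h2.trans (h3.trans (h4.trans hB)))

theorem length_quot_le_finrank (R : Type*) [CommRing R] [IsDomain R] [IsNoetherianRing R]
    (hdim : ringKrullDim R = 1) (K V : Type*) [Field K] [Algebra R K] [IsFractionRing R K]
    [AddCommGroup V] [Module K V] [Module R V] [IsScalarTower R K V] [FiniteDimensional K V]
    (M : Type*) [AddCommGroup M] [Module R M] (ι : M →ₗ[R] V) (hι : Function.Injective ι)
    (a : R) (ha : a ≠ 0) :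
    Module.length R (R ⧸ Ideal.span ({a} : Set R)) ≠ ⊤ ∧
    Module.length R (M ⧸ aN M a 1) ≤
      Module.finrank K V * Module.length R (R ⧸ Ideal.span ({a} : Set R)) := by
  classical
  have htf : ∀ (d : R), d ≠ 0 → ∀ x : M, d • x = 0 → x = 0 := by
    intro d hd x hx
    apply hι
    rw [map_zero]
    have h1 : d • ι x = 0 := by rw [← map_smul, hx, map_zero]
    rw [← algebraMap_smul K d (ι x), smul_eq_zero] at h1
    rcases h1 with h1 | h1
    · exact absurd h1 ((map_ne_zero_iff _ (IsFractionRing.injective R K)).mpr hd)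
    · exact h1
  have hRa : Module.length R (R ⧸ Ideal.span ({a} : Set R)) ≠ ⊤ := by
    refine length_ne_top_of_smul_eq_zero hdim _ a ha ?_
    intro q
    obtain ⟨q, rfl⟩ := Ideal.Quotient.mk_surjective q
    rw [← Ideal.Quotient.mk_eq_mk, ← Submodule.Quotient.mk_smul, Ideal.Quotient.mk_eq_mk,
      Ideal.Quotient.eq_zero_iff_mem]
    exact Ideal.mem_span_singleton'.mpr ⟨q, by rw [smul_eq_mul, mul_comm]⟩
  refine ⟨hRa, ?_⟩
  obtain ⟨ℓ, hℓ⟩ := ENat.ne_top_iff_exists.mp hRa
  obtain ⟨b, hb_sub, hb_span, hb_li⟩ := exists_linearIndependent K (Set.range ι)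
  have hbfin : b.Finite := hb_li.setFinite
  obtain ⟨T, hT⟩ : ∃ T : Set M, T = ι ⁻¹' b := ⟨_, rfl⟩
  have hTfin : T.Finite := by
    rw [hT]; exact hbfin.preimage (hι.injOn)
  have hιT : ι '' T = b := by
    rw [hT]; exact Set.image_preimage_eq_of_subset hb_sub
  haveI : Fintype ↥T := hTfin.fintype
  have hli : LinearIndependent K (fun t : ↥T => ι t.1) := by
    have hmem : ∀ t : ↥T, ι t.1 ∈ b := fun t => by
      have h1 : t.1 ∈ T := t.2
      have h2 : t.1 ∈ ι ⁻¹' b := hT ▸ h1
      exact h2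
    have := hb_li.comp (fun t : ↥T => (⟨ι t.1, hmem t⟩ : ↥b)) (by
      intro t t' h
      apply Subtype.ext
      apply hι
      exact congrArg Subtype.val h)
    exact this
  have hcard : Fintype.card ↥T ≤ Module.finrank K V := hli.fintype_card_le_finrank
  obtain ⟨e, he⟩ : ∃ e : (↥T → R) →ₗ[R] M, e = Fintype.linearCombination R (fun t : ↥T => t.1) :=
    ⟨_, rfl⟩
  obtain ⟨F, hF⟩ : ∃ F : Submodule R M, F = LinearMap.range e := ⟨_, rfl⟩
  have hFspan : F = Submodule.span R T := by
    rw [hF, he, Fintype.range_linearCombination, Subtype.range_coe]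
  have hFfg : F.FG := by rw [hFspan]; exact Submodule.fg_span hTfin
  have hden : ∀ x : M, ∃ d : R, d ≠ 0 ∧ d • x ∈ F := by
    intro x
    have hx : ι x ∈ Submodule.span K (ι '' T) := by
      rw [hιT, hb_span]; exact Submodule.subset_span ⟨x, rfl⟩
    obtain ⟨d, hd, hdx⟩ := exists_smul_mem_span (R := R) (ι '' T) hx
    refine ⟨d, hd, ?_⟩
    rw [← Submodule.map_span, ← hFspan] at hdx
    obtain ⟨y, hy, hyx⟩ := hdx
    rw [← map_smul] at hyx
    rw [← hι hyx]; exact hy
  have hB : Module.length R (↥F ⧸ aN ↥F a 1) ≤ ((Module.finrank K V * ℓ : ℕ) : ℕ∞) := by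
    have h1 : Module.length R (↥F ⧸ aN ↥F a 1) ≤
        Module.length R ((↥T → R) ⧸ aN (↥T → R) a 1) := by
      rw [hF]
      exact length_aN_le_of_surjective e.rangeRestrict e.surjective_rangeRestrict a 1
    rw [length_pi_quot, ← hℓ] at h1
    refine h1.trans ?_
    push_cast
    exact mul_le_mul_left (by exact_mod_cast hcard) _
  have := bound_core R hdim M htf a ha F hFfg hden _ hB
  rw [← hℓ]
  exact_mod_cast this

end Sharp

end Groth.Agent.Helper12.KA
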