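import Mathlib
import Groth.Prelude.Def_FibCat2

/-!
Equivalences over the base category: underlying equivalence, preservation of strongly cartesian
morphisms, transport of fibredness.
-/

open CategoryTheory Functor

namespace Groth.Agent.Helper12

universe v₂ u₂ v₃ u₃ v u

variable {C : Type u} [Category.{v} C] {𝒳 : BasedCategory.{v₂, u₂} C} {𝒴 : BasedCategory.{v₃, u₃} C}

lemma IsEquivOver.exists_inverse (F : 𝒳 ⥤ᵇ 𝒴) (hF : FibCat.IsEquivOver F) :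
    ∃ G : 𝒴 ⥤ᵇ 𝒳, FibCat.IsEquivOver G := by
  obtain ⟨G, e₁, e₂⟩ := hF
  exact ⟨G, F, e₂, e₁⟩

lemma isEquivalence_of_isEquivOver (F : 𝒳 ⥤ᵇ 𝒴) (hF : FibCat.IsEquivOver F) :
    F.toFunctor.IsEquivalence := by
  obtain ⟨G, ⟨e₁⟩, ⟨e₂⟩⟩ := hF
  let η : F.toFunctor ⋙ G.toFunctor ≅ 𝟭 _ := (BasedNatTrans.forgetful 𝒳 𝒳).mapIso e₁
  let ε : G.toFunctor ⋙ F.toFunctor ≅ 𝟭 _ := (BasedNatTrans.forgetful 𝒴 𝒴).mapIso e₂
  exact (CategoryTheory.Equivalence.mk F.toFunctor G.toFunctor η.symm ε).isEquivalence_functor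

/-- Essential surjectivity over the base. -/
lemma exists_iso_lift_of_isEquivOver (F : 𝒳 ⥤ᵇ 𝒴) (hF : FibCat.IsEquivOver F) (a' : 𝒴.obj) :
    ∃ (a'' : 𝒳.obj) (ι : F.obj a'' ≅ a'), 𝒴.p.IsHomLift (𝟙 (𝒴.p.obj a')) ι.hom := by
  obtain ⟨G, ⟨e₁⟩, ⟨e₂⟩⟩ := hF
  let ε : G.toFunctor ⋙ F.toFunctor ≅ 𝟭 _ := (BasedNatTrans.forgetful 𝒴 𝒴).mapIso e₂
  refine ⟨G.obj a', ε.app a', ?_⟩
  exact e₂.hom.isHomLift' a'

lemma isStronglyCartesian_map_of_isEquivOver (F : 𝒳 ⥤ᵇ 𝒴) (hF : FibCat.IsEquivOver F)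
    {R S : C} (f : R ⟶ S) {a b : 𝒳.obj} (φ : a ⟶ b) [𝒳.p.IsStronglyCartesian f φ] :
    𝒴.p.IsStronglyCartesian f (F.map φ) := by
  have heq := isEquivalence_of_isEquivOver F hF
  refine { toIsHomLift := inferInstance, universal_property' := ?_ }
  intro a' g φ' hφ'
  obtain ⟨a'', ι, hι⟩ := exists_iso_lift_of_isEquivOver F hF a'
  obtain ⟨ψ, hψ⟩ := F.toFunctor.map_surjective (ι.hom ≫ φ')
  have h1 : 𝒴.p.IsHomLift (g ≫ f) (ι.hom ≫ φ') := by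
    have : 𝒴.p.IsHomLift (𝟙 _ ≫ (g ≫ f)) (ι.hom ≫ φ') := inferInstance
    rwa [Category.id_comp] at this
  have h2 : 𝒳.p.IsHomLift (g ≫ f) ψ := by
    rw [← F.isHomLift_iff]
    rw [hψ]
    exact h1
  obtain ⟨χ₀, ⟨hχ₀l, hχ₀⟩, huniq⟩ :=
    IsStronglyCartesian.universal_property 𝒳.p f φ g (g ≫ f) rfl ψ
  have hιinv : 𝒴.p.IsHomLift (𝟙 (𝒴.p.obj a')) ι.inv := inferInstance
  refine ⟨ι.inv ≫ F.map χ₀, ⟨?_, ?_⟩, ?_⟩
  · have : 𝒴.p.IsHomLift (𝟙 _ ≫ g) (ι.inv ≫ F.map χ₀) := inferInstance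
    rwa [Category.id_comp] at this
  · rw [Category.assoc, ← F.map_comp, hχ₀]
    change ι.inv ≫ F.toFunctor.map ψ = φ'
    rw [hψ, Iso.inv_hom_id_assoc]
  · rintro χ' ⟨hχ'l, hχ'⟩
    obtain ⟨χ₀', hχ₀'⟩ := F.toFunctor.map_surjective (ι.hom ≫ χ')
    have h3 : 𝒳.p.IsHomLift g χ₀' := by
      rw [← F.isHomLift_iff]
      rw [hχ₀']
      have : 𝒴.p.IsHomLift (𝟙 _ ≫ g) (ι.hom ≫ χ') := inferInstance
      rwa [Category.id_comp] at this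
    have h4 : χ₀' ≫ φ = ψ := by
      apply F.toFunctor.map_injective
      rw [Functor.map_comp, hχ₀', hψ, Category.assoc]
      rw [hχ']
    have h5 : χ₀' = χ₀ := huniq χ₀' ⟨h3, h4⟩
    rw [← h5]
    change χ' = ι.inv ≫ F.toFunctor.map χ₀'
    rw [hχ₀', Iso.inv_hom_id_assoc]

lemma isFibered_of_isEquivOver (F : 𝒳 ⥤ᵇ 𝒴) (hF : FibCat.IsEquivOver F) [𝒳.p.IsFibered] :
    𝒴.p.IsFibered := by
  apply Functor.IsFibered.of_exists_isStronglyCartesian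
  intro a' R f
  obtain ⟨a'', ι, hι⟩ := exists_iso_lift_of_isEquivOver F hF a'
  have ha'' : 𝒳.p.obj a'' = 𝒴.p.obj a' := by
    rw [← F.w_obj a'']
    exact IsHomLift.domain_eq 𝒴.p (𝟙 (𝒴.p.obj a')) ι.hom
  obtain ⟨b, φ, hφ⟩ := CategoryTheory.IsPreFibered.exists_isCartesian 𝒳.p ha'' f
  have h1 : 𝒴.p.IsStronglyCartesian f (F.map φ) :=
    isStronglyCartesian_map_of_isEquivOver F hF f φ
  have h2 : 𝒴.p.IsStronglyCartesian (𝟙 (𝒴.p.obj a')) ι.hom := IsStronglyCartesian.of_iso 𝒴.p _ ι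
  have h3 : 𝒴.p.IsStronglyCartesian (f ≫ 𝟙 (𝒴.p.obj a')) (F.map φ ≫ ι.hom) := inferInstance
  rw [Category.comp_id] at h3
  exact ⟨F.obj b, F.map φ ≫ ι.hom, h3⟩

end Groth.Agent.Helper12
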