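import Mathlib

/-!
# A Zorn argument producing "unramified" subrings of a big local ring

Let `O` be a local ring in which monic polynomials have roots lifting residual roots, `π ∈ O` and
`k₀` a subfield of the residue field.  We produce a subring `B ⊆ O` with `B ∩ 𝔪_O = π B`, closed
under inverses of units of `O`, whose residue image is exactly `k₀`.
-/

set_option autoImplicit false

universe u

open Polynomial IsLocalRing

namespace Groth.Agent.Helper12.CohenZorn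

variable {O : Type u} [CommRing O] [IsLocalRing O]

/-- Admissible subrings. -/
def Adm (π : O) (k₀ : Subfield (ResidueField O)) : Set (Subring O) :=
  {B | (∀ x ∈ B, x ∈ maximalIdeal O → ∃ y ∈ B, x = π * y) ∧ ∀ x ∈ B, residue O x ∈ k₀}

lemma adm_chain (π : O) (k₀ : Subfield (ResidueField O)) (c : Set (Subring O))
    (hc : c ⊆ Adm π k₀) (hch : IsChain (· ≤ ·) c) (y : Subring O) (hy : y ∈ c) :
    ∃ ub ∈ Adm π k₀, ∀ z ∈ c, z ≤ ub := by
  refine ⟨sSup c, ⟨?_, ?_⟩, fun z hz => le_sSup hz⟩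
  · intro x hx hxm
    obtain ⟨B, hB, hxB⟩ := (Subring.mem_sSup_of_directedOn ⟨y, hy⟩ hch.directedOn).1 hx
    obtain ⟨y', hy', e⟩ := (hc hB).1 x hxB hxm
    exact ⟨y', (le_sSup hB : B ≤ sSup c) hy', e⟩
  · intro x hx
    obtain ⟨B, hB, hxB⟩ := (Subring.mem_sSup_of_directedOn ⟨y, hy⟩ hch.directedOn).1 hx
    exact (hc hB).2 x hxB

/-- Localization of a subring inside `O` at the elements that are units of `O`. -/
def locSub (B : Subring O) : Subring O where
  carrier := {x | ∃ c ∈ B, IsUnit c ∧ c * x ∈ B}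
  one_mem' := ⟨1, B.one_mem, isUnit_one, by simpa using B.one_mem⟩
  mul_mem' := by
    rintro x x' ⟨c, hc, hcu, hcx⟩ ⟨c', hc', hcu', hcx'⟩
    refine ⟨c * c', B.mul_mem hc hc', hcu.mul hcu', ?_⟩
    have : c * c' * (x * x') = (c * x) * (c' * x') := by ring
    rw [this]; exact B.mul_mem hcx hcx'
  zero_mem' := ⟨1, B.one_mem, isUnit_one, by simpa using B.zero_mem⟩
  add_mem' := by
    rintro x x' ⟨c, hc, hcu, hcx⟩ ⟨c', hc', hcu', hcx'⟩
    refine ⟨c * c', B.mul_mem hc hc', hcu.mul hcu', ?_⟩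
    have : c * c' * (x + x') = c' * (c * x) + c * (c' * x') := by ring
    rw [this]; exact B.add_mem (B.mul_mem hc' hcx) (B.mul_mem hc hcx')
  neg_mem' := by
    rintro x ⟨c, hc, hcu, hcx⟩
    exact ⟨c, hc, hcu, by rw [mul_neg]; exact B.neg_mem hcx⟩

lemma le_locSub (B : Subring O) : B ≤ locSub B :=
  fun x hx => ⟨1, B.one_mem, isUnit_one, by simpa using hx⟩

lemma locSub_adm {π : O} {k₀ : Subfield (ResidueField O)} {B : Subring O} (hB : B ∈ Adm π k₀) :
    locSub B ∈ Adm π k₀ := by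
  refine ⟨?_, ?_⟩
  · rintro x ⟨c, hc, hcu, hcx⟩ hxm
    obtain ⟨y, hy, e⟩ := hB.1 (c * x) hcx (Ideal.mul_mem_left _ _ hxm)
    obtain ⟨u, rfl⟩ := hcu
    refine ⟨↑u⁻¹ * y, ⟨↑u, hc, u.isUnit, ?_⟩, ?_⟩
    · rw [← mul_assoc, Units.mul_inv, one_mul]; exact hy
    · calc x = ↑u⁻¹ * (↑u * x) := by rw [← mul_assoc, Units.inv_mul, one_mul]
        _ = ↑u⁻¹ * (π * y) := by rw [e]
        _ = π * (↑u⁻¹ * y) := by ring
  · rintro x ⟨c, hc, hcu, hcx⟩
    have h1 : residue O c ∈ k₀ := hB.2 c hc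
    have h2 : residue O c * residue O x ∈ k₀ := by rw [← map_mul]; exact hB.2 _ hcx
    have h3 : residue O c ≠ 0 := (hcu.map (residue O)).ne_zero
    have : residue O x = (residue O c)⁻¹ * (residue O c * residue O x) := by
      rw [inv_mul_cancel_left₀ h3]
    rw [this]
    exact k₀.mul_mem (k₀.inv_mem h1) h2

/-- The extension step. -/
theorem extend_step (π : O) (k₀ : Subfield (ResidueField O))
    (hroot : ∀ f : O[X], f.Monic → ∀ α : ResidueField O, (f.map (residue O)).eval α = 0 →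
      ∃ a : O, f.eval a = 0 ∧ residue O a = α)
    (B : Subring O) (hB : B ∈ Adm π k₀) (hπB : π ∈ B)
    (hinv : ∀ c ∈ B, ∀ u : Oˣ, (u : O) = c → ((u⁻¹ : Oˣ) : O) ∈ B)
    (α : ResidueField O) (hα : α ∈ k₀) :
    ∃ B₁ ∈ Adm π k₀, B ≤ B₁ ∧ ∃ a ∈ B₁, residue O a = α := by
  classical
  obtain ⟨rB, hrB⟩ : ∃ rB : B →+* ResidueField O, rB = (residue O).comp B.subtype := ⟨_, rfl⟩
  have hrB' : ∀ b : B, rB b = residue O (b : O) := fun b => by rw [hrB]; rfl
  let k' : Subfield (ResidueField O) :=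
    { rB.range with
      inv_mem' := by
        rintro _ ⟨b, rfl⟩
        by_cases hb : IsUnit (b : O)
        · obtain ⟨u, hu⟩ := hb
          refine ⟨⟨(↑u⁻¹ : O), hinv _ b.2 u hu⟩, ?_⟩
          symm
          apply inv_eq_of_mul_eq_one_right
          rw [hrB', hrB', ← map_mul]
          show residue O ((b : O) * ↑u⁻¹) = 1
          rw [← hu, Units.mul_inv, map_one]
        · refine ⟨0, ?_⟩
          have h0 : residue O (b : O) = 0 :=
            (residue_eq_zero_iff _).2 ((mem_maximalIdeal _).2 hb)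
          rw [map_zero, hrB', h0, inv_zero] }
  have hk'mem : ∀ b : B, rB b ∈ k' := fun b => ⟨b, rfl⟩
  let ρ : B →+* k' := rB.codRestrict k' hk'mem
  have hρ : Function.Surjective ρ := by
    rintro ⟨x, b, hb⟩
    exact ⟨b, Subtype.ext hb⟩
  have hcomp : (algebraMap k' (ResidueField O)).comp ρ = rB := RingHom.ext fun b => rfl
  -- kernel of ρ on polynomials
  have hker : ∀ g : B[X], g.map ρ = 0 → ∃ g₁ : B[X], g₁ * C (⟨π, hπB⟩ : B) = g := by
    intro g hg
    have h1 : g ∈ RingHom.ker (Polynomial.mapRingHom ρ) := by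
      rw [RingHom.mem_ker, Polynomial.coe_mapRingHom]; exact hg
    rw [Polynomial.ker_mapRingHom] at h1
    have h2 : RingHom.ker ρ ≤ Ideal.span {(⟨π, hπB⟩ : B)} := by
      intro x hx
      rw [RingHom.mem_ker] at hx
      have hx' : residue O (x : O) = 0 := by
        rw [← hrB']; exact congrArg Subtype.val hx
      obtain ⟨y, hy, e⟩ := hB.1 x x.2 ((residue_eq_zero_iff _).1 hx')
      rw [Ideal.mem_span_singleton']
      exact ⟨⟨y, hy⟩, Subtype.ext (by rw [e]; show y * π = π * y; ring)⟩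
    have h3 := Ideal.map_mono (f := (C : B →+* B[X])) h2 h1
    rw [Ideal.map_span, Set.image_singleton, Ideal.mem_span_singleton'] at h3
    exact h3
  -- the lift of the minimal polynomial and the root
  obtain ⟨f, a, hfa, hfmap, hra⟩ : ∃ (f : B[X]) (a : O), f.eval₂ B.subtype a = 0 ∧
      f.map ρ = minpoly k' α ∧ residue O a = α := by
    by_cases hint : IsIntegral k' α
    · have hm := minpoly.monic hint
      obtain ⟨f, hf1, -, hf3⟩ := Polynomial.lifts_and_degree_eq_and_monic (f := ρ)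
        ((Polynomial.mem_lifts _).2 (Polynomial.map_surjective ρ hρ _)) hm
      have hz : ((f.map B.subtype).map (residue O)).eval α = 0 := by
        rw [Polynomial.map_map, Polynomial.eval_map, ← hrB, ← hcomp, ← Polynomial.eval₂_map,
          hf1, ← Polynomial.aeval_def]
        exact minpoly.aeval k' α
      obtain ⟨a, ha1, ha2⟩ := hroot (f.map B.subtype) (hf3.map _) α hz
      exact ⟨f, a, by rwa [Polynomial.eval_map] at ha1, hf1, ha2⟩
    · obtain ⟨a, ha⟩ := residue_surjective α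
      exact ⟨0, a, by simp, by rw [Polynomial.map_zero, minpoly.eq_zero hint], ha⟩
  have hres : ∀ g : B[X], residue O (g.eval₂ B.subtype a) = g.eval₂ rB α := by
    intro g
    rw [Polynomial.hom_eval₂, hra, hrB]
  refine ⟨(Polynomial.eval₂RingHom B.subtype a).range, ⟨?_, ?_⟩, ?_, a, ⟨X, by simp⟩, hra⟩
  · rintro _ ⟨g, rfl⟩ hxm
    rw [Polynomial.coe_eval₂RingHom] at hxm ⊢
    have h0 : g.eval₂ rB α = 0 := by rw [← hres]; exact (residue_eq_zero_iff _).2 hxm
    have h1 : Polynomial.aeval α (g.map ρ) = 0 := by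
      rw [Polynomial.aeval_def, Polynomial.eval₂_map, hcomp]; exact h0
    obtain ⟨hbar, hh⟩ := minpoly.dvd k' α h1
    obtain ⟨h, rfl⟩ := Polynomial.map_surjective ρ hρ hbar
    have h2 : (g - f * h).map ρ = 0 := by
      rw [Polynomial.map_sub, Polynomial.map_mul, hfmap, hh, sub_self]
    obtain ⟨g₁, hg₁⟩ := hker _ h2
    have h3 : g = f * h + g₁ * C (⟨π, hπB⟩ : B) := by rw [hg₁]; ring
    refine ⟨g₁.eval₂ B.subtype a, ⟨g₁, rfl⟩, ?_⟩
    rw [h3, Polynomial.eval₂_add, Polynomial.eval₂_mul, Polynomial.eval₂_mul, hfa,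
      Polynomial.eval₂_C, zero_mul, zero_add, mul_comm]
    rfl
  · rintro _ ⟨g, rfl⟩
    rw [Polynomial.coe_eval₂RingHom, hres]
    let rB₀ : B →+* k₀ := rB.codRestrict k₀ (fun b => by rw [hrB']; exact hB.2 b b.2)
    have hc : k₀.subtype.comp rB₀ = rB := RingHom.ext fun _ => rfl
    have := Polynomial.hom_eval₂ g rB₀ k₀.subtype ⟨α, hα⟩
    rw [hc] at this
    have h4 : g.eval₂ rB α = k₀.subtype (g.eval₂ rB₀ ⟨α, hα⟩) := this.symm
    rw [h4]
    exact (g.eval₂ rB₀ ⟨α, hα⟩).2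
  · intro b hb
    exact ⟨C ⟨b, hb⟩, by simp⟩

/-- Zorn: a maximal admissible subring has all the desired properties. -/
theorem exists_max (π : O) (k₀ : Subfield (ResidueField O))
    (hroot : ∀ f : O[X], f.Monic → ∀ α : ResidueField O, (f.map (residue O)).eval α = 0 →
      ∃ a : O, f.eval a = 0 ∧ residue O a = α)
    (B₀ : Subring O) (hB₀ : B₀ ∈ Adm π k₀) (hπ : π ∈ B₀) :
    ∃ B : Subring O, π ∈ B ∧ (∀ x ∈ B, x ∈ maximalIdeal O → ∃ y ∈ B, x = π * y) ∧
      (∀ x ∈ B, residue O x ∈ k₀) ∧ (∀ c ∈ B, ∀ u : Oˣ, (u : O) = c → ((u⁻¹ : Oˣ) : O) ∈ B) ∧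
      ∀ α ∈ k₀, ∃ a ∈ B, residue O a = α := by
  obtain ⟨B, hle, hmax⟩ := zorn_le_nonempty₀ (Adm π k₀) (adm_chain π k₀) B₀ hB₀
  have hBadm : B ∈ Adm π k₀ := hmax.prop
  have hinv : ∀ c ∈ B, ∀ u : Oˣ, (u : O) = c → ((u⁻¹ : Oˣ) : O) ∈ B := by
    intro c hc u hu
    have h1 : locSub B ≤ B := hmax.le_of_ge (locSub_adm hBadm) (le_locSub B)
    apply h1
    exact ⟨c, hc, hu ▸ u.isUnit, by rw [← hu, Units.mul_inv]; exact B.one_mem⟩
  refine ⟨B, hle hπ, hBadm.1, hBadm.2, hinv, ?_⟩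
  intro α hα
  obtain ⟨B₁, hB₁, hle₁, a, ha, hra⟩ := extend_step π k₀ hroot B hBadm (hle hπ) hinv α hα
  exact ⟨a, hmax.le_of_ge hB₁ hle₁ ha, hra⟩

end Groth.Agent.Helper12.CohenZorn
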