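import Mathlib
import Groth.Agent.Lib.Helper12.CohenZorn
import Groth.Prelude.Def_Found

/-!
# Existence of Cohen rings

For every field `k` of characteristic `p > 0` there is a complete discrete valuation ring with
maximal ideal `(p)` and residue field `k`.
-/

set_option autoImplicit false

universe u

open Polynomial IsLocalRing

namespace Groth.Agent.Helper12.CohenExist

/-- Root lifting in a valuation subring of an algebraically closed field. -/
theorem root_lift {L : Type u} [Field L] [IsAlgClosed L] (V : ValuationSubring L)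
    (f : (↥V)[X]) (hf : f.Monic) (α : ResidueField V)
    (hα : (f.map (residue V)).eval α = 0) :
    ∃ a : V, f.eval a = 0 ∧ residue V a = α := by
  classical
  obtain ⟨a₀, rfl⟩ := residue_surjective α
  obtain ⟨F, hF⟩ : ∃ F : L[X], F = f.map (algebraMap V L) := ⟨_, rfl⟩
  have hFm : F.Monic := hF ▸ hf.map _
  have hsp : F.Splits := IsAlgClosed.splits F
  have hev : ∀ b : V, F.eval (b : L) = ((f.eval b : V) : L) := by
    intro b
    rw [hF, Polynomial.eval_map]
    exact Polynomial.eval₂_at_apply (algebraMap V L) b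
  have hmem : f.eval a₀ ∈ maximalIdeal V := by
    rw [← residue_eq_zero_iff, ← Polynomial.eval₂_at_apply, ← Polynomial.eval_map]
    exact hα
  have hlt : V.valuation (F.eval (a₀ : L)) < 1 := by
    rw [hev]; exact (V.valuation_lt_one_iff _).1 hmem
  by_contra hcon
  push_neg at hcon
  apply hlt.ne
  rw [hsp.eval_eq_prod_roots_of_monic hFm, map_multiset_prod, Multiset.map_map]
  apply Multiset.prod_eq_one
  intro y hy
  obtain ⟨r, hr, rfl⟩ := Multiset.mem_map.1 hy
  have hr0 : F.eval r = 0 := (Polynomial.mem_roots hFm.ne_zero).1 hr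
  have hrint : IsIntegral V r := ⟨f, hf, by rw [← Polynomial.eval_map, ← hF]; exact hr0⟩
  obtain ⟨r', rfl⟩ := IsIntegrallyClosed.isIntegral_iff.1 hrint
  have hfr : f.eval r' = 0 := by
    have := hev r'
    have h2 : ((f.eval r' : V) : L) = 0 := by rw [← this]; exact hr0
    exact Subtype.ext h2
  have h1 : V.valuation ((a₀ - r' : V) : L) ≤ 1 := V.valuation_le_one _
  rcases h1.lt_or_eq with h | h
  · exfalso
    refine hcon r' hfr ?_
    have h3 : a₀ - r' ∈ maximalIdeal V := (V.valuation_lt_one_iff _).2 h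
    have h4 : residue V (a₀ - r') = 0 := (residue_eq_zero_iff _).2 h3
    rw [map_sub, sub_eq_zero] at h4
    exact h4.symm
  · exact h

/-- A local ring with principal maximal ideal `(π)`, `π` not nilpotent, which is Hausdorff for the
maximal ideal, is a discrete valuation ring. -/
theorem isDVR_of_principal {Λ : Type u} [CommRing Λ] [IsLocalRing Λ] (π : Λ)
    (hm : maximalIdeal Λ = Ideal.span {π}) (hH : IsHausdorff (maximalIdeal Λ) Λ)
    (hnil : ¬ IsNilpotent π) : ∃ (_ : IsDomain Λ), IsDiscreteValuationRing Λ := by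
  classical
  have hπm : π ∈ maximalIdeal Λ := by rw [hm]; exact Ideal.mem_span_singleton_self π
  have hpow : ∀ n : ℕ, π ^ n ≠ 0 := fun n h => hnil ⟨n, h⟩
  have key : ∀ x : Λ, x ≠ 0 → ∃ (n : ℕ) (u : Λˣ), x = π ^ n * u := by
    intro x hx
    have hex : ∃ n : ℕ, x ∉ maximalIdeal Λ ^ n := by
      by_contra hcon
      push_neg at hcon
      apply hx
      apply hH.haus' x
      intro n
      rw [SModEq.zero, smul_eq_mul, Ideal.mul_top]
      exact hcon n
    have hn := Nat.find_spec hex
    have hn0 : Nat.find hex ≠ 0 := by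
      intro h0
      rw [h0, pow_zero, Ideal.one_eq_top] at hn
      exact hn Submodule.mem_top
    obtain ⟨n, hn1⟩ := Nat.exists_eq_succ_of_ne_zero hn0
    have hmem : x ∈ maximalIdeal Λ ^ n := by
      by_contra hcon
      have := Nat.find_min' hex hcon
      omega
    rw [hm, Ideal.span_singleton_pow, Ideal.mem_span_singleton'] at hmem
    obtain ⟨u, hu⟩ := hmem
    have huu : IsUnit u := by
      by_contra hnu
      have hum : u ∈ maximalIdeal Λ := (mem_maximalIdeal _).2 hnu
      rw [hm, Ideal.mem_span_singleton'] at hum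
      obtain ⟨c, hc⟩ := hum
      apply hn
      rw [hn1, hm, Ideal.span_singleton_pow, Ideal.mem_span_singleton']
      exact ⟨c, by rw [← hu, ← hc, pow_succ]; ring⟩
    obtain ⟨u', rfl⟩ := huu
    exact ⟨n, u', by rw [← hu, mul_comm]⟩
  have hnzd : NoZeroDivisors Λ := by
    refine ⟨fun {x y} hxy => ?_⟩
    by_contra hcon
    push_neg at hcon
    obtain ⟨a, u, rfl⟩ := key x hcon.1
    obtain ⟨b, v, rfl⟩ := key y hcon.2
    apply hpow (a + b)
    have h1 : π ^ (a + b) * ((u * v : Λˣ) : Λ) = 0 := by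
      rw [← hxy, pow_add, Units.val_mul]; ring
    exact (Units.mul_left_eq_zero _).1 h1
  haveI : IsDomain Λ := NoZeroDivisors.to_isDomain Λ
  refine ⟨inferInstance, ?_⟩
  have hπ0 : π ≠ 0 := by simpa using hpow 1
  have hprime : Prime π := by
    rw [← Ideal.span_singleton_prime hπ0, ← hm]
    infer_instance
  apply IsDiscreteValuationRing.ofHasUnitMulPowIrreducibleFactorization
  refine ⟨π, hprime.irreducible, ?_⟩
  intro x hx
  obtain ⟨n, u, rfl⟩ := key x hx
  exact ⟨n, u, rfl⟩

/-- Two fields embedding into a common ring with the same image are isomorphic. -/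
theorem nonempty_equiv_of_range_eq {A B C : Type*} [Field A] [Field B] [CommRing C]
    [Nontrivial C] (f : A →+* C) (g : B →+* C)
    (h : ∀ c, (∃ a, f a = c) ↔ ∃ b, g b = c) : Nonempty (A ≃+* B) := by
  have hf : Function.Injective f := f.injective
  have hg : Function.Injective g := g.injective
  have hr : f.range = g.range := by
    ext c
    simp only [RingHom.mem_range]
    exact h c
  let e1 : A ≃+* f.range := RingEquiv.ofBijective f.rangeRestrict
    ⟨fun x y hxy => hf (congrArg Subtype.val hxy), f.rangeRestrict_surjective⟩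
  let e2 : B ≃+* g.range := RingEquiv.ofBijective g.rangeRestrict
    ⟨fun x y hxy => hg (congrArg Subtype.val hxy), g.rangeRestrict_surjective⟩
  exact ⟨e1.trans ((RingEquiv.subringCongr hr).trans e2.symm)⟩

/-- A subring of a local ring `O` with `B ∩ 𝔪_O = π B`, closed under inverses of units of `O`, is
local with maximal ideal `(π)`. -/
theorem local_of_subring {O : Type u} [CommRing O] [IsLocalRing O] (π : O)
    (hπm : π ∈ maximalIdeal O) (B : Subring O) (hπB : π ∈ B)
    (ha : ∀ x ∈ B, x ∈ maximalIdeal O → ∃ y ∈ B, x = π * y)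
    (hinv : ∀ c ∈ B, ∀ u : Oˣ, (u : O) = c → ((u⁻¹ : Oˣ) : O) ∈ B) :
    ∃ (_ : IsLocalRing B), maximalIdeal B = Ideal.span {(⟨π, hπB⟩ : B)} ∧
      (∀ x : B, x ∈ maximalIdeal B ↔ (x : O) ∈ maximalIdeal O) ∧
      ∀ x : B, IsUnit (x : O) → IsUnit x := by
  have hunit : ∀ x : B, IsUnit x ↔ IsUnit (x : O) := fun x =>
    ⟨fun h => h.map B.subtype, fun ⟨u, hu⟩ => isUnit_iff_exists_inv.2
      ⟨⟨↑u⁻¹, hinv _ x.2 u hu⟩, Subtype.ext (by
        show (x : O) * ↑u⁻¹ = 1
        rw [← hu, Units.mul_inv])⟩⟩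
  haveI : IsLocalRing B := IsLocalRing.of_nonunits_add (by
    intro a b ha' hb'
    rw [mem_nonunits_iff, hunit] at ha' hb' ⊢
    have := Ideal.add_mem _ ((mem_maximalIdeal _).2 ha') ((mem_maximalIdeal _).2 hb')
    exact (mem_maximalIdeal _).1 this)
  have hmem : ∀ x : B, x ∈ maximalIdeal B ↔ (x : O) ∈ maximalIdeal O := fun x => by
    rw [mem_maximalIdeal, mem_maximalIdeal, mem_nonunits_iff, mem_nonunits_iff, hunit]
  refine ⟨inferInstance, ?_, hmem, fun x hx => (hunit x).2 hx⟩
  ext x
  rw [hmem, Ideal.mem_span_singleton']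
  constructor
  · intro hx
    obtain ⟨y, hy, e⟩ := ha x x.2 hx
    exact ⟨⟨y, hy⟩, Subtype.ext (by rw [e]; show y * π = π * y; ring)⟩
  · rintro ⟨y, rfl⟩
    show (y : O) * π ∈ _
    exact Ideal.mul_mem_left _ _ hπm

/-- The completion of a local domain with maximal ideal `(p)`, `p ≠ 0`, is a Cohen ring. -/
theorem cohen_of_local {B : Type u} [CommRing B] [IsDomain B] [IsLocalRing B] (p : ℕ)
    (hp : p.Prime) (hm : maximalIdeal B = Ideal.span {(p : B)}) (hp0 : (p : B) ≠ 0) :
    ∃ (Λ : Type u) (_ : CommRing Λ) (_ : IsLocalRing Λ),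
      CAlg.IsCohenRing Λ ∧ Nonempty (ResidueField Λ ≃+* ResidueField B) := by
  have fg : (maximalIdeal B).FG := by rw [hm]; exact ⟨{(p : B)}, by simp⟩
  haveI := AdicCompletion.isLocalRing_of_fg fg
  haveI := AdicCompletion.algebraMap_isLocalHom_of_fg fg
  have hpm : (p : B) ∈ maximalIdeal B := by rw [hm]; exact Ideal.mem_span_singleton_self _
  have hmΛ : maximalIdeal (AdicCompletion (maximalIdeal B) B) =
      Ideal.span {(p : AdicCompletion (maximalIdeal B) B)} := by
    rw [AdicCompletion.maximalIdeal_eq_map_of_fg fg]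
    have : ∀ (I : Ideal B), I = Ideal.span {(p : B)} →
        I.map (algebraMap B (AdicCompletion (maximalIdeal B) B)) =
          Ideal.span {(p : AdicCompletion (maximalIdeal B) B)} := by
      intro I hI
      rw [hI, Ideal.map_span, Set.image_singleton, map_natCast]
    exact this _ hm
  have hcompl : IsAdicComplete (maximalIdeal (AdicCompletion (maximalIdeal B) B))
      (AdicCompletion (maximalIdeal B) B) := AdicCompletion.isAdicComplete_of_fg fg
  have hnil : ¬ IsNilpotent (p : AdicCompletion (maximalIdeal B) B) := by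
    rintro ⟨n, hn⟩
    have h1 := congrArg (AdicCompletion.evalₐ (maximalIdeal B) (n + 1)) hn
    rw [map_pow, map_natCast, map_zero] at h1
    have h2 : (p : B) ^ n ∈ maximalIdeal B ^ (n + 1) := by
      rw [← Ideal.Quotient.eq_zero_iff_mem, map_pow, map_natCast]; exact h1
    rw [hm, Ideal.span_singleton_pow, Ideal.mem_span_singleton'] at h2
    obtain ⟨c, hc⟩ := h2
    have h3 : (p : B) ^ n * (c * p - 1) = 0 := by linear_combination hc
    rcases mul_eq_zero.1 h3 with h4 | h4
    · exact hp0 (pow_eq_zero_iff (by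
        rintro rfl
        rw [pow_zero] at h4
        exact one_ne_zero h4) |>.1 h4)
    · have h5 : c * (p : B) = 1 := sub_eq_zero.1 h4
      exact (mem_maximalIdeal _).1 hpm (IsUnit.of_mul_eq_one c (by rw [mul_comm]; exact h5))
  obtain ⟨hdom, hdvr⟩ := isDVR_of_principal (p : AdicCompletion (maximalIdeal B) B) hmΛ
    hcompl.toIsHausdorff hnil
  refine ⟨AdicCompletion (maximalIdeal B) B, inferInstance, inferInstance,
    ⟨hdom, hdvr, hcompl, p, hp, hmΛ⟩,
    ⟨(RingEquiv.ofBijective _ (AdicCompletion.residueField_map_bijective_of_fg fg)).symm⟩⟩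

/-- **Existence of Cohen rings.** -/
theorem exists_cohen (p : ℕ) [Fact p.Prime] (k : Type u) [Field k] [CharP k p] :
    ∃ (Λ : Type u) (_ : CommRing Λ) (_ : IsLocalRing Λ), CAlg.IsCohenRing Λ ∧
      Nonempty (ResidueField Λ ≃+* k) := by
  classical
  have hp : p.Prime := Fact.out
  obtain ⟨φ, hφdef⟩ : ∃ φ : MvPolynomial k ℤ →+* k,
      φ = MvPolynomial.eval₂Hom (Int.castRingHom k) id := ⟨_, rfl⟩
  have hφ : Function.Surjective φ := fun a => ⟨MvPolynomial.X a, by rw [hφdef]; simp⟩
  obtain ⟨j, hjdef⟩ : ∃ j : MvPolynomial k ℤ →+*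
      AlgebraicClosure (FractionRing (MvPolynomial k ℤ)), j = algebraMap _ _ := ⟨_, rfl⟩
  have hj : Function.Injective j := by
    have : j = (algebraMap (FractionRing (MvPolynomial k ℤ))
        (AlgebraicClosure (FractionRing (MvPolynomial k ℤ)))).comp
        (algebraMap (MvPolynomial k ℤ) (FractionRing (MvPolynomial k ℤ))) := by
      rw [hjdef]; exact IsScalarTower.algebraMap_eq _ _ _
    rw [this]
    exact (algebraMap (FractionRing (MvPolynomial k ℤ)) _).injective.comp
      (IsFractionRing.injective _ _)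
  haveI hq : (RingHom.ker φ).IsPrime := RingHom.ker_isPrime φ
  have hunit : ∀ y : (RingHom.ker φ).primeCompl, IsUnit (j y) := by
    intro y
    apply IsUnit.mk0
    intro h0
    have : (y : MvPolynomial k ℤ) = 0 := hj (by rw [h0, map_zero])
    exact y.2 (by rw [this]; exact Ideal.zero_mem _)
  obtain ⟨f, hfdef⟩ : ∃ f : Localization.AtPrime (RingHom.ker φ) →+*
      AlgebraicClosure (FractionRing (MvPolynomial k ℤ)), f = IsLocalization.lift hunit := ⟨_, rfl⟩
  obtain ⟨V, hV, hloc⟩ := IsLocalRing.exists_factor_valuationRing f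
  obtain ⟨g, hgdef⟩ : ∃ g : MvPolynomial k ℤ →+* V,
      g = (f.codRestrict V.toSubring hV).comp (algebraMap _ _) := ⟨_, rfl⟩
  have hgj : ∀ x, ((g x : V) : AlgebraicClosure (FractionRing (MvPolynomial k ℤ))) = j x := by
    intro x
    rw [hgdef]
    show f (algebraMap _ _ x) = j x
    rw [hfdef]
    exact IsLocalization.lift_eq hunit x
  have hgm : ∀ x, g x ∈ maximalIdeal V ↔ φ x = 0 := by
    intro x
    rw [← RingHom.mem_ker, ← IsLocalization.AtPrime.to_map_mem_maximal_iff
      (Localization.AtPrime (RingHom.ker φ)) (RingHom.ker φ) x, mem_maximalIdeal, mem_maximalIdeal,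
      ← map_mem_nonunits_iff (f.codRestrict V.toSubring hV), hgdef]
    rfl
  have hker : RingHom.ker φ ≤ RingHom.ker ((residue V).comp g) := by
    intro x hx
    rw [RingHom.mem_ker] at hx ⊢
    rw [RingHom.comp_apply, residue_eq_zero_iff, hgm]; exact hx
  obtain ⟨ι, hι⟩ : ∃ ι : k →+* ResidueField V, ∀ x, ι (φ x) = residue V (g x) :=
    ⟨φ.liftOfRightInverse (Function.surjInv hφ) (Function.rightInverse_surjInv hφ)
      ⟨(residue V).comp g, hker⟩,
      fun x => φ.liftOfRightInverse_comp_apply _ _ ⟨(residue V).comp g, hker⟩ x⟩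
  have hgp : g (p : MvPolynomial k ℤ) = (p : V) := map_natCast g p
  have hpm : (p : V) ∈ maximalIdeal V := by
    rw [← hgp, hgm, map_natCast]; exact CharP.cast_eq_zero k p
  have hp0 : (p : V) ≠ 0 := by
    intro h0
    have h1 : j (p : MvPolynomial k ℤ) = 0 := by rw [← hgj, hgp, h0]; rfl
    have h2 : (p : MvPolynomial k ℤ) = 0 := hj (by rw [h1, map_zero])
    exact hp.ne_zero (Nat.cast_injective (R := MvPolynomial k ℤ) (by rw [h2, Nat.cast_zero]))
  have hB₀ : (⊥ : Subring V) ∈ CohenZorn.Adm (p : V) ι.fieldRange := by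
    refine ⟨?_, ?_⟩
    · intro x hx hxm
      obtain ⟨n, rfl⟩ := Subring.mem_bot.1 hx
      have h1 : ((n : ℤ) : V) = g (n : MvPolynomial k ℤ) := (map_intCast g n).symm
      rw [h1, hgm, map_intCast] at hxm
      obtain ⟨m, rfl⟩ := (CharP.intCast_eq_zero_iff k p n).1 hxm
      exact ⟨(m : V), Subring.mem_bot.2 ⟨m, rfl⟩, by push_cast; ring⟩
    · intro x hx
      obtain ⟨n, rfl⟩ := Subring.mem_bot.1 hx
      rw [map_intCast]; exact intCast_mem _ n
  obtain ⟨B, hpB, ha, hb, hinv, hsurj⟩ := CohenZorn.exists_max (p : V) ι.fieldRange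
    (root_lift V) ⊥ hB₀ (natCast_mem _ p)
  obtain ⟨hlocB, hmB, hmemB, hunitB⟩ := local_of_subring (p : V) hpm B hpB ha hinv
  haveI := hlocB
  have hmB' : maximalIdeal B = Ideal.span {(p : B)} := by
    rw [hmB]; congr 1
  have hp0B : (p : B) ≠ 0 := fun h => hp0 (by
    have := congrArg Subtype.val h
    simpa using this)
  obtain ⟨Λ, i1, i2, hC, ⟨e⟩⟩ := cohen_of_local (B := B) p hp hmB' hp0B
  refine ⟨Λ, i1, i2, hC, ?_⟩
  haveI : IsLocalHom B.subtype := ⟨fun x hx => hunitB x hx⟩
  obtain ⟨e2⟩ := nonempty_equiv_of_range_eq (IsLocalRing.ResidueField.map B.subtype) ι (by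
    intro c
    constructor
    · rintro ⟨a, rfl⟩
      obtain ⟨b, rfl⟩ := residue_surjective a
      rw [ResidueField.map_residue]
      exact RingHom.mem_fieldRange.1 (hb b b.2)
    · rintro ⟨y, rfl⟩
      obtain ⟨a, haB, hra⟩ := hsurj (ι y) (RingHom.mem_fieldRange.2 ⟨y, rfl⟩)
      exact ⟨residue B ⟨a, haB⟩, by rw [ResidueField.map_residue]; exact hra⟩)
  exact ⟨e.trans e2⟩

end Groth.Agent.Helper12.CohenExist
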