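import Mathlib
import Groth.Agent.Lib.Helper12.CohenExist
import Groth.Agent.H27.CohenLift
import Groth.Agent.H27.CoeffSection

/-!
# Cohen structure theorem (surjection from a power series ring over a field or Cohen ring)
-/

set_option autoImplicit false

universe u

open IsLocalRing

namespace Groth.Agent.Helper12.CohenStruct

open Groth.Agent.H27.CohenLift

/-- Successive approximation: a ring map from a `J`-adically precomplete ring to an
`I`-adically separated ring with `J·R = I` which is surjective modulo `I` is surjective. -/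
theorem surjective_of_adic {A R : Type*} [CommRing A] [CommRing R] (U : A →+* R) (J : Ideal A)
    [IsPrecomplete J A] (I : Ideal R) [IsHausdorff I R] (hJI : J.map U = I)
    (hsur : ∀ r : R, ∃ a : A, r - U a ∈ I) : Function.Surjective U := by
  classical
  have hpow : ∀ N, (J ^ N).map U = I ^ N := fun N => by rw [Ideal.map_pow, hJI]
  have step : ∀ N, ∀ y ∈ I ^ N, ∃ c ∈ J ^ N, y - U c ∈ I ^ (N + 1) := by
    intro N y hy
    rw [← hpow N] at hy
    refine Submodule.span_induction (p := fun y _ => ∃ c ∈ J ^ N, y - U c ∈ I ^ (N + 1))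
      ?_ ?_ ?_ ?_ hy
    · rintro _ ⟨c, hc, rfl⟩
      exact ⟨c, hc, by rw [sub_self]; exact Ideal.zero_mem _⟩
    · exact ⟨0, Ideal.zero_mem _, by rw [map_zero, sub_self]; exact Ideal.zero_mem _⟩
    · rintro y y' _ _ ⟨c, hc, h⟩ ⟨c', hc', h'⟩
      refine ⟨c + c', Ideal.add_mem _ hc hc', ?_⟩
      have : y + y' - U (c + c') = (y - U c) + (y' - U c') := by rw [map_add]; ring
      rw [this]; exact Ideal.add_mem _ h h'
    · rintro r y _ ⟨c, hc, h⟩
      obtain ⟨a, ha⟩ := hsur r
      refine ⟨a * c, Ideal.mul_mem_left _ _ hc, ?_⟩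
      have : r • y - U (a * c) = r * (y - U c) + (r - U a) * U c := by
        rw [map_mul, smul_eq_mul]; ring
      rw [this]
      refine Ideal.add_mem _ (Ideal.mul_mem_left _ _ h) ?_
      rw [pow_succ']
      exact Ideal.mul_mem_mul ha (by rw [← hpow N]; exact Ideal.mem_map_of_mem _ hc)
  intro r
  have stp : ∀ N (a : {a : A // r - U a ∈ I ^ N}),
      ∃ a' : {a' : A // r - U a' ∈ I ^ (N + 1)}, a'.1 - a.1 ∈ J ^ N := by
    rintro N ⟨a, ha⟩
    obtain ⟨c, hc, h⟩ := step N _ ha
    refine ⟨⟨a + c, ?_⟩, by simpa using hc⟩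
    have : r - U (a + c) = r - U a - U c := by rw [map_add]; ring
    rw [this]; exact h
  have h0 : r - U 0 ∈ I ^ 0 := by rw [pow_zero, Ideal.one_eq_top]; exact Submodule.mem_top
  let s : ∀ N, {a : A // r - U a ∈ I ^ N} := fun N =>
    Nat.rec ⟨0, h0⟩ (fun N a => Classical.choose (stp N a)) N
  have hs : ∀ N, (s (N + 1)).1 - (s N).1 ∈ J ^ N := fun N => Classical.choose_spec (stp N (s N))
  have hcauchy : ∀ {m n : ℕ}, m ≤ n → (s m).1 ≡ (s n).1 [SMOD (J ^ m • ⊤ : Submodule A A)] := by
    intro m n hmn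
    rw [SModEq.sub_mem, smul_eq_mul, Ideal.mul_top]
    induction n, hmn using Nat.le_induction with
    | base => rw [sub_self]; exact Ideal.zero_mem _
    | succ n hmn ih =>
      have h1 : (s m).1 - (s (n + 1)).1 = ((s m).1 - (s n).1) - ((s (n + 1)).1 - (s n).1) := by
        ring
      rw [h1]
      exact Ideal.sub_mem _ ih (Ideal.pow_le_pow_right hmn (hs n))
  obtain ⟨L, hL⟩ := IsPrecomplete.prec' (I := J) (fun N => (s N).1) hcauchy
  refine ⟨L, ?_⟩
  symm
  rw [← sub_eq_zero]
  apply IsHausdorff.haus' (I := I)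
  intro n
  rw [SModEq.zero, smul_eq_mul, Ideal.mul_top]
  have h1 : r - U L = (r - U (s n).1) + U ((s n).1 - L) := by rw [map_sub]; ring
  rw [h1]
  refine Ideal.add_mem _ (s n).2 ?_
  have h2 := hL n
  rw [SModEq.sub_mem, smul_eq_mul, Ideal.mul_top] at h2
  have h3 := Ideal.mem_map_of_mem U h2
  rwa [hpow n] at h3

/-- Lifting a map to the residue field of a complete local ring (no Noetherian hypothesis). -/
theorem lift_residue {W C : Type*} [CommRing W] [CommRing C] [IsLocalRing C]
    [IsAdicComplete (maximalIdeal C) C] (u : W →+* C ⧸ maximalIdeal C)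
    (H : ∀ n, LP W (C ⧸ maximalIdeal C ^ n)) :
    ∃ v : W →+* C, (Ideal.Quotient.mk (maximalIdeal C)).comp v = u := by
  classical
  have hJm : maximalIdeal C ≤ maximalIdeal C := le_rfl
  have hle0 : maximalIdeal C ≤ maximalIdeal C ^ 0 := by
    rw [pow_zero, Ideal.one_eq_top]; exact le_top
  have hP0 : PP (maximalIdeal C) u 0 ((Ideal.Quotient.factor hle0).comp u) := by
    intro w
    obtain ⟨c, hc⟩ := Ideal.Quotient.mk_surjective (u w)
    exact ⟨c, by rw [RingHom.comp_apply, ← hc, Ideal.Quotient.factor_mk], hc⟩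
  have stp : ∀ n (f : {f : W →+* C ⧸ maximalIdeal C ^ n // PP (maximalIdeal C) u n f}),
      ∃ f' : {f' : W →+* C ⧸ maximalIdeal C ^ (n + 1) // PP (maximalIdeal C) u (n + 1) f'},
        ∀ w, Ideal.Quotient.factorPow (maximalIdeal C) (Nat.le_succ n) (f'.1 w) = f.1 w := by
    rintro n ⟨f, hf⟩
    obtain ⟨f', h1, h2⟩ := step (maximalIdeal C) hJm u n (H (n + 1)) f hf
    exact ⟨⟨f', h1⟩, h2⟩
  let s : ∀ n, {f : W →+* C ⧸ maximalIdeal C ^ n // PP (maximalIdeal C) u n f} := fun n =>
    Nat.rec ⟨_, hP0⟩ (fun n f => Classical.choose (stp n f)) n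
  have hs : ∀ n w, Ideal.Quotient.factorPow (maximalIdeal C) (Nat.le_succ n) ((s (n + 1)).1 w) =
      (s n).1 w := fun n => Classical.choose_spec (stp n (s n))
  have hcompat : ∀ {k n : ℕ} (hle : k ≤ n),
      (Ideal.Quotient.factorPow (maximalIdeal C) hle).comp (s n).1 = (s k).1 := by
    intro k n hle
    induction n, hle using Nat.le_induction with
    | base =>
      ext w
      obtain ⟨c, hc⟩ := Ideal.Quotient.mk_surjective ((s k).1 w)
      rw [RingHom.comp_apply, ← hc]
      rfl
    | succ n hkn ih =>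
      ext w
      rw [← ih]
      have h1 := hs n w
      obtain ⟨c, hc⟩ := Ideal.Quotient.mk_surjective ((s (n + 1)).1 w)
      rw [RingHom.comp_apply, RingHom.comp_apply, ← h1, ← hc]
      rfl
  let v : W →+* C := IsAdicComplete.liftRingHom (maximalIdeal C) (fun n => (s n).1) hcompat
  have hv : ∀ n w, Ideal.Quotient.mk (maximalIdeal C ^ n) (v w) = (s n).1 w := fun n w =>
    IsAdicComplete.mk_liftRingHom (maximalIdeal C) (fun n => (s n).1) hcompat n w
  refine ⟨v, ?_⟩
  ext w
  obtain ⟨c, hc1, hc2⟩ := (s 1).2 w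
  have h1 : v w - c ∈ maximalIdeal C ^ 1 := by
    rw [← Ideal.Quotient.eq, hv 1 w, hc1]
  rw [pow_one] at h1
  rw [RingHom.comp_apply, ← hc2]
  exact (Ideal.Quotient.eq).2 h1

/-- Power series surjection from a coefficient ring with the lifting property. -/
theorem ps_surjection {W R : Type*} [CommRing W] [CommRing R] [IsLocalRing R]
    [IsAdicComplete (maximalIdeal R) R] (hfg : (maximalIdeal R).FG)
    (u : W →+* R ⧸ maximalIdeal R) (hu : Function.Surjective u)
    (H : ∀ n, LP W (R ⧸ maximalIdeal R ^ n)) :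
    ∃ (n : ℕ) (f : MvPowerSeries (Fin n) W →+* R), Function.Surjective f := by
  obtain ⟨v, hv⟩ := lift_residue u H
  obtain ⟨n, x, hx⟩ := Submodule.fg_iff_exists_fin_generating_family.1 hfg
  have hxm : ∀ i, x i ∈ maximalIdeal R := fun i => hx ▸ Submodule.subset_span ⟨i, rfl⟩
  obtain ⟨U, hUC, hUX⟩ := Groth.Agent.H27.CoeffSection.exists_ps_hom (maximalIdeal R) v x hxm
  refine ⟨n, U, ?_⟩
  haveI : IsPrecomplete (Ideal.span (Set.range (MvPowerSeries.X : Fin n → MvPowerSeries (Fin n) W)))
      (MvPowerSeries (Fin n) W) := inferInstance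
  apply surjective_of_adic U (Ideal.span (Set.range MvPowerSeries.X)) (maximalIdeal R)
  · rw [Ideal.map_span, ← Set.range_comp]
    have : (⇑U ∘ MvPowerSeries.X) = x := funext hUX
    rw [this]; exact hx
  · intro r
    obtain ⟨a, ha⟩ := hu (Ideal.Quotient.mk _ r)
    refine ⟨MvPowerSeries.C a, ?_⟩
    rw [hUC, ← Ideal.Quotient.eq, ← ha, ← hv]
    rfl

/-- **Cohen structure theorem**, surjective form. -/
theorem main (R : Type u) [CommRing R] [IsLocalRing R] [IsAdicComplete (maximalIdeal R) R]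
    (hfg : (maximalIdeal R).FG) :
    ∃ (Λ : Type u) (_ : CommRing Λ) (n : ℕ) (f : MvPowerSeries (Fin n) Λ →+* R),
      (IsField Λ ∨ CAlg.IsCohenRing Λ) ∧ Function.Surjective f := by
  obtain ⟨q, hq⟩ := CharP.exists (ResidueField R)
  rcases CharP.char_is_prime_or_zero (ResidueField R) q with hqp | hq0
  · haveI : Fact q.Prime := ⟨hqp⟩
    obtain ⟨Λ, i1, i2, hC, ⟨e⟩⟩ := CohenExist.exists_cohen q (ResidueField R)
    obtain ⟨hdom, hdvr, hcompl, p', hp', hm⟩ := hC
    -- p' = q
    have hp'q : p' = q := by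
      have h1 : ((p' : Λ)) ∈ maximalIdeal Λ := by rw [hm]; exact Ideal.mem_span_singleton_self _
      have h2 : residue Λ (p' : Λ) = 0 := (residue_eq_zero_iff _).2 h1
      have h3 : ((p' : ℕ) : ResidueField R) = 0 := by
        have := congrArg e h2
        rwa [map_natCast, map_natCast, map_zero] at this
      have h4 : q ∣ p' := (CharP.cast_eq_zero_iff (ResidueField R) q p').1 h3
      exact ((Nat.prime_dvd_prime_iff_eq hqp hp').1 h4).symm
    subst hp'q
    have hqR : (p' : R) ∈ maximalIdeal R := by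
      rw [← residue_eq_zero_iff, map_natCast]; exact CharP.cast_eq_zero _ _
    have H : ∀ n, LP Λ (R ⧸ maximalIdeal R ^ n) := by
      intro n
      refine lp_of_cohen p' hp' hm _ n ?_
      rw [← map_natCast (Ideal.Quotient.mk (maximalIdeal R ^ n)), ← map_pow,
        Ideal.Quotient.eq_zero_iff_mem]
      exact Ideal.pow_mem_pow hqR n
    obtain ⟨n, f, hf⟩ := ps_surjection hfg (e.toRingHom.comp (residue Λ))
      (e.surjective.comp residue_surjective) H
    exact ⟨Λ, i1, n, f, Or.inr ⟨hdom, hdvr, hcompl, p', hp', hm⟩, hf⟩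
  · subst hq0
    haveI : CharZero (ResidueField R) := CharP.charP_to_charZero _
    have H : ∀ n, LP (ResidueField R) (R ⧸ maximalIdeal R ^ n) := fun n => lp_of_field _ _
    obtain ⟨n, f, hf⟩ := ps_surjection (W := ResidueField R) hfg (RingHom.id _)
      Function.surjective_id H
    exact ⟨ResidueField R, inferInstance, n, f, Or.inl (Field.toIsField _), hf⟩

end Groth.Agent.Helper12.CohenStruct
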