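import Mathlib

set_option autoImplicit false
universe u

namespace Groth.Agent.Helper12.ComplIso

open IsLocalRing

variable (A B : Type u) [CommRing A] [CommRing B] [IsLocalRing A] [IsLocalRing B] [Algebra A B]
  [IsLocalHom (algebraMap A B)]

theorem range_sup (hm : (maximalIdeal A).map (algebraMap A B) = maximalIdeal B)
    (hk : Function.Surjective (ResidueField.map (algebraMap A B))) (k : ℕ) :
    LinearMap.range (Algebra.linearMap A B) ⊔ (maximalIdeal A) ^ k • (⊤ : Submodule A B) = ⊤ := by
  have base : LinearMap.range (Algebra.linearMap A B) ⊔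
      (maximalIdeal A) • (⊤ : Submodule A B) = ⊤ := by
    rw [eq_top_iff]
    intro b _
    obtain ⟨abar, ha⟩ := hk (residue B b)
    obtain ⟨a, rfl⟩ := residue_surjective abar
    rw [ResidueField.map_residue] at ha
    have hmem : b - algebraMap A B a ∈ maximalIdeal B := by
      rw [← residue_eq_zero_iff, map_sub, ha, sub_self]
    have hmem' : b - algebraMap A B a ∈ (maximalIdeal A) • (⊤ : Submodule A B) := by
      rw [Ideal.smul_top_eq_map, hm]
      exact hmem
    have : b = algebraMap A B a + (b - algebraMap A B a) := by ring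
    rw [this]
    exact Submodule.add_mem_sup ⟨a, rfl⟩ hmem'
  induction k with
  | zero => rw [pow_zero, Ideal.one_eq_top, Submodule.top_smul, sup_top_eq]
  | succ k ih =>
    apply le_antisymm le_top
    have h1 : maximalIdeal A • (⊤ : Submodule A B) ≤
        LinearMap.range (Algebra.linearMap A B) ⊔ (maximalIdeal A) ^ (k + 1) • ⊤ := by
      calc maximalIdeal A • (⊤ : Submodule A B)
          = maximalIdeal A • (LinearMap.range (Algebra.linearMap A B) ⊔
              (maximalIdeal A) ^ k • ⊤) := by rw [ih]
        _ = maximalIdeal A • LinearMap.range (Algebra.linearMap A B) ⊔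
              maximalIdeal A • (maximalIdeal A) ^ k • (⊤ : Submodule A B) :=
            Submodule.smul_sup _ _ _
        _ ≤ _ := by
          apply sup_le_sup Submodule.smul_le_right
          rw [← Submodule.mul_smul, ← pow_succ']
    calc (⊤ : Submodule A B) = LinearMap.range (Algebra.linearMap A B) ⊔
          (maximalIdeal A) • (⊤ : Submodule A B) := base.symm
      _ ≤ _ := sup_le le_sup_left h1

omit [IsLocalHom (algebraMap A B)] in
theorem map_pow_eq (hm : (maximalIdeal A).map (algebraMap A B) = maximalIdeal B) (k : ℕ) :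
    ((maximalIdeal A) ^ k).map (algebraMap A B) = (maximalIdeal B) ^ k := by
  rw [Ideal.map_pow, hm]

theorem comap_pow_eq [Module.Flat A B]
    (hm : (maximalIdeal A).map (algebraMap A B) = maximalIdeal B) (k : ℕ) :
    ((maximalIdeal B) ^ k).comap (algebraMap A B) = (maximalIdeal A) ^ k := by
  have : Module.FaithfullyFlat A B := Module.FaithfullyFlat.of_flat_of_isLocalHom
  rw [← map_pow_eq A B hm k]
  exact Ideal.comap_map_eq_self_of_faithfullyFlat _

theorem quot_bij [Module.Flat A B]
    (hm : (maximalIdeal A).map (algebraMap A B) = maximalIdeal B)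
    (hk : Function.Surjective (ResidueField.map (algebraMap A B))) (k : ℕ) :
    ∃ θ : A ⧸ (maximalIdeal A) ^ k →+* B ⧸ (maximalIdeal B) ^ k, Function.Bijective θ ∧
      ∀ a, θ (Ideal.Quotient.mk _ a) = Ideal.Quotient.mk _ (algebraMap A B a) := by
  have hle : (maximalIdeal A) ^ k ≤ ((maximalIdeal B) ^ k).comap (algebraMap A B) :=
    (comap_pow_eq A B hm k).ge
  refine ⟨Ideal.quotientMap ((maximalIdeal B) ^ k) (algebraMap A B) hle, ⟨?_, ?_⟩, fun a => ?_⟩
  · exact Ideal.quotientMap_injective' (comap_pow_eq A B hm k).le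
  · intro q
    obtain ⟨b, rfl⟩ := Ideal.Quotient.mk_surjective q
    have hb : b ∈ LinearMap.range (Algebra.linearMap A B) ⊔
        (maximalIdeal A) ^ k • (⊤ : Submodule A B) := by
      rw [range_sup A B hm hk k]; trivial
    obtain ⟨y, ⟨a, rfl⟩, z, hz, hyz⟩ := Submodule.mem_sup.mp hb
    refine ⟨Ideal.Quotient.mk _ a, ?_⟩
    rw [Ideal.quotientMap_mk, Ideal.Quotient.eq]
    rw [Ideal.smul_top_eq_map, map_pow_eq A B hm k] at hz
    have hz' : z ∈ (maximalIdeal B) ^ k := hz
    have : algebraMap A B a - b = -z := by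
      rw [← hyz]; simp
    rw [this]
    exact neg_mem hz'
  · exact Ideal.quotientMap_mk

omit [IsLocalRing A] in
theorem mem_smul_top_of_evalₐ_eq_zero {I : Ideal A} (hI : I.FG) (k : ℕ)
    (y : AdicCompletion I A) (hy : AdicCompletion.evalₐ I k y = 0) :
    y ∈ I ^ k • (⊤ : Submodule A (AdicCompletion I A)) := by
  rw [AdicCompletion.pow_smul_top_eq_ker_eval hI, LinearMap.mem_ker]
  have h : (I ^ k • ⊤ : Ideal A) = I ^ k := by ext x; simp
  have h2 := AdicCompletion.factor_evalₐ_eq_eval I y (le_of_eq h.symm)
  rw [← h2, hy, map_zero]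

theorem main [IsNoetherianRing A] [Module.Flat A B]
    (hm : Ideal.map (algebraMap A B) (maximalIdeal A) = maximalIdeal B)
    (hk : Function.Bijective (ResidueField.map (algebraMap A B)))
    (ψ : AdicCompletion (maximalIdeal A) A →+* AdicCompletion (maximalIdeal B) B)
    (hψ : ψ.comp (algebraMap A (AdicCompletion (maximalIdeal A) A)) =
      (algebraMap B (AdicCompletion (maximalIdeal B) B)).comp (algebraMap A B)) :
    Function.Bijective ψ := by
  have hmfg : (maximalIdeal A).FG := IsNoetherian.noetherian _
  choose θ hθbij hθmk using fun k => quot_bij A B hm hk.2 k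
  have hψa : ∀ c : A, ψ (algebraMap A (AdicCompletion (maximalIdeal A) A) c) =
      algebraMap B (AdicCompletion (maximalIdeal B) B) (algebraMap A B c) :=
    fun c => RingHom.congr_fun hψ c
  have hker : ∀ (k : ℕ), ∀ z ∈ (maximalIdeal A) ^ k •
      (⊤ : Submodule A (AdicCompletion (maximalIdeal A) A)),
      AdicCompletion.evalₐ (maximalIdeal B) k (ψ z) = 0 := by
    intro k z hz
    refine Submodule.smul_induction_on hz ?_ ?_
    · intro c hc w _
      rw [Algebra.smul_def, map_mul, hψa, map_mul, AlgHom.commutes]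
      have h2 : algebraMap B (B ⧸ (maximalIdeal B) ^ k) (algebraMap A B c) = 0 := by
        rw [Ideal.Quotient.algebraMap_eq, Ideal.Quotient.eq_zero_iff_mem, ← map_pow_eq A B hm k]
        exact Ideal.mem_map_of_mem _ hc
      rw [h2, zero_mul]
    · intro z1 z2 h1 h2
      rw [map_add, map_add, h1, h2, add_zero]
  have hcompat : ∀ k (x : AdicCompletion (maximalIdeal A) A),
      AdicCompletion.evalₐ (maximalIdeal B) k (ψ x) =
        θ k (AdicCompletion.evalₐ (maximalIdeal A) k x) := by
    intro k x
    obtain ⟨a, ha⟩ := Ideal.Quotient.mk_surjective (AdicCompletion.evalₐ (maximalIdeal A) k x)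
    have hy0 : AdicCompletion.evalₐ (maximalIdeal A) k
        (x - algebraMap A (AdicCompletion (maximalIdeal A) A) a) = 0 := by
      rw [map_sub, AlgHom.commutes, ← ha, Ideal.Quotient.algebraMap_eq, sub_self]
    have hymem := mem_smul_top_of_evalₐ_eq_zero A hmfg k _ hy0
    have h1 := hker k _ hymem
    rw [map_sub, map_sub, sub_eq_zero] at h1
    rw [h1, hψa, AlgHom.commutes, ← ha, hθmk, Ideal.Quotient.algebraMap_eq]
  constructor
  · rw [injective_iff_map_eq_zero]
    intro x hx
    apply AdicCompletion.ext_evalₐ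
    intro k
    have h1 := hcompat k x
    rw [hx, map_zero] at h1
    rw [map_zero]
    exact (hθbij k).1 (by rw [← h1, map_zero])
  · intro y
    obtain ⟨g, rfl⟩ := AdicCompletion.mk_surjective (maximalIdeal B) B y
    have hdec : ∀ k, ∃ a : A, g k - algebraMap A B a ∈ (maximalIdeal B) ^ k := by
      intro k
      have hb : g k ∈ LinearMap.range (Algebra.linearMap A B) ⊔
          (maximalIdeal A) ^ k • (⊤ : Submodule A B) := by
        rw [range_sup A B hm hk.2 k]; trivial
      obtain ⟨y, ⟨a, rfl⟩, z, hz, hyz⟩ := Submodule.mem_sup.mp hb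
      rw [Ideal.smul_top_eq_map, map_pow_eq A B hm k] at hz
      have hz' : z ∈ (maximalIdeal B) ^ k := hz
      refine ⟨a, ?_⟩
      have : g k - algebraMap A B a = z := by
        rw [← hyz]; simp
      rw [this]; exact hz'
    choose a ha using hdec
    have hcauchy : ∀ k, a k ≡ a (k + 1) [SMOD ((maximalIdeal A) ^ k • ⊤ : Submodule A A)] := by
      intro k
      rw [SModEq.sub_mem, smul_eq_mul, Ideal.mul_top, ← comap_pow_eq A B hm k, Ideal.mem_comap]
      have hg : g k - g (k + 1) ∈ (maximalIdeal B) ^ k := by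
        have := g.property (Nat.le_succ k)
        rw [SModEq.sub_mem, smul_eq_mul, Ideal.mul_top] at this
        exact this
      have h3 : g (k + 1) - algebraMap A B (a (k + 1)) ∈ (maximalIdeal B) ^ k :=
        Ideal.pow_le_pow_right (Nat.le_succ k) (ha (k + 1))
      have : algebraMap A B (a k - a (k + 1)) =
          -(g k - algebraMap A B (a k)) + (g k - g (k + 1)) +
            (g (k + 1) - algebraMap A B (a (k + 1))) := by
        rw [map_sub]; ring
      rw [this]
      exact add_mem (add_mem (neg_mem (ha k)) hg) h3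
    refine ⟨AdicCompletion.mk (maximalIdeal A) A
      (AdicCompletion.AdicCauchySequence.mk (maximalIdeal A) A a hcauchy), ?_⟩
    apply AdicCompletion.ext_evalₐ
    intro k
    rw [hcompat, AdicCompletion.evalₐ_mk, AdicCompletion.evalₐ_mk, hθmk, Ideal.Quotient.eq]
    have := ha k
    rw [← neg_sub] at this
    exact (neg_mem_iff).mp this

end Groth.Agent.Helper12.ComplIso
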