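import Mathlib

namespace Groth.Agent.Helper12

/-- If `a` is a unit modulo `I`, then `A/I → A_a/IA_a` is bijective. -/
theorem quotientMap_away_bijective {A : Type*} [CommRing A] (I : Ideal A) (a : A)
    (ha : IsUnit (Ideal.Quotient.mk I a)) :
    Function.Bijective (Ideal.quotientMap (Ideal.map (algebraMap A (Localization.Away a)) I)
      (algebraMap A (Localization.Away a)) Ideal.le_comap_map) := by
  have H : Algebra.algebraMapSubmonoid (A ⧸ I) (Submonoid.powers a) ≤ IsUnit.submonoid (A ⧸ I) := by
    rintro _ ⟨_, ⟨n, rfl⟩, rfl⟩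
    show IsUnit (algebraMap A (A ⧸ I) (a ^ n))
    rw [map_pow]
    exact ha.pow n
  exact (IsLocalization.atUnits (A ⧸ I) (Algebra.algebraMapSubmonoid (A ⧸ I) (Submonoid.powers a))
    (S := Localization.Away a ⧸ Ideal.map (algebraMap A (Localization.Away a)) I) H).bijective

end Groth.Agent.Helper12
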