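import Mathlib
import Groth.Prelude.Def_FSch3

/-!
# `A_{f} / J^(n+1) A_{f}` is the localization of `A / J^(n+1)` at `f` (helper12, for S3874)
-/

set_option autoImplicit false
universe u

namespace Groth.Agent.Helper12.CAwayQuot

open AdicCompletion

/-- Kernel of `evalₐ` for a finitely generated ideal (same proof as helper1's `CplQuot.ker_evalₐ`). -/
lemma ker_evalₐ {R : Type u} [CommRing R] (I : Ideal R) (fg : I.FG) (n : ℕ) :
    RingHom.ker (evalₐ I n : AdicCompletion I R →+* R ⧸ I ^ n) =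
      (I ^ n).map (algebraMap R (AdicCompletion I R)) := by
  ext x
  trans x ∈ (AdicCompletion.eval I R n).ker
  · have h : (I ^ n • ⊤ : Ideal R) = I ^ n := by ext x; simp
    rw [RingHom.mem_ker, LinearMap.mem_ker]
    constructor
    · intro hx
      apply (Ideal.quotientEquivAlgOfEq R h).injective
      rw [_root_.map_zero]
      exact hx
    · intro hx
      show (Ideal.quotientEquivAlgOfEq R h) (eval I R n x) = 0
      rw [hx, _root_.map_zero]
  · rw [← pow_smul_top_eq_ker_eval fg, Ideal.smul_top_eq_map]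
    rfl

theorem main (A : Type u) [CommRing A] [IsNoetherianRing A] (J : Ideal A)
    (f : A) (n : ℕ) :
    ∃ e : Localization.Away (Ideal.Quotient.mk (J ^ (n + 1)) f) ≃+*
        FSch.cAway A J f ⧸ (J.map (algebraMap A (FSch.cAway A J f))) ^ (n + 1),
      ∀ a : A, e (algebraMap (A ⧸ J ^ (n + 1)) _ (Ideal.Quotient.mk (J ^ (n + 1)) a)) =
        Ideal.Quotient.mk _ (algebraMap A (FSch.cAway A J f) a) := by
  classical
  set R := Localization.Away f with hR
  set I : Ideal R := J.map (algebraMap A R) with hI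
  have hloc : IsLocalization (Submonoid.powers (Ideal.Quotient.mk (J ^ (n + 1)) f))
      (R ⧸ (J ^ (n + 1)).map (algebraMap A R)) := by
    have h0 : IsLocalization (Algebra.algebraMapSubmonoid (A ⧸ J ^ (n + 1)) (Submonoid.powers f))
        (R ⧸ (J ^ (n + 1)).map (algebraMap A R)) := inferInstance
    have h1 : Algebra.algebraMapSubmonoid (A ⧸ J ^ (n + 1)) (Submonoid.powers f) =
        Submonoid.powers (Ideal.Quotient.mk (J ^ (n + 1)) f) := by
      rw [Algebra.algebraMapSubmonoid, Submonoid.map_powers]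
      rfl
    rwa [h1] at h0
  let e1 : Localization.Away (Ideal.Quotient.mk (J ^ (n + 1)) f) ≃ₐ[A ⧸ J ^ (n + 1)]
      (R ⧸ (J ^ (n + 1)).map (algebraMap A R)) :=
    IsLocalization.algEquiv (Submonoid.powers (Ideal.Quotient.mk (J ^ (n + 1)) f)) _ _
  have hpow : (J ^ (n + 1)).map (algebraMap A R) = I ^ (n + 1) := Ideal.map_pow _ _ _
  let e2 : (R ⧸ (J ^ (n + 1)).map (algebraMap A R)) ≃+* R ⧸ I ^ (n + 1) :=
    Ideal.quotEquivOfEq hpow
  have hfg : I.FG := (inferInstance : IsNoetherianRing R).noetherian I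
  let ev : AdicCompletion I R →+* R ⧸ I ^ (n + 1) := (evalₐ I (n + 1) : AdicCompletion I R →+* _)
  have hev : Function.Surjective ev := surjective_evalₐ I (n + 1)
  let e3 : AdicCompletion I R ⧸ RingHom.ker ev ≃+* R ⧸ I ^ (n + 1) :=
    RingHom.quotientKerEquivOfSurjective hev
  have hcomp : algebraMap A (AdicCompletion I R) =
      (algebraMap R (AdicCompletion I R)).comp (algebraMap A R) := RingHom.ext fun a => rfl
  have hK : (J.map (algebraMap A (AdicCompletion I R))) ^ (n + 1) = RingHom.ker ev := by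
    rw [ker_evalₐ I hfg (n + 1), ← Ideal.map_pow, hcomp, ← Ideal.map_map, hpow]
  let e4 : AdicCompletion I R ⧸ (J.map (algebraMap A (AdicCompletion I R))) ^ (n + 1) ≃+*
      AdicCompletion I R ⧸ RingHom.ker ev := Ideal.quotEquivOfEq hK
  refine ⟨e1.toRingEquiv.trans (e2.trans (e3.symm.trans e4.symm)), fun a => ?_⟩
  show e4.symm (e3.symm (e2 (e1 _))) = _
  rw [RingEquiv.symm_apply_eq, RingEquiv.symm_apply_eq, AlgEquiv.commutes]
  show e2 (algebraMap (A ⧸ J ^ (n + 1)) (R ⧸ (J ^ (n + 1)).map (algebraMap A R))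
      (Ideal.Quotient.mk (J ^ (n + 1)) a)) = e3 (e4 (Ideal.Quotient.mk _ _))
  rw [Ideal.quotEquivOfEq_mk]
  show _ = ev (algebraMap A (AdicCompletion I R) a)
  show _ = evalₐ I (n + 1) (of I R (algebraMap A R a))
  rw [evalₐ_of]
  rfl

end Groth.Agent.Helper12.CAwayQuot
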