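import Mathlib
import Groth.Prelude.Def_Pi1
import Groth.Agent.S0548
import Groth.Agent.Helper1.FormalFibreQuot

/-!
# Quotient of a regular local ring by a regular sequence is a complete intersection (helper12)
-/

set_option autoImplicit false
set_option linter.style.haveILetI false

namespace Groth.Agent.Helper12.CIQuot

open IsLocalRing RingTheory.Sequence

universe u

/-- A regular local ring modulo a regular sequence (in the maximal ideal) is a complete
intersection in the sense of `Pi1.IsCompleteIntersection`. -/
theorem ci_of_regular (A : Type u) [CommRing A] [IsRegularLocalRing A] (rs : List A)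
    (hmem : ∀ r ∈ rs, r ∈ maximalIdeal A) (hreg : IsWeaklyRegular A rs)
    [IsLocalRing (A ⧸ Ideal.ofList rs)] :
    Pi1.IsCompleteIntersection (A ⧸ Ideal.ofList rs) := by
  let Ah := AdicCompletion (maximalIdeal A) A
  haveI hRA : IsRegularLocalRing Ah := (Groth.Agent.S0548.result A).1 inferInstance
  haveI : Module.Flat A Ah := AdicCompletion.flat_of_isNoetherian (maximalIdeal A)
  have hw : IsWeaklyRegular Ah (rs.map (algebraMap A Ah)) := hreg.of_flat
  have hmax : maximalIdeal Ah = (maximalIdeal A).map (algebraMap A Ah) :=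
    Groth.Agent.S19474.maximalIdeal_adicCompletion A (maximalIdeal A) Ideal.IsPrime.ne_top'
  have hmemH : ∀ r ∈ rs.map (algebraMap A Ah), r ∈ maximalIdeal Ah := by
    intro r hr
    obtain ⟨a, ha, rfl⟩ := List.mem_map.mp hr
    rw [hmax]
    exact Ideal.mem_map_of_mem _ (hmem a ha)
  have hregH : IsRegular Ah (rs.map (algebraMap A Ah)) :=
    (IsLocalRing.isRegular_iff_isWeaklyRegular_of_subset_maximalIdeal hmemH).mpr hw
  haveI : Nontrivial (A ⧸ Ideal.ofList rs) := inferInstance
  obtain ⟨e⟩ := Groth.Agent.Helper1.FormalFibreQuot.cpl_quot A (Ideal.ofList rs)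
  have hI : (Ideal.ofList rs).map (algebraMap A Ah) =
      Ideal.span {r | r ∈ rs.map (algebraMap A Ah)} := by
    rw [Ideal.map_ofList]
  exact ⟨Ah, inferInstance, hRA, rs.map (algebraMap A Ah), hmemH, hregH,
    ⟨e.trans (Ideal.quotEquivOfEq hI)⟩⟩

theorem main {R : Type u} [CommRing R] [IsRegularRing R]
    (p : Ideal R) [p.IsPrime] (rs : List R) (hmem : ∀ r ∈ rs, r ∈ p)
    (hreg : RingTheory.Sequence.IsRegular R rs)
    [IsLocalRing (Localization.AtPrime p ⧸
      Ideal.map (algebraMap R (Localization.AtPrime p)) (Ideal.ofList rs))] :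
    Pi1.IsCompleteIntersection (Localization.AtPrime p ⧸
      Ideal.map (algebraMap R (Localization.AtPrime p)) (Ideal.ofList rs)) := by
  have hI : Ideal.map (algebraMap R (Localization.AtPrime p)) (Ideal.ofList rs) =
      Ideal.ofList (rs.map (algebraMap R (Localization.AtPrime p))) := Ideal.map_ofList _ _
  have hw : IsWeaklyRegular (Localization.AtPrime p)
      (rs.map (algebraMap R (Localization.AtPrime p))) :=
    hreg.1.of_isLocalization (Localization.AtPrime p) p.primeCompl
  have hm : ∀ r ∈ rs.map (algebraMap R (Localization.AtPrime p)),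
      r ∈ maximalIdeal (Localization.AtPrime p) := by
    intro r hr
    obtain ⟨a, ha, rfl⟩ := List.mem_map.mp hr
    exact (IsLocalization.AtPrime.to_map_mem_maximal_iff _ p a).mpr (hmem a ha)
  revert ‹IsLocalRing (Localization.AtPrime p ⧸
      Ideal.map (algebraMap R (Localization.AtPrime p)) (Ideal.ofList rs))›
  rw [hI]
  intro _
  exact ci_of_regular (Localization.AtPrime p) _ hm hw

end Groth.Agent.Helper12.CIQuot
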