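import Mathlib

/-!
# Cardinality Nullstellensatz
-/

namespace Groth.Agent.Helper12.CardNull

universe u

open Cardinal

theorem lemmaA {k K : Type u} [Field k] [Field K] [Algebra k K] (t : Set K)
    (ht : Algebra.adjoin k t = ⊤) (h : t.Finite ∨ Cardinal.mk t < Cardinal.mk k) :
    Algebra.IsAlgebraic k K := by
  by_cases hfin : t.Finite
  · haveI : Algebra.FiniteType k K :=
      ⟨⟨hfin.toFinset, by rw [Set.Finite.coe_toFinset]; exact ht⟩⟩
    haveI : Module.Finite k K := finite_of_finite_type_of_isJacobsonRing k K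
    exact Algebra.IsAlgebraic.of_finite k K
  · have hcard : Cardinal.mk t < Cardinal.mk k := by
      rcases h with h | h
      · exact absurd h hfin
      · exact h
    have hinf : t.Infinite := hfin
    haveI : Infinite t := hinf.to_subtype
    by_contra hna
    haveI : Algebra.Transcendental k K := Algebra.transcendental_iff_not_isAlgebraic.mpr hna
    have h1 : Module.rank k K = #K := Algebra.Transcendental.rank_eq_cardinalMk k K
    have h2 : #k ≤ #K := Cardinal.mk_le_of_injective (algebraMap k K).injective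
    have hsurj : Function.Surjective (MvPolynomial.aeval (R := k) (Subtype.val : t → K)) := by
      rw [← AlgHom.range_eq_top, ← Algebra.adjoin_range_eq_range_aeval, Subtype.range_coe]
      exact ht
    have h3 : Module.rank k K ≤ Module.rank k (MvPolynomial t k) :=
      LinearMap.rank_le_of_surjective (MvPolynomial.aeval (R := k)
        (Subtype.val : t → K)).toLinearMap hsurj
    rw [MvPolynomial.rank_eq, Cardinal.mk_finsupp_nat, max_eq_left (Cardinal.aleph0_le_mk t)]
      at h3
    rw [h1] at h3
    exact absurd (h2.trans h3) (not_le.mpr hcard)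

theorem main {k S : Type u} [Field k] [CommRing S] [Algebra k S]
    (s : Set S) (hs : Algebra.adjoin k s = ⊤) (hcard : Cardinal.mk s < Cardinal.mk k) :
    (∀ (m : Ideal S) [m.IsMaximal], Algebra.IsAlgebraic k (S ⧸ m)) ∧ IsJacobsonRing S := by
  have hs' : s.Finite ∨ (s.Infinite ∧ Cardinal.mk s < Cardinal.mk k) := by
    by_cases h : s.Finite
    · exact Or.inl h
    · exact Or.inr ⟨h, hcard⟩
  constructor
  · intro m hm
    letI := Ideal.Quotient.field m
    apply lemmaA (t := (Ideal.Quotient.mkₐ k m) '' s)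
    · rw [← AlgHom.map_adjoin, hs, Algebra.map_top, AlgHom.range_eq_top]
      exact Ideal.Quotient.mkₐ_surjective k m
    · rcases hs' with h | ⟨_, h⟩
      · exact Or.inl (h.image _)
      · exact Or.inr (Cardinal.mk_image_le.trans_lt h)
  · rw [isJacobsonRing_iff_prime_eq]
    intro P hP
    refine le_antisymm ?_ Ideal.le_jacobson
    intro x hx
    by_contra hxP
    let D := S ⧸ P
    let fb : D := Ideal.Quotient.mk P x
    have hfb : fb ≠ 0 := fun h => hxP (Ideal.Quotient.eq_zero_iff_mem.mp h)
    let L := Localization.Away fb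
    have hinj : Function.Injective (algebraMap D L) :=
      IsLocalization.injective L (powers_le_nonZeroDivisors_of_noZeroDivisors hfb)
    haveI : Nontrivial L := hinj.nontrivial
    obtain ⟨n, hn⟩ := Ideal.exists_maximal L
    letI := Ideal.Quotient.field n
    let ψ : S →ₐ[k] (L ⧸ n) := (Ideal.Quotient.mkₐ k n).comp
      ((IsScalarTower.toAlgHom k D L).comp (Ideal.Quotient.mkₐ k P))
    have hψ : ∀ y : S, ψ y = Ideal.Quotient.mk n (algebraMap D L (Ideal.Quotient.mk P y)) :=
      fun _ => rfl
    let g : L ⧸ n := Ideal.Quotient.mk n (IsLocalization.Away.invSelf fb)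
    have hψg : ψ x * g = 1 := by
      rw [hψ]
      show Ideal.Quotient.mk n (algebraMap D L fb) *
        Ideal.Quotient.mk n (IsLocalization.Away.invSelf fb) = 1
      rw [← map_mul, IsLocalization.Away.mul_invSelf, map_one]
    have hgen : Algebra.adjoin k (ψ '' s ∪ {g}) = ⊤ := by
      rw [eq_top_iff]
      rintro z -
      have hrange : ∀ y : S, ψ y ∈ Algebra.adjoin k (ψ '' s ∪ {g}) := by
        intro y
        have hy : ψ y ∈ (Algebra.adjoin k s).map ψ := ⟨y, by rw [hs]; trivial, rfl⟩
        rw [AlgHom.map_adjoin] at hy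
        exact Algebra.adjoin_mono Set.subset_union_left hy
      have hg : g ∈ Algebra.adjoin k (ψ '' s ∪ {g}) :=
        Algebra.subset_adjoin (Set.mem_union_right _ rfl)
      obtain ⟨l, rfl⟩ := Ideal.Quotient.mk_surjective z
      obtain ⟨⟨a, ⟨_, j, rfl⟩⟩, rfl⟩ := IsLocalization.mk'_surjective (Submonoid.powers fb) l
      obtain ⟨y, rfl⟩ := Ideal.Quotient.mk_surjective a
      have h0 : IsLocalization.mk' L (Ideal.Quotient.mk P y)
          (⟨fb ^ j, j, rfl⟩ : Submonoid.powers fb) * (algebraMap D L fb) ^ j =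
          algebraMap D L (Ideal.Quotient.mk P y) := by
        have e : (algebraMap D L fb) ^ j = algebraMap D L (fb ^ j) := (map_pow _ _ _).symm
        rw [e]
        exact IsLocalization.mk'_spec L _ _
      have h1 : Ideal.Quotient.mk n
          (IsLocalization.mk' L (Ideal.Quotient.mk P y) (⟨fb ^ j, j, rfl⟩ : Submonoid.powers fb))
          * ψ x ^ j = ψ y := by
        rw [hψ, hψ]
        show Ideal.Quotient.mk n _ * (Ideal.Quotient.mk n (algebraMap D L fb)) ^ j = _
        rw [← h0, map_mul, map_pow]
      have h2 : Ideal.Quotient.mk n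
          (IsLocalization.mk' L (Ideal.Quotient.mk P y) (⟨fb ^ j, j, rfl⟩ : Submonoid.powers fb))
          = ψ y * g ^ j := by
        calc _ = Ideal.Quotient.mk n
              (IsLocalization.mk' L (Ideal.Quotient.mk P y)
                (⟨fb ^ j, j, rfl⟩ : Submonoid.powers fb)) * (ψ x * g) ^ j := by
              rw [hψg, one_pow, mul_one]
          _ = (Ideal.Quotient.mk n
              (IsLocalization.mk' L (Ideal.Quotient.mk P y)
                (⟨fb ^ j, j, rfl⟩ : Submonoid.powers fb)) * ψ x ^ j) * g ^ j := by ring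
          _ = ψ y * g ^ j := by rw [h1]
      show Ideal.Quotient.mk n
          (IsLocalization.mk' L (Ideal.Quotient.mk P y) (⟨fb ^ j, j, rfl⟩ : Submonoid.powers fb))
          ∈ Algebra.adjoin k (ψ '' s ∪ {g})
      rw [h2]
      exact mul_mem (hrange y) (pow_mem hg j)
    haveI : Algebra.IsAlgebraic k (L ⧸ n) := by
      apply lemmaA (t := ψ '' s ∪ {g}) hgen
      rcases hs' with h | ⟨hinf, h⟩
      · exact Or.inl ((h.image _).union (Set.finite_singleton g))
      · right
        haveI : Infinite s := hinf.to_subtype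
        calc Cardinal.mk (ψ '' s ∪ {g} : Set (L ⧸ n))
            ≤ Cardinal.mk (ψ '' s) + Cardinal.mk ({g} : Set (L ⧸ n)) := Cardinal.mk_union_le _ _
          _ ≤ Cardinal.mk s + 1 :=
              add_le_add Cardinal.mk_image_le (le_of_eq (Cardinal.mk_singleton g))
          _ = Cardinal.mk s := Cardinal.add_one_of_aleph0_le (Cardinal.aleph0_le_mk s)
          _ < Cardinal.mk k := h
    have halg : ∀ y : S, algebraMap S (L ⧸ n) y = ψ y := fun y => rfl
    haveI : IsScalarTower k S (L ⧸ n) := inferInstance
    haveI : Algebra.IsIntegral S (L ⧸ n) :=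
      ⟨fun z => (Algebra.IsAlgebraic.isAlgebraic (R := k) z).isIntegral.tower_top⟩
    have hmax : ((⊥ : Ideal (L ⧸ n)).comap (algebraMap S (L ⧸ n))).IsMaximal :=
      Ideal.isMaximal_comap_of_isIntegral_of_isMaximal ⊥
    have hPm : P ≤ (⊥ : Ideal (L ⧸ n)).comap (algebraMap S (L ⧸ n)) := by
      intro y hy
      rw [Ideal.mem_comap, Ideal.mem_bot, halg]
      rw [hψ, Ideal.Quotient.eq_zero_iff_mem.mpr hy, map_zero, map_zero]
    have hxm : x ∈ (⊥ : Ideal (L ⧸ n)).comap (algebraMap S (L ⧸ n)) :=
      Ideal.mem_sInf.mp hx ⟨hPm, hmax⟩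
    rw [Ideal.mem_comap, Ideal.mem_bot, halg] at hxm
    have hx0 : ψ x = 0 := hxm
    rw [hx0, zero_mul] at hψg
    exact zero_ne_one hψg

end Groth.Agent.Helper12.CardNull
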