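import Mathlib

namespace Groth.Agent.Helper12

/-- A monotone chain of subspaces of an `n`-dimensional space has a repetition `W d = W (d+1)`
with `d ≤ n`. -/
theorem exists_eq_succ_of_monotone {k V : Type*} [Field k] [AddCommGroup V] [Module k V]
    [FiniteDimensional k V] (W : ℕ → Submodule k V) (hW : Monotone W) :
    ∃ d ≤ Module.finrank k V, W d = W (d + 1) := by
  by_contra h
  push Not at h
  have key : ∀ d, d ≤ Module.finrank k V + 1 → d ≤ Module.finrank k (W d) := by
    intro d
    induction d with
    | zero => intro _; exact Nat.zero_le _
    | succ d ih =>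
      intro hd
      have hd' : d ≤ Module.finrank k V := by omega
      have hlt : W d < W (d + 1) := lt_of_le_of_ne (hW (Nat.le_succ d)) (h d hd')
      have := Submodule.finrank_lt_finrank_of_lt hlt
      have := ih (by omega)
      omega
  have h1 := key (Module.finrank k V + 1) le_rfl
  have h2 := Submodule.finrank_le (W (Module.finrank k V + 1))
  omega

/-- An antitone chain of subspaces of an `n`-dimensional space has a repetition `U d = U (d+1)`
with `d ≤ n`. -/
theorem exists_eq_succ_of_antitone {k V : Type*} [Field k] [AddCommGroup V] [Module k V]
    [FiniteDimensional k V] (U : ℕ → Submodule k V) (hU : Antitone U) :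
    ∃ d ≤ Module.finrank k V, U d = U (d + 1) := by
  by_contra h
  push Not at h
  have key : ∀ d, d ≤ Module.finrank k V + 1 →
      Module.finrank k (U d) + d ≤ Module.finrank k V := by
    intro d
    induction d with
    | zero => intro _; simpa using Submodule.finrank_le (U 0)
    | succ d ih =>
      intro hd
      have hd' : d ≤ Module.finrank k V := by omega
      have hlt : U (d + 1) < U d := lt_of_le_of_ne (hU (Nat.le_succ d)) (Ne.symm (h d hd'))
      have := Submodule.finrank_lt_finrank_of_lt hlt
      have := ih (by omega)
      omega
  have h1 := key (Module.finrank k V + 1) le_rfl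
  omega

/-- stabilisation propagates -/
theorem eq_add_of_eq_succ {α : Type*} (W : ℕ → α) (hstab : ∀ d, W d = W (d + 1) → W (d + 1) = W (d + 2))
    (d : ℕ) (hd : W d = W (d + 1)) (j : ℕ) : W (d + j) = W d := by
  have key : ∀ j, W (d + j) = W (d + j + 1) := by
    intro j
    induction j with
    | zero => exact hd
    | succ j ih => exact hstab _ ih
  induction j with
  | zero => rfl
  | succ j ih => rw [← ih]; exact (key j).symm

end Groth.Agent.Helper12
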