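import Mathlib

namespace Groth.Agent.Helper12

open Matrix Polynomial

theorem charpoly_blockDiagonal {R : Type*} [CommRing R] {m o : Type*} [Fintype m] [DecidableEq m]
    [Fintype o] [DecidableEq o] (M : o → Matrix m m R) :
    (Matrix.blockDiagonal M).charpoly = ∏ k, (M k).charpoly := by
  have : charmatrix (Matrix.blockDiagonal M) = Matrix.blockDiagonal (fun k => charmatrix (M k)) := by
    ext ⟨i, k⟩ ⟨j, l⟩
    by_cases hkl : k = l
    · subst hkl
      by_cases hij : i = j
      · subst hij; simp [Matrix.blockDiagonal_apply]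
      · simp [Matrix.blockDiagonal_apply, hij]
    · simp [Matrix.blockDiagonal_apply, hkl]
  rw [Matrix.charpoly, this, Matrix.det_blockDiagonal]
  rfl

theorem charpoly_comp_diagonal {R : Type*} [CommRing R] {m n : Type*} [Fintype m] [DecidableEq m]
    [Fintype n] [DecidableEq n] (B : Matrix m m R) :
    (Matrix.comp n n m m R (Matrix.diagonal fun _ => B)).charpoly = B.charpoly ^ Fintype.card n := by
  have : Matrix.comp n n m m R (Matrix.diagonal fun _ => B) =
      Matrix.reindex (Equiv.prodComm m n) (Equiv.prodComm m n) (Matrix.blockDiagonal fun _ : n => B) := by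
    ext ⟨i, k⟩ ⟨j, l⟩
    by_cases hij : i = j
    · subst hij; simp [Matrix.comp_apply, Matrix.blockDiagonal_apply]
    · simp [Matrix.comp_apply, Matrix.blockDiagonal_apply, hij]
  rw [this, Matrix.charpoly_reindex, charpoly_blockDiagonal]
  simp

end Groth.Agent.Helper12
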