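import Mathlib
import Groth.Agent.Lib.Helper12.CohenStruct
import Groth.Agent.S2460

/-!
# Cohen normalization (mixed and equal characteristic)
-/

set_option autoImplicit false

universe u

open IsLocalRing

namespace Groth.Agent.Helper12.CohenNorm

open Groth.Agent.H27.CohenLift

/-- A surjective ring map of local rings maps the maximal ideal into the maximal ideal. -/
theorem map_mem_maximalIdeal_of_surjective {R B : Type*} [CommRing R] [CommRing B] [IsLocalRing R]
    [IsLocalRing B] (π : R →+* B) (hπ : Function.Surjective π) (r : R)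
    (hr : r ∈ maximalIdeal R) : π r ∈ maximalIdeal B := by
  rw [mem_maximalIdeal, mem_nonunits_iff]
  intro hu
  obtain ⟨b', hb'⟩ := hu.exists_right_inv
  obtain ⟨b, rfl⟩ := hπ b'
  have hker : RingHom.ker π ≤ maximalIdeal R := by
    apply IsLocalRing.le_maximalIdeal
    intro h
    have : (1 : R) ∈ RingHom.ker π := by rw [h]; exact Submodule.mem_top
    rw [RingHom.mem_ker, map_one] at this
    exact one_ne_zero this
  have h1 : r * b - 1 ∈ RingHom.ker π := by
    rw [RingHom.mem_ker, map_sub, map_mul, hb', map_one, sub_self]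
  have h2 : r * b ∈ maximalIdeal R := Ideal.mul_mem_right _ _ hr
  have h3 : (1 : R) ∈ maximalIdeal R := by
    have := (maximalIdeal R).sub_mem h2 (hker h1)
    simpa using this
  exact (Ideal.ne_top_iff_one _).mp (maximalIdeal.isMaximal R).ne_top h3

/-- Complete Nakayama: finiteness can be checked modulo an ideal for which the source is
precomplete. -/
theorem finite_of_nakayama {S R : Type*} [CommRing S] [CommRing R] [IsLocalRing R]
    [IsNoetherianRing R] (w : S →+* R) (J : Ideal S) [IsPrecomplete J S]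
    (hJ : J.map w ≤ maximalIdeal R)
    (hfin : ((Ideal.Quotient.mk (J.map w)).comp w).Finite) : w.Finite := by
  classical
  obtain ⟨q, hq⟩ : ∃ q : Ideal R, q = J.map w := ⟨_, rfl⟩
  rw [← hq] at hJ hfin
  letI : Algebra S R := w.toAlgebra
  letI : Algebra S (R ⧸ q) := ((Ideal.Quotient.mk q).comp w).toAlgebra
  haveI hB : Module.Finite S (R ⧸ q) := hfin
  show Module.Finite S R
  obtain ⟨r, g, hg⟩ := Module.Finite.exists_fin (R := S) (M := R ⧸ q)
  choose a ha using fun j => Ideal.Quotient.mk_surjective (g j)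
  have hsmul : ∀ (f : S) (y : R), f • y = w f * y := fun f y => rfl
  have hsmul' : ∀ (f : S) (z : R ⧸ q), f • z = Ideal.Quotient.mk q (w f) * z := fun f z => rfl
  have hmulclosed : ∀ (c : R), ∀ y ∈ (J • ⊤ : Submodule S R), c * y ∈ (J • ⊤ : Submodule S R) := by
    intro c y hy
    refine Submodule.smul_induction_on hy ?_ ?_
    · intro f hf z _
      rw [mul_smul_comm]
      exact Submodule.smul_mem_smul hf Submodule.mem_top
    · intro y z hy hz
      rw [mul_add]
      exact Submodule.add_mem _ hy hz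
  have hqsub : ∀ y ∈ q, y ∈ (J • ⊤ : Submodule S R) := by
    intro y hy
    rw [hq] at hy
    have hy' : y ∈ Submodule.span R (w '' (J : Set S)) := hy
    refine Submodule.span_induction ?_ ?_ ?_ ?_ hy'
    · rintro _ ⟨f, hf, rfl⟩
      have h1 : w f = f • (1 : R) := by rw [hsmul, mul_one]
      rw [h1]
      exact Submodule.smul_mem_smul hf Submodule.mem_top
    · exact Submodule.zero_mem _
    · intro y z _ _ hy hz
      exact Submodule.add_mem _ hy hz
    · intro c y _ hy
      exact hmulclosed c y hy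
  have hspan : Submodule.span S (Set.range a) ⊔ (J • ⊤ : Submodule S R) = ⊤ := by
    rw [eq_top_iff]
    intro y _
    have h1 : Ideal.Quotient.mk q y ∈ Submodule.span S (Set.range g) := by
      rw [hg]; exact Submodule.mem_top
    rw [Submodule.mem_span_range_iff_exists_fun] at h1
    obtain ⟨c, hc⟩ := h1
    have h2 : y - ∑ j, w (c j) * a j ∈ q := by
      rw [← Ideal.Quotient.eq_zero_iff_mem, map_sub, map_sum, sub_eq_zero, ← hc]
      refine Finset.sum_congr rfl (fun j _ => ?_)
      rw [map_mul, ha j, hsmul']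
    have h3 : y = ∑ j, w (c j) * a j + (y - ∑ j, w (c j) * a j) := by ring
    rw [h3]
    refine Submodule.add_mem_sup ?_ (hqsub _ h2)
    refine Submodule.sum_mem _ (fun j _ => ?_)
    rw [← hsmul]
    exact Submodule.smul_mem _ _ (Submodule.subset_span ⟨j, rfl⟩)
  haveI : IsHausdorff J R := by
    refine ⟨fun y hy => ?_⟩
    have hkrull := Ideal.iInf_pow_eq_bot_of_isLocalRing (maximalIdeal R)
      (maximalIdeal.isMaximal R).ne_top
    rw [← Ideal.mem_bot, ← hkrull, Ideal.mem_iInf]
    intro k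
    have h1 := hy k
    rw [SModEq.sub_mem, sub_zero] at h1
    have hle : (J ^ k • ⊤ : Submodule S R) ≤ (maximalIdeal R ^ k).restrictScalars S := by
      rw [Submodule.smul_le]
      intro f hf z _
      show f • z ∈ maximalIdeal R ^ k
      rw [hsmul]
      apply Ideal.mul_mem_right
      have h2 : w f ∈ (J ^ k).map w := Ideal.mem_map_of_mem w hf
      rw [Ideal.map_pow, ← hq] at h2
      exact Ideal.pow_right_mono hJ k h2
    exact hle h1
  have htop := Groth.Agent.Helper17.span_eq_top_of_complete J a hspan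
  exact ⟨⟨Finset.univ.image a, by
    rw [Finset.coe_image, Finset.coe_univ, Set.image_univ]; exact htop⟩⟩

open MvPowerSeries in
theorem maximalIdeal_mvps {Λ : Type*} [CommRing Λ] [IsLocalRing Λ] (π : Λ)
    (hm : maximalIdeal Λ = Ideal.span {π}) (n : ℕ) :
    maximalIdeal (MvPowerSeries (Fin n) Λ) =
      Ideal.span (insert (C π) (Set.range (X : Fin n → MvPowerSeries (Fin n) Λ))) := by
  have hπm : π ∈ maximalIdeal Λ := by rw [hm]; exact Ideal.mem_span_singleton_self _
  apply le_antisymm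
  · intro f hf
    rw [mem_maximalIdeal, mem_nonunits_iff, MvPowerSeries.isUnit_iff_constantCoeff] at hf
    have h1 : constantCoeff f ∈ maximalIdeal Λ := (mem_maximalIdeal _).2 hf
    rw [hm, Ideal.mem_span_singleton'] at h1
    obtain ⟨c, hc⟩ := h1
    have h2 : f = (f - C (constantCoeff f)) + C c * C π := by rw [← map_mul, hc]; ring
    rw [h2]
    refine Ideal.add_mem _ ?_ (Ideal.mul_mem_left _ _ (Ideal.subset_span (Set.mem_insert _ _)))
    apply Ideal.span_mono (Set.subset_insert _ _)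
    apply Groth.Agent.H3.MvPSDim.mem_span_X
    rw [map_sub, constantCoeff_C, sub_self]
  · rw [Ideal.span_le]
    rintro _ (rfl | ⟨i, rfl⟩)
    · rw [SetLike.mem_coe, mem_maximalIdeal, mem_nonunits_iff,
        MvPowerSeries.isUnit_iff_constantCoeff, constantCoeff_C]
      exact (mem_maximalIdeal _).1 hπm
    · rw [SetLike.mem_coe, mem_maximalIdeal, mem_nonunits_iff,
        MvPowerSeries.isUnit_iff_constantCoeff, constantCoeff_X]
      exact not_isUnit_zero

theorem dim_mvps_le {Λ : Type u} [CommRing Λ] [IsLocalRing Λ] [IsNoetherianRing Λ] (π : Λ)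
    (hm : maximalIdeal Λ = Ideal.span {π}) (n : ℕ) :
    ringKrullDim (MvPowerSeries (Fin n) Λ) ≤ ((n + 1 : ℕ) : WithBot ℕ∞) := by
  refine (ringKrullDim_le_spanFinrank_maximalIdeal _).trans ?_
  rw [maximalIdeal_mvps π hm n]
  have hfin : (insert (MvPowerSeries.C π)
      (Set.range (MvPowerSeries.X : Fin n → MvPowerSeries (Fin n) Λ))).Finite :=
    (Set.finite_range _).insert _
  have h4 := Submodule.spanFinrank_span_le_ncard_of_finite (R := MvPowerSeries (Fin n) Λ) hfin
  have h5 : (insert (MvPowerSeries.C π)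
      (Set.range (MvPowerSeries.X : Fin n → MvPowerSeries (Fin n) Λ))).ncard ≤ n + 1 := by
    refine (Set.ncard_insert_le _ _).trans ?_
    have : (Set.range (MvPowerSeries.X : Fin n → MvPowerSeries (Fin n) Λ)).ncard ≤ n := by
      calc _ ≤ Nat.card (Fin n) := by
            rw [← Set.image_univ]
            refine (Set.ncard_image_le Set.finite_univ).trans ?_
            rw [Set.ncard_univ]
        _ = n := by simp
    omega
  exact_mod_cast h4.trans h5

/-- Mixed characteristic Cohen normalization. -/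
theorem mixed (R : Type u) [CommRing R] [IsDomain R] [IsLocalRing R] [IsNoetherianRing R]
    [IsAdicComplete (maximalIdeal R) R] [CharZero R] (p : ℕ) (hp : p.Prime)
    [CharP (ResidueField R) p] :
    ∃ (Λ : Type u) (_ : CommRing Λ) (n : ℕ) (f : MvPowerSeries (Fin n) Λ →+* R),
      CAlg.IsCohenRing Λ ∧ Function.Injective f ∧ f.Finite ∧
        Function.Surjective ((residue R).comp f) := by
  classical
  haveI : Fact p.Prime := ⟨hp⟩
  obtain ⟨Λ, i1, i2, hC, ⟨e⟩⟩ := CohenExist.exists_cohen p (ResidueField R)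
  obtain ⟨hdom, hdvr, hcompl, p', hp', hmΛ⟩ := hC
  have hp'p : p' = p := by
    have h1 : ((p' : Λ)) ∈ maximalIdeal Λ := by
      rw [hmΛ]; exact Ideal.mem_span_singleton_self _
    have h2 : residue Λ (p' : Λ) = 0 := (residue_eq_zero_iff _).2 h1
    have h3 : ((p' : ℕ) : ResidueField R) = 0 := by
      have := congrArg e h2
      rwa [map_natCast, map_natCast, map_zero] at this
    have h4 : p ∣ p' := (CharP.cast_eq_zero_iff (ResidueField R) p p').1 h3
    exact ((Nat.prime_dvd_prime_iff_eq hp hp').1 h4).symm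
  subst hp'p
  have hpR : (p' : R) ∈ maximalIdeal R := by
    rw [← residue_eq_zero_iff, map_natCast]; exact CharP.cast_eq_zero _ _
  have hp0 : (p' : R) ≠ 0 := Nat.cast_ne_zero.2 hp'.ne_zero
  have H : ∀ n, LP Λ (R ⧸ maximalIdeal R ^ n) := by
    intro n
    refine lp_of_cohen p' hp' hmΛ _ n ?_
    rw [← map_natCast (Ideal.Quotient.mk (maximalIdeal R ^ n)), ← map_pow,
      Ideal.Quotient.eq_zero_iff_mem]
    exact Ideal.pow_mem_pow hpR n
  obtain ⟨v, hv⟩ := CohenStruct.lift_residue (e.toRingHom.comp (residue Λ)) H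
  have hvres : ∀ a, residue R (v a) = e (residue Λ a) := fun a => RingHom.congr_fun hv a
  -- R' = R ⧸ (p)
  have hIpm : Ideal.span {(p' : R)} ≤ maximalIdeal R := by
    rw [Ideal.span_singleton_le_iff_mem]; exact hpR
  haveI : Nontrivial (R ⧸ Ideal.span {(p' : R)}) := Ideal.Quotient.nontrivial_iff.2
    (fun h => (maximalIdeal.isMaximal R).ne_top (top_le_iff.1 (h ▸ hIpm)))
  haveI : IsLocalRing (R ⧸ Ideal.span {(p' : R)}) :=
    IsLocalRing.of_surjective' (Ideal.Quotient.mk _) Ideal.Quotient.mk_surjective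
  obtain ⟨s', hs'min, hs'card⟩ := Ideal.exists_finset_card_eq_height_of_isNoetherianRing
    (maximalIdeal (R ⧸ Ideal.span {(p' : R)}))
  obtain ⟨n, hn⟩ : ∃ n, n = s'.card := ⟨_, rfl⟩
  let eq' : s' ≃ Fin n := Finset.equivFinOfCardEq hn.symm
  let x' : Fin n → R ⧸ Ideal.span {(p' : R)} := fun i => (eq'.symm i : R ⧸ Ideal.span {(p' : R)})
  have hrange' : Set.range x' = (s' : Set (R ⧸ Ideal.span {(p' : R)})) := by
    ext y
    constructor
    · rintro ⟨i, rfl⟩
      exact (eq'.symm i).2
    · intro hy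
      refine ⟨eq' ⟨y, hy⟩, ?_⟩
      show ((eq'.symm (eq' ⟨y, hy⟩) : s') : R ⧸ Ideal.span {(p' : R)}) = y
      rw [Equiv.symm_apply_apply]
  choose x hx using fun i => Ideal.Quotient.mk_surjective (x' i)
  obtain ⟨Jx, hJx⟩ : ∃ Jx : Ideal R, Jx = Ideal.span (Set.range x) := ⟨_, rfl⟩
  have hxm : ∀ i, x i ∈ maximalIdeal R := by
    intro i
    by_contra hnot
    have hu : IsUnit (x i) := by rwa [mem_maximalIdeal, mem_nonunits_iff, not_not] at hnot
    have hu' : IsUnit (x' i) := by rw [← hx i]; exact hu.map _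
    have hmem : x' i ∈ maximalIdeal (R ⧸ Ideal.span {(p' : R)}) :=
      hs'min.1.2 (Ideal.subset_span (by rw [← hrange']; exact ⟨i, rfl⟩))
    exact (mem_maximalIdeal _).1 hmem hu'
  have hJxm : Jx ≤ maximalIdeal R := by
    rw [hJx, Ideal.span_le]; rintro _ ⟨i, rfl⟩; exact hxm i
  haveI : Nontrivial (R ⧸ Jx) := Ideal.Quotient.nontrivial_iff.2
    (fun h => (maximalIdeal.isMaximal R).ne_top (top_le_iff.1 (h ▸ hJxm)))
  haveI : IsLocalRing (R ⧸ Jx) :=
    IsLocalRing.of_surjective' (Ideal.Quotient.mk _) Ideal.Quotient.mk_surjective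
  obtain ⟨w, hwC, hwX⟩ := Groth.Agent.H27.CoeffSection.exists_ps_hom (maximalIdeal R) v x hxm
  -- Step A
  obtain ⟨wA, hwA⟩ : ∃ wA : Λ →+* R ⧸ Jx, wA = (Ideal.Quotient.mk Jx).comp v := ⟨_, rfl⟩
  have hmapA : (maximalIdeal Λ).map wA = Ideal.span {((p' : ℕ) : R ⧸ Jx)} := by
    rw [hmΛ, Ideal.map_span, Set.image_singleton, map_natCast]
  have hpA : ((p' : ℕ) : R ⧸ Jx) ∈ maximalIdeal (R ⧸ Jx) := by
    rw [← map_natCast (Ideal.Quotient.mk Jx)]
    exact map_mem_maximalIdeal_of_surjective _ Ideal.Quotient.mk_surjective _ hpR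
  have hJA : (maximalIdeal Λ).map wA ≤ maximalIdeal (R ⧸ Jx) := by
    rw [hmapA, Ideal.span_singleton_le_iff_mem]; exact hpA
  haveI : IsPrecomplete (maximalIdeal Λ) Λ := hcompl.toIsPrecomplete
  have hfinA : wA.Finite := by
    apply finite_of_nakayama wA (maximalIdeal Λ) hJA
    obtain ⟨qB, hqB⟩ : ∃ qB : Ideal (R ⧸ Jx), qB = (maximalIdeal Λ).map wA := ⟨_, rfl⟩
    rw [← hqB]
    have hqBm : qB ≤ maximalIdeal (R ⧸ Jx) := hqB ▸ hJA
    haveI : Nontrivial ((R ⧸ Jx) ⧸ qB) := Ideal.Quotient.nontrivial_iff.2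
      (fun h => (maximalIdeal.isMaximal (R ⧸ Jx)).ne_top (top_le_iff.1 (h ▸ hqBm)))
    haveI : IsLocalRing ((R ⧸ Jx) ⧸ qB) :=
      IsLocalRing.of_surjective' (Ideal.Quotient.mk _) Ideal.Quotient.mk_surjective
    obtain ⟨π₀, hπ₀def⟩ : ∃ π₀ : R →+* (R ⧸ Jx) ⧸ qB,
        π₀ = (Ideal.Quotient.mk qB).comp (Ideal.Quotient.mk Jx) := ⟨_, rfl⟩
    have hπ₀ : Function.Surjective π₀ := by
      rw [hπ₀def]; exact Ideal.Quotient.mk_surjective.comp Ideal.Quotient.mk_surjective
    have hπ₀p : π₀ (p' : R) = 0 := by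
      rw [hπ₀def, RingHom.comp_apply, map_natCast, Ideal.Quotient.eq_zero_iff_mem, hqB, hmapA]
      exact Ideal.mem_span_singleton_self _
    have h1 : ∀ a ∈ Ideal.span {(p' : R)}, π₀ a = 0 := by
      intro a ha
      rw [Ideal.mem_span_singleton'] at ha
      obtain ⟨c, rfl⟩ := ha
      rw [map_mul, hπ₀p, mul_zero]
    obtain ⟨π₁, hπ₁def⟩ : ∃ π₁ : R ⧸ Ideal.span {(p' : R)} →+* (R ⧸ Jx) ⧸ qB,
        π₁ = Ideal.Quotient.lift _ π₀ h1 := ⟨_, rfl⟩
    have hπ₁ : Function.Surjective π₁ := by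
      rw [hπ₁def]; exact Ideal.Quotient.lift_surjective_of_surjective _ _ hπ₀
    have h2 : ∀ a ∈ Ideal.span (s' : Set (R ⧸ Ideal.span {(p' : R)})), π₁ a = 0 := by
      have hle : Ideal.span (s' : Set (R ⧸ Ideal.span {(p' : R)})) ≤ RingHom.ker π₁ := by
        rw [Ideal.span_le, ← hrange']
        rintro _ ⟨i, rfl⟩
        rw [SetLike.mem_coe, RingHom.mem_ker, ← hx i, hπ₁def, Ideal.Quotient.lift_mk, hπ₀def,
          RingHom.comp_apply]
        have : Ideal.Quotient.mk Jx (x i) = 0 :=
          Ideal.Quotient.eq_zero_iff_mem.2 (hJx ▸ Ideal.subset_span ⟨i, rfl⟩)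
        rw [this, map_zero]
      exact fun a ha => hle ha
    have hπ₂ : Function.Surjective (Ideal.Quotient.lift _ π₁ h2) :=
      Ideal.Quotient.lift_surjective_of_surjective _ _ hπ₁
    haveI : IsArtinianRing ((R ⧸ Ideal.span {(p' : R)}) ⧸
        Ideal.span (s' : Set (R ⧸ Ideal.span {(p' : R)}))) :=
      IsLocalRing.quotient_artinian_of_mem_minimalPrimes_of_isLocalRing _ hs'min
    haveI : IsArtinianRing ((R ⧸ Jx) ⧸ qB) := hπ₂.isArtinianRing
    letI : Algebra Λ ((R ⧸ Jx) ⧸ qB) := ((Ideal.Quotient.mk qB).comp wA).toAlgebra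
    haveI : Module.Finite Λ (((R ⧸ Jx) ⧸ qB) ⧸ maximalIdeal ((R ⧸ Jx) ⧸ qB)) := by
      apply Module.Finite.of_surjective (Algebra.linearMap Λ _)
      intro z
      obtain ⟨z', rfl⟩ := Ideal.Quotient.mk_surjective z
      obtain ⟨r, rfl⟩ := hπ₀ z'
      obtain ⟨a, ha⟩ := residue_surjective (e.symm (residue R r))
      refine ⟨a, ?_⟩
      rw [Algebra.linearMap_apply]
      have h3 : algebraMap Λ (((R ⧸ Jx) ⧸ qB) ⧸ maximalIdeal ((R ⧸ Jx) ⧸ qB)) a =
          Ideal.Quotient.mk _ (π₀ (v a)) := by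
        have h4 : wA a = Ideal.Quotient.mk Jx (v a) := by rw [hwA]; rfl
        show Ideal.Quotient.mk _ (Ideal.Quotient.mk qB (wA a)) = _
        rw [h4, hπ₀def]; rfl
      rw [h3, Ideal.Quotient.eq, ← map_sub]
      apply map_mem_maximalIdeal_of_surjective π₀ hπ₀
      rw [← residue_eq_zero_iff, map_sub, hvres, ha, RingEquiv.apply_symm_apply, sub_self]
    have hFL : IsFiniteLength ((R ⧸ Jx) ⧸ qB) ((R ⧸ Jx) ⧸ qB) :=
      (isArtinianRing_iff_isFiniteLength _).1 inferInstance
    exact Groth.Agent.S2460.finite_of_isFiniteLength Λ _ _ hFL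
  -- Step B
  have hmapB : (Ideal.span (Set.range
      (MvPowerSeries.X : Fin n → MvPowerSeries (Fin n) Λ))).map w = Jx := by
    rw [Ideal.map_span, ← Set.range_comp, hJx]
    have : (⇑w ∘ MvPowerSeries.X) = x := funext hwX
    rw [this]
  have hfin : w.Finite := by
    apply finite_of_nakayama w (Ideal.span (Set.range MvPowerSeries.X))
      (by rw [hmapB]; exact hJxm)
    rw [hmapB]
    apply RingHom.Finite.of_comp_finite (f := (MvPowerSeries.C : Λ →+* MvPowerSeries (Fin n) Λ))
    have : ((Ideal.Quotient.mk Jx).comp w).comp MvPowerSeries.C = wA := by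
      rw [hwA]
      ext a
      simp only [RingHom.comp_apply, hwC]
    rw [this]; exact hfinA
  have hinj : Function.Injective w := by
    rw [RingHom.injective_iff_ker_eq_bot]
    by_contra hne
    obtain ⟨f, hf, hf0⟩ := Submodule.exists_mem_ne_zero_of_ne_bot hne
    have hfnz : f ∈ nonZeroDivisors (MvPowerSeries (Fin n) Λ) :=
      mem_nonZeroDivisors_of_ne_zero hf0
    have h1 := ringKrullDim_quotient_succ_le_of_nonZeroDivisor hfnz
    have hkill : ∀ a ∈ Ideal.span {f}, w a = 0 := by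
      intro a ha
      have hle : Ideal.span {f} ≤ RingHom.ker w := (Ideal.span_singleton_le_iff_mem _).2 hf
      exact hle ha
    have hvint : (Ideal.Quotient.lift (Ideal.span {f}) w hkill).IsIntegral :=
      RingHom.IsIntegral.tower_top (Ideal.Quotient.mk (Ideal.span {f})) _
        (by rw [Ideal.Quotient.lift_comp_mk]; exact hfin.to_isIntegral)
    have h2 := Groth.Agent.S2460.dim_le_of_isIntegral _ hvint
    have h3 := dim_mvps_le (p' : Λ) hmΛ n
    have hpnz : (p' : R) ∈ nonZeroDivisors R := mem_nonZeroDivisors_of_ne_zero hp0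
    have h4 := ringKrullDim_quotient_succ_le_of_nonZeroDivisor hpnz
    have h5 : ((n : ℕ) : WithBot ℕ∞) = ringKrullDim (R ⧸ Ideal.span {(p' : R)}) := by
      rw [← IsLocalRing.maximalIdeal_height_eq_ringKrullDim, ← hs'card, hn]
      rfl
    have h6 : ((n : ℕ) : WithBot ℕ∞) + 1 + 1 ≤ ((n + 1 : ℕ) : WithBot ℕ∞) := by
      calc ((n : ℕ) : WithBot ℕ∞) + 1 + 1
          ≤ ringKrullDim R + 1 := by
            rw [h5]
            gcongr
        _ ≤ ringKrullDim (MvPowerSeries (Fin n) Λ ⧸ Ideal.span {f}) + 1 := by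
            gcongr
        _ ≤ ringKrullDim (MvPowerSeries (Fin n) Λ) := h1
        _ ≤ _ := h3
    have h7 : n + 1 + 1 ≤ n + 1 := by exact_mod_cast h6
    omega
  have hsurj : Function.Surjective ((residue R).comp w) := by
    intro a
    obtain ⟨b, hb⟩ := residue_surjective (e.symm a)
    refine ⟨MvPowerSeries.C b, ?_⟩
    rw [RingHom.comp_apply, hwC, hvres, hb, RingEquiv.apply_symm_apply]
  exact ⟨Λ, i1, n, w, ⟨hdom, hdvr, hcompl, p', hp', hmΛ⟩, hinj, hfin, hsurj⟩

/-- Equal characteristic Cohen normalization, from a coefficient field. -/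
theorem equal_aux {k₀ R : Type u} [Field k₀] [CommRing R] [IsDomain R] [IsLocalRing R]
    [IsNoetherianRing R] [IsAdicComplete (maximalIdeal R) R] [Algebra k₀ R]
    (hbij : Function.Surjective ((residue R).comp (algebraMap k₀ R))) :
    ∃ (n : ℕ) (f : MvPowerSeries (Fin n) k₀ →+* R), Function.Injective f ∧ f.Finite ∧
      Function.Surjective ((residue R).comp f) := by
  haveI : Module.Finite k₀ (ResidueField R) := by
    apply Module.Finite.of_surjective (Algebra.linearMap k₀ (ResidueField R))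
    intro a
    obtain ⟨c, hc⟩ := hbij a
    exact ⟨c, hc⟩
  obtain ⟨n, w, h1, -, h3⟩ := Groth.Agent.S2460.result (k₀ := k₀) (A := R)
  refine ⟨n, w.toRingHom, h1, h3, ?_⟩
  intro a
  obtain ⟨c, hc⟩ := hbij a
  refine ⟨MvPowerSeries.C c, ?_⟩
  have : w.toRingHom (MvPowerSeries.C c) = algebraMap k₀ R c := by
    have := w.commutes c
    rwa [MvPowerSeries.algebraMap_apply] at this
  rw [RingHom.comp_apply, this]
  exact hc

/-- **Cohen normalization.** -/
theorem main (R : Type u) [CommRing R] [IsDomain R] [IsLocalRing R] [IsNoetherianRing R]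
    [IsAdicComplete (maximalIdeal R) R] :
    ∃ (Λ : Type u) (_ : CommRing Λ) (n : ℕ) (f : MvPowerSeries (Fin n) Λ →+* R),
      (IsField Λ ∨ CAlg.IsCohenRing Λ) ∧ Function.Injective f ∧ f.Finite ∧
        Function.Surjective ((residue R).comp f) := by
  obtain ⟨q, hq⟩ := CharP.exists R
  rcases CharP.char_is_prime_or_zero R q with hqp | hq0
  · haveI : Fact q.Prime := ⟨hqp⟩
    letI : Algebra (ULift.{u} (ZMod q)) R :=
      ((ZMod.castHom (dvd_refl q) R).comp
        (ULift.ringEquiv : ULift.{u} (ZMod q) ≃+* ZMod q).toRingHom).toAlgebra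
    obtain ⟨σ, hσ⟩ := Groth.Agent.H27.CoeffSection.exists_section R (ULift.{u} (ZMod q))
    letI : Algebra (ResidueField R) R := σ.toAlgebra
    obtain ⟨n, f, h1, h2, h3⟩ := equal_aux (k₀ := ResidueField R) (R := R)
      (fun a => ⟨a, hσ a⟩)
    exact ⟨ResidueField R, inferInstance, n, f, Or.inl (Field.toIsField _), h1, h2, h3⟩
  · subst hq0
    haveI : CharZero R := CharP.charP_to_charZero R
    obtain ⟨p, hpK⟩ := CharP.exists (ResidueField R)
    rcases CharP.char_is_prime_or_zero (ResidueField R) p with hpp | hp0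
    · obtain ⟨Λ, i1, n, f, hC, h1, h2, h3⟩ := mixed R p hpp
      exact ⟨Λ, i1, n, f, Or.inr hC, h1, h2, h3⟩
    · subst hp0
      haveI : CharZero (ResidueField R) := CharP.charP_to_charZero _
      obtain ⟨σ, hσ⟩ := CohenStruct.lift_residue (W := ResidueField R) (C := R)
        (RingHom.id _) (fun n => lp_of_field _ _)
      letI : Algebra (ResidueField R) R := σ.toAlgebra
      obtain ⟨n, f, h1, h2, h3⟩ := equal_aux (k₀ := ResidueField R) (R := R)
        (fun a => ⟨a, RingHom.congr_fun hσ a⟩)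
      exact ⟨ResidueField R, inferInstance, n, f, Or.inl (Field.toIsField _), h1, h2, h3⟩

end Groth.Agent.Helper12.CohenNorm
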