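import Mathlib
import Groth.Agent.Lib.Helper12.CohenStruct
import Groth.Prelude.Def_EGA41

/-!
# Artinian local rings which are quotients of Cohen rings
-/

set_option autoImplicit false

universe u

open IsLocalRing

namespace Groth.Agent.Helper12.CohenQuot

open Groth.Agent.H27.CohenLift

theorem main {A : Type u} [CommRing A] [IsLocalRing A] [IsArtinianRing A]
    (p : ℕ) [hchar : CharP (ResidueField A) p] :
    (∃ (W : Type u) (_ : CommRing W) (I : Ideal W), EGA41.IsCohenRingEGA W ∧
      Nonempty (A ≃+* W ⧸ I)) ↔ maximalIdeal A = Ideal.span {(p : A)} := by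
  constructor
  · rintro ⟨W, iW, I, hW, ⟨e⟩⟩
    have hI : I ≠ ⊤ := by
      intro h
      haveI : Subsingleton (W ⧸ I) := Ideal.Quotient.subsingleton_iff.2 h
      exact not_subsingleton A e.toEquiv.subsingleton
    rcases hW with ⟨hF, hcz⟩ | hC
    · letI := hF.toField
      have hI0 : I = ⊥ := (Ideal.eq_bot_or_top I).resolve_right hI
      subst hI0
      have e' : A ≃+* W := e.trans (RingEquiv.quotientBot W)
      have hFA : IsField A := MulEquiv.isField hF e'.toMulEquiv
      have hm0 : maximalIdeal A = ⊥ := IsLocalRing.isField_iff_maximalIdeal_eq.1 hFA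
      haveI : CharZero A := e'.toRingHom.charZero
      haveI : CharZero (ResidueField A) := by
        refine ⟨fun a b hab => ?_⟩
        have h1 : residue A ((a : A) - (b : A)) = 0 := by
          rw [map_sub, map_natCast, map_natCast, hab, sub_self]
        have h2 : (a : A) - (b : A) ∈ maximalIdeal A := (residue_eq_zero_iff _).1 h1
        rw [hm0, Ideal.mem_bot, sub_eq_zero] at h2
        exact Nat.cast_injective h2
      have hp0 : p = 0 := CharP.eq (ResidueField A) hchar (CharP.ofCharZero _)
      rw [hm0, hp0, Nat.cast_zero]
      exact (Ideal.span_singleton_eq_bot.2 rfl).symm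
    · obtain ⟨hdom, hdvr, hcompl, p', hp', hm⟩ := hC
      obtain ⟨π, hπdef⟩ : ∃ π : W →+* A, π = e.symm.toRingHom.comp (Ideal.Quotient.mk I) :=
        ⟨_, rfl⟩
      have hπ : Function.Surjective π := by
        rw [hπdef]; exact e.symm.surjective.comp Ideal.Quotient.mk_surjective
      have hker : RingHom.ker π ≤ maximalIdeal W := by
        apply IsLocalRing.le_maximalIdeal
        intro h
        have : (1 : W) ∈ RingHom.ker π := by rw [h]; exact Submodule.mem_top
        rw [RingHom.mem_ker, map_one] at this
        exact one_ne_zero this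
      have hmax : ((maximalIdeal W).map π).IsMaximal :=
        Ideal.IsMaximal.map_of_surjective_of_ker_le hπ hker
      have hmA : maximalIdeal A = Ideal.span {(p' : A)} := by
        rw [← IsLocalRing.eq_maximalIdeal hmax, hm, Ideal.map_span, Set.image_singleton,
          map_natCast]
      have hp'A : (p' : A) ∈ maximalIdeal A := by
        rw [hmA]; exact Ideal.mem_span_singleton_self _
      have h3 : ((p' : ℕ) : ResidueField A) = 0 := by
        rw [← map_natCast (residue A), residue_eq_zero_iff]; exact hp'A
      have h4 : p ∣ p' := (CharP.cast_eq_zero_iff (ResidueField A) p p').1 h3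
      rcases CharP.char_is_prime_or_zero (ResidueField A) p with hpp | hp0
      · have : p = p' := (Nat.prime_dvd_prime_iff_eq hpp hp').1 h4
        rw [this]; exact hmA
      · exfalso
        rw [hp0, zero_dvd_iff] at h4
        exact hp'.ne_zero h4
  · intro hm
    rcases CharP.char_is_prime_or_zero (ResidueField A) p with hpp | hp0
    · haveI : Fact p.Prime := ⟨hpp⟩
      obtain ⟨Λ, i1, i2, hC, ⟨e⟩⟩ := CohenExist.exists_cohen p (ResidueField A)
      obtain ⟨hdom, hdvr, hcompl, p', hp', hmΛ⟩ := hC
      have hp'p : p' = p := by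
        have h1 : ((p' : Λ)) ∈ maximalIdeal Λ := by
          rw [hmΛ]; exact Ideal.mem_span_singleton_self _
        have h2 : residue Λ (p' : Λ) = 0 := (residue_eq_zero_iff _).2 h1
        have h3 : ((p' : ℕ) : ResidueField A) = 0 := by
          have := congrArg e h2
          rwa [map_natCast, map_natCast, map_zero] at this
        have h4 : p ∣ p' := (CharP.cast_eq_zero_iff (ResidueField A) p p').1 h3
        exact ((Nat.prime_dvd_prime_iff_eq hpp hp').1 h4).symm
      subst hp'p
      have hqR : (p' : A) ∈ maximalIdeal A := by
        rw [hm]; exact Ideal.mem_span_singleton_self _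
      have H : ∀ n, LP Λ (A ⧸ maximalIdeal A ^ n) := by
        intro n
        refine lp_of_cohen p' hp' hmΛ _ n ?_
        rw [← map_natCast (Ideal.Quotient.mk (maximalIdeal A ^ n)), ← map_pow,
          Ideal.Quotient.eq_zero_iff_mem]
        exact Ideal.pow_mem_pow hqR n
      obtain ⟨v, hv⟩ := CohenStruct.lift_residue (e.toRingHom.comp (residue Λ)) H
      haveI : IsPrecomplete (maximalIdeal Λ) Λ := hcompl.toIsPrecomplete
      have hvs : Function.Surjective v := by
        apply CohenStruct.surjective_of_adic v (maximalIdeal Λ) (maximalIdeal A)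
        · rw [hmΛ, Ideal.map_span, Set.image_singleton, map_natCast, hm]
        · intro r
          obtain ⟨a, ha⟩ := residue_surjective (e.symm (residue A r))
          refine ⟨a, ?_⟩
          rw [← Ideal.Quotient.eq]
          have h1 : Ideal.Quotient.mk (maximalIdeal A) (v a) = e (residue Λ a) :=
            RingHom.congr_fun hv a
          rw [h1, ha, RingEquiv.apply_symm_apply]
          rfl
      exact ⟨Λ, i1, RingHom.ker v, Or.inr ⟨hdom, hdvr, hcompl, p', hp', hmΛ⟩,
        ⟨(RingHom.quotientKerEquivOfSurjective hvs).symm⟩⟩
    · subst hp0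
      rw [Nat.cast_zero, Ideal.span_singleton_eq_bot.2 rfl] at hm
      have hFA : IsField A := IsLocalRing.isField_iff_maximalIdeal_eq.2 hm
      haveI : CharZero (ResidueField A) := CharP.charP_to_charZero _
      haveI : CharZero A := (residue A).charZero
      exact ⟨A, inferInstance, ⊥, Or.inl ⟨hFA, inferInstance⟩, ⟨(RingEquiv.quotientBot A).symm⟩⟩

end Groth.Agent.Helper12.CohenQuot
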