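import Mathlib

set_option autoImplicit false
universe u

namespace Groth.Agent.Helper12

/-- `Coh R M`: every finite module injecting into `M` is finitely presented. -/
def Coh (R : Type u) [CommRing R] (M : Type u) [AddCommGroup M] [Module R M] : Prop :=
  ∀ (K : Type u) [AddCommGroup K] [Module R K] (ι : K →ₗ[R] M), Function.Injective ι →
    Module.Finite R K → Module.FinitePresentation R K

theorem coh_self (R : Type u) [CommRing R]
    (hR : ∀ I : Ideal R, I.FG → Module.FinitePresentation R I) : Coh R R := by
  intro K _ _ ι hι hK
  have hfg : (LinearMap.range ι).FG := by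
    rw [LinearMap.range_eq_map]
    exact Submodule.FG.map _ Module.Finite.fg_top
  have : Module.FinitePresentation R (LinearMap.range ι) := hR _ hfg
  exact Module.FinitePresentation.of_equiv (LinearEquiv.ofInjective ι hι).symm

theorem coh_of_subsingleton (R : Type u) [CommRing R] (M : Type u) [AddCommGroup M] [Module R M]
    [Subsingleton M] : Coh R M := by
  intro K _ _ ι hι hK
  have : Subsingleton K := hι.subsingleton
  infer_instance

theorem coh_ext {R : Type u} [CommRing R] {M M' M'' : Type u} [AddCommGroup M] [Module R M]
    [AddCommGroup M'] [Module R M'] [AddCommGroup M''] [Module R M'']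
    (π : M →ₗ[R] M'') (τ : M →ₗ[R] M') (hinj : ∀ x, π x = 0 → τ x = 0 → x = 0)
    (h' : Coh R M') (h'' : Coh R M'') : Coh R M := by
  intro K _ _ ι hι hK
  set g : K →ₗ[R] M'' := π ∘ₗ ι with hg
  have hfin : Module.Finite R (LinearMap.range g) := Module.Finite.range g
  have hfp : Module.FinitePresentation R (LinearMap.range g) :=
    h'' _ (LinearMap.range g).subtype (Submodule.injective_subtype _) hfin
  have hsurj : Function.Surjective g.rangeRestrict := LinearMap.surjective_rangeRestrict g
  have hker : (LinearMap.ker g.rangeRestrict).FG :=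
    Module.FinitePresentation.fg_ker g.rangeRestrict hsurj
  have hkfin : Module.Finite R (LinearMap.ker g.rangeRestrict) := Module.Finite.iff_fg.mpr hker
  have hkfp : Module.FinitePresentation R (LinearMap.ker g.rangeRestrict) := by
    refine h' _ (τ ∘ₗ ι ∘ₗ (LinearMap.ker g.rangeRestrict).subtype) ?_ hkfin
    rw [injective_iff_map_eq_zero]
    intro x hx
    have h1 : g.rangeRestrict x.1 = 0 := x.2
    have h2 : π (ι x.1) = 0 := by
      have := congrArg Subtype.val h1
      exact this
    have h3 : ι x.1 = 0 := hinj _ h2 hx
    exact Subtype.ext (hι (h3.trans (map_zero ι).symm))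
  exact Module.finitePresentation_of_ker g.rangeRestrict hsurj

theorem coh_pi_fin (R : Type u) [CommRing R] (hR : Coh R R) : ∀ n : ℕ, Coh R (Fin n → R)
  | 0 => coh_of_subsingleton R _
  | n + 1 => by
    refine coh_ext (LinearMap.proj 0) (LinearMap.funLeft R R Fin.succ) ?_ (coh_pi_fin R hR n) hR
    intro x h1 h2
    funext i
    refine Fin.cases h1 (fun j => ?_) i
    exact congrFun h2 j

theorem fp_of_fg_submodule_of_fp (R : Type u) [CommRing R]
    (hR : ∀ I : Ideal R, I.FG → Module.FinitePresentation R I) (M : Type u) [AddCommGroup M]
    [Module R M] [Module.FinitePresentation R M] (N : Submodule R M) (hN : N.FG) :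
    Module.FinitePresentation R N := by
  obtain ⟨n, m, p, g, hp, hex⟩ := Module.FinitePresentation.exists_fin' R M
  have hcoh := coh_pi_fin R (coh_self R hR) n
  have hkerfg : (LinearMap.ker p).FG := by
    rw [LinearMap.exact_iff.mp hex, LinearMap.range_eq_map]
    exact Submodule.FG.map _ Module.Finite.fg_top
  set N' : Submodule R (Fin n → R) := N.comap p with hN'
  have hN'fg : N'.FG := by
    apply Submodule.fg_of_fg_map_of_fg_inf_ker p
    · rw [hN', Submodule.map_comap_eq_of_surjective hp]; exact hN
    · have : N' ⊓ LinearMap.ker p = LinearMap.ker p := by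
        rw [inf_eq_right, hN']
        exact LinearMap.ker_le_comap p
      rw [this]; exact hkerfg
  have hN'fp : Module.FinitePresentation R N' :=
    hcoh _ N'.subtype (Submodule.injective_subtype _) (Module.Finite.iff_fg.mpr hN'fg)
  set l : N' →ₗ[R] N := p.restrict (fun x hx => hx) with hl
  have hlsurj : Function.Surjective l := by
    rintro ⟨y, hy⟩
    obtain ⟨x, rfl⟩ := hp y
    exact ⟨⟨x, hy⟩, rfl⟩
  have hle : LinearMap.ker p ≤ N' := LinearMap.ker_le_comap p
  have hlker : (LinearMap.ker l).FG := by
    have : LinearMap.ker l = LinearMap.range (Submodule.inclusion hle) := by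
      ext x
      constructor
      · intro hx
        have hx' : p x.1 = 0 := by
          have := congrArg Subtype.val (LinearMap.mem_ker.mp hx)
          simpa [hl] using this
        exact ⟨⟨x.1, hx'⟩, Subtype.ext rfl⟩
      · rintro ⟨⟨y, hy⟩, rfl⟩
        rw [LinearMap.mem_ker]
        apply Subtype.ext
        simpa [hl] using hy
    rw [this, LinearMap.range_eq_map]
    have : Module.Finite R (LinearMap.ker p) := Module.Finite.iff_fg.mpr hkerfg
    exact Submodule.FG.map _ Module.Finite.fg_top
  exact Module.finitePresentation_of_surjective l hlsurj hlker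

end Groth.Agent.Helper12

namespace Groth.Agent.Helper12

theorem coh_of_injective {R : Type u} [CommRing R] {M M' : Type u} [AddCommGroup M] [Module R M]
    [AddCommGroup M'] [Module R M'] (j : M' →ₗ[R] M) (hj : Function.Injective j) (h : Coh R M) :
    Coh R M' := by
  intro K _ _ ι hι hK
  exact h K (j ∘ₗ ι) (hj.comp hι) hK

theorem coh_of_submodules {R : Type u} [CommRing R] {M : Type u} [AddCommGroup M] [Module R M]
    (h : ∀ N : Submodule R M, N.FG → Module.FinitePresentation R N) : Coh R M := by
  intro K _ _ ι hι hK
  have hfg : (LinearMap.range ι).FG := by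
    rw [LinearMap.range_eq_map]
    exact Submodule.FG.map _ Module.Finite.fg_top
  have : Module.FinitePresentation R (LinearMap.range ι) := h _ hfg
  exact Module.FinitePresentation.of_equiv (LinearEquiv.ofInjective ι hι).symm

theorem Coh.submodule {R : Type u} [CommRing R] {M : Type u} [AddCommGroup M] [Module R M]
    (h : Coh R M) (N : Submodule R M) (hN : N.FG) : Module.FinitePresentation R N :=
  h N N.subtype (Submodule.injective_subtype _) (Module.Finite.iff_fg.mpr hN)

theorem coh_ext' {R : Type u} [CommRing R] {M M'' : Type u} [AddCommGroup M] [Module R M]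
    [AddCommGroup M''] [Module R M'']
    (π : M →ₗ[R] M'') (h' : Coh R (LinearMap.ker π)) (h'' : Coh R M'') : Coh R M := by
  intro K _ _ ι hι hK
  set g : K →ₗ[R] M'' := π ∘ₗ ι with hg
  have hfin : Module.Finite R (LinearMap.range g) := Module.Finite.range g
  have hfp : Module.FinitePresentation R (LinearMap.range g) :=
    h'' _ (LinearMap.range g).subtype (Submodule.injective_subtype _) hfin
  have hsurj : Function.Surjective g.rangeRestrict := LinearMap.surjective_rangeRestrict g
  have hker : (LinearMap.ker g.rangeRestrict).FG :=
    Module.FinitePresentation.fg_ker g.rangeRestrict hsurj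
  have hkfin : Module.Finite R (LinearMap.ker g.rangeRestrict) := Module.Finite.iff_fg.mpr hker
  have hmem : ∀ x : LinearMap.ker g.rangeRestrict, ι x.1 ∈ LinearMap.ker π := by
    intro x
    have h1 : g.rangeRestrict x.1 = 0 := x.2
    have := congrArg Subtype.val h1
    exact this
  have hkfp : Module.FinitePresentation R (LinearMap.ker g.rangeRestrict) := by
    refine h' _ ((ι ∘ₗ (LinearMap.ker g.rangeRestrict).subtype).codRestrict (LinearMap.ker π) hmem)
      ?_ hkfin
    rw [injective_iff_map_eq_zero]
    intro x hx
    have h3 : ι x.1 = 0 := congrArg Subtype.val hx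
    exact Subtype.ext (hι (h3.trans (map_zero ι).symm))
  exact Module.finitePresentation_of_ker g.rangeRestrict hsurj

end Groth.Agent.Helper12
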