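import Mathlib

/-! Counting composition factors with a given annihilator via localization. -/

namespace Groth.Agent.Helper12.CompCount

variable {R : Type*} [CommRing R] {M : Type*} [AddCommGroup M] [Module R M]

theorem subsingleton_loc (S : Submonoid R) (Q : Type*) [AddCommGroup Q] [Module R Q] (t : R)
    (ht : t ∈ S) (hkill : ∀ q : Q, t • q = 0) : Subsingleton (LocalizedModule S Q) := by
  have h0 : ∀ z : LocalizedModule S Q, z = 0 := by
    intro z
    refine LocalizedModule.induction_on (fun q s => ?_) z
    rw [← LocalizedModule.zero_mk s, LocalizedModule.mk_eq]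
    refine ⟨⟨t, ht⟩, ?_⟩
    rw [smul_zero, smul_zero, smul_comm]
    have : (⟨t, ht⟩ : S) • q = 0 := hkill q
    rw [this, smul_zero]
  exact ⟨fun x y => by rw [h0 x, h0 y]⟩

theorem simple_loc (S : Submonoid R) (Q : Type*) [AddCommGroup Q] [Module R Q]
    [IsSimpleModule R Q]
    (hinj : ∀ (s : R), s ∈ S → ∀ q : Q, s • q = 0 → q = 0) :
    IsSimpleModule (Localization S) (LocalizedModule S Q) := by
  rw [isSimpleModule_iff]
  haveI : Nontrivial Q := IsSimpleModule.nontrivial R Q
  haveI : Nontrivial (LocalizedModule S Q) := by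
    obtain ⟨q, hq⟩ := exists_ne (0 : Q)
    refine ⟨⟨LocalizedModule.mk q 1, 0, ?_⟩⟩
    intro h
    rw [← LocalizedModule.zero_mk (1 : S), LocalizedModule.mk_eq] at h
    obtain ⟨u, hu⟩ := h
    apply hq
    apply hinj u.1 u.2
    rw [one_smul, one_smul, smul_zero] at hu
    exact hu
  refine ⟨fun W => ?_⟩
  obtain ⟨W', hW'⟩ : ∃ W' : Submodule R Q,
      W' = (W.restrictScalars R).comap (LocalizedModule.mkLinearMap S Q) := ⟨_, rfl⟩
  have hmemW' : ∀ q : Q, q ∈ W' ↔ LocalizedModule.mk q (1 : S) ∈ W := by
    intro q
    rw [hW']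
    rfl
  rcases eq_bot_or_eq_top W' with h | h
  · left
    rw [eq_bot_iff]
    intro w
    refine LocalizedModule.induction_on (fun q s hw => ?_) w
    have h1 : LocalizedModule.mk q (1 : S) ∈ W := by
      have h2 : LocalizedModule.mk q (1 : S) =
          Localization.mk (s : R) (1 : S) • LocalizedModule.mk q s := by
        rw [LocalizedModule.mk_smul_mk, one_mul]
        exact (LocalizedModule.mk_cancel s q).symm
      rw [h2]
      exact W.smul_mem _ hw
    have h2 : q ∈ W' := (hmemW' q).mpr h1
    rw [h] at h2
    have h3 : q = 0 := (Submodule.mem_bot R).mp h2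
    rw [h3, LocalizedModule.zero_mk]
    exact Submodule.zero_mem _
  · right
    rw [eq_top_iff]
    intro w _
    refine LocalizedModule.induction_on (fun q s => ?_) w
    have h1 : q ∈ W' := by rw [h]; trivial
    have h2 : LocalizedModule.mk q (1 : S) ∈ W := (hmemW' q).mp h1
    have h3 : LocalizedModule.mk q s =
        Localization.mk (1 : R) s • LocalizedModule.mk q (1 : S) := by
      rw [LocalizedModule.mk_smul_mk, one_smul, mul_one]
    rw [h3]
    exact W.smul_mem _ h2

theorem colon_eq_annihilator (N P : Submodule R M) :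
    N.colon (P : Set M) = Module.annihilator R (↥P ⧸ Submodule.comap P.subtype N) := by
  ext r
  rw [Submodule.mem_colon, Module.mem_annihilator]
  constructor
  · intro h q
    obtain ⟨x, rfl⟩ := Submodule.Quotient.mk_surjective _ q
    rw [← Submodule.Quotient.mk_smul, Submodule.Quotient.mk_eq_zero, Submodule.mem_comap]
    exact h x.1 x.2
  · intro h p hp
    have := h (Submodule.Quotient.mk ⟨p, hp⟩)
    rw [← Submodule.Quotient.mk_smul, Submodule.Quotient.mk_eq_zero, Submodule.mem_comap] at this
    exact this

theorem length_loc_quot (m : Ideal R) [hm : m.IsMaximal] {N P : Submodule R M} (h : N ⋖ P) :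
    Module.length (Localization.AtPrime m)
      (LocalizedModule m.primeCompl (↥P ⧸ Submodule.comap P.subtype N)) =
      if N.colon (P : Set M) = m then 1 else 0 := by
  haveI hs : IsSimpleModule R (↥P ⧸ Submodule.comap P.subtype N) :=
    (covBy_iff_quot_is_simple h.le).mp h
  have hmax := IsSimpleModule.annihilator_isMaximal (R := R)
    (M := ↥P ⧸ Submodule.comap P.subtype N)
  rw [colon_eq_annihilator]
  split_ifs with hc
  · rw [Module.length_eq_one_iff]
    refine simple_loc m.primeCompl _ ?_
    intro s hs q hq
    by_contra hq0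
    have : s ∈ Module.annihilator R (↥P ⧸ Submodule.comap P.subtype N) := by
      rw [Module.mem_annihilator]
      intro q'
      obtain ⟨c, rfl⟩ := IsSimpleModule.toSpanSingleton_surjective R hq0 q'
      rw [LinearMap.toSpanSingleton_apply, smul_comm, hq, smul_zero]
    rw [hc] at this
    exact hs this
  · rw [Module.length_eq_zero_iff]
    have hnle : ¬ Module.annihilator R (↥P ⧸ Submodule.comap P.subtype N) ≤ m := fun hle =>
      hc (hmax.eq_of_le hm.ne_top hle)
    obtain ⟨t, ht, htm⟩ := SetLike.not_le_iff_exists.mp hnle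
    exact subsingleton_loc m.primeCompl _ t htm (fun q => Module.mem_annihilator.mp ht q)

theorem length_loc_add (S : Submonoid R) {N P : Submodule R M} (h : N ≤ P) :
    Module.length (Localization S) (LocalizedModule S ↥P) =
      Module.length (Localization S) (LocalizedModule S ↥N) +
      Module.length (Localization S)
        (LocalizedModule S (↥P ⧸ Submodule.comap P.subtype N)) := by
  refine Module.length_eq_add_of_exact (LocalizedModule.map S (Submodule.inclusion h))
    (LocalizedModule.map S (Submodule.comap P.subtype N).mkQ)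
    (LocalizedModule.map_injective S _ (Submodule.inclusion_injective h))
    (LocalizedModule.map_surjective S _ (Submodule.mkQ_surjective _)) ?_
  refine LocalizedModule.map_exact S _ _ ?_
  rw [LinearMap.exact_iff, Submodule.ker_mkQ, Submodule.range_inclusion]

theorem length_chain (m : Ideal R) [m.IsMaximal] (T : ℕ → Submodule R M) (h0 : T 0 = ⊥) :
    ∀ n : ℕ, (∀ j < n, T j ⋖ T (j+1)) →
    Module.length (Localization.AtPrime m) (LocalizedModule m.primeCompl ↥(T n)) =
      (((Finset.range n).filter (fun j => (T j).colon (T (j+1) : Set M) = m)).card : ℕ∞) := by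
  classical
  intro n
  induction n with
  | zero =>
    intro _
    rw [Finset.range_zero, Finset.filter_empty, Finset.card_empty, Nat.cast_zero,
      Module.length_eq_zero_iff]
    haveI : Subsingleton ↥(T 0) := by rw [h0]; infer_instance
    exact subsingleton_loc m.primeCompl _ 1 (Submonoid.one_mem _)
      (fun q => Subsingleton.elim _ _)
  | succ n ih =>
    intro hstep
    have hcov := hstep n (Nat.lt_succ_self n)
    have h1 := length_loc_add m.primeCompl hcov.le
    have h2 := ih (fun j hj => hstep j (Nat.lt_succ_of_lt hj))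
    have h3 := length_loc_quot m hcov
    rw [Finset.range_add_one, Finset.filter_insert]
    split_ifs with hc
    · rw [if_pos hc] at h3
      rw [Finset.card_insert_of_notMem (by simp), Nat.cast_add, Nat.cast_one]
      rw [← h2, ← h3]
      exact h1
    · rw [if_neg hc] at h3
      rw [← h2]
      rw [h3, add_zero] at h1
      exact h1

theorem main (s : CompositionSeries (Submodule R M)) (h0 : s.head = ⊥) (h1 : s.last = ⊤)
    (m : Ideal R) [m.IsMaximal] :
    ((Finset.univ.filter fun i : Fin s.length =>
      (s i.castSucc).colon (s i.succ : Set M) = m).card : ℕ∞) =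
      Module.length (Localization.AtPrime m) (LocalizedModule m.primeCompl M) := by
  classical
  obtain ⟨T, hT⟩ : ∃ T : ℕ → Submodule R M,
      T = fun j => s.toFun ⟨min j s.length, by omega⟩ := ⟨_, rfl⟩
  have hT0 : T 0 = ⊥ := by
    rw [← h0, hT]
    exact congrArg s.toFun (Fin.ext (Nat.zero_min _))
  have hTn : T s.length = ⊤ := by
    rw [← h1, hT]
    exact congrArg s.toFun (Fin.ext (Nat.min_self _))
  have hTj : ∀ j (hj : j < s.length), T j = s.toFun (Fin.castSucc ⟨j, hj⟩) ∧
      T (j+1) = s.toFun (Fin.succ ⟨j, hj⟩) := by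
    intro j hj
    rw [hT]
    exact ⟨congrArg s.toFun (Fin.ext (Nat.min_eq_left hj.le)),
      congrArg s.toFun (Fin.ext (Nat.min_eq_left (Nat.succ_le_of_lt hj)))⟩
  have hstep : ∀ j < s.length, T j ⋖ T (j+1) := by
    intro j hj
    rw [(hTj j hj).1, (hTj j hj).2]
    exact s.step ⟨j, hj⟩
  have hcard : ((Finset.range s.length).filter
      (fun j => (T j).colon (T (j+1) : Set M) = m)).card =
      (Finset.univ.filter fun i : Fin s.length =>
        (s i.castSucc).colon (s i.succ : Set M) = m).card := by
    symm
    refine Finset.card_bij (fun i _ => i.val) ?_ ?_ ?_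
    · intro i hi
      rw [Finset.mem_filter] at hi ⊢
      refine ⟨Finset.mem_range.mpr i.isLt, ?_⟩
      rw [(hTj i.val i.isLt).1, (hTj i.val i.isLt).2]
      exact hi.2
    · intro i _ i' _ h
      exact Fin.ext h
    · intro j hj
      rw [Finset.mem_filter, Finset.mem_range] at hj
      obtain ⟨hjlt, hjc⟩ := hj
      refine ⟨⟨j, hjlt⟩, ?_, rfl⟩
      rw [Finset.mem_filter]
      refine ⟨Finset.mem_univ _, ?_⟩
      rw [(hTj j hjlt).1, (hTj j hjlt).2] at hjc
      exact hjc
  have hmain := length_chain m T hT0 s.length hstep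
  rw [hcard] at hmain
  rw [← hmain]
  have e : ↥(T s.length) ≃ₗ[R] M := (LinearEquiv.ofEq _ _ hTn).trans Submodule.topEquiv
  exact (IsLocalizedModule.mapEquiv m.primeCompl (LocalizedModule.mkLinearMap _ _)
    (LocalizedModule.mkLinearMap _ _) (Localization.AtPrime m) e).length_eq

end Groth.Agent.Helper12.CompCount
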