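import Mathlib

/-!
# Isomorphic adic completions from isomorphic truncations

If `f : A → B` maps `𝔞^n` into `𝔟^n` and induces bijections `A/𝔞^n → B/𝔟^n` for all `n`, then the
adic completions are isomorphic.
-/

set_option autoImplicit false

namespace Groth.Agent.Helper12.ComplEquiv

open AdicCompletion

variable {R₀ A B : Type*} [CommRing R₀] [CommRing A] [CommRing B] [Algebra R₀ A] [Algebra R₀ B]

lemma smodEq_iff (𝔞 : Ideal A) (n : ℕ) (x y : A) :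
    x ≡ y [SMOD (𝔞 ^ n • ⊤ : Submodule A A)] ↔ x - y ∈ 𝔞 ^ n := by
  rw [SModEq.sub_mem, smul_eq_mul, Ideal.mul_top]

theorem nonempty_equiv (𝔞 : Ideal A) (𝔟 : Ideal B) (f : A →ₐ[R₀] B)
    (h1 : ∀ n, 𝔞 ^ n ≤ (𝔟 ^ n).comap f)
    (h2 : ∀ n a, f a ∈ 𝔟 ^ n → a ∈ 𝔞 ^ n)
    (h3 : ∀ n b, ∃ a, b - f a ∈ 𝔟 ^ n) :
    Nonempty (AdicCompletion 𝔞 A ≃ₐ[R₀] AdicCompletion 𝔟 B) := by
  classical
  let g : (n : ℕ) → AdicCompletion 𝔞 A →ₐ[R₀] B ⧸ 𝔟 ^ n := fun n =>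
    (Ideal.quotientMapₐ (𝔟 ^ n) f (h1 n)).comp ((evalₐ 𝔞 n).restrictScalars R₀)
  have hg : ∀ n (s : AdicCauchySequence 𝔞 A),
      g n (AdicCompletion.mk 𝔞 A s) = Ideal.Quotient.mk (𝔟 ^ n) (f (s.1 n)) := by
    intro n s
    show Ideal.quotientMapₐ (𝔟 ^ n) f (h1 n) (evalₐ 𝔞 n (AdicCompletion.mk 𝔞 A s)) = _
    rw [evalₐ_mk]
    rfl
  have hcompat : ∀ {m n : ℕ} (hle : m ≤ n),
      (Ideal.Quotient.factorₐ R₀ (Ideal.pow_le_pow_right hle)).comp (g n) = g m := by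
    intro m n hle
    refine AlgHom.ext (fun x => ?_)
    obtain ⟨s, rfl⟩ := AdicCompletion.mk_surjective 𝔞 A x
    rw [AlgHom.comp_apply, hg, hg]
    change Ideal.Quotient.mk (𝔟 ^ m) (f (s.1 n)) = Ideal.Quotient.mk (𝔟 ^ m) (f (s.1 m))
    rw [Ideal.Quotient.eq]
    have h4 : s.1 n - s.1 m ∈ 𝔞 ^ m := by
      have := (s.2 hle).symm
      rwa [smodEq_iff] at this
    have h5 := h1 m h4
    rwa [Ideal.mem_comap, map_sub] at h5
  let F : AdicCompletion 𝔞 A →ₐ[R₀] AdicCompletion 𝔟 B := AdicCompletion.liftAlgHom 𝔟 g hcompat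
  have hF : ∀ n x, evalₐ 𝔟 n (F x) = g n x := fun n x => evalₐ_liftAlgHom 𝔟 g hcompat n x
  refine ⟨AlgEquiv.ofBijective F ⟨?_, ?_⟩⟩
  · rw [injective_iff_map_eq_zero]
    intro x hx
    obtain ⟨s, rfl⟩ := AdicCompletion.mk_surjective 𝔞 A x
    apply ext_evalₐ
    intro n
    have h0 : g n (AdicCompletion.mk 𝔞 A s) = 0 := by rw [← hF, hx, _root_.map_zero]
    rw [hg, Ideal.Quotient.eq_zero_iff_mem] at h0
    rw [evalₐ_mk, _root_.map_zero, Ideal.Quotient.eq_zero_iff_mem]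
    exact h2 n _ h0
  · intro y
    obtain ⟨t, rfl⟩ := AdicCompletion.mk_surjective 𝔟 B y
    choose a ha using fun n => h3 n (t.1 n)
    have hcau : ∀ n, a n ≡ a (n + 1) [SMOD (𝔞 ^ n • ⊤ : Submodule A A)] := by
      intro n
      rw [smodEq_iff]
      apply h2
      have e : f (a n - a (n + 1)) =
          (t.1 (n + 1) - f (a (n + 1))) - (t.1 n - f (a n)) - (t.1 (n + 1) - t.1 n) := by
        rw [map_sub]; ring
      rw [e]
      have ht : t.1 (n + 1) - t.1 n ∈ 𝔟 ^ n := by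
        have := (t.2 (Nat.le_succ n)).symm
        rwa [smodEq_iff] at this
      exact Ideal.sub_mem _ (Ideal.sub_mem _
        (Ideal.pow_le_pow_right (Nat.le_succ n) (ha (n + 1))) (ha n)) ht
    refine ⟨AdicCompletion.mk 𝔞 A (AdicCauchySequence.mk 𝔞 A a hcau), ?_⟩
    apply ext_evalₐ
    intro n
    rw [hF, hg, evalₐ_mk, Ideal.Quotient.eq]
    have h6 := ha n
    rw [← neg_mem_iff, neg_sub] at h6
    exact h6

end Groth.Agent.Helper12.ComplEquiv
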