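import Mathlib
import Groth.Prelude.Def_FSch3
import Groth.Agent.S19474
import Groth.Agent.Lib.Helper4.FlatSep
import Groth.Agent.Lib.Helper12.CAwayQuot

/-!
# The completion of a flat map of Noetherian rings is flat (helper12, for S4347)

`complMap_flat`: for Noetherian rings `B`, `C`, a flat ring map `g : B → C` and ideals `I`, `K`
with `I C ⊆ K`, the induced map of adic completions `B^ → C^` is flat.  Uses helper4's local
criterion of flatness for ideally separated modules (`FlatSep`) and helper1's Noetherianity of
adic completions (`S19474`).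
-/

set_option autoImplicit false
universe u
open TensorProduct

namespace Groth.Agent.Helper12.ComplFlat

section LemmaT

variable (B : Type u) {R : Type u} [CommRing B] [CommRing R] [Algebra B R] (𝔎 : Ideal R)
  (M : Type u) [AddCommGroup M] [Module R M] [Module B M] [IsScalarTower B R M]

/-- the map `m ↦ 1 ⊗ m` as a `B`-linear map -/
noncomputable def f₁ : M →ₗ[B] (R ⧸ 𝔎) ⊗[R] M :=
  ((TensorProduct.mk R (R ⧸ 𝔎) M) 1).restrictScalars B

/-- If `B → R/𝔎` is surjective and `𝔎` is extended from `B`, then `R/𝔎 ⊗_R M` is the base change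
of the `B`-module `M` along `B → R/𝔎`. -/
theorem isBaseChange_quot
    (ha : ∀ r : R, ∃ b : B, r - algebraMap B R b ∈ 𝔎)
    (hb : 𝔎 ≤ (𝔎.comap (algebraMap B R)).map (algebraMap B R)) :
    IsBaseChange (R ⧸ 𝔎) (f₁ B 𝔎 M) := by
  apply IsBaseChange.of_lift_unique
  intro Q _ _ _ _ g
  letI : Module R Q := Module.compHom Q (algebraMap R (R ⧸ 𝔎))
  haveI : IsScalarTower R (R ⧸ 𝔎) Q := IsScalarTower.of_algebraMap_smul fun _ _ => rfl
  have hk : ∀ k ∈ (𝔎.comap (algebraMap B R)).map (algebraMap B R), ∀ m : M, g (k • m) = 0 := by
    intro k hk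
    refine Submodule.span_induction (p := fun k _ => ∀ m : M, g (k • m) = 0) ?_ ?_ ?_ ?_ hk
    · rintro _ ⟨i, hi, rfl⟩ m
      have h0 : algebraMap B (R ⧸ 𝔎) i = 0 := by
        rw [IsScalarTower.algebraMap_apply B R (R ⧸ 𝔎), Ideal.Quotient.algebraMap_eq,
          Ideal.Quotient.eq_zero_iff_mem]
        exact hi
      rw [algebraMap_smul R i m, map_smul, ← algebraMap_smul (R ⧸ 𝔎) i (g m), h0, zero_smul]
    · intro m; rw [zero_smul, map_zero]
    · intro x y _ _ hx hy m; rw [add_smul, map_add, hx, hy, add_zero]
    · intro a x _ hx m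
      rw [smul_eq_mul, mul_comm, mul_smul]
      exact hx _
  let gR : M →ₗ[R] Q :=
    { toFun := g
      map_add' := g.map_add
      map_smul' := by
        intro r m
        obtain ⟨b, hb'⟩ := ha r
        have h1 : r • m = (r - algebraMap B R b) • m + b • m := by
          rw [sub_smul, algebraMap_smul R b m, sub_add_cancel]
        have h2 : Ideal.Quotient.mk 𝔎 r = algebraMap B (R ⧸ 𝔎) b := by
          rw [IsScalarTower.algebraMap_apply B R (R ⧸ 𝔎), Ideal.Quotient.algebraMap_eq,
            Ideal.Quotient.eq]
          exact hb'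
        rw [RingHom.id_apply, h1, map_add, hk _ (hb hb') m, zero_add, map_smul]
        show b • g m = (Ideal.Quotient.mk 𝔎 r) • g m
        rw [h2, algebraMap_smul] }
  refine ⟨LinearMap.liftBaseChange (R ⧸ 𝔎) gR, ?_, ?_⟩
  · ext m
    simp [f₁, gR]
  · intro g'' hg''
    apply LinearMap.ext
    intro x
    induction x using TensorProduct.induction_on with
    | zero => simp
    | tmul r m =>
      have e1 : r ⊗ₜ[R] m = r • ((1 : R ⧸ 𝔎) ⊗ₜ[R] m) := by
        rw [TensorProduct.smul_tmul', smul_eq_mul, mul_one]
      have e2 : g'' ((1 : R ⧸ 𝔎) ⊗ₜ[R] m) = g m := by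
        have := LinearMap.congr_fun hg'' m
        simpa [f₁] using this
      rw [e1, map_smul, map_smul, e2]
      simp [gR]
    | add x y hx hy => rw [map_add, map_add, hx, hy]

end LemmaT

/-- Krull: finite modules over a Noetherian `R`-algebra `S` are `𝔎`-adically separated when
`𝔎 S` lies in the Jacobson radical. -/
theorem isHausdorff_tensor {R S : Type u} [CommRing R] [CommRing S] [Algebra R S]
    [IsNoetherianRing S] (𝔎 : Ideal R) (hjac : 𝔎.map (algebraMap R S) ≤ Ideal.jacobson ⊥)
    (N : Type u) [AddCommGroup N] [Module R N] [Module.Finite R N] :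
    IsHausdorff 𝔎 (N ⊗[R] S) := by
  have hH : IsHausdorff (𝔎.map (algebraMap R S)) (S ⊗[R] N) :=
    IsHausdorff.of_le_jacobson _ _ hjac
  refine ⟨fun x hx => ?_⟩
  have key : ∀ n : ℕ, ∀ z ∈ (𝔎 ^ n • ⊤ : Submodule R (N ⊗[R] S)),
      (TensorProduct.comm R N S) z ∈
        ((𝔎.map (algebraMap R S)) ^ n • ⊤ : Submodule S (S ⊗[R] N)) := by
    intro n z hz
    refine Submodule.smul_induction_on hz ?_ ?_
    · intro r hr w _
      rw [map_smul, ← algebraMap_smul S r ((TensorProduct.comm R N S) w)]
      apply Submodule.smul_mem_smul _ Submodule.mem_top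
      rw [← Ideal.map_pow]
      exact Ideal.mem_map_of_mem _ hr
    · intro a b ha hb
      rw [map_add]
      exact Submodule.add_mem _ ha hb
  have h0 : (TensorProduct.comm R N S) x = 0 := by
    apply hH.haus
    intro n
    rw [SModEq.zero]
    apply key n
    have := hx n
    rwa [SModEq.zero] at this
  exact (TensorProduct.comm R N S).injective (h0.trans (map_zero _).symm)

theorem complMap_flat {B C : Type u} [CommRing B] [CommRing C] [IsNoetherianRing B]
    [IsNoetherianRing C] (I : Ideal B) (K : Ideal C) (g : B →+* C) (h : I.map g ≤ K)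
    (hg : g.Flat) : (FSch.complMap I K g h).Flat := by
  letI : Algebra B C := g.toAlgebra
  haveI : Module.Flat B C := hg
  letI : Algebra (AdicCompletion I B) (AdicCompletion K C) := (FSch.complMap I K g h).toAlgebra
  show Module.Flat (AdicCompletion I B) (AdicCompletion K C)
  haveI : IsNoetherianRing (AdicCompletion I B) :=
    Groth.Agent.S19474.isNoetherianRing_adicCompletion B I
  haveI : IsNoetherianRing (AdicCompletion K C) :=
    Groth.Agent.S19474.isNoetherianRing_adicCompletion C K
  haveI : IsScalarTower B C (AdicCompletion K C) := IsScalarTower.of_algebraMap_eq fun b => rfl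
  haveI : Module.Flat B (AdicCompletion K C) := Module.Flat.trans B C (AdicCompletion K C)
  have hof : ∀ b : B, (FSch.complMap I K g h) (AdicCompletion.of I B b) =
      AdicCompletion.of K C (g b) := by
    intro b
    apply AdicCompletion.ext_evalₐ
    intro n
    unfold FSch.complMap
    generalize_proofs hp hq
    rw [AdicCompletion.evalₐ_liftRingHom, AdicCompletion.evalₐ_of]
    · simp
    · first | exact @hq | exact @hp | assumption
  haveI : IsScalarTower B (AdicCompletion I B) (AdicCompletion K C) :=
    IsScalarTower.of_algebraMap_eq fun b => (hof b).symm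
  set 𝔎 : Ideal (AdicCompletion I B) := I.map (algebraMap B (AdicCompletion I B)) with h𝔎
  have fgI : I.FG := IsNoetherian.noetherian I
  have fgK : K.FG := IsNoetherian.noetherian K
  have hjac : 𝔎.map (algebraMap (AdicCompletion I B) (AdicCompletion K C)) ≤
      Ideal.jacobson ⊥ := by
    haveI := AdicCompletion.isAdicComplete_self K fgK
    refine le_trans ?_
      (IsAdicComplete.le_jacobson_bot (K.map (algebraMap C (AdicCompletion K C))))
    rw [h𝔎, Ideal.map_map, ← IsScalarTower.algebraMap_eq,
      IsScalarTower.algebraMap_eq B C (AdicCompletion K C), ← Ideal.map_map]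
    exact Ideal.map_mono h
  apply Groth.Agent.Helper4.flat_of_flat_mod_pow_of_isHausdorff 𝔎 (AdicCompletion K C)
  · intro a
    exact isHausdorff_tensor 𝔎 hjac a
  · intro n _
    have hbc : IsBaseChange (AdicCompletion I B ⧸ 𝔎 ^ n) (f₁ B (𝔎 ^ n) (AdicCompletion K C)) := by
      apply isBaseChange_quot
      · intro r
        obtain ⟨b, hb⟩ := Ideal.Quotient.mk_surjective (AdicCompletion.evalₐ I n r)
        refine ⟨b, ?_⟩
        have hker := CAwayQuot.ker_evalₐ I fgI n
        rw [h𝔎, ← Ideal.map_pow, ← hker, RingHom.mem_ker]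
        show AdicCompletion.evalₐ I n (r - AdicCompletion.of I B b) = 0
        rw [map_sub, AdicCompletion.evalₐ_of, hb, sub_self]
      · rw [h𝔎, ← Ideal.map_pow]
        exact Ideal.map_mono Ideal.le_comap_map
    exact Module.Flat.isBaseChange B (AdicCompletion I B ⧸ 𝔎 ^ n) (AdicCompletion K C) _ hbc

theorem main (A : Type u) [CommRing A] [IsNoetherianRing A] (J : Ideal A) (S' S : Submonoid A)
    (hS : S' ≤ S) (g : Localization S' →+* Localization S)
    (hg : g.comp (algebraMap A (Localization S')) = algebraMap A (Localization S))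
    (hJ : (J.map (algebraMap A (Localization S'))).map g ≤ J.map (algebraMap A (Localization S))) :
    (FSch.complMap (J.map (algebraMap A (Localization S'))) (J.map (algebraMap A (Localization S)))
      g hJ).Flat := by
  apply complMap_flat
  letI : Algebra (Localization S') (Localization S) := g.toAlgebra
  haveI : IsScalarTower A (Localization S') (Localization S) :=
    IsScalarTower.of_algebraMap_eq fun a => (RingHom.congr_fun hg a).symm
  haveI : IsLocalization (S.map (algebraMap A (Localization S'))) (Localization S) :=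
    IsLocalization.isLocalization_of_submonoid_le (Localization S') (Localization S) S' S hS
  exact IsLocalization.flat (Localization S) (S.map (algebraMap A (Localization S')))

end Groth.Agent.Helper12.ComplFlat
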