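import Mathlib

set_option autoImplicit false
universe u

open TensorProduct

namespace Groth.Agent.Helper12

/-- Equational consequence of universal injectivity. -/
theorem exists_solution_of_univInj {R : Type u} [CommRing R] {A B : Type u}
    [AddCommGroup A] [Module R A] [AddCommGroup B] [Module R B] (ι : A →ₗ[R] B)
    (hι : ∀ (Q : Type u) [AddCommGroup Q] [Module R Q], Function.Injective (ι.rTensor Q))
    {m n : ℕ} (a : Fin m → Fin n → R) (b : Fin m → A) (y : Fin n → B)
    (hy : ∀ k, ι (b k) = ∑ j, a k j • y j) :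
    ∃ c : Fin n → A, ∀ k, b k = ∑ j, a k j • c j := by
  classical
  let r : Fin n → (Fin m → R) := fun j k => a k j
  let K : Submodule R (Fin m → R) := Submodule.span R (Set.range r)
  let e : Fin m → (Fin m → R) ⧸ K := fun k => K.mkQ (Pi.single k 1)
  have he : ∀ v : Fin m → R, K.mkQ v = ∑ k, v k • e k := by
    intro v
    simp only [e, ← map_smul, ← map_sum]
    congr 1
    funext k'
    simp [Finset.sum_apply, Pi.single_apply]
  have hespan : Submodule.span R (Set.range e) = ⊤ := by
    rw [eq_top_iff]
    rintro x -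
    obtain ⟨v, rfl⟩ := K.mkQ_surjective x
    rw [he v]
    exact Submodule.sum_mem _ fun k _ => Submodule.smul_mem _ _ (Submodule.subset_span ⟨k, rfl⟩)
  have hr : ∀ j, ∑ k, a k j • e k = 0 := by
    intro j
    have := he (r j)
    rw [← this]
    exact (Submodule.Quotient.mk_eq_zero K).mpr (Submodule.subset_span ⟨j, rfl⟩)
  have ht : ι.rTensor _ (∑ k, b k ⊗ₜ[R] e k) = 0 := by
    rw [map_sum]
    simp only [LinearMap.rTensor_tmul, hy, TensorProduct.sum_tmul, TensorProduct.smul_tmul]
    rw [Finset.sum_comm]
    simp only [← TensorProduct.tmul_sum, hr, TensorProduct.tmul_zero, Finset.sum_const_zero]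
  have ht0 : ∑ k, b k ⊗ₜ[R] e k = 0 := hι _ (ht.trans (map_zero _).symm)
  have ht1 : ∑ k, e k ⊗ₜ[R] b k = 0 := by
    have := congrArg (TensorProduct.comm R A _) ht0
    simpa using this
  obtain ⟨κ, α, z, hz, hα⟩ := vanishesTrivially_of_sum_tmul_eq_zero R hespan ht1
  have hmem : ∀ l : Fin κ, (fun k => α k l) ∈ K := by
    intro l
    have h1 := he (fun k => α k l)
    rw [hα l] at h1
    exact (Submodule.Quotient.mk_eq_zero K).mp h1
  have hβ : ∀ l : Fin κ, ∃ β : Fin n → R, ∑ j, β j • r j = fun k => α k l := fun l =>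
    (Submodule.mem_span_range_iff_exists_fun R).mp (hmem l)
  choose β hβ using hβ
  refine ⟨fun j => ∑ l, β l j • z l, fun k => ?_⟩
  rw [hz k]
  have h2 : ∀ l, α k l = ∑ j, β l j * a k j := by
    intro l
    have := congrFun (hβ l) k
    simp only [Finset.sum_apply, Pi.smul_apply, smul_eq_mul, r] at this
    exact this.symm
  simp_rw [h2, Finset.sum_smul, Finset.smul_sum]
  rw [Finset.sum_comm]
  refine Finset.sum_congr rfl fun j _ => Finset.sum_congr rfl fun l _ => ?_
  rw [← mul_smul, mul_comm]

/-- A universally injective map with finitely presented cokernel admits a retraction. -/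
theorem exists_retraction_of_univInj {R : Type u} [CommRing R] {A B C : Type u}
    [AddCommGroup A] [Module R A] [AddCommGroup B] [Module R B] [AddCommGroup C] [Module R C]
    [Module.FinitePresentation R C] (ι : A →ₗ[R] B) (π : B →ₗ[R] C)
    (hι : ∀ (Q : Type u) [AddCommGroup Q] [Module R Q], Function.Injective (ι.rTensor Q))
    (hπ : Function.Surjective π) (hex : Function.Exact ι π) :
    ∃ r : B →ₗ[R] A, r ∘ₗ ι = LinearMap.id := by
  classical
  have hinj : Function.Injective ι := by
    have h1 := hι R
    intro x x' hxx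
    have h2 : ι.rTensor R (x ⊗ₜ[R] (1 : R)) = ι.rTensor R (x' ⊗ₜ[R] (1 : R)) := by
      simp [hxx]
    have h3 := h1 h2
    have h4 := congrArg (TensorProduct.rid R A) h3
    simpa using h4
  obtain ⟨n, m, p, Amat, hp, hAp⟩ := Module.FinitePresentation.exists_fin' R C
  let a : Fin m → Fin n → R := fun k j => Amat (Pi.single k 1) j
  have hA : ∀ k, Amat (Pi.single k 1) = ∑ j, a k j • (Pi.single j (1 : R) : Fin n → R) := by
    intro k
    funext j'
    simp [a, Finset.sum_apply, Pi.single_apply]
  choose y hy using fun j : Fin n => hπ (p (Pi.single j 1))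
  let pt : (Fin n → R) →ₗ[R] B := Fintype.linearCombination R y
  have hpt : π ∘ₗ pt = p := by
    apply LinearMap.pi_ext'
    intro j
    ext
    simp [pt, Fintype.linearCombination_apply, hy]
  have hb : ∀ k : Fin m, ∃ b : A, ι b = pt (Amat (Pi.single k 1)) := by
    intro k
    apply (hex _).mp
    rw [← LinearMap.comp_apply, hpt]
    exact hAp.apply_apply_eq_zero _
  choose b hb using hb
  have hby : ∀ k, ι (b k) = ∑ j, a k j • y j := by
    intro k
    rw [hb k, hA k, map_sum]
    refine Finset.sum_congr rfl fun j _ => ?_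
    rw [map_smul]
    simp [pt, Fintype.linearCombination_apply]
  obtain ⟨c, hc⟩ := exists_solution_of_univInj ι hι a b y hby
  let pt' : (Fin n → R) →ₗ[R] B := Fintype.linearCombination R (fun j => y j - ι (c j))
  have hpt'A : pt' ∘ₗ Amat = 0 := by
    apply LinearMap.pi_ext'
    intro k
    ext
    simp only [LinearMap.coe_comp, Function.comp_apply, LinearMap.coe_single, LinearMap.zero_apply]
    rw [hA k, map_sum]
    have : ∀ j, pt' (a k j • (Pi.single j (1 : R) : Fin n → R)) = a k j • y j - ι (a k j • c j) := by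
      intro j
      rw [map_smul, map_smul, ← smul_sub]
      simp [pt', Fintype.linearCombination_apply]
    simp_rw [this]
    rw [Finset.sum_sub_distrib, ← map_sum, ← hc k, hby k, sub_self]
  have hker : LinearMap.ker p ≤ LinearMap.ker pt' := by
    intro v hv
    obtain ⟨w, rfl⟩ := (hAp v).mp hv
    rw [LinearMap.mem_ker, ← LinearMap.comp_apply, hpt'A, LinearMap.zero_apply]
  let s : C →ₗ[R] B := (LinearMap.ker p).liftQ pt' hker ∘ₗ
    (p.quotKerEquivOfSurjective hp).symm.toLinearMap
  have hs : ∀ v, s (p v) = pt' v := by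
    intro v
    have : (p.quotKerEquivOfSurjective hp).symm (p v) = (LinearMap.ker p).mkQ v := by
      rw [LinearEquiv.symm_apply_eq]
      rfl
    simp only [s, LinearMap.coe_comp, Function.comp_apply, LinearEquiv.coe_coe, this,
      Submodule.mkQ_apply, Submodule.liftQ_apply]
  have hπι : ∀ x, π (ι x) = 0 := fun x => hex.apply_apply_eq_zero x
  have hπs : ∀ x, π (s x) = x := by
    intro x
    obtain ⟨v, rfl⟩ := hp x
    rw [hs v, ← hpt]
    have : pt' v = pt v - ι (Fintype.linearCombination R c v) := by
      simp only [pt', pt, Fintype.linearCombination_apply, map_sum, map_smul, smul_sub,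
        Finset.sum_sub_distrib]
    rw [this, map_sub, hπι, sub_zero]
    rfl
  have hmem : ∀ x : B, x - s (π x) ∈ LinearMap.range ι := by
    intro x
    apply (hex _).mp
    rw [map_sub, hπs, sub_self]
  let r : B →ₗ[R] A := (LinearEquiv.ofInjective ι hinj).symm.toLinearMap ∘ₗ
    (LinearMap.id - s ∘ₗ π).codRestrict (LinearMap.range ι) hmem
  refine ⟨r, ?_⟩
  ext x
  simp only [r, LinearMap.coe_comp, Function.comp_apply, LinearEquiv.coe_coe, LinearMap.id_apply]
  rw [LinearEquiv.symm_apply_eq]
  apply Subtype.ext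
  simp [hπι]

end Groth.Agent.Helper12
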