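import Mathlib

set_option autoImplicit false
universe u

open TensorProduct

namespace Groth.Agent.Helper12

section

variable {R : Type*} [CommRing R] {M N M' : Type*}
  [AddCommGroup M] [Module R M] [AddCommGroup N] [Module R N] [AddCommGroup M'] [Module R M']

/-- the canonical map `M' → M' ⊔_M N` into the pushout `(M' × N) / {(g x, - f x)}`. -/
noncomputable abbrev pushoutInl (f : M →ₗ[R] N) (g : M →ₗ[R] M') :
    M' →ₗ[R] (M' × N) ⧸ LinearMap.range (g.prod (-f)) :=
  (LinearMap.range (g.prod (-f))).mkQ ∘ₗ LinearMap.inl R M' N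

/-- the canonical map `N → M' ⊔_M N`. -/
noncomputable abbrev pushoutInr (f : M →ₗ[R] N) (g : M →ₗ[R] M') :
    N →ₗ[R] (M' × N) ⧸ LinearMap.range (g.prod (-f)) :=
  (LinearMap.range (g.prod (-f))).mkQ ∘ₗ LinearMap.inr R M' N

theorem pushout_comm (f : M →ₗ[R] N) (g : M →ₗ[R] M') :
    pushoutInl f g ∘ₗ g = pushoutInr f g ∘ₗ f := by
  ext x
  simp only [LinearMap.coe_comp, Function.comp_apply, LinearMap.inl_apply, LinearMap.inr_apply,
    Submodule.mkQ_apply]
  rw [← sub_eq_zero, ← Submodule.Quotient.mk_sub, Submodule.Quotient.mk_eq_zero]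
  exact ⟨x, by simp⟩

theorem ker_pushoutInl_rTensor (f : M →ₗ[R] N) (g : M →ₗ[R] M')
    (Q : Type*) [AddCommGroup Q] [Module R Q] :
    LinearMap.ker ((pushoutInl f g).rTensor Q) =
      Submodule.map (g.rTensor Q) (LinearMap.ker (f.rTensor Q)) := by
  apply le_antisymm
  · intro y hy
    rw [LinearMap.mem_ker, LinearMap.rTensor_comp, LinearMap.comp_apply] at hy
    have hex : Function.Exact ((g.prod (-f)).rTensor Q)
        ((LinearMap.range (g.prod (-f))).mkQ.rTensor Q) :=
      rTensor_exact Q (LinearMap.exact_map_mkQ_range (g.prod (-f)))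
        (Submodule.mkQ_surjective _)
    obtain ⟨z, hz⟩ := (hex _).mp hy
    have h1 := congrArg ((LinearMap.fst R M' N).rTensor Q) hz
    have h2 := congrArg ((LinearMap.snd R M' N).rTensor Q) hz
    rw [← LinearMap.comp_apply, ← LinearMap.rTensor_comp, ← LinearMap.comp_apply,
      ← LinearMap.rTensor_comp] at h1 h2
    have e1 : LinearMap.fst R M' N ∘ₗ g.prod (-f) = g := by ext; simp
    have e2 : LinearMap.fst R M' N ∘ₗ LinearMap.inl R M' N = LinearMap.id := by ext; simp
    have e3 : LinearMap.snd R M' N ∘ₗ g.prod (-f) = -f := by ext; simp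
    have e4 : LinearMap.snd R M' N ∘ₗ LinearMap.inl R M' N = 0 := by ext; simp
    rw [e1, e2, LinearMap.rTensor_id, LinearMap.id_apply] at h1
    rw [e3, e4, LinearMap.rTensor_zero, LinearMap.zero_apply, LinearMap.rTensor_neg,
      LinearMap.neg_apply, neg_eq_zero] at h2
    exact ⟨z, h2, h1⟩
  · rintro _ ⟨z, hz, rfl⟩
    rw [LinearMap.mem_ker, ← LinearMap.comp_apply, ← LinearMap.rTensor_comp, pushout_comm,
      LinearMap.rTensor_comp, LinearMap.comp_apply, LinearMap.mem_ker.mp hz, map_zero]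

theorem dominates_iff_pushoutInl_injective (f : M →ₗ[R] N) (g : M →ₗ[R] M')
    (Q : Type*) [AddCommGroup Q] [Module R Q] :
    LinearMap.ker (f.rTensor Q) ≤ LinearMap.ker (g.rTensor Q) ↔
      Function.Injective ((pushoutInl f g).rTensor Q) := by
  rw [← LinearMap.ker_eq_bot, ker_pushoutInl_rTensor, eq_bot_iff, Submodule.map_le_iff_le_comap,
    Submodule.comap_bot]
end

end Groth.Agent.Helper12
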