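import Mathlib
import Groth.Agent.Lib.Helper12.Pushout
import Groth.Agent.Lib.Helper12.PureSplit

set_option autoImplicit false
universe u

open TensorProduct

namespace Groth.Agent.Helper12

/-- If `coker f` is finitely presented and `g` dominates `f`, then `g` factors through `f`. -/
theorem factors_of_dominates {R : Type u} [CommRing R] {M N M' : Type u}
    [AddCommGroup M] [Module R M] [AddCommGroup N] [Module R N] [AddCommGroup M'] [Module R M']
    (f : M →ₗ[R] N) (g : M →ₗ[R] M') [Module.FinitePresentation R (N ⧸ LinearMap.range f)]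
    (h : ∀ (Q : Type u) [AddCommGroup Q] [Module R Q],
      LinearMap.ker (f.rTensor Q) ≤ LinearMap.ker (g.rTensor Q)) :
    ∃ h : N →ₗ[R] M', g = h ∘ₗ f := by
  classical
  set K : Submodule R (M' × N) := LinearMap.range (g.prod (-f)) with hKdef
  have hι' : ∀ (Q : Type u) [AddCommGroup Q] [Module R Q],
      Function.Injective ((pushoutInl f g).rTensor Q) := fun Q _ _ =>
    (dominates_iff_pushoutInl_injective f g Q).mp (h Q)
  have hK : K ≤ LinearMap.ker ((LinearMap.range f).mkQ ∘ₗ LinearMap.snd R M' N) := by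
    rintro _ ⟨x, rfl⟩
    rw [LinearMap.mem_ker]
    simp only [LinearMap.coe_comp, Function.comp_apply, LinearMap.prod_apply,
      LinearMap.snd_apply, LinearMap.neg_apply, Submodule.mkQ_apply]
    exact (Submodule.Quotient.mk_eq_zero _).mpr (Submodule.neg_mem _ ⟨x, rfl⟩)
  let π : (M' × N) ⧸ K →ₗ[R] N ⧸ LinearMap.range f :=
    K.liftQ ((LinearMap.range f).mkQ ∘ₗ LinearMap.snd R M' N) hK
  have hπmk : ∀ (m' : M') (n : N), π (K.mkQ (m', n)) = (LinearMap.range f).mkQ n := by
    intro m' n
    rfl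
  have hπ : Function.Surjective π := by
    intro c
    obtain ⟨n, rfl⟩ := (LinearMap.range f).mkQ_surjective c
    exact ⟨K.mkQ (0, n), hπmk 0 n⟩
  have hex : Function.Exact (pushoutInl f g) π := by
    intro z
    constructor
    · intro hz
      obtain ⟨⟨m', n⟩, rfl⟩ := K.mkQ_surjective z
      rw [hπmk] at hz
      have hn : n ∈ LinearMap.range f := (Submodule.Quotient.mk_eq_zero _).mp hz
      obtain ⟨x, rfl⟩ := hn
      refine ⟨m' + g x, ?_⟩
      show K.mkQ (m' + g x, 0) = K.mkQ (m', f x)
      rw [← sub_eq_zero, ← map_sub]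
      refine (Submodule.Quotient.mk_eq_zero K).mpr ⟨x, ?_⟩
      simp
    · rintro ⟨m', rfl⟩
      show π (K.mkQ (m', 0)) = 0
      rw [hπmk, map_zero]
  obtain ⟨r, hr⟩ := exists_retraction_of_univInj (pushoutInl f g) π hι' hπ hex
  refine ⟨r ∘ₗ pushoutInr f g, ?_⟩
  rw [LinearMap.comp_assoc, ← pushout_comm, ← LinearMap.comp_assoc, hr, LinearMap.id_comp]

end Groth.Agent.Helper12
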