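import Mathlib

set_option autoImplicit false
universe u

open TensorProduct

namespace Groth.Agent.Helper12

/-- Finite-stage lemma: a vanishing sum of pure tensors already vanishes after replacing the left
module by a finitely presented module mapping to it. -/
theorem exists_fp_of_sum_tmul_eq_zero {R : Type u} [CommRing R] {M Q : Type u}
    [AddCommGroup M] [Module R M] [AddCommGroup Q] [Module R Q]
    {k : ℕ} (m : Fin k → M) (q : Fin k → Q) (h : ∑ i, m i ⊗ₜ[R] q i = 0) :
    ∃ (M' : Type u) (_ : AddCommGroup M') (_ : Module R M') (_ : Module.FinitePresentation R M')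
      (φ : M' →ₗ[R] M) (m' : Fin k → M'), (∀ i, φ (m' i) = m i) ∧
        ∑ i, m' i ⊗ₜ[R] q i = 0 := by
  classical
  set N : Submodule R M := Submodule.span R (Set.range m) with hN
  have hNfg : N.FG := Submodule.fg_span (Set.finite_range m)
  let mN : Fin k → N := fun i => ⟨m i, Submodule.subset_span ⟨i, rfl⟩⟩
  have hx : N.subtype.rTensor Q (∑ i, mN i ⊗ₜ[R] q i) = N.subtype.rTensor Q 0 := by
    rw [map_sum, map_zero]
    simpa [mN] using h
  obtain ⟨N', hN'fg, hle, heq⟩ := hNfg.exists_rTensor_fg_inclusion_eq hx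
  obtain ⟨l, s, hs⟩ := Submodule.fg_iff_exists_fin_generating_family.mp hN'fg
  have hsmem : ∀ j, s j ∈ N' := fun j => by rw [← hs]; exact Submodule.subset_span ⟨j, rfl⟩
  let t : Fin k ⊕ Fin l → N' :=
    Sum.elim (fun i => ⟨m i, hle (mN i).2⟩) (fun j => ⟨s j, hsmem j⟩)
  have ht : Submodule.span R (Set.range t) = ⊤ := by
    rw [eq_top_iff]
    rintro ⟨x, hx⟩ -
    have hx' : x ∈ Submodule.span R (Set.range s) := by rw [hs]; exact hx
    have hmap : Submodule.span R (Set.range s) ≤
        Submodule.map N'.subtype (Submodule.span R (Set.range t)) := by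
      rw [Submodule.span_le]
      rintro _ ⟨j, rfl⟩
      exact ⟨t (Sum.inr j), Submodule.subset_span ⟨Sum.inr j, rfl⟩, rfl⟩
    obtain ⟨y, hy, hyx⟩ := hmap hx'
    have : y = ⟨x, hx⟩ := Subtype.ext hyx
    rwa [this] at hy
  let qq : Fin k ⊕ Fin l → Q := Sum.elim q (fun _ => 0)
  have hsum : ∑ i, t i ⊗ₜ[R] qq i = 0 := by
    rw [Fintype.sum_sum_type]
    simp only [t, qq, Sum.elim_inl, Sum.elim_inr, tmul_zero, Finset.sum_const_zero, add_zero]
    rw [map_sum, map_zero] at heq
    simp only [LinearMap.rTensor_tmul] at heq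
    exact heq
  obtain ⟨κ, a, y, hy, ha⟩ := vanishesTrivially_of_sum_tmul_eq_zero R ht hsum
  let G : ((Fin k ⊕ Fin l) → R) →ₗ[R] M := Fintype.linearCombination R (fun i => (t i : M))
  let r : Fin κ → ((Fin k ⊕ Fin l) → R) := fun j i => a i j
  let K : Submodule R ((Fin k ⊕ Fin l) → R) := Submodule.span R (Set.range r)
  have hK : K ≤ LinearMap.ker G := by
    rw [Submodule.span_le]
    rintro _ ⟨j, rfl⟩
    rw [SetLike.mem_coe, LinearMap.mem_ker]
    have := congrArg (N'.subtype) (ha j)
    simpa [G, r, Fintype.linearCombination_apply] using this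
  let e' : Fin k ⊕ Fin l → ((Fin k ⊕ Fin l) → R) ⧸ K := fun i => K.mkQ (Pi.single i 1)
  have hfp : Module.FinitePresentation R (((Fin k ⊕ Fin l) → R) ⧸ K) := by
    refine Module.finitePresentation_of_surjective K.mkQ K.mkQ_surjective ?_
    rw [Submodule.ker_mkQ]
    exact Submodule.fg_span (Set.finite_range r)
  refine ⟨((Fin k ⊕ Fin l) → R) ⧸ K, inferInstance, inferInstance, hfp, K.liftQ G hK,
    fun i => e' (Sum.inl i), ?_, ?_⟩
  · intro i
    simp [e', G, Fintype.linearCombination_apply, t]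
  · have hv : VanishesTrivially R e' qq := by
      refine ⟨κ, a, y, hy, fun j => ?_⟩
      have h1 : ∑ i, a i j • e' i = K.mkQ (r j) := by
        simp only [e', ← map_smul, ← map_sum]
        congr 1
        funext i'
        simp [r, Finset.sum_apply, Pi.single_apply]
      rw [h1]
      exact (Submodule.Quotient.mk_eq_zero K).mpr (Submodule.subset_span ⟨j, rfl⟩)
    have := sum_tmul_eq_zero_of_vanishesTrivially R hv
    rw [Fintype.sum_sum_type] at this
    simpa [qq] using this

theorem exists_fp_of_sum_tmul_eq_zero_right {R : Type u} [CommRing R] {N Q : Type u}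
    [AddCommGroup N] [Module R N] [AddCommGroup Q] [Module R Q]
    {k : ℕ} (n : Fin k → N) (q : Fin k → Q) (h : ∑ i, n i ⊗ₜ[R] q i = 0) :
    ∃ (Q' : Type u) (_ : AddCommGroup Q') (_ : Module R Q') (_ : Module.FinitePresentation R Q')
      (φ : Q' →ₗ[R] Q) (q' : Fin k → Q'), (∀ i, φ (q' i) = q i) ∧
        ∑ i, n i ⊗ₜ[R] q' i = 0 := by
  have h' : ∑ i, q i ⊗ₜ[R] n i = 0 := by
    have := congrArg (TensorProduct.comm R N Q) h
    simpa using this
  obtain ⟨Q', _, _, hfp, φ, q', hq', hs⟩ := exists_fp_of_sum_tmul_eq_zero q n h'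
  refine ⟨Q', _, _, hfp, φ, q', hq', ?_⟩
  have := congrArg (TensorProduct.comm R Q' N) hs
  simpa using this

/-- domination can be tested on finitely presented modules. -/
theorem dominates_of_fp {R : Type u} [CommRing R] {M N M' : Type u}
    [AddCommGroup M] [Module R M] [AddCommGroup N] [Module R N] [AddCommGroup M'] [Module R M']
    (f : M →ₗ[R] N) (g : M →ₗ[R] M')
    (h : ∀ (Q : Type u) [AddCommGroup Q] [Module R Q], Module.FinitePresentation R Q →
      LinearMap.ker (f.rTensor Q) ≤ LinearMap.ker (g.rTensor Q))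
    (Q : Type u) [AddCommGroup Q] [Module R Q] :
    LinearMap.ker (f.rTensor Q) ≤ LinearMap.ker (g.rTensor Q) := by
  intro x hx
  obtain ⟨k, m, q, rfl⟩ := TensorProduct.exists_sum_tmul_eq x
  have h0 : ∑ i, f (m i) ⊗ₜ[R] q i = 0 := by
    simpa [LinearMap.mem_ker] using hx
  obtain ⟨Q', _, _, hfp, φ, q', hq', hs⟩ :=
    exists_fp_of_sum_tmul_eq_zero_right (fun i => f (m i)) q h0
  have h1 : (∑ i, m i ⊗ₜ[R] q' i) ∈ LinearMap.ker (f.rTensor Q') := by
    simpa [LinearMap.mem_ker] using hs
  have h2 := h Q' hfp h1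
  have h3 : g.rTensor Q (∑ i, m i ⊗ₜ[R] q i) =
      φ.lTensor M' (g.rTensor Q' (∑ i, m i ⊗ₜ[R] q' i)) := by
    simp [hq']
  rw [LinearMap.mem_ker, h3, LinearMap.mem_ker.mp h2, map_zero]

/-- factorization through a finitely presented module killing a given element of the kernel. -/
theorem exists_fp_factor {R : Type u} [CommRing R] {P M Q : Type u}
    [AddCommGroup P] [Module R P] [AddCommGroup M] [Module R M]
    [AddCommGroup Q] [Module R Q] [Module.FinitePresentation R P]
    (f : P →ₗ[R] M) (x : P ⊗[R] Q) (hx : f.rTensor Q x = 0) :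
    ∃ (P' : Type u) (_ : AddCommGroup P') (_ : Module R P') (_ : Module.FinitePresentation R P')
      (f' : P →ₗ[R] P') (h : P' →ₗ[R] M), f = h ∘ₗ f' ∧ f'.rTensor Q x = 0 := by
  classical
  obtain ⟨k, p, q, rfl⟩ := TensorProduct.exists_sum_tmul_eq x
  have h0 : ∑ i, f (p i) ⊗ₜ[R] q i = 0 := by
    simpa using hx
  obtain ⟨M₁, _, _, hfp, φ, m', hm', hs⟩ :=
    exists_fp_of_sum_tmul_eq_zero (fun i => f (p i)) q h0
  let v : Fin k → P × M₁ := fun i => (p i, - m' i)
  let K : Submodule R (P × M₁) := Submodule.span R (Set.range v)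
  have hfpP' : Module.FinitePresentation R ((P × M₁) ⧸ K) := by
    refine Module.finitePresentation_of_surjective K.mkQ K.mkQ_surjective ?_
    rw [Submodule.ker_mkQ]
    exact Submodule.fg_span (Set.finite_range v)
  have hK : K ≤ LinearMap.ker (f.coprod φ) := by
    rw [Submodule.span_le]
    rintro _ ⟨i, rfl⟩
    simp [v, hm']
  refine ⟨(P × M₁) ⧸ K, inferInstance, inferInstance, hfpP', K.mkQ ∘ₗ LinearMap.inl R P M₁,
    K.liftQ (f.coprod φ) hK, ?_, ?_⟩
  · ext y
    simp
  · have h1 : ∀ i, K.mkQ (p i, 0) = K.mkQ (0, m' i) := by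
      intro i
      rw [← sub_eq_zero, ← map_sub]
      have : ((p i, 0) : P × M₁) - (0, m' i) = v i := by simp [v]
      rw [this]
      exact (Submodule.Quotient.mk_eq_zero K).mpr (Submodule.subset_span ⟨i, rfl⟩)
    have h2 : ∑ i, K.mkQ (0, m' i) ⊗ₜ[R] q i =
        (K.mkQ ∘ₗ LinearMap.inr R P M₁).rTensor Q (∑ i, m' i ⊗ₜ[R] q i) := by
      simp
    rw [map_sum]
    simp only [LinearMap.rTensor_tmul, LinearMap.coe_comp, Function.comp_apply,
      LinearMap.inl_apply, h1]
    rw [h2, hs, map_zero]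

end Groth.Agent.Helper12
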