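import Mathlib

namespace Groth.Agent.Helper12

open TensorProduct

section

variable {R : Type*} [CommRing R]

/-- with a fixed finite generating family, every tensor is a sum of `s j ⊗ q j`. -/
theorem exists_eq_sum_tmul {M : Type*} [AddCommGroup M] [Module R M]
    {n : ℕ} (s : Fin n → M) (hs : Submodule.span R (Set.range s) = ⊤)
    (Q : Type*) [AddCommGroup Q] [Module R Q] (t : M ⊗[R] Q) :
    ∃ q : Fin n → Q, t = ∑ j, s j ⊗ₜ[R] q j := by
  induction t using TensorProduct.induction_on with
  | zero => exact ⟨0, by simp⟩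
  | tmul m q =>
    have hm : m ∈ Submodule.span R (Set.range s) := by rw [hs]; trivial
    obtain ⟨c, rfl⟩ := (Submodule.mem_span_range_iff_exists_fun R).mp hm
    refine ⟨fun j => c j • q, ?_⟩
    rw [TensorProduct.sum_tmul]
    refine Finset.sum_congr rfl fun j _ => ?_
    rw [TensorProduct.smul_tmul]
  | add x y hx hy =>
    obtain ⟨qx, rfl⟩ := hx
    obtain ⟨qy, rfl⟩ := hy
    refine ⟨qx + qy, ?_⟩
    simp [TensorProduct.tmul_add, Finset.sum_add_distrib]

/-- components of `piRightHom`. -/
theorem piRightHom_apply' {M : Type*} [AddCommGroup M] [Module R M] {ι : Type*}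
    (Q : ι → Type*) [∀ i, AddCommGroup (Q i)] [∀ i, Module R (Q i)]
    (x : M ⊗[R] (∀ i, Q i)) (i : ι) :
    TensorProduct.piRightHom R R M Q x i =
      (LinearMap.proj i : (∀ i, Q i) →ₗ[R] Q i).lTensor M x := by
  induction x using TensorProduct.induction_on with
  | zero => simp
  | tmul m q => rfl
  | add x y hx hy => rw [map_add, map_add, Pi.add_apply, hx, hy]

/-- naturality of `piRightHom` in the left variable. -/
theorem piRightHom_rTensor {M N : Type*} [AddCommGroup M] [Module R M] [AddCommGroup N] [Module R N]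
    (f : M →ₗ[R] N) {ι : Type*}
    (Q : ι → Type*) [∀ i, AddCommGroup (Q i)] [∀ i, Module R (Q i)]
    (x : M ⊗[R] (∀ i, Q i)) (i : ι) :
    TensorProduct.piRightHom R R N Q (f.rTensor _ x) i =
      f.rTensor (Q i) (TensorProduct.piRightHom R R M Q x i) := by
  rw [piRightHom_apply', piRightHom_apply', ← LinearMap.comp_apply, ← LinearMap.comp_apply,
    LinearMap.lTensor_comp_rTensor, LinearMap.rTensor_comp_lTensor]

/-- finite modules: `piRightHom` is surjective. -/
theorem piRightHom_surjective_of_finite (M : Type*) [AddCommGroup M] [Module R M]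
    [Module.Finite R M] {ι : Type*}
    (Q : ι → Type*) [∀ i, AddCommGroup (Q i)] [∀ i, Module R (Q i)] :
    Function.Surjective (TensorProduct.piRightHom R R M Q) := by
  intro y
  obtain ⟨n, s, hs⟩ := Module.Finite.exists_fin (R := R) (M := M)
  choose q hq using fun i => exists_eq_sum_tmul s hs (Q i) (y i)
  refine ⟨∑ j, s j ⊗ₜ[R] (fun i => q i j), ?_⟩
  ext i
  rw [map_sum, Finset.sum_apply, hq i]
  rfl

/-- if `M ⊗ R^M → M^M` is surjective then `M` is finite. -/
theorem finite_of_piRightHom_surjective (M : Type*) [AddCommGroup M] [Module R M]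
    (h : Function.Surjective (TensorProduct.piRightHom R R M (fun _ : M => R))) :
    Module.Finite R M := by
  obtain ⟨x, hx⟩ := h (fun m => m ⊗ₜ[R] (1 : R))
  obtain ⟨S, rfl⟩ := TensorProduct.exists_finset x
  classical
  refine ⟨⟨S.image Prod.fst, ?_⟩⟩
  rw [eq_top_iff]
  intro m _
  have hm := congrFun hx m
  rw [map_sum, Finset.sum_apply] at hm
  have hm' := congrArg (TensorProduct.rid R M) hm
  rw [map_sum] at hm'
  simp only [TensorProduct.piRightHom_tmul, TensorProduct.rid_tmul, one_smul] at hm'
  rw [← hm']
  refine Submodule.sum_mem _ fun i hi => ?_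
  apply Submodule.smul_mem
  apply Submodule.subset_span
  exact Finset.mem_coe.mpr (Finset.mem_image_of_mem _ hi)

/-- the `j`-th coordinate of a tensor in `R^n ⊗ P`. -/
noncomputable def coordTensor (R : Type*) [CommRing R] (n : ℕ) (P : Type*) [AddCommGroup P]
    [Module R P] (j : Fin n) : (Fin n → R) ⊗[R] P →ₗ[R] P :=
  (TensorProduct.lid R P).toLinearMap ∘ₗ (LinearMap.proj j : (Fin n → R) →ₗ[R] R).rTensor P

theorem coordTensor_tmul (n : ℕ) (P : Type*) [AddCommGroup P] [Module R P] (j : Fin n)
    (f : Fin n → R) (p : P) : coordTensor R n P j (f ⊗ₜ p) = f j • p := by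
  simp [coordTensor]

theorem eq_sum_single_tmul_coordTensor (n : ℕ) (P : Type*) [AddCommGroup P] [Module R P]
    (z : (Fin n → R) ⊗[R] P) :
    z = ∑ j, (Pi.single j (1 : R) : Fin n → R) ⊗ₜ[R] coordTensor R n P j z := by
  induction z using TensorProduct.induction_on with
  | zero => simp
  | tmul f p =>
    simp only [coordTensor_tmul]
    simp_rw [← TensorProduct.smul_tmul, ← TensorProduct.sum_tmul]
    congr 1
    ext k
    simp [Finset.sum_apply, Pi.single_apply]
  | add x y hx hy =>
    simp only [map_add, TensorProduct.tmul_add, Finset.sum_add_distrib]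
    rw [← hx, ← hy]

theorem coordTensor_lTensor (n : ℕ) {P P' : Type*} [AddCommGroup P] [Module R P]
    [AddCommGroup P'] [Module R P'] (g : P →ₗ[R] P') (j : Fin n) (z : (Fin n → R) ⊗[R] P) :
    coordTensor R n P' j (g.lTensor _ z) = g (coordTensor R n P j z) := by
  induction z using TensorProduct.induction_on with
  | zero => simp
  | tmul f p => simp [coordTensor_tmul]
  | add x y hx hy => simp only [map_add, hx, hy]

/-- `piRightHom` is injective for `R^n`. -/
theorem piRightHom_injective_fin (n : ℕ) {ι : Type*}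
    (Q : ι → Type*) [∀ i, AddCommGroup (Q i)] [∀ i, Module R (Q i)] :
    Function.Injective (TensorProduct.piRightHom R R (Fin n → R) Q) := by
  rw [injective_iff_map_eq_zero]
  intro z hz
  have hcoord : ∀ j, coordTensor R n (∀ i, Q i) j z = 0 := by
    intro j
    funext i
    have h1 := coordTensor_lTensor n (LinearMap.proj i : (∀ i, Q i) →ₗ[R] Q i) j z
    rw [← piRightHom_apply', hz] at h1
    simpa using h1.symm
  rw [eq_sum_single_tmul_coordTensor n _ z]
  simp [hcoord]

/-- finitely presented modules: `piRightHom` is injective. -/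
theorem piRightHom_injective_of_finitePresentation (M : Type*) [AddCommGroup M] [Module R M]
    [Module.FinitePresentation R M] {ι : Type*}
    (Q : ι → Type*) [∀ i, AddCommGroup (Q i)] [∀ i, Module R (Q i)] :
    Function.Injective (TensorProduct.piRightHom R R M Q) := by
  obtain ⟨n, K, e, hK⟩ := Module.FinitePresentation.exists_fin R M
  let π : (Fin n → R) →ₗ[R] M := e.symm.toLinearMap ∘ₗ K.mkQ
  have hπ : Function.Surjective π := e.symm.surjective.comp K.mkQ_surjective
  have hex : Function.Exact K.subtype π := by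
    intro f
    simp only [π, LinearMap.comp_apply, LinearEquiv.coe_coe, LinearEquiv.map_eq_zero_iff,
      Submodule.mkQ_apply, Submodule.Quotient.mk_eq_zero, Submodule.range_subtype,
      Set.mem_range, Submodule.subtype_apply, Subtype.exists, exists_prop, exists_eq_right]
  have hπK : π ∘ₗ K.subtype = 0 := by
    ext k
    exact (hex _).mpr ⟨k, rfl⟩
  haveI : Module.Finite R K := Module.Finite.iff_fg.mpr hK
  obtain ⟨m, k, hk⟩ := Module.Finite.exists_fin (R := R) (M := K)
  rw [injective_iff_map_eq_zero]
  intro x hx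
  obtain ⟨z, rfl⟩ := LinearMap.rTensor_surjective (∀ i, Q i) hπ x
  have hzi : ∀ i, ∃ g : Fin m → Q i,
      (LinearMap.proj i : (∀ i, Q i) →ₗ[R] Q i).lTensor _ z =
        ∑ l, ((k l : K) : Fin n → R) ⊗ₜ[R] g l := by
    intro i
    have h1 : π.rTensor (Q i) ((LinearMap.proj i : (∀ i, Q i) →ₗ[R] Q i).lTensor _ z) = 0 := by
      have h2 := congrFun hx i
      rw [piRightHom_rTensor, piRightHom_apply'] at h2
      exact h2
    obtain ⟨w, hw⟩ := (rTensor_exact (Q i) hex hπ _).mp h1
    obtain ⟨g, rfl⟩ := exists_eq_sum_tmul k hk (Q i) w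
    refine ⟨g, ?_⟩
    rw [← hw, map_sum]
    rfl
  choose g hg using hzi
  have hz : z = K.subtype.rTensor _ (∑ l, k l ⊗ₜ[R] (fun i => g i l)) := by
    apply piRightHom_injective_fin
    funext i
    rw [piRightHom_apply', piRightHom_apply', hg i, map_sum, map_sum]
    rfl
  rw [hz, ← LinearMap.comp_apply, ← LinearMap.rTensor_comp, hπK]
  simp

end

section

universe u

open TensorProduct in
/-- if `M ⊗ R^A → M^A` is bijective for all sets `A` then `M` is finitely presented. -/
theorem finitePresentation_of_piRightHom_bijective (R : Type u) [CommRing R] (M : Type u)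
    [AddCommGroup M] [Module R M]
    (h : ∀ (ι : Type u), Function.Bijective (TensorProduct.piRightHom R R M (fun _ : ι => R))) :
    Module.FinitePresentation R M := by
  haveI : Module.Finite R M := finite_of_piRightHom_surjective M (h M).2
  obtain ⟨n, π, hπ⟩ := Module.Finite.exists_fin' R M
  apply Module.finitePresentation_of_free_of_surjective π hπ
  set K := LinearMap.ker π with hKdef
  have hex : Function.Exact K.subtype π := by
    intro f
    simp [hKdef]
  have hπK : π ∘ₗ K.subtype = 0 := by
    ext k
    exact (hex _).mpr ⟨k, rfl⟩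
  suffices Module.Finite R K from Module.Finite.iff_fg.mp this
  apply finite_of_piRightHom_surjective
  intro y
  -- push `y` to `∏ R^n ⊗ R`
  obtain ⟨z, hz⟩ := piRightHom_surjective_of_finite (R := R) (Fin n → R) (fun _ : K => R)
    (fun i => K.subtype.rTensor R (y i))
  have hz0 : π.rTensor _ z = 0 := by
    apply (h K).1
    rw [map_zero]
    funext i
    have h3 := piRightHom_rTensor π (fun _ : K => R) z i
    rw [h3, hz, ← LinearMap.comp_apply, ← LinearMap.rTensor_comp, hπK]
    simp
  obtain ⟨w, hw⟩ := (rTensor_exact _ hex hπ _).mp hz0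
  refine ⟨w, ?_⟩
  funext i
  have hinj : Function.Injective (K.subtype.rTensor R) :=
    Module.Flat.rTensor_preserves_injective_linearMap K.subtype K.injective_subtype
  apply hinj
  have h3 := piRightHom_rTensor K.subtype (fun _ : K => R) w i
  rw [hw, hz] at h3
  exact h3.symm

end

end Groth.Agent.Helper12
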