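import Mathlib
import Groth.Agent.Lib.Helper12.Dominate
import Groth.Agent.Lib.Helper12.TensorPi

set_option autoImplicit false
universe u

open TensorProduct

namespace Groth.Agent.Helper12

/-- domination of maps from finite free modules by f.p. modules implies the product criterion. -/
theorem ml_of_dominate (R : Type u) [CommRing R] (M : Type u) [AddCommGroup M] [Module R M]
    (h : ∀ (n : ℕ) (f : (Fin n → R) →ₗ[R] M),
      ∃ (Q : Type u) (_ : AddCommGroup Q) (_ : Module R Q) (_ : Module.FinitePresentation R Q)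
        (g : (Fin n → R) →ₗ[R] Q),
        ∀ (N : Type u) [AddCommGroup N] [Module R N],
          LinearMap.ker (f.rTensor N) = LinearMap.ker (g.rTensor N))
    (ι : Type u) (Qf : ι → Type u) [∀ i, AddCommGroup (Qf i)] [∀ i, Module R (Qf i)] :
    Function.Injective (TensorProduct.piRightHom R R M Qf) := by
  classical
  rw [injective_iff_map_eq_zero]
  intro z hz
  obtain ⟨n, m, q, rfl⟩ := TensorProduct.exists_sum_tmul_eq z
  let f : (Fin n → R) →ₗ[R] M := Fintype.linearCombination R m
  let z' : (Fin n → R) ⊗[R] (∀ i, Qf i) := ∑ k, (Pi.single k (1 : R) : Fin n → R) ⊗ₜ[R] q k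
  have hz' : f.rTensor _ z' = ∑ k, m k ⊗ₜ[R] q k := by
    simp [z', f, Fintype.linearCombination_apply]
  obtain ⟨Q, _, _, hfp, g, hg⟩ := h n f
  have hcomp : ∀ i, TensorProduct.piRightHom R R (Fin n → R) Qf z' i ∈
      LinearMap.ker (f.rTensor (Qf i)) := by
    intro i
    rw [LinearMap.mem_ker, ← piRightHom_rTensor, hz', hz]
    rfl
  have h2 : TensorProduct.piRightHom R R Q Qf (g.rTensor _ z') = 0 := by
    funext i
    rw [piRightHom_rTensor]
    have := hcomp i
    rw [hg (Qf i)] at this
    exact this
  have h3 : g.rTensor _ z' = 0 :=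
    piRightHom_injective_of_finitePresentation Q Qf (h2.trans (map_zero _).symm)
  have h4 : z' ∈ LinearMap.ker (f.rTensor (∀ i, Qf i)) := by
    rw [hg]
    exact h3
  rw [← hz']
  exact h4

/-- index type for all (presented) f.p. modules together with a kernel element. -/
def FpIdx {R : Type u} [CommRing R] {M P : Type u} [AddCommGroup M] [Module R M]
    [AddCommGroup P] [Module R P] (f : P →ₗ[R] M) : Type u :=
  Σ (n : ℕ) (K : {K : Submodule R (Fin n → R) // K.FG}),
    {x : P ⊗[R] ((Fin n → R) ⧸ K.1) // f.rTensor _ x = 0}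

/-- the family of presented f.p. modules. -/
abbrev FpFam {R : Type u} [CommRing R] {M P : Type u} [AddCommGroup M] [Module R M]
    [AddCommGroup P] [Module R P] (f : P →ₗ[R] M) (α : FpIdx f) : Type u :=
  (Fin α.1 → R) ⧸ α.2.1.1

/-- the tautological element. -/
def fpElt {R : Type u} [CommRing R] {M P : Type u} [AddCommGroup M] [Module R M]
    [AddCommGroup P] [Module R P] (f : P →ₗ[R] M) (α : FpIdx f) : P ⊗[R] FpFam f α :=
  α.2.2.1

theorem fpElt_mem {R : Type u} [CommRing R] {M P : Type u} [AddCommGroup M] [Module R M]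
    [AddCommGroup P] [Module R P] (f : P →ₗ[R] M) (α : FpIdx f) :
    f.rTensor (FpFam f α) (fpElt f α) = 0 :=
  α.2.2.2

/-- the product criterion implies domination of maps from f.p. modules by f.p. modules. -/
theorem dominate_of_ml (R : Type u) [CommRing R] (M : Type u) [AddCommGroup M] [Module R M]
    (hML : ∀ (ι : Type u) (Qf : ι → Type u) [∀ i, AddCommGroup (Qf i)] [∀ i, Module R (Qf i)],
      Function.Injective (TensorProduct.piRightHom R R M Qf))
    (P : Type u) [AddCommGroup P] [Module R P] [Module.FinitePresentation R P] (f : P →ₗ[R] M) :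
    ∃ (Q : Type u) (_ : AddCommGroup Q) (_ : Module R Q) (_ : Module.FinitePresentation R Q)
      (g : P →ₗ[R] Q),
      ∀ (N : Type u) [AddCommGroup N] [Module R N],
        LinearMap.ker (f.rTensor N) = LinearMap.ker (g.rTensor N) := by
  classical
  obtain ⟨Xt, hXt⟩ := piRightHom_surjective_of_finite P (FpFam f) (fpElt f)
  have h0 : TensorProduct.piRightHom R R M (FpFam f) (f.rTensor _ Xt) = 0 := by
    funext α
    exact (piRightHom_rTensor f (FpFam f) Xt α).trans
      ((congrArg (f.rTensor (FpFam f α)) (congrFun hXt α)).trans (fpElt_mem f α))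
  have h1 : f.rTensor _ Xt = 0 :=
    hML (FpIdx f) (FpFam f) (h0.trans (LinearMap.map_zero _).symm)
  obtain ⟨P', _, _, hfp', g, h, hfg, hgX⟩ := exists_fp_factor f Xt h1
  refine ⟨P', inferInstance, inferInstance, hfp', g, fun N _ _ => le_antisymm ?_ ?_⟩
  · apply dominates_of_fp f g
    intro N' _ _ hN' x hx
    obtain ⟨n, K, e, hK⟩ := Module.FinitePresentation.exists_fin R N'
    let x' : P ⊗[R] ((Fin n → R) ⧸ K) := e.toLinearMap.lTensor P x
    have hx' : f.rTensor _ x' = 0 := by
      show f.rTensor _ (e.toLinearMap.lTensor P x) = 0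
      rw [← LinearMap.comp_apply, LinearMap.rTensor_comp_lTensor, ← LinearMap.lTensor_comp_rTensor,
        LinearMap.comp_apply, LinearMap.mem_ker.mp hx, map_zero]
    let α : FpIdx f := ⟨n, ⟨K, hK⟩, ⟨x', hx'⟩⟩
    have h5 : g.rTensor (FpFam f α) (fpElt f α) = 0 := by
      have h7 := congrFun (congrArg (TensorProduct.piRightHom R R P' (FpFam f)) hgX) α
      have h8 := (piRightHom_rTensor g (FpFam f) Xt α).symm.trans h7
      have h9 : g.rTensor (FpFam f α) (fpElt f α) =
          g.rTensor (FpFam f α) (TensorProduct.piRightHom R R P (FpFam f) Xt α) :=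
        (congrArg (g.rTensor (FpFam f α)) (congrFun hXt α)).symm
      rw [h9, h8, map_zero]
      rfl
    have h6 : e.toLinearMap.lTensor P' (g.rTensor N' x) = 0 := by
      rw [← LinearMap.comp_apply, LinearMap.lTensor_comp_rTensor, ← LinearMap.rTensor_comp_lTensor,
        LinearMap.comp_apply]
      exact h5
    have hinj : Function.Injective (e.toLinearMap.lTensor P') := by
      have : e.toLinearMap.lTensor P' = (e.lTensor P').toLinearMap := rfl
      rw [this]
      exact (e.lTensor P').injective
    rw [LinearMap.mem_ker]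
    exact hinj (h6.trans (map_zero _).symm)
  · intro x hx
    rw [LinearMap.mem_ker, hfg, LinearMap.rTensor_comp, LinearMap.comp_apply,
      LinearMap.mem_ker.mp hx, map_zero]

end Groth.Agent.Helper12
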