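import Mathlib
import Groth.Agent.Lib.Helper12.MLDominate
import Groth.Agent.Lib.Helper12.DominateFactor

set_option autoImplicit false
universe u

open TensorProduct

namespace Groth.Agent.Helper12.MLChain

/-- the product criterion implies domination of maps from f.p. modules by f.p. modules,
with the factorization recorded. -/
theorem dominate_of_ml_factor (R : Type u) [CommRing R] (M : Type u) [AddCommGroup M] [Module R M]
    (hML : ∀ (ι : Type u) (Qf : ι → Type u) [∀ i, AddCommGroup (Qf i)] [∀ i, Module R (Qf i)],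
      Function.Injective (TensorProduct.piRightHom R R M Qf))
    (P : Type u) [AddCommGroup P] [Module R P] [Module.FinitePresentation R P] (f : P →ₗ[R] M) :
    ∃ (Q : Type u) (_ : AddCommGroup Q) (_ : Module R Q) (_ : Module.FinitePresentation R Q)
      (g : P →ₗ[R] Q) (h : Q →ₗ[R] M), f = h ∘ₗ g ∧
      ∀ (N : Type u) [AddCommGroup N] [Module R N],
        LinearMap.ker (f.rTensor N) = LinearMap.ker (g.rTensor N) := by
  classical
  obtain ⟨Xt, hXt⟩ := piRightHom_surjective_of_finite P (FpFam f) (fpElt f)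
  have h0 : TensorProduct.piRightHom R R M (FpFam f) (f.rTensor _ Xt) = 0 := by
    funext α
    exact (piRightHom_rTensor f (FpFam f) Xt α).trans
      ((congrArg (f.rTensor (FpFam f α)) (congrFun hXt α)).trans (fpElt_mem f α))
  have h1 : f.rTensor _ Xt = 0 :=
    hML (FpIdx f) (FpFam f) (h0.trans (LinearMap.map_zero _).symm)
  obtain ⟨P', _, _, hfp', g, h, hfg, hgX⟩ := exists_fp_factor f Xt h1
  refine ⟨P', inferInstance, inferInstance, hfp', g, h, hfg, fun N _ _ => le_antisymm ?_ ?_⟩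
  · apply dominates_of_fp f g
    intro N' _ _ hN' x hx
    obtain ⟨n, K, e, hK⟩ := Module.FinitePresentation.exists_fin R N'
    let x' : P ⊗[R] ((Fin n → R) ⧸ K) := e.toLinearMap.lTensor P x
    have hx' : f.rTensor _ x' = 0 := by
      show f.rTensor _ (e.toLinearMap.lTensor P x) = 0
      rw [← LinearMap.comp_apply, LinearMap.rTensor_comp_lTensor, ← LinearMap.lTensor_comp_rTensor,
        LinearMap.comp_apply, LinearMap.mem_ker.mp hx, map_zero]
    let α : FpIdx f := ⟨n, ⟨K, hK⟩, ⟨x', hx'⟩⟩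
    have h5 : g.rTensor (FpFam f α) (fpElt f α) = 0 := by
      have h7 := congrFun (congrArg (TensorProduct.piRightHom R R P' (FpFam f)) hgX) α
      have h8 := (piRightHom_rTensor g (FpFam f) Xt α).symm.trans h7
      have h9 : g.rTensor (FpFam f α) (fpElt f α) =
          g.rTensor (FpFam f α) (TensorProduct.piRightHom R R P (FpFam f) Xt α) :=
        (congrArg (g.rTensor (FpFam f α)) (congrFun hXt α)).symm
      rw [h9, h8, map_zero]
      rfl
    have h6 : e.toLinearMap.lTensor P' (g.rTensor N' x) = 0 := by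
      rw [← LinearMap.comp_apply, LinearMap.lTensor_comp_rTensor, ← LinearMap.rTensor_comp_lTensor,
        LinearMap.comp_apply]
      exact h5
    have hinj : Function.Injective (e.toLinearMap.lTensor P') := by
      have : e.toLinearMap.lTensor P' = (e.lTensor P').toLinearMap := rfl
      rw [this]
      exact (e.lTensor P').injective
    rw [LinearMap.mem_ker]
    exact hinj (h6.trans (map_zero _).symm)
  · intro x hx
    rw [LinearMap.mem_ker, hfg, LinearMap.rTensor_comp, LinearMap.comp_apply,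
      LinearMap.mem_ker.mp hx, map_zero]

variable (R : Type u) [CommRing R] (M : Type u) [AddCommGroup M] [Module R M]

/-- a module mapping to `M` -/
structure Stage where
  Q : Type u
  [acg : AddCommGroup Q]
  [mod : Module R Q]
  u : Q →ₗ[R] M

attribute [instance] Stage.acg Stage.mod

/-- a sequence of stages with transition maps -/
structure Tower where
  S : ℕ → Stage R M
  t : ∀ n, (S n).Q →ₗ[R] (S (n + 1)).Q

variable {R M}

namespace Tower

variable (T : Tower R M)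

def Compat : Prop := ∀ n, (T.S (n + 1)).u ∘ₗ T.t n = (T.S n).u

def Dom : Prop := ∀ n (N : Type u) [AddCommGroup N] [Module R N],
  LinearMap.ker ((T.S n).u.rTensor N) ≤ LinearMap.ker ((T.t n).rTensor N)

def Exh : Prop := ∀ x : M, ∃ (n : ℕ) (q : (T.S n).Q), (T.S n).u q = x

/-- iterated transition -/
def iter (n : ℕ) : ∀ k, (T.S n).Q →ₗ[R] (T.S (n + k)).Q
  | 0 => LinearMap.id
  | k + 1 => T.t (n + k) ∘ₗ iter n k

theorem u_t (hc : T.Compat) (n : ℕ) (q : (T.S n).Q) : (T.S (n + 1)).u (T.t n q) = (T.S n).u q :=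
  LinearMap.congr_fun (hc n) q

theorem u_iter (hc : T.Compat) (n k : ℕ) (q : (T.S n).Q) :
    (T.S (n + k)).u (T.iter n k q) = (T.S n).u q := by
  induction k with
  | zero => rfl
  | succ k ih =>
    show (T.S (n + k + 1)).u (T.t (n + k) (T.iter n k q)) = _
    rw [T.u_t hc, ih]

theorem ker_le (hd : T.Dom) (n : ℕ) (q : (T.S n).Q) (hq : (T.S n).u q = 0) : T.t n q = 0 := by
  have h1 : q ⊗ₜ[R] (1 : R) ∈ LinearMap.ker ((T.S n).u.rTensor R) := by
    rw [LinearMap.mem_ker, LinearMap.rTensor_tmul, hq, TensorProduct.zero_tmul]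
  have h2 := hd n R h1
  rw [LinearMap.mem_ker, LinearMap.rTensor_tmul] at h2
  have h3 := congrArg (TensorProduct.rid R _) h2
  simpa using h3

section Glue
variable {X : Type*} [AddCommGroup X] [Module R X]
  (b : ∀ n, (T.S n).Q →ₗ[R] X) (hb : ∀ n, b (n + 1) ∘ₗ T.t n = b n)

include hb in
theorem b_t (n : ℕ) (q : (T.S n).Q) : b (n + 1) (T.t n q) = b n q :=
  LinearMap.congr_fun (hb n) q

include hb in
theorem b_iter (n k : ℕ) (q : (T.S n).Q) : b (n + k) (T.iter n k q) = b n q := by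
  induction k with
  | zero => rfl
  | succ k ih =>
    show b (n + k + 1) (T.t (n + k) (T.iter n k q)) = _
    rw [T.b_t b hb, ih]

include hb in
theorem wd_add (hc : T.Compat) (hd : T.Dom) (n k : ℕ) (q : (T.S n).Q) (q' : (T.S (n + k)).Q)
    (h : (T.S n).u q = (T.S (n + k)).u q') : b n q = b (n + k) q' := by
  have h1 : (T.S (n + k)).u (T.iter n k q - q') = 0 := by
    rw [map_sub, T.u_iter hc, h, sub_self]
  have h2 := T.ker_le hd (n + k) _ h1
  have h3 : b (n + k) (T.iter n k q - q') = 0 := by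
    rw [← T.b_t b hb, h2, map_zero]
  rw [map_sub, T.b_iter b hb, sub_eq_zero] at h3
  exact h3

include hb in
theorem wd (hc : T.Compat) (hd : T.Dom) (n m : ℕ) (q : (T.S n).Q) (q' : (T.S m).Q)
    (h : (T.S n).u q = (T.S m).u q') : b n q = b m q' := by
  rcases le_total n m with hnm | hnm
  · obtain ⟨k, rfl⟩ := Nat.exists_eq_add_of_le hnm
    exact T.wd_add b hb hc hd n k q q' h
  · obtain ⟨k, rfl⟩ := Nat.exists_eq_add_of_le hnm
    exact (T.wd_add b hb hc hd m k q' q h.symm).symm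

include hb in
theorem wd_sum (hc : T.Compat) (hd : T.Dom) (n1 n2 n3 : ℕ) (q1 : (T.S n1).Q) (q2 : (T.S n2).Q)
    (q3 : (T.S n3).Q) (h : (T.S n1).u q1 + (T.S n2).u q2 = (T.S n3).u q3) :
    b n1 q1 + b n2 q2 = b n3 q3 := by
  rcases le_total n1 n2 with hnm | hnm
  · obtain ⟨k, rfl⟩ := Nat.exists_eq_add_of_le hnm
    have h1 : (T.S (n1 + k)).u (T.iter n1 k q1 + q2) = (T.S n3).u q3 := by
      rw [map_add, T.u_iter hc, h]
    have h2 := T.wd b hb hc hd _ _ _ _ h1
    rw [map_add, T.b_iter b hb] at h2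
    exact h2
  · obtain ⟨k, rfl⟩ := Nat.exists_eq_add_of_le hnm
    have h1 : (T.S (n2 + k)).u (q1 + T.iter n2 k q2) = (T.S n3).u q3 := by
      rw [map_add, T.u_iter hc, h]
    have h2 := T.wd b hb hc hd _ _ _ _ h1
    rw [map_add, T.b_iter b hb] at h2
    exact h2

include hb in
theorem glue (hc : T.Compat) (hd : T.Dom) (he : T.Exh) :
    ∃ B : M →ₗ[R] X, ∀ n, B ∘ₗ (T.S n).u = b n := by
  choose nn qq hqq using he
  let B : M →ₗ[R] X :=
    { toFun := fun x => b (nn x) (qq x)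
      map_add' := fun x y => by
        refine (T.wd_sum b hb hc hd _ _ _ _ _ _ ?_).symm
        rw [hqq, hqq, hqq]
      map_smul' := fun r x => by
        have h1 : (T.S (nn x)).u (r • qq x) = (T.S (nn (r • x))).u (qq (r • x)) := by
          rw [map_smul, hqq, hqq]
        have h2 := T.wd b hb hc hd _ _ _ _ h1
        rw [map_smul] at h2
        exact h2.symm }
  refine ⟨B, fun n => LinearMap.ext fun q => ?_⟩
  show b (nn ((T.S n).u q)) (qq ((T.S n).u q)) = b n q
  exact T.wd b hb hc hd _ _ _ _ (hqq _)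

end Glue

/-- sequential choice of compatible maps out of the tower -/
theorem exists_seq {X : Type*} [AddCommGroup X] [Module R X]
    (G : ∀ n, ((T.S n).Q →ₗ[R] X) → Prop)
    (hstep : ∀ n β, G n β → ∃ β', G (n + 1) β' ∧ β' ∘ₗ T.t n = β)
    (β0 : (T.S 0).Q →ₗ[R] X) (h0 : G 0 β0) :
    ∃ b : ∀ n, (T.S n).Q →ₗ[R] X, b 0 = β0 ∧ (∀ n, b (n + 1) ∘ₗ T.t n = b n) ∧
      ∀ n, G n (b n) := by
  choose nxt hnxt1 hnxt2 using hstep
  let seq : ∀ n, {β : (T.S n).Q →ₗ[R] X // G n β} :=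
    fun n => Nat.rec (motive := fun n => {β : (T.S n).Q →ₗ[R] X // G n β}) ⟨β0, h0⟩
      (fun n p => ⟨nxt n p.1 p.2, hnxt1 n p.1 p.2⟩) n
  refine ⟨fun n => (seq n).1, rfl, fun n => ?_, fun n => (seq n).2⟩
  exact hnxt2 n (seq n).1 (seq n).2

/-- a map two steps back -/
theorem exists_back (hc : T.Compat) (hd : T.Dom)
    (hfp : ∀ n, Module.FinitePresentation R (T.S n).Q) (n : ℕ) :
    ∃ h : (T.S (n + 1 + 1)).Q →ₗ[R] (T.S (n + 1)).Q, T.t n = h ∘ₗ (T.t (n + 1) ∘ₗ T.t n) := by
  haveI := hfp (n + 1 + 1)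
  haveI := hfp n
  obtain ⟨f, hf⟩ : ∃ f : (T.S n).Q →ₗ[R] (T.S (n + 1 + 1)).Q, f = T.t (n + 1) ∘ₗ T.t n :=
    ⟨_, rfl⟩
  rw [← hf]
  haveI : Module.FinitePresentation R ((T.S (n + 1 + 1)).Q ⧸ LinearMap.range f) := by
    refine Module.finitePresentation_of_surjective (LinearMap.range f).mkQ
      (Submodule.mkQ_surjective _) ?_
    rw [Submodule.ker_mkQ, LinearMap.range_eq_map]
    exact Module.Finite.fg_top.map f
  have huf : (T.S n).u = (T.S (n + 1 + 1)).u ∘ₗ f := by
    rw [hf, ← LinearMap.comp_assoc, hc (n + 1), hc n]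
  refine factors_of_dominates f (T.t n) (fun N _ _ => ?_)
  intro x hx
  apply hd n N
  rw [LinearMap.mem_ker] at hx ⊢
  rw [huf, LinearMap.rTensor_comp, LinearMap.comp_apply, hx, map_zero]

theorem exh_of_span (hc : T.Compat) (g : ℕ → M) (hg : Submodule.span R (Set.range g) = ⊤)
    (hmem : ∀ n, g n ∈ LinearMap.range (T.S (n + 1)).u) : T.Exh := by
  have hmono : Monotone fun n => LinearMap.range (T.S n).u :=
    monotone_nat_of_le_succ fun n => by
      rintro _ ⟨q, rfl⟩
      exact ⟨T.t n q, T.u_t hc n q⟩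
  have htop : ⊤ ≤ ⨆ n, LinearMap.range (T.S n).u := by
    rw [← hg, Submodule.span_le]
    rintro _ ⟨n, rfl⟩
    exact (le_iSup (fun n => LinearMap.range (T.S n).u) (n + 1)) (hmem n)
  intro x
  have hx : x ∈ ⨆ n, LinearMap.range (T.S n).u := htop Submodule.mem_top
  obtain ⟨n, q, hq⟩ := (Submodule.mem_iSup_of_directed _ hmono.directed_le).mp hx
  exact ⟨n, q, hq⟩

end Tower

/-- construction of a tower by successive choices -/
theorem exists_tower (Pr : Stage R M → Prop)
    (hnext : ∀ S, Pr S → ∀ x : M, ∃ (S' : Stage R M) (tr : S.Q →ₗ[R] S'.Q), Pr S' ∧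
      S'.u ∘ₗ tr = S.u ∧
      (∀ (N : Type u) [AddCommGroup N] [Module R N],
        LinearMap.ker (S.u.rTensor N) ≤ LinearMap.ker (tr.rTensor N)) ∧
      x ∈ LinearMap.range S'.u)
    (S0 : Stage R M) (h0 : Pr S0) (g : ℕ → M) :
    ∃ (T : Tower R M) (j : S0.Q →ₗ[R] (T.S 0).Q), (T.S 0).u ∘ₗ j = S0.u ∧ T.Compat ∧ T.Dom ∧
      (∀ n, Pr (T.S n)) ∧ ∀ n, g n ∈ LinearMap.range (T.S (n + 1)).u := by
  choose nextS tr h1 h2 h3 h4 using hnext
  let seq : ℕ → {S : Stage R M // Pr S} := fun n =>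
    Nat.rec ⟨S0, h0⟩ (fun k p => ⟨nextS p.1 p.2 (g k), h1 p.1 p.2 (g k)⟩) n
  refine ⟨⟨fun n => (seq n).1, fun n => tr (seq n).1 (seq n).2 (g n)⟩, LinearMap.id, rfl,
    fun n => ?_, fun n N _ _ => ?_, fun n => (seq n).2, fun n => ?_⟩
  · exact h2 (seq n).1 (seq n).2 (g n)
  · exact h3 (seq n).1 (seq n).2 (g n) N
  · exact h4 (seq n).1 (seq n).2 (g n)

/-- next stage for a Mittag-Leffler module -/
theorem exists_next_fp
    (hML : ∀ (ι : Type u) (Qf : ι → Type u) [∀ i, AddCommGroup (Qf i)] [∀ i, Module R (Qf i)],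
      Function.Injective (TensorProduct.piRightHom R R M Qf))
    (S : Stage R M) (hS : Module.FinitePresentation R S.Q) (x : M) :
    ∃ (S' : Stage R M) (tr : S.Q →ₗ[R] S'.Q), Module.FinitePresentation R S'.Q ∧
      S'.u ∘ₗ tr = S.u ∧
      (∀ (N : Type u) [AddCommGroup N] [Module R N],
        LinearMap.ker (S.u.rTensor N) ≤ LinearMap.ker (tr.rTensor N)) ∧
      x ∈ LinearMap.range S'.u := by
  obtain ⟨Q', _, _, hfp, g, h, hfg, hker⟩ := dominate_of_ml_factor R M hML S.Q S.u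
  refine ⟨⟨Q' × R, h.coprod (LinearMap.toSpanSingleton R M x)⟩, LinearMap.inl R Q' R ∘ₗ g,
    inferInstance, ?_, fun N _ _ => ?_, ?_⟩
  · show (h.coprod (LinearMap.toSpanSingleton R M x)) ∘ₗ (LinearMap.inl R Q' R ∘ₗ g) = S.u
    rw [← LinearMap.comp_assoc, LinearMap.coprod_inl, hfg]
  · rw [hker N]
    intro z hz
    rw [LinearMap.mem_ker] at hz ⊢
    rw [LinearMap.rTensor_comp, LinearMap.comp_apply, hz, map_zero]
  · refine ⟨(0, 1), ?_⟩
    show (h.coprod (LinearMap.toSpanSingleton R M x)) (0, 1) = x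
    simp

/-- next stage for a flat Mittag-Leffler module: finite free stages -/
theorem exists_next_free [Module.Flat R M]
    (hML : ∀ (ι : Type u) (Qf : ι → Type u) [∀ i, AddCommGroup (Qf i)] [∀ i, Module R (Qf i)],
      Function.Injective (TensorProduct.piRightHom R R M Qf))
    (S : Stage R M) (hS : Module.Finite R S.Q ∧ Module.Free R S.Q) (x : M) :
    ∃ (S' : Stage R M) (tr : S.Q →ₗ[R] S'.Q), (Module.Finite R S'.Q ∧ Module.Free R S'.Q) ∧
      S'.u ∘ₗ tr = S.u ∧
      (∀ (N : Type u) [AddCommGroup N] [Module R N],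
        LinearMap.ker (S.u.rTensor N) ≤ LinearMap.ker (tr.rTensor N)) ∧
      x ∈ LinearMap.range S'.u := by
  obtain ⟨hS1, hS2⟩ := hS
  haveI : Module.FinitePresentation R S.Q := Module.finitePresentation_of_projective R S.Q
  obtain ⟨Q', _, _, hfp, g, h, hfg, hker⟩ := dominate_of_ml_factor R M hML S.Q S.u
  obtain ⟨k, h₂, h₃, hh⟩ := Module.Flat.exists_factorization_of_finitePresentation h
  refine ⟨⟨(Fin k →₀ R) × R, h₃.coprod (LinearMap.toSpanSingleton R M x)⟩,
    LinearMap.inl R (Fin k →₀ R) R ∘ₗ (h₂ ∘ₗ g), ⟨inferInstance, inferInstance⟩, ?_,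
    fun N _ _ => ?_, ?_⟩
  · show (h₃.coprod (LinearMap.toSpanSingleton R M x)) ∘ₗ
      (LinearMap.inl R (Fin k →₀ R) R ∘ₗ (h₂ ∘ₗ g)) = S.u
    rw [← LinearMap.comp_assoc, LinearMap.coprod_inl, ← LinearMap.comp_assoc, ← hh, hfg]
  · rw [hker N]
    intro z hz
    rw [LinearMap.mem_ker] at hz ⊢
    rw [LinearMap.rTensor_comp, LinearMap.rTensor_comp, LinearMap.comp_apply, LinearMap.comp_apply,
      hz, map_zero, map_zero]
  · refine ⟨(0, 1), ?_⟩
    show (h₃.coprod (LinearMap.toSpanSingleton R M x)) (0, 1) = x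
    simp

end Groth.Agent.Helper12.MLChain
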