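import Mathlib
import Groth.Agent.Lib.Helper12.MLChain

set_option autoImplicit false
universe u

open TensorProduct

namespace Groth.Agent.Helper12.MLProj

open Groth.Agent.Helper12.MLChain

variable {R : Type u} [CommRing R] {M : Type u} [AddCommGroup M] [Module R M]

theorem projective_of_tower (T : Tower R M) (hc : T.Compat) (hd : T.Dom) (he : T.Exh)
    (hff : ∀ n, Module.Finite R (T.S n).Q ∧ Module.Free R (T.S n).Q) : Module.Projective R M := by
  apply Module.Projective.of_lifting_property''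
  intro π hπ
  have hproj : ∀ n, Module.Projective R (T.S n).Q := fun n => by
    obtain ⟨h1, h2⟩ := hff n
    infer_instance
  have hfp : ∀ n, Module.FinitePresentation R (T.S n).Q := fun n => by
    obtain ⟨h1, h2⟩ := hff n
    exact Module.finitePresentation_of_projective R _
  have hlift : ∀ n, ∃ ℓ : (T.S n).Q →ₗ[R] (M →₀ R), π ∘ₗ ℓ = (T.S n).u := fun n => by
    haveI := hproj n
    exact Module.projective_lifting_property π (T.S n).u hπ
  obtain ⟨ℓ1, hℓ1⟩ := hlift (0 + 1)
  obtain ⟨b, hb0, hbc, hbG⟩ := T.exists_seq (X := M →₀ R)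
    (fun n β => ∃ ℓ' : (T.S (n + 1)).Q →ₗ[R] (M →₀ R),
      π ∘ₗ ℓ' = (T.S (n + 1)).u ∧ β = ℓ' ∘ₗ T.t n)
    (fun n β hβ => by
      obtain ⟨ℓ', hℓ', rfl⟩ := hβ
      obtain ⟨h, hh⟩ := T.exists_back hc hd hfp n
      obtain ⟨ℓ'', hℓ''⟩ := hlift (n + 1 + 1)
      refine ⟨(ℓ'' - (ℓ'' ∘ₗ T.t (n + 1) - ℓ') ∘ₗ h) ∘ₗ T.t (n + 1),
        ⟨ℓ'' - (ℓ'' ∘ₗ T.t (n + 1) - ℓ') ∘ₗ h, ?_, rfl⟩, ?_⟩
      · apply LinearMap.ext
        intro q
        have e1 : π (ℓ'' (T.t (n + 1) (h q))) = (T.S (n + 1)).u (h q) := by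
          have h5 := LinearMap.congr_fun hℓ'' (T.t (n + 1) (h q))
          rw [LinearMap.comp_apply] at h5
          rw [h5, T.u_t hc]
        have e2 : π (ℓ' (h q)) = (T.S (n + 1)).u (h q) := LinearMap.congr_fun hℓ' (h q)
        have e3 : π (ℓ'' q) = (T.S (n + 1 + 1)).u q := LinearMap.congr_fun hℓ'' q
        simp only [LinearMap.comp_apply, LinearMap.sub_apply, map_sub]
        rw [e1, e2, e3, sub_self, sub_zero]
      · apply LinearMap.ext
        intro q
        have e4 : h (T.t (n + 1) (T.t n q)) = T.t n q := (LinearMap.congr_fun hh q).symm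
        simp only [LinearMap.comp_apply, LinearMap.sub_apply]
        rw [e4]
        abel)
    (ℓ1 ∘ₗ T.t 0) ⟨ℓ1, hℓ1, rfl⟩
  obtain ⟨B, hB⟩ := T.glue b hbc hc hd he
  refine ⟨B, ?_⟩
  apply LinearMap.ext
  intro x
  obtain ⟨n, q, rfl⟩ := he x
  have h3 : B ((T.S n).u q) = b n q := LinearMap.congr_fun (hB n) q
  obtain ⟨ℓ', hℓ', hbn⟩ := hbG n
  rw [LinearMap.comp_apply, h3, hbn, LinearMap.comp_apply, LinearMap.id_apply]
  have h6 := LinearMap.congr_fun hℓ' (T.t n q)
  rw [LinearMap.comp_apply] at h6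
  rw [h6, T.u_t hc]

theorem projective_of_flat_ml_countable [Module.Flat R M]
    (hML : ∀ (ι : Type u) (Qf : ι → Type u) [∀ i, AddCommGroup (Qf i)] [∀ i, Module R (Qf i)],
      Function.Injective (TensorProduct.piRightHom R R M Qf))
    (s : Set M) (hs : s.Countable) (hspan : Submodule.span R s = ⊤) : Module.Projective R M := by
  obtain ⟨g, hg⟩ := (hs.insert 0).exists_eq_range (Set.insert_nonempty 0 s)
  have hgspan : Submodule.span R (Set.range g) = ⊤ := by
    rw [← hg, eq_top_iff, ← hspan]; exact Submodule.span_mono (Set.subset_insert 0 s)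
  obtain ⟨T, j, hj, hcT, hdT, hffT, hmem⟩ :=
    exists_tower (R := R) (M := M) (fun S => Module.Finite R S.Q ∧ Module.Free R S.Q)
      (fun S hS x => exists_next_free hML S hS x) ⟨Fin 0 → R, 0⟩
      ⟨inferInstanceAs (Module.Finite R (Fin 0 → R)), inferInstanceAs (Module.Free R (Fin 0 → R))⟩ g
  exact projective_of_tower T hcT hdT (T.exh_of_span hcT g hgspan hmem) hffT

/-- projective modules satisfy the product criterion -/
theorem ml_of_projective [Module.Projective R M]
    (ι : Type u) (Qf : ι → Type u) [∀ i, AddCommGroup (Qf i)] [∀ i, Module R (Qf i)] :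
    Function.Injective (TensorProduct.piRightHom R R M Qf) := by
  classical
  refine ml_of_dominate R M (fun n f => ?_) ι Qf
  obtain ⟨s, hs⟩ := Module.projective_def'.mp (inferInstance : Module.Projective R M)
  obtain ⟨σ, hσ⟩ : ∃ σ : Finset M,
      σ = Finset.univ.biUnion (fun a : Fin n => (s (f (Pi.single a 1))).support) := ⟨_, rfl⟩
  have hle : ∀ v, s (f v) ∈ Finsupp.supported R R (σ : Set M) := by
    have h1 : (⊤ : Submodule R (Fin n → R)) ≤
        (Finsupp.supported R R (σ : Set M)).comap (s ∘ₗ f) := by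
      rw [← (Pi.basisFun R (Fin n)).span_eq, Submodule.span_le]
      rintro _ ⟨a, rfl⟩
      show s (f (Pi.basisFun R (Fin n) a)) ∈ Finsupp.supported R R (σ : Set M)
      rw [Pi.basisFun_apply, Finsupp.mem_supported, hσ]
      intro x hx
      rw [Finset.coe_biUnion]
      exact Set.mem_biUnion (Finset.mem_coe.mpr (Finset.mem_univ a)) hx
    intro v
    exact h1 Submodule.mem_top
  haveI : Module.FinitePresentation R ↥(Finsupp.supported R R (σ : Set M)) :=
    Module.FinitePresentation.of_equiv (R := R) (M := (↥(σ : Set M)) →₀ R)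
      (N := ↥(Finsupp.supported R R (σ : Set M)))
      (Finsupp.supportedEquivFinsupp (σ : Set M)).symm
  obtain ⟨ρ, hρ⟩ : ∃ ρ : (M →₀ R) →ₗ[R] ↥(Finsupp.supported R R (σ : Set M)),
      ρ ∘ₗ (Finsupp.supported R R (σ : Set M)).subtype = LinearMap.id :=
    ⟨Finsupp.restrictDom R R (σ : Set M), Finsupp.restrictDom_comp_subtype _⟩
  refine ⟨↥(Finsupp.supported R R (σ : Set M)), inferInstance, inferInstance, inferInstance,
    ρ ∘ₗ (s ∘ₗ f), fun N _ _ => le_antisymm ?_ ?_⟩
  · intro z hz
    rw [LinearMap.mem_ker] at hz ⊢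
    rw [LinearMap.rTensor_comp, LinearMap.rTensor_comp, LinearMap.comp_apply, LinearMap.comp_apply,
      hz, map_zero, map_zero]
  · have hf : f = (Finsupp.linearCombination R id ∘ₗ
        (Finsupp.supported R R (σ : Set M)).subtype) ∘ₗ (ρ ∘ₗ (s ∘ₗ f)) := by
      apply LinearMap.ext
      intro v
      have h2 : ((Finsupp.supported R R (σ : Set M)).subtype (ρ (s (f v))) : M →₀ R) = s (f v) := by
        have h3 := LinearMap.congr_fun hρ ⟨s (f v), hle v⟩
        rw [LinearMap.comp_apply, LinearMap.id_apply] at h3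
        have h4 : (Finsupp.supported R R (σ : Set M)).subtype ⟨s (f v), hle v⟩ = s (f v) := rfl
        rw [h4] at h3
        rw [h3]
        exact h4
      have h5 : (Finsupp.linearCombination R id) (s (f v)) = f v :=
        LinearMap.congr_fun hs (f v)
      simp only [LinearMap.comp_apply]
      rw [h2, h5]
    intro z hz
    rw [LinearMap.mem_ker] at hz ⊢
    rw [hf, LinearMap.rTensor_comp, LinearMap.comp_apply, hz, map_zero]

/-- retracts inherit the product criterion -/
theorem ml_of_retract {N : Type u} [AddCommGroup N] [Module R N]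
    (hML : ∀ (ι : Type u) (Qf : ι → Type u) [∀ i, AddCommGroup (Qf i)] [∀ i, Module R (Qf i)],
      Function.Injective (TensorProduct.piRightHom R R M Qf))
    (i : N →ₗ[R] M) (r : M →ₗ[R] N) (h : r ∘ₗ i = LinearMap.id)
    (ι : Type u) (Qf : ι → Type u) [∀ i, AddCommGroup (Qf i)] [∀ i, Module R (Qf i)] :
    Function.Injective (TensorProduct.piRightHom R R N Qf) := by
  rw [injective_iff_map_eq_zero]
  intro z hz
  have h1 : TensorProduct.piRightHom R R M Qf (i.rTensor _ z) = 0 := by
    funext k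
    rw [piRightHom_rTensor, hz]
    simp
  have h2 : i.rTensor _ z = 0 := hML ι Qf (h1.trans (map_zero _).symm)
  have h3 : (r ∘ₗ i).rTensor (∀ k, Qf k) z = 0 := by
    rw [LinearMap.rTensor_comp, LinearMap.comp_apply, h2, map_zero]
  rw [h, LinearMap.rTensor_id, LinearMap.id_apply] at h3
  exact h3

theorem cg_of_equiv {A B : Type*} [AddCommMonoid A] [Module R A] [AddCommMonoid B] [Module R B]
    (e : A ≃ₗ[R] B) (h : ∃ s : Set A, s.Countable ∧ Submodule.span R s = ⊤) :
    ∃ s : Set B, s.Countable ∧ Submodule.span R s = ⊤ := by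
  obtain ⟨s, hs, hspan⟩ := h
  refine ⟨e '' s, hs.image _, ?_⟩
  have : Submodule.span R (e '' s) = Submodule.map (e : A →ₗ[R] B) (Submodule.span R s) :=
    (Submodule.map_span _ _).symm
  rw [this, hspan, Submodule.map_top, LinearEquiv.range]

end Groth.Agent.Helper12.MLProj
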