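import Mathlib
import Groth.Agent.Lib.Helper12.TensorPi
import Groth.Agent.Lib.Helper12.MLProj

/-!
# Completion of a free module over a Noetherian ring (helper12)

For a Noetherian ring `R`, an ideal `I` and any set `α`, the comparison map
`(⊕_α R)^ → ∏_α R^` is universally injective (Artin–Rees plus the equational criterion of
purity); hence `(⊕_α R)^` is flat, and Mittag-Leffler when `R` is complete.
-/

set_option autoImplicit false
set_option linter.style.haveILetI false
set_option linter.unusedSectionVars false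

universe u

open TensorProduct

namespace Groth.Agent.Helper12.ComplFree

section Basic

variable {R : Type*} [CommRing R]

theorem mem_smul_top_finsupp {α : Type*} (J : Ideal R) (x : α →₀ R) :
    x ∈ (J • ⊤ : Submodule R (α →₀ R)) ↔ ∀ i, x i ∈ J := by
  constructor
  · intro hx i
    refine Submodule.smul_induction_on (p := fun y : α →₀ R => y i ∈ J) hx ?_ ?_
    · intro r hr m _
      show (r • m) i ∈ J
      rw [Finsupp.smul_apply, smul_eq_mul]
      exact J.mul_mem_right _ hr
    · intro y z hy hz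
      show (y + z) i ∈ J
      rw [Finsupp.add_apply]
      exact J.add_mem hy hz
  · intro hx
    have hx' : x = ∑ i ∈ x.support, Finsupp.single i (x i) := (Finsupp.sum_single x).symm
    rw [hx']
    refine Submodule.sum_mem _ fun i _ => ?_
    have h1 : Finsupp.single i (x i) = x i • Finsupp.single i (1 : R) := by
      rw [Finsupp.smul_single, smul_eq_mul, mul_one]
    rw [h1]
    exact Submodule.smul_mem_smul (hx i) Submodule.mem_top

theorem mem_smul_top_pi {t : ℕ} (J : Ideal R) (x : Fin t → R) :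
    x ∈ (J • ⊤ : Submodule R (Fin t → R)) ↔ ∀ k, x k ∈ J := by
  constructor
  · intro hx k
    refine Submodule.smul_induction_on (p := fun y : Fin t → R => y k ∈ J) hx ?_ ?_
    · intro r hr m _
      show r • m k ∈ J
      rw [smul_eq_mul]
      exact J.mul_mem_right _ hr
    · intro y z hy hz
      exact J.add_mem hy hz
  · intro hx
    have h1 : x = ∑ k, x k • (Pi.single k (1 : R) : Fin t → R) := by
      funext k'
      simp [Finset.sum_apply, Pi.single_apply]
    rw [h1]
    exact Submodule.sum_mem _ fun k _ => Submodule.smul_mem_smul (hx k) Submodule.mem_top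

/-- Artin–Rees for a matrix, vector form. -/
theorem ar_vector [IsNoetherianRing R] (I : Ideal R) {s t : ℕ} (a : Fin t → Fin s → R) :
    ∃ c₀ : ℕ, ∀ (n : ℕ) (v : Fin s → R), (∀ k, ∑ j, a k j * v j ∈ I ^ n) →
      ∃ d : Fin s → R, (∀ j, d j ∈ I ^ (n - c₀)) ∧
        ∀ k, ∑ j, a k j * d j = ∑ j, a k j * v j := by
  classical
  let A : (Fin s → R) →ₗ[R] (Fin t → R) :=
    LinearMap.pi fun k => ∑ j, a k j • LinearMap.proj j
  have hA : ∀ v k, A v k = ∑ j, a k j * v j := by
    intro v k
    simp [A]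
  obtain ⟨c₀, hc₀⟩ := Ideal.exists_pow_inf_eq_pow_smul I (LinearMap.range A)
  refine ⟨c₀, fun n v hv => ?_⟩
  by_cases hn : c₀ ≤ n
  · have h1 : A v ∈ (I ^ n • ⊤ : Submodule R (Fin t → R)) ⊓ LinearMap.range A := by
      refine ⟨(mem_smul_top_pi _ _).mpr fun k => ?_, ⟨v, rfl⟩⟩
      rw [hA]; exact hv k
    rw [hc₀ n hn] at h1
    have h2 : (I ^ (n - c₀) • ((I ^ c₀ • ⊤ : Submodule R (Fin t → R)) ⊓ LinearMap.range A)) ≤
        Submodule.map A (I ^ (n - c₀) • ⊤) := by
      rw [Submodule.map_smul'', Submodule.map_top]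
      exact Submodule.smul_mono le_rfl inf_le_right
    obtain ⟨d, hd, hdv⟩ := h2 h1
    refine ⟨d, (mem_smul_top_pi _ _).mp hd, fun k => ?_⟩
    rw [← hA, ← hA, hdv]
  · refine ⟨v, fun j => ?_, fun k => rfl⟩
    have h0 : n - c₀ = 0 := by omega
    rw [h0, pow_zero, Ideal.one_eq_top]
    exact Submodule.mem_top

/-- Artin–Rees for a matrix acting on a free module of arbitrary rank. -/
theorem lift_step [IsNoetherianRing R] (I : Ideal R) (α : Type*) {s t : ℕ}
    (a : Fin t → Fin s → R) :
    ∃ c₀ : ℕ, ∀ (n : ℕ) (δ : Fin s → (α →₀ R)),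
      (∀ k, ∑ j, a k j • δ j ∈ (I ^ n • ⊤ : Submodule R (α →₀ R))) →
      ∃ d : Fin s → (α →₀ R), (∀ j, d j ∈ (I ^ (n - c₀) • ⊤ : Submodule R (α →₀ R))) ∧
        ∀ k, ∑ j, a k j • d j = ∑ j, a k j • δ j := by
  classical
  obtain ⟨c₀, hc₀⟩ := ar_vector I a
  refine ⟨c₀, fun n δ hδ => ?_⟩
  have happ : ∀ (e : Fin s → (α →₀ R)) (k : Fin t) (i : α),
      (∑ j, a k j • e j) i = ∑ j, a k j * e j i := by
    intro e k i
    rw [Finsupp.finsetSum_apply]
    exact Finset.sum_congr rfl fun j _ => by rw [Finsupp.smul_apply, smul_eq_mul]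
  have hcoord : ∀ i : α, ∀ k, ∑ j, a k j * δ j i ∈ I ^ n := by
    intro i k
    rw [← happ]
    exact (mem_smul_top_finsupp _ _).mp (hδ k) i
  have hex : ∀ i : α, ∃ d : Fin s → R, (∀ j, d j ∈ I ^ (n - c₀)) ∧
      (∀ k, ∑ j, a k j * d j = ∑ j, a k j * δ j i) ∧ ((∀ j, δ j i = 0) → d = 0) := by
    intro i
    by_cases h0 : ∀ j, δ j i = 0
    · exact ⟨0, fun j => zero_mem _, fun k => by simp [h0], fun _ => rfl⟩
    · obtain ⟨d, hd1, hd2⟩ := hc₀ n (fun j => δ j i) (hcoord i)
      exact ⟨d, hd1, hd2, fun h => absurd h h0⟩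
  choose D hD1 hD2 hD3 using hex
  let T : Finset α := Finset.univ.biUnion fun j => (δ j).support
  have hT : ∀ j i, D i j ≠ 0 → i ∈ T := by
    intro j i hne
    by_contra hi
    apply hne
    have h0 : ∀ j', δ j' i = 0 := by
      intro j'
      by_contra hj'
      exact hi (Finset.mem_biUnion.mpr ⟨j', Finset.mem_univ _, Finsupp.mem_support_iff.mpr hj'⟩)
    rw [hD3 i h0]; rfl
  refine ⟨fun j => Finsupp.onFinset T (fun i => D i j) (hT j), fun j => ?_, fun k => ?_⟩
  · rw [mem_smul_top_finsupp]
    intro i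
    rw [Finsupp.onFinset_apply]
    exact hD1 i j
  · ext i
    rw [happ, happ]
    simp only [Finsupp.onFinset_apply]
    exact hD2 i k

/-- The image of a matrix acting on the completion of a free module is closed. -/
theorem closed_image [IsNoetherianRing R] (I : Ideal R) (α : Type*) {s t : ℕ}
    (a : Fin t → Fin s → R) (b : Fin t → AdicCompletion I (α →₀ R))
    (hcl : ∀ n, ∃ w : Fin s → (α →₀ R), ∀ k,
      (b k).val n = Submodule.mkQ (I ^ n • ⊤ : Submodule R (α →₀ R)) (∑ j, a k j • w j)) :
    ∃ c : Fin s → AdicCompletion I (α →₀ R), ∀ k, b k = ∑ j, a k j • c j := by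
  classical
  obtain ⟨c₀, hc₀⟩ := lift_step I α a
  choose w hw using hcl
  have hlow : ∀ (m n : ℕ) (_ : m ≤ n) (k : Fin t), (b k).val m =
      Submodule.mkQ (I ^ m • ⊤ : Submodule R (α →₀ R)) (∑ j, a k j • w n j) := by
    intro m n hmn k
    have h1 := AdicCompletion.transitionMap_comp_eval_apply I (α →₀ R) hmn (b k)
    rw [hw n k] at h1
    exact h1.symm
  have hδ : ∀ m k, ∑ j, a k j • (w (c₀ + m + 1) j - w (c₀ + m) j) ∈
      (I ^ (c₀ + m) • ⊤ : Submodule R (α →₀ R)) := by
    intro m k
    have h1 := hlow (c₀ + m) (c₀ + m + 1) (Nat.le_succ _) k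
    rw [hw (c₀ + m) k, Submodule.mkQ_apply, Submodule.mkQ_apply, Submodule.Quotient.eq] at h1
    have h4 : ∑ j, a k j • (w (c₀ + m + 1) j - w (c₀ + m) j) =
        -(∑ j, a k j • w (c₀ + m) j - ∑ j, a k j • w (c₀ + m + 1) j) := by
      simp only [smul_sub, Finset.sum_sub_distrib]; abel
    rw [h4]; exact Submodule.neg_mem _ h1
  have hd : ∀ m, ∃ d : Fin s → (α →₀ R),
      (∀ j, d j ∈ (I ^ m • ⊤ : Submodule R (α →₀ R))) ∧
      ∀ k, ∑ j, a k j • d j = ∑ j, a k j • (w (c₀ + m + 1) j - w (c₀ + m) j) := by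
    intro m
    obtain ⟨d, hd1, hd2⟩ := hc₀ (c₀ + m) (fun j => w (c₀ + m + 1) j - w (c₀ + m) j) (hδ m)
    refine ⟨d, fun j => ?_, hd2⟩
    have h1 := hd1 j
    rwa [Nat.add_sub_cancel_left] at h1
  choose d hd1 hd2 using hd
  obtain ⟨u, hu0⟩ : ∃ u : ℕ → Fin s → (α →₀ R),
      ∀ m j, u m j = w c₀ j + ∑ i ∈ Finset.range m, d i j := ⟨_, fun _ _ => rfl⟩
  have hsucc : ∀ m j, u (m + 1) j = u m j + d m j := by
    intro m j
    rw [hu0, hu0, Finset.sum_range_succ, add_assoc]
  have hu : ∀ m k, ∑ j, a k j • u m j = ∑ j, a k j • w (c₀ + m) j := by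
    intro m k
    induction m with
    | zero =>
      refine Finset.sum_congr rfl fun j _ => ?_
      rw [hu0, Finset.range_zero, Finset.sum_empty, add_zero, Nat.add_zero]
    | succ m ih =>
      simp only [hsucc, smul_add, Finset.sum_add_distrib]
      rw [ih, hd2 m k]
      simp only [smul_sub, Finset.sum_sub_distrib]
      rw [show c₀ + (m + 1) = c₀ + m + 1 from rfl]
      abel
  have hcauchy : ∀ j m, u m j ≡ u (m + 1) j [SMOD (I ^ m • ⊤ : Submodule R (α →₀ R))] := by
    intro j m
    rw [SModEq.sub_mem, hsucc]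
    have h1 : u m j - (u m j + d m j) = - d m j := by abel
    rw [h1]; exact Submodule.neg_mem _ (hd1 m j)
  refine ⟨fun j => AdicCompletion.mk I (α →₀ R)
    (AdicCompletion.AdicCauchySequence.mk I (α →₀ R) (fun m => u m j) (hcauchy j)), fun k => ?_⟩
  apply AdicCompletion.ext
  intro m
  have hval : ∀ j, (AdicCompletion.mk I (α →₀ R)
      (AdicCompletion.AdicCauchySequence.mk I (α →₀ R) (fun m => u m j) (hcauchy j))).val m =
      Submodule.mkQ (I ^ m • ⊤ : Submodule R (α →₀ R)) (u m j) := fun j => rfl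
  rw [AdicCompletion.val_sum_apply]
  simp only [AdicCompletion.val_smul_apply, hval]
  rw [hlow m (c₀ + m) (Nat.le_add_left _ _) k, ← hu m k, map_sum]
  simp only [map_smul]

theorem sum_tmul_reindex {M N : Type*} [AddCommGroup M] [Module R M] [AddCommGroup N]
    [Module R N] {l r : ℕ} (q : Fin l → M) (g : Fin r → M) (coef : Fin l → Fin r → R)
    (hq : ∀ i, q i = ∑ l', coef i l' • g l') (n : Fin l → N) :
    ∑ i, q i ⊗ₜ[R] n i = ∑ l', g l' ⊗ₜ[R] (∑ i, coef i l' • n i) := by
  simp_rw [hq, TensorProduct.sum_tmul, TensorProduct.tmul_sum]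
  rw [Finset.sum_comm]
  refine Finset.sum_congr rfl fun l' _ => Finset.sum_congr rfl fun i _ => ?_
  rw [TensorProduct.smul_tmul]

end Basic

/-- Equational criterion of purity, sufficiency. -/
theorem univInj_of_equational {R : Type u} [CommRing R] {A B : Type u}
    [AddCommGroup A] [Module R A] [AddCommGroup B] [Module R B] (ι : A →ₗ[R] B)
    (h : ∀ (m n : ℕ) (a : Fin m → Fin n → R) (b : Fin m → A) (y : Fin n → B),
      (∀ k, ι (b k) = ∑ j, a k j • y j) → ∃ c : Fin n → A, ∀ k, b k = ∑ j, a k j • c j)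
    (Q : Type u) [AddCommGroup Q] [Module R Q] : Function.Injective (ι.rTensor Q) := by
  classical
  rw [injective_iff_map_eq_zero]
  intro z hz
  obtain ⟨l, b, q, rfl⟩ := TensorProduct.exists_sum_tmul_eq z
  have hz' : ∑ i, q i ⊗ₜ[R] ι (b i) = (0 : Q ⊗[R] B) := by
    have h0 := congrArg (TensorProduct.comm R B Q) hz
    simpa [map_sum] using h0
  obtain ⟨P, hP⟩ : ∃ P : Submodule R Q, P = Submodule.span R (Set.range q) := ⟨_, rfl⟩
  have hPfg : P.FG := hP ▸ Submodule.fg_span (Set.finite_range q)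
  have hqP : ∀ i, q i ∈ P := fun i => hP ▸ Submodule.subset_span ⟨i, rfl⟩
  obtain ⟨t, ht0⟩ : ∃ t : ↥P ⊗[R] B, t = ∑ i, (⟨q i, hqP i⟩ : ↥P) ⊗ₜ[R] ι (b i) := ⟨_, rfl⟩
  have ht : LinearMap.rTensor B P.subtype t = 0 := by
    rw [ht0, map_sum]
    simp only [LinearMap.rTensor_tmul, Submodule.subtype_apply]
    exact hz'
  obtain ⟨Q', hPQ, hQ'fg, hQ't⟩ := TensorProduct.eq_zero_of_fg_of_subtype_eq_zero hPfg ht
  obtain ⟨r, g, hg⟩ := Submodule.fg_iff_exists_fin_generating_family.mp hQ'fg
  have hgmem : ∀ l', g l' ∈ Q' := fun l' => hg ▸ Submodule.subset_span ⟨l', rfl⟩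
  obtain ⟨g', hg'0⟩ : ∃ g' : Fin r → ↥Q', ∀ l', g' l' = ⟨g l', hgmem l'⟩ := ⟨_, fun _ => rfl⟩
  have hg'val : ∀ l', ((g' l' : ↥Q') : Q) = g l' := fun l' => by rw [hg'0]
  have hg' : Submodule.span R (Set.range g') = ⊤ := by
    apply Submodule.map_injective_of_injective (Submodule.injective_subtype Q')
    rw [Submodule.map_span, Submodule.map_top, Submodule.range_subtype, ← Set.range_comp]
    have h1 : (⇑Q'.subtype ∘ g') = g := funext fun l' => hg'val l'
    rw [h1]
    exact hg
  have hcoef : ∀ i, ∃ c : Fin r → R,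
      ∑ l', c l' • g' l' = Submodule.inclusion hPQ (⟨q i, hqP i⟩ : ↥P) := by
    intro i
    apply (Submodule.mem_span_range_iff_exists_fun R).mp
    rw [hg']; exact Submodule.mem_top
  choose coef hcoef using hcoef
  have h1 : ∑ l', g' l' ⊗ₜ[R] (∑ i, coef i l' • ι (b i)) = (0 : ↥Q' ⊗[R] B) := by
    rw [← sum_tmul_reindex (fun i => Submodule.inclusion hPQ (⟨q i, hqP i⟩ : ↥P)) g' coef
      (fun i => (hcoef i).symm) (fun i => ι (b i))]
    have h2 : LinearMap.rTensor B (Submodule.inclusion hPQ) t =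
        ∑ i, Submodule.inclusion hPQ (⟨q i, hqP i⟩ : ↥P) ⊗ₜ[R] ι (b i) := by
      rw [ht0, map_sum]
      simp only [LinearMap.rTensor_tmul]
    rw [← h2]; exact hQ't
  obtain ⟨b', hb'0⟩ : ∃ b' : Fin r → A, ∀ l', b' l' = ∑ i, coef i l' • b i := ⟨_, fun _ => rfl⟩
  have hb' : ∀ l', ι (b' l') = ∑ i, coef i l' • ι (b i) := by
    intro l'; rw [hb'0, map_sum]; simp only [map_smul]
  have h2 : ∑ l', g' l' ⊗ₜ[R] ι (b' l') = (0 : ↥Q' ⊗[R] B) := by
    simp_rw [hb']; exact h1
  obtain ⟨k, a, y, hy1, hy2⟩ := TensorProduct.vanishesTrivially_of_sum_tmul_eq_zero R hg' h2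
  obtain ⟨c, hc⟩ := h r k a b' y hy1
  have hq : ∀ i, q i = ∑ l', coef i l' • g l' := by
    intro i
    have h3 := congrArg Q'.subtype (hcoef i)
    rw [map_sum] at h3
    simp only [map_smul, Submodule.subtype_apply, hg'val] at h3
    exact h3.symm
  have hgz : ∀ j, ∑ l', a l' j • g l' = 0 := by
    intro j
    have h3 := congrArg Q'.subtype (hy2 j)
    rw [map_sum, map_zero] at h3
    simp only [map_smul, Submodule.subtype_apply, hg'val] at h3
    exact h3
  have h3 : ∑ i, q i ⊗ₜ[R] b i = (0 : Q ⊗[R] A) := by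
    rw [sum_tmul_reindex q g coef hq b]
    simp_rw [← hb'0]
    exact TensorProduct.sum_tmul_eq_zero_of_vanishesTrivially R ⟨k, a, c, hc, hgz⟩
  have h4 := congrArg (TensorProduct.comm R Q A) h3
  simpa [map_sum] using h4

/-- A universally injective submodule of a flat module is flat. -/
theorem flat_of_univInj {R : Type u} [CommRing R] {M N : Type u} [AddCommGroup M] [Module R M]
    [AddCommGroup N] [Module R N] [Module.Flat R N] (f : M →ₗ[R] N)
    (hf : ∀ (Q : Type u) [AddCommGroup Q] [Module R Q], Function.Injective (f.rTensor Q)) :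
    Module.Flat R M := by
  rw [Module.Flat.iff_lTensor_preserves_injective_linearMap]
  intro Q' Q _ _ _ _ g hg
  have hsq : (f.rTensor Q) ∘ₗ (g.lTensor M) = (g.lTensor N) ∘ₗ (f.rTensor Q') := by
    rw [LinearMap.rTensor_comp_lTensor, LinearMap.lTensor_comp_rTensor]
  have h1 : Function.Injective ((g.lTensor N) ∘ₗ (f.rTensor Q')) :=
    (Module.Flat.lTensor_preserves_injective_linearMap g hg).comp (hf Q')
  rw [← hsq] at h1
  exact Function.Injective.of_comp h1

/-- A universally injective submodule of a Mittag-Leffler module is Mittag-Leffler. -/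
theorem ml_of_univInj {R : Type u} [CommRing R] {M N : Type u} [AddCommGroup M] [Module R M]
    [AddCommGroup N] [Module R N] (f : M →ₗ[R] N)
    (hf : ∀ (Q : Type u) [AddCommGroup Q] [Module R Q], Function.Injective (f.rTensor Q))
    (hML : ∀ (ι : Type u) (Qf : ι → Type u) [∀ i, AddCommGroup (Qf i)] [∀ i, Module R (Qf i)],
      Function.Injective (TensorProduct.piRightHom R R N Qf))
    (ι : Type u) (Qf : ι → Type u) [∀ i, AddCommGroup (Qf i)] [∀ i, Module R (Qf i)] :
    Function.Injective (TensorProduct.piRightHom R R M Qf) := by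
  rw [injective_iff_map_eq_zero]
  intro z hz
  have h1 : TensorProduct.piRightHom R R N Qf (f.rTensor _ z) = 0 := by
    funext k
    rw [Groth.Agent.Helper12.piRightHom_rTensor, hz]
    simp
  have h2 : f.rTensor _ z = 0 := hML ι Qf (h1.trans (map_zero _).symm)
  exact hf _ (h2.trans (map_zero _).symm)

/-- Over a Noetherian ring a product of flat modules is flat. -/
theorem flat_pi {R : Type*} [CommRing R] [IsNoetherianRing R] {ι : Type*} (M : ι → Type*)
    [∀ i, AddCommGroup (M i)] [∀ i, Module R (M i)] [∀ i, Module.Flat R (M i)] :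
    Module.Flat R (∀ i, M i) := by
  classical
  apply Module.Flat.of_forall_isTrivialRelation
  intro l f x hfx
  let φ : (Fin l → R) →ₗ[R] R := ∑ i, f i • LinearMap.proj i
  have hφ : ∀ v, φ v = ∑ i, f i * v i := by intro v; simp [φ]
  have hK : (LinearMap.ker φ).FG := IsNoetherian.noetherian _
  obtain ⟨k, κ, hκ⟩ := Submodule.fg_iff_exists_fin_generating_family.mp hK
  have hκmem : ∀ j, κ j ∈ LinearMap.ker φ := fun j => hκ ▸ Submodule.subset_span ⟨j, rfl⟩
  have hp : ∀ p : ι, ∃ y : Fin k → M p, ∀ i, x i p = ∑ j, κ j i • y j := by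
    intro p
    have hrel : ∑ i, f i • x i p = 0 := by
      have h0 := congrFun hfx p
      simpa [Finset.sum_apply] using h0
    obtain ⟨k', a', y', h1, h2⟩ := Module.Flat.isTrivialRelation_of_sum_smul_eq_zero hrel
    have hcol : ∀ j', (fun i => a' i j') ∈ Submodule.span R (Set.range κ) := by
      intro j'
      rw [hκ, LinearMap.mem_ker, hφ]
      exact h2 j'
    have hex : ∀ j', ∃ c : Fin k → R, ∑ j, c j • κ j = fun i => a' i j' :=
      fun j' => (Submodule.mem_span_range_iff_exists_fun R).mp (hcol j')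
    choose c hc using hex
    refine ⟨fun j => ∑ j', c j' j • y' j', fun i => ?_⟩
    show x i p = ∑ j, κ j i • ∑ j', c j' j • y' j'
    have h1' : x i p = ∑ j, a' i j • y' j := h1 i
    rw [h1']
    have hai : ∀ j', a' i j' = ∑ j, c j' j * κ j i := by
      intro j'
      have h0 := congrFun (hc j') i
      rw [Finset.sum_apply] at h0
      simp only [Pi.smul_apply, smul_eq_mul] at h0
      exact h0.symm
    simp_rw [hai, Finset.sum_smul, Finset.smul_sum]
    rw [Finset.sum_comm]
    refine Finset.sum_congr rfl fun j _ => Finset.sum_congr rfl fun j' _ => ?_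
    rw [mul_smul, smul_comm]
  choose y hy using hp
  refine ⟨k, fun i j => κ j i, fun j p => y p j, fun i => ?_, fun j => ?_⟩
  · funext p
    rw [hy p i, Finset.sum_apply]
    rfl
  · have h0 := hκmem j
    rw [LinearMap.mem_ker, hφ] at h0
    exact h0

/-- Over a Noetherian ring a product of copies of a flat Mittag-Leffler module is Mittag-Leffler. -/
theorem ml_pi {R : Type u} [CommRing R] [IsNoetherianRing R] (α : Type u) (C : Type u)
    [AddCommGroup C] [Module R C] [Module.Flat R C]
    (hC : ∀ (ι : Type u) (Qf : ι → Type u) [∀ i, AddCommGroup (Qf i)] [∀ i, Module R (Qf i)],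
      Function.Injective (TensorProduct.piRightHom R R C Qf))
    (ι : Type u) (Qf : ι → Type u) [∀ i, AddCommGroup (Qf i)] [∀ i, Module R (Qf i)] :
    Function.Injective (TensorProduct.piRightHom R R (α → C) Qf) := by
  classical
  -- the coordinate maps
  have hnat : ∀ (X Y : Type u) [AddCommGroup X] [Module R X] [AddCommGroup Y] [Module R Y]
      (f : X →ₗ[R] Y) (a : α) (z : (α → C) ⊗[R] X),
      f.lTensor C ((LinearMap.proj a : (α → C) →ₗ[R] C).rTensor X z) =
        (LinearMap.proj a : (α → C) →ₗ[R] C).rTensor Y (f.lTensor (α → C) z) := by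
    intro X Y _ _ _ _ f a z
    rw [← LinearMap.comp_apply, ← LinearMap.comp_apply, LinearMap.lTensor_comp_rTensor,
      LinearMap.rTensor_comp_lTensor]
  have hinj : ∀ (X : Type u) [AddCommGroup X] [Module R X] [Module.FinitePresentation R X]
      (z : (α → C) ⊗[R] X),
      (∀ a, (LinearMap.proj a : (α → C) →ₗ[R] C).rTensor X z = 0) → z = 0 := by
    intro X _ _ _ z hz
    have h1 : TensorProduct.piRightHom R R X (fun _ : α => C)
        (TensorProduct.comm R (α → C) X z) = 0 := by
      funext a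
      have h2 : ∀ z' : (α → C) ⊗[R] X, TensorProduct.piRightHom R R X (fun _ : α => C)
          (TensorProduct.comm R (α → C) X z') a =
          TensorProduct.comm R C X ((LinearMap.proj a : (α → C) →ₗ[R] C).rTensor X z') := by
        intro z'
        induction z' using TensorProduct.induction_on with
        | zero => simp
        | tmul p x => rfl
        | add x y hx hy => simp only [map_add, Pi.add_apply, hx, hy]
      rw [h2, hz a, map_zero]
      rfl
    have h3 := Groth.Agent.Helper12.piRightHom_injective_of_finitePresentation X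
      (fun _ : α => C) (h1.trans (map_zero _).symm)
    exact (TensorProduct.comm R (α → C) X).injective (h3.trans (map_zero _).symm)
  rw [injective_iff_map_eq_zero]
  intro z hz
  have hzi : ∀ i, (LinearMap.proj i : (∀ i, Qf i) →ₗ[R] Qf i).lTensor (α → C) z = 0 := by
    intro i
    rw [← Groth.Agent.Helper12.piRightHom_apply', hz]
    rfl
  -- step 1
  have hstep1 : ∀ a, (LinearMap.proj a : (α → C) →ₗ[R] C).rTensor (∀ i, Qf i) z = 0 := by
    intro a
    apply hC ι Qf
    rw [map_zero]
    funext i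
    rw [Groth.Agent.Helper12.piRightHom_apply', hnat, hzi i, map_zero]
    rfl
  -- step 2
  obtain ⟨Q', hQ'fin, hQ'z⟩ :=
    TensorProduct.exists_finite_submodule_right_of_setFinite ({z} : Set ((α → C) ⊗[R] (∀ i, Qf i)))
      (Set.finite_singleton z)
  obtain ⟨z', hz'⟩ := hQ'z (Set.mem_singleton z)
  haveI : Module.FinitePresentation R ↥Q' := Module.finitePresentation_of_finite R ↥Q'
  have hz'0 : z' = 0 := by
    apply hinj ↥Q' z'
    intro a
    have h1 := hnat ↥Q' (∀ i, Qf i) Q'.subtype a z'
    rw [hz', hstep1 a] at h1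
    exact Module.Flat.lTensor_preserves_injective_linearMap Q'.subtype
      (Submodule.injective_subtype Q') (h1.trans (map_zero _).symm)
  rw [← hz', hz'0, map_zero]

section Main

variable {R : Type u} [CommRing R] [IsNoetherianRing R] (I : Ideal R) (α : Type u)

/-- the comparison map from the completion of the free module to the product -/
noncomputable def Phi : AdicCompletion I (α →₀ R) →ₗ[R] (α → AdicCompletion I R) :=
  LinearMap.pi fun i =>
    LinearMap.restrictScalars R (AdicCompletion.map I (Finsupp.lapply i : (α →₀ R) →ₗ[R] R))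

theorem in_closure {s t : ℕ} (a : Fin t → Fin s → R) (b : Fin t → AdicCompletion I (α →₀ R))
    (y : Fin s → (α → AdicCompletion I R)) (hy : ∀ k, Phi I α (b k) = ∑ j, a k j • y j) (n : ℕ) :
    ∃ w : Fin s → (α →₀ R), ∀ k,
      (b k).val n = Submodule.mkQ (I ^ n • ⊤ : Submodule R (α →₀ R)) (∑ j, a k j • w j) := by
  classical
  have hβ : ∀ k, ∃ β : AdicCompletion.AdicCauchySequence I (α →₀ R),
      AdicCompletion.mk I _ β = b k := fun k => AdicCompletion.mk_surjective I _ (b k)
  choose β hβ using hβ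
  have hη : ∀ j i, ∃ η : AdicCompletion.AdicCauchySequence I R,
      AdicCompletion.mk I _ η = y j i := fun j i => AdicCompletion.mk_surjective I _ (y j i)
  choose η hη using hη
  let T : Finset α := Finset.univ.biUnion fun k => (β k n).support
  have h6 : (I ^ n • ⊤ : Submodule R R) = I ^ n := by
    rw [Ideal.smul_eq_mul, Ideal.mul_top]
  have hcong : ∀ k i, (β k n) i - ∑ j, a k j * (η j i n) ∈ I ^ n := by
    intro k i
    have h1 := congrArg (fun f => (f i).val n) (hy k)
    have h2 : (Phi I α (b k) i).val n =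
        Submodule.mkQ (I ^ n • ⊤ : Submodule R R) ((β k n) i) := by
      rw [← hβ k]; rfl
    have h3 : ((∑ j, a k j • y j) i).val n =
        Submodule.mkQ (I ^ n • ⊤ : Submodule R R) (∑ j, a k j * (η j i n)) := by
      rw [Finset.sum_apply, AdicCompletion.val_sum_apply, map_sum]
      refine Finset.sum_congr rfl fun j _ => ?_
      rw [Pi.smul_apply, AdicCompletion.val_smul_apply, ← hη j i]
      rfl
    have h4 : Submodule.mkQ (I ^ n • ⊤ : Submodule R R) ((β k n) i) =
        Submodule.mkQ (I ^ n • ⊤ : Submodule R R) (∑ j, a k j * (η j i n)) := by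
      rw [← h2, ← h3]; exact h1
    rw [Submodule.mkQ_apply, Submodule.mkQ_apply, Submodule.Quotient.eq, h6] at h4
    exact h4
  refine ⟨fun j => Finsupp.onFinset T (fun i => if i ∈ T then η j i n else 0)
    (fun i hi => by by_contra hiT; exact hi (if_neg hiT)), fun k => ?_⟩
  rw [← hβ k]
  show Submodule.mkQ (I ^ n • ⊤ : Submodule R (α →₀ R)) (β k n) = _
  rw [Submodule.mkQ_apply, Submodule.mkQ_apply, Submodule.Quotient.eq, mem_smul_top_finsupp]
  intro i
  rw [Finsupp.sub_apply, Finsupp.finsetSum_apply]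
  by_cases hiT : i ∈ T
  · simp only [Finsupp.smul_apply, Finsupp.onFinset_apply, if_pos hiT, smul_eq_mul]
    exact hcong k i
  · have h0 : (β k n) i = 0 := by
      by_contra hne
      exact hiT (Finset.mem_biUnion.mpr ⟨k, Finset.mem_univ _, Finsupp.mem_support_iff.mpr hne⟩)
    simp only [Finsupp.smul_apply, Finsupp.onFinset_apply, if_neg hiT, smul_zero,
      Finset.sum_const_zero, h0, sub_zero]
    exact zero_mem _

/-- Stacks 05D0-style: `(⊕_α R)^ → ∏_α R^` is universally injective. -/
theorem univInj (Q : Type u) [AddCommGroup Q] [Module R Q] :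
    Function.Injective ((Phi I α).rTensor Q) := by
  apply univInj_of_equational
  intro m n a b y hy
  exact closed_image I α a b (fun N => in_closure I α a b y hy N)

/-- The completion of a free module over a Noetherian ring is flat. -/
theorem flat_completion : Module.Flat R (AdicCompletion I (α →₀ R)) := by
  haveI : Module.Flat R (α → AdicCompletion I R) := flat_pi (fun _ : α => AdicCompletion I R)
  exact flat_of_univInj (Phi I α) (univInj I α)

/-- The completion of a free module over a complete Noetherian ring is Mittag-Leffler. -/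
theorem ml_completion [IsAdicComplete I R]
    (ι : Type u) (Qf : ι → Type u) [∀ i, AddCommGroup (Qf i)] [∀ i, Module R (Qf i)] :
    Function.Injective (TensorProduct.piRightHom R R (AdicCompletion I (α →₀ R)) Qf) := by
  haveI : Module.Projective R (AdicCompletion I R) :=
    Module.Projective.of_equiv (AdicCompletion.ofLinearEquiv I R)
  exact ml_of_univInj (Phi I α) (univInj I α)
    (ml_pi α (AdicCompletion I R)
      (fun ι' Qf' _ _ => Groth.Agent.Helper12.MLProj.ml_of_projective ι' Qf')) ι Qf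

end Main

end Groth.Agent.Helper12.ComplFree
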