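import Mathlib
import Groth.Agent.Lib.Helper12.ComplFree

/-!
# Completion of a flat module with projective reduction (helper12)

Over a Noetherian `I`-adically complete ring `R`, if `M` is flat and `M / I M` is projective over
`R / I`, then the completion of `M` is a retract of the completion of a free module (Eilenberg
swindle), hence flat and Mittag-Leffler.
-/

set_option autoImplicit false
set_option linter.style.haveILetI false
set_option linter.unusedSectionVars false

universe u

open TensorProduct AdicCompletion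

namespace Groth.Agent.Helper12.ComplProj

section General

variable {R : Type u} [CommRing R] (I : Ideal R) {G M : Type u} [AddCommGroup G] [Module R G]
  [AddCommGroup M] [Module R M]

theorem surj_pow (π : G →ₗ[R] M)
    (ha : ∀ m : M, ∃ g : G, m - π g ∈ (I • ⊤ : Submodule R M)) (n : ℕ) :
    ∀ m : M, ∃ g : G, m - π g ∈ (I ^ n • ⊤ : Submodule R M) := by
  induction n with
  | zero =>
    intro m
    exact ⟨0, by rw [pow_zero, Ideal.one_eq_top, Submodule.top_smul]; trivial⟩
  | succ n ih =>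
    have key : ∀ x ∈ (I • ⊤ : Submodule R M),
        ∃ g : G, x - π g ∈ (I ^ (n + 1) • ⊤ : Submodule R M) := by
      intro x hx
      refine Submodule.smul_induction_on
        (p := fun x => ∃ g : G, x - π g ∈ (I ^ (n + 1) • ⊤ : Submodule R M)) hx ?_ ?_
      · intro a haI m' _
        obtain ⟨g', hg'⟩ := ih m'
        refine ⟨a • g', ?_⟩
        rw [map_smul, ← smul_sub]
        have h1 := Submodule.smul_mem_smul haI hg'
        rwa [← Submodule.mul_smul, ← pow_succ'] at h1
      · rintro x y ⟨gx, hgx⟩ ⟨gy, hgy⟩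
        refine ⟨gx + gy, ?_⟩
        rw [map_add, add_sub_add_comm]
        exact Submodule.add_mem _ hgx hgy
    intro m
    obtain ⟨g₀, hg₀⟩ := ha m
    obtain ⟨g₁, hg₁⟩ := key _ hg₀
    refine ⟨g₀ + g₁, ?_⟩
    rw [map_add, ← sub_sub]
    exact hg₁

theorem inj_pow [Module.Flat R M] (π : G →ₗ[R] M)
    (ha : ∀ m : M, ∃ g : G, m - π g ∈ (I • ⊤ : Submodule R M))
    (hb : ∀ g : G, π g ∈ (I • ⊤ : Submodule R M) → g ∈ (I • ⊤ : Submodule R G)) (n : ℕ) :
    ∀ g : G, π g ∈ (I ^ n • ⊤ : Submodule R M) → g ∈ (I ^ n • ⊤ : Submodule R G) := by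
  classical
  induction n with
  | zero =>
    intro g _
    rw [pow_zero, Ideal.one_eq_top, Submodule.top_smul]
    trivial
  | succ n ih =>
    intro g hg
    have hg' : π g ∈ (I ^ n • ⊤ : Submodule R M) :=
      Submodule.smul_mono_left (Ideal.pow_le_pow_right (Nat.le_succ n)) hg
    have hgn := ih g hg'
    have hspanG : (⊤ : Submodule R G) = Submodule.span R (Set.range (id : G → G)) := by
      rw [Set.range_id, Submodule.span_univ]
    have hspanM : (⊤ : Submodule R M) = Submodule.span R (Set.range (id : M → M)) := by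
      rw [Set.range_id, Submodule.span_univ]
    rw [hspanG, Submodule.mem_ideal_smul_span_iff_exists_sum] at hgn
    obtain ⟨a, ha_mem, hag⟩ := hgn
    rw [hspanM, Submodule.mem_ideal_smul_span_iff_exists_sum] at hg
    obtain ⟨b, hb_mem, hbg⟩ := hg
    have hag' : ∑ i : a.support, a i • (i : G) = g := by
      rw [Finset.sum_coe_sort a.support (fun i => a i • i)]
      exact hag
    have hbg' : ∑ l : b.support, b l • (l : M) = π g := by
      rw [Finset.sum_coe_sort b.support (fun l => b l • l)]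
      exact hbg
    have hsum : ∑ i : a.support ⊕ b.support,
        (Sum.elim (fun i : a.support => a i) (fun l : b.support => - b l) i) •
          (Sum.elim (fun i : a.support => π (i : G)) (fun l : b.support => (l : M)) i) = 0 := by
      rw [Fintype.sum_sum_type]
      simp only [Sum.elim_inl, Sum.elim_inr, neg_smul, Finset.sum_neg_distrib]
      rw [hbg', ← hag', map_sum]
      simp only [map_smul]
      exact add_neg_cancel _
    obtain ⟨k, c, y, hxy, hfc⟩ := Module.Flat.isTrivialRelation_of_sum_smul_eq_zero hsum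
    choose h hh using fun j => ha (y j)
    have hi : ∀ i : a.support,
        (i : G) - ∑ j, c (Sum.inl i) j • h j ∈ (I • ⊤ : Submodule R G) := by
      intro i
      apply hb
      have e1 : π ((i : G) - ∑ j, c (Sum.inl i) j • h j) =
          ∑ j, c (Sum.inl i) j • (y j - π (h j)) := by
        have e2 := hxy (Sum.inl i)
        rw [Sum.elim_inl] at e2
        rw [map_sub, map_sum, e2, ← Finset.sum_sub_distrib]
        refine Finset.sum_congr rfl fun j _ => ?_
        rw [map_smul, smul_sub]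
      rw [e1]
      exact Submodule.sum_mem _ (fun j _ => Submodule.smul_mem _ _ (hh j))
    have hcoef : ∀ j, ∑ i : a.support, a i * c (Sum.inl i) j ∈ I ^ (n + 1) := by
      intro j
      have h0 := hfc j
      rw [Fintype.sum_sum_type] at h0
      simp only [Sum.elim_inl, Sum.elim_inr, neg_mul, Finset.sum_neg_distrib] at h0
      rw [add_neg_eq_zero] at h0
      rw [h0]
      exact Ideal.sum_mem _ (fun l _ => Ideal.mul_mem_right _ _ (hb_mem l))
    have hgdecomp : g = ∑ i : a.support, a i • ((i : G) - ∑ j, c (Sum.inl i) j • h j) +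
        ∑ j, (∑ i : a.support, a i * c (Sum.inl i) j) • h j := by
      rw [← hag']
      simp only [smul_sub, Finset.sum_sub_distrib, Finset.smul_sum, smul_smul, Finset.sum_smul]
      rw [Finset.sum_comm]
      exact (sub_add_cancel _ _).symm
    rw [hgdecomp]
    refine Submodule.add_mem _ (Submodule.sum_mem _ fun i _ => ?_)
      (Submodule.sum_mem _ fun j _ => ?_)
    · have h1 := Submodule.smul_mem_smul (ha_mem i) (hi i)
      rwa [← Submodule.mul_smul, ← pow_succ] at h1
    · exact Submodule.smul_mem_smul (hcoef j) Submodule.mem_top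

theorem mk_eq_mk_iff (a b : AdicCauchySequence I M) :
    mk I M a = mk I M b ↔ ∀ n, a n - b n ∈ (I ^ n • ⊤ : Submodule R M) := by
  constructor
  · intro h n
    have h1 : (Submodule.Quotient.mk (a n) : M ⧸ (I ^ n • ⊤ : Submodule R M)) =
        Submodule.Quotient.mk (b n) :=
      congrArg (fun x : AdicCompletion I M => x.val n) h
    exact (Submodule.Quotient.eq _).mp h1
  · intro h
    apply AdicCompletion.ext
    intro n
    show (Submodule.Quotient.mk (a n) : M ⧸ (I ^ n • ⊤ : Submodule R M)) =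
        Submodule.Quotient.mk (b n)
    exact (Submodule.Quotient.eq _).mpr (h n)

theorem map_bijective (π : G →ₗ[R] M)
    (han : ∀ n (m : M), ∃ g : G, m - π g ∈ (I ^ n • ⊤ : Submodule R M))
    (hbn : ∀ n (g : G), π g ∈ (I ^ n • ⊤ : Submodule R M) → g ∈ (I ^ n • ⊤ : Submodule R G)) :
    Function.Bijective (AdicCompletion.map I π) := by
  constructor
  · rw [injective_iff_map_eq_zero]
    intro x hx
    obtain ⟨a, rfl⟩ := AdicCompletion.mk_surjective I G x
    rw [AdicCompletion.map_mk] at hx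
    have h0 : (0 : AdicCompletion I M) = mk I M 0 := (_root_.map_zero _).symm
    rw [h0, mk_eq_mk_iff] at hx
    have h0' : (0 : AdicCompletion I G) = mk I G 0 := (_root_.map_zero _).symm
    rw [h0', mk_eq_mk_iff]
    intro n
    have h1 := hx n
    rw [AdicCauchySequence.map_apply_coe, AdicCauchySequence.zero_apply, sub_zero] at h1
    rw [AdicCauchySequence.zero_apply, sub_zero]
    exact hbn n _ h1
  · intro y
    obtain ⟨b, rfl⟩ := AdicCompletion.mk_surjective I M y
    choose g hg using fun n => han n (b n)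
    have hcauchy : ∀ n, g n ≡ g (n + 1) [SMOD (I ^ n • ⊤ : Submodule R G)] := by
      intro n
      rw [SModEq.sub_mem]
      apply hbn n
      have hbc : b n - b (n + 1) ∈ (I ^ n • ⊤ : Submodule R M) := by
        have h1 := b.property (Nat.le_succ n)
        rwa [SModEq.sub_mem] at h1
      have h1 : b (n + 1) - π (g (n + 1)) ∈ (I ^ n • ⊤ : Submodule R M) :=
        Submodule.smul_mono_left (Ideal.pow_le_pow_right (Nat.le_succ n)) (hg (n + 1))
      have e1 : π (g n - g (n + 1)) =
          (b (n + 1) - π (g (n + 1))) - (b n - π (g n)) + (b n - b (n + 1)) := by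
        rw [map_sub]; abel
      rw [e1]
      exact Submodule.add_mem _ (Submodule.sub_mem _ h1 (hg n)) hbc
    refine ⟨mk I G (AdicCauchySequence.mk I G g hcauchy), ?_⟩
    rw [AdicCompletion.map_mk, mk_eq_mk_iff]
    intro n
    rw [AdicCauchySequence.map_apply_coe]
    show π (g n) - b n ∈ _
    rw [← neg_sub]
    exact Submodule.neg_mem _ (hg n)

theorem flat_prod {N : Type u} [AddCommGroup N] [Module R N] [Module.Flat R M] [Module.Flat R N] :
    Module.Flat R (M × N) := by
  rw [Module.Flat.iff_lTensor_preserves_injective_linearMap]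
  intro A B _ _ _ _ f hf
  have h1 : Function.Injective (LinearMap.lTensor M f) :=
    Module.Flat.lTensor_preserves_injective_linearMap f hf
  have h2 : Function.Injective (LinearMap.lTensor N f) :=
    Module.Flat.lTensor_preserves_injective_linearMap f hf
  have hnat : (TensorProduct.prodLeft R R M N B).toLinearMap ∘ₗ LinearMap.lTensor (M × N) f =
      (LinearMap.prodMap (LinearMap.lTensor M f) (LinearMap.lTensor N f)) ∘ₗ
        (TensorProduct.prodLeft R R M N A).toLinearMap := by
    apply TensorProduct.ext'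
    rintro ⟨m, n⟩ a
    rfl
  rw [injective_iff_map_eq_zero]
  intro z hz
  have h3 := LinearMap.congr_fun hnat z
  rw [LinearMap.comp_apply, hz, _root_.map_zero, LinearMap.comp_apply] at h3
  have h4 : (LinearMap.lTensor M f) ((TensorProduct.prodLeft R R M N A) z).1 = 0 :=
    (congrArg Prod.fst h3).symm
  have h5 : (LinearMap.lTensor N f) ((TensorProduct.prodLeft R R M N A) z).2 = 0 :=
    (congrArg Prod.snd h3).symm
  have h6 : (TensorProduct.prodLeft R R M N A) z = 0 :=
    Prod.ext (h1 (h4.trans (_root_.map_zero _).symm)) (h2 (h5.trans (_root_.map_zero _).symm))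
  exact (TensorProduct.prodLeft R R M N A).injective (h6.trans (_root_.map_zero _).symm)

end General

section Swindle

variable {R : Type u} [CommRing R] (I : Ideal R) {M L : Type u} [AddCommGroup M] [Module R M]
  [AddCommGroup L] [Module R L]

/-- shift down -/
noncomputable def shA : (ℕ →₀ L) →ₗ[R] (ℕ →₀ L) :=
  Finsupp.lcomapDomain Nat.succ Nat.succ_injective

/-- shift up -/
noncomputable def shB : (ℕ →₀ L) →ₗ[R] (ℕ →₀ L) := Finsupp.lmapDomain L R Nat.succ

/-- componentwise application -/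
noncomputable def opE (e : L →ₗ[R] L) : (ℕ →₀ L) →ₗ[R] (ℕ →₀ L) := Finsupp.mapRange.linearMap e

theorem shA_apply (x : ℕ →₀ L) (k : ℕ) : (shA (R := R) x) k = x (k + 1) := rfl

theorem shB_succ (x : ℕ →₀ L) (k : ℕ) : (shB (R := R) x) (k + 1) = x k :=
  Finsupp.mapDomain_apply Nat.succ_injective x k

theorem shB_zero (x : ℕ →₀ L) : (shB (R := R) x) 0 = 0 :=
  Finsupp.mapDomain_notin_range x 0 (by rintro ⟨k, hk⟩; exact Nat.succ_ne_zero k hk)

theorem opE_apply (e : L →ₗ[R] L) (x : ℕ →₀ L) (k : ℕ) : (opE e x) k = e (x k) := rfl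

theorem shA_shB (x : ℕ →₀ L) : shA (R := R) (shB (R := R) x) = x := by
  ext k
  rw [shA_apply, shB_succ]

theorem decomp (x : ℕ →₀ L) :
    x = Finsupp.single 0 (x 0) + shB (R := R) (shA (R := R) x) := by
  ext k
  cases k with
  | zero => rw [Finsupp.add_apply, Finsupp.single_eq_same, shB_zero, add_zero]
  | succ k =>
    rw [Finsupp.add_apply, Finsupp.single_apply, if_neg (by omega), shB_succ, shA_apply, zero_add]

theorem opE_shA (e : L →ₗ[R] L) (x : ℕ →₀ L) :
    opE e (shA (R := R) x) = shA (R := R) (opE e x) := by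
  ext k
  rw [opE_apply, shA_apply, shA_apply, opE_apply]

theorem opE_shB (e : L →ₗ[R] L) (x : ℕ →₀ L) :
    opE e (shB (R := R) x) = shB (R := R) (opE e x) := by
  ext k
  cases k with
  | zero => rw [opE_apply, shB_zero, shB_zero, _root_.map_zero]
  | succ k => rw [opE_apply, shB_succ, shB_succ, opE_apply]

theorem opE_single (e : L →ₗ[R] L) (k : ℕ) (t : L) :
    opE e (Finsupp.single k t) = Finsupp.single k (e t) := by
  ext j
  rw [opE_apply, Finsupp.single_apply, Finsupp.single_apply]
  split_ifs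
  · rfl
  · exact _root_.map_zero e

theorem shA_single_zero (t : L) : shA (R := R) (Finsupp.single 0 t) = 0 := by
  ext k
  rw [shA_apply, Finsupp.single_apply, if_neg (by omega)]
  rfl

/-- the swindle map -/
noncomputable def sw (p : L →ₗ[R] M) (e : L →ₗ[R] L) : (ℕ →₀ L) →ₗ[R] M × (ℕ →₀ L) :=
  (p ∘ₗ Finsupp.lapply 0).prod (LinearMap.id - opE e + opE e ∘ₗ shA)

theorem sw_apply (p : L →ₗ[R] M) (e : L →ₗ[R] L) (g : ℕ →₀ L) :
    sw p e g = (p (g 0), g - opE e g + opE e (shA (R := R) g)) := rfl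

theorem map_mem {X Y : Type*} [AddCommGroup X] [Module R X] [AddCommGroup Y] [Module R Y]
    (f : X →ₗ[R] Y) {x : X} (hx : x ∈ (I • ⊤ : Submodule R X)) :
    f x ∈ (I • ⊤ : Submodule R Y) :=
  Submodule.smul_top_le_comap_smul_top I f hx

theorem prod_mem {X Y : Type*} [AddCommGroup X] [Module R X] [AddCommGroup Y] [Module R Y]
    {x : X} {y : Y} (hx : x ∈ (I • ⊤ : Submodule R X)) (hy : y ∈ (I • ⊤ : Submodule R Y)) :
    ((x, y) : X × Y) ∈ (I • ⊤ : Submodule R (X × Y)) := by
  have e1 : ((x, y) : X × Y) = LinearMap.inl R X Y x + LinearMap.inr R X Y y := by simp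
  rw [e1]
  exact Submodule.add_mem _ (map_mem I _ hx) (map_mem I _ hy)

theorem opE_idem (e : L →ₗ[R] L) (h2 : ∀ l, e (e l) - e l ∈ (I • ⊤ : Submodule R L))
    (x : ℕ →₀ L) : opE e (opE e x) - opE e x ∈ (I • ⊤ : Submodule R (ℕ →₀ L)) := by
  refine Finsupp.induction_linear x ?_ ?_ ?_
  · rw [_root_.map_zero, _root_.map_zero, sub_zero]
    exact Submodule.zero_mem _
  · intro f g hf hg
    rw [map_add, map_add, add_sub_add_comm]
    exact Submodule.add_mem _ hf hg
  · intro a b
    rw [opE_single, opE_single, ← Finsupp.single_sub]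
    exact map_mem I (Finsupp.lsingle a) (h2 b)

theorem sw_surj (p : L →ₗ[R] M) (e : L →ₗ[R] L)
    (h1 : ∀ l, p (e l) - p l ∈ (I • ⊤ : Submodule R M))
    (h2 : ∀ l, e (e l) - e l ∈ (I • ⊤ : Submodule R L))
    (h4 : ∀ m : M, ∃ t : L, m - p t ∈ (I • ⊤ : Submodule R M) ∧
      e t - t ∈ (I • ⊤ : Submodule R L)) :
    ∀ z : M × (ℕ →₀ L), ∃ g : ℕ →₀ L,
      z - sw p e g ∈ (I • ⊤ : Submodule R (M × (ℕ →₀ L))) := by
  rintro ⟨m, l⟩
  obtain ⟨t, ht1, ht2⟩ := h4 m
  obtain ⟨g, hg⟩ : ∃ g : ℕ →₀ L,
      g = Finsupp.single 0 t + (l - opE e l) + shB (R := R) (opE e l) := ⟨_, rfl⟩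
  refine ⟨g, ?_⟩
  have hg0 : g 0 = t + (l 0 - e (l 0)) := by
    rw [hg, Finsupp.add_apply, Finsupp.add_apply, Finsupp.single_eq_same, Finsupp.sub_apply,
      opE_apply, shB_zero, add_zero]
  have hEg : opE e g = Finsupp.single 0 (e t) + (opE e l - opE e (opE e l)) +
      shB (R := R) (opE e (opE e l)) := by
    rw [hg, map_add, map_add, map_sub, opE_single, opE_shB]
  have hAg : shA (R := R) g = (shA (R := R) l - opE e (shA (R := R) l)) + opE e l := by
    rw [hg, map_add, map_add, map_sub, shA_single_zero, zero_add, shA_shB, opE_shA]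
  have hEAg : opE e (shA (R := R) g) =
      (opE e (shA (R := R) l) - opE e (opE e (shA (R := R) l))) + opE e (opE e l) := by
    rw [hAg, map_add, map_sub]
  rw [sw_apply]
  show ((m - p (g 0), l - (g - opE e g + opE e (shA (R := R) g))) : M × (ℕ →₀ L)) ∈ _
  refine prod_mem I ?_ ?_
  · have e1 : m - p (g 0) = (m - p t) + (p (e (l 0)) - p (l 0)) := by
      rw [hg0, map_add, map_sub]; abel
    rw [e1]
    exact Submodule.add_mem _ ht1 (h1 _)
  · have e2 : l - (g - opE e g + opE e (shA (R := R) g)) =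
        Finsupp.single 0 (e t - t) - (opE e (opE e l) - opE e l) - (opE e (opE e l) - opE e l) +
          shB (R := R) (opE e (opE e l) - opE e l) +
          (opE e (opE e (shA (R := R) l)) - opE e (shA (R := R) l)) := by
      rw [hEg, hEAg, hg, Finsupp.single_sub, map_sub]
      abel
    rw [e2]
    refine Submodule.add_mem _ (Submodule.add_mem _ (Submodule.sub_mem _
      (Submodule.sub_mem _ ?_ ?_) ?_) ?_) ?_
    · exact map_mem I (Finsupp.lsingle 0) ht2
    · exact opE_idem I e h2 l
    · exact opE_idem I e h2 l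
    · exact map_mem I shB (opE_idem I e h2 l)
    · exact opE_idem I e h2 _

theorem sw_inj (p : L →ₗ[R] M) (e : L →ₗ[R] L)
    (h2 : ∀ l, e (e l) - e l ∈ (I • ⊤ : Submodule R L))
    (h3 : ∀ l, p l ∈ (I • ⊤ : Submodule R M) → e l ∈ (I • ⊤ : Submodule R L)) :
    ∀ g : ℕ →₀ L, sw p e g ∈ (I • ⊤ : Submodule R (M × (ℕ →₀ L))) →
      g ∈ (I • ⊤ : Submodule R (ℕ →₀ L)) := by
  intro g hg
  have hp : p (g 0) ∈ (I • ⊤ : Submodule R M) := map_mem I (LinearMap.fst R M (ℕ →₀ L)) hg
  have hw : g - opE e g + opE e (shA (R := R) g) ∈ (I • ⊤ : Submodule R (ℕ →₀ L)) :=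
    map_mem I (LinearMap.snd R M (ℕ →₀ L)) hg
  have hEw := map_mem I (opE e) hw
  have hEA : opE e (shA (R := R) g) ∈ (I • ⊤ : Submodule R (ℕ →₀ L)) := by
    have e1 : opE e (shA (R := R) g) = opE e (g - opE e g + opE e (shA (R := R) g)) +
        (opE e (opE e g) - opE e g) -
        (opE e (opE e (shA (R := R) g)) - opE e (shA (R := R) g)) := by
      rw [map_add, map_sub]; abel
    rw [e1]
    exact Submodule.sub_mem _ (Submodule.add_mem _ hEw (opE_idem I e h2 g)) (opE_idem I e h2 _)
  have hEg : opE e g ∈ (I • ⊤ : Submodule R (ℕ →₀ L)) := by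
    have e2 := decomp (R := R) (opE e g)
    rw [opE_apply, ← opE_shA] at e2
    rw [e2]
    exact Submodule.add_mem _ (map_mem I (Finsupp.lsingle 0) (h3 _ hp)) (map_mem I shB hEA)
  have e3 : g = (g - opE e g + opE e (shA (R := R) g)) + opE e g - opE e (shA (R := R) g) := by
    abel
  rw [e3]
  exact Submodule.sub_mem _ (Submodule.add_mem _ hw hEg) hEA

end Swindle

section Data

theorem exists_data (R : Type u) [CommRing R] (I : Ideal R) (M : Type u) [AddCommGroup M]
    [Module R M] [Module.Projective (R ⧸ I) (M ⧸ (I • ⊤ : Submodule R M))] :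
    ∃ e : (M →₀ R) →ₗ[R] (M →₀ R),
      (∀ l, Finsupp.linearCombination R (id : M → M) (e l) -
        Finsupp.linearCombination R (id : M → M) l ∈ (I • ⊤ : Submodule R M)) ∧
      (∀ l, e (e l) - e l ∈ (I • ⊤ : Submodule R (M →₀ R))) ∧
      (∀ l, Finsupp.linearCombination R (id : M → M) l ∈ (I • ⊤ : Submodule R M) →
        e l ∈ (I • ⊤ : Submodule R (M →₀ R))) ∧
      (∀ m : M, ∃ t : M →₀ R,
        m - Finsupp.linearCombination R (id : M → M) t ∈ (I • ⊤ : Submodule R M) ∧
        e t - t ∈ (I • ⊤ : Submodule R (M →₀ R))) := by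
  classical
  obtain ⟨p, hpdef⟩ : ∃ p : (M →₀ R) →ₗ[R] M, p = Finsupp.linearCombination R id := ⟨_, rfl⟩
  rw [← hpdef]
  have hp : Function.Surjective p := by
    rw [hpdef]; exact Finsupp.linearCombination_id_surjective R M
  let pbarR : ((M →₀ R) ⧸ (I • ⊤ : Submodule R (M →₀ R))) →ₗ[R] (M ⧸ (I • ⊤ : Submodule R M)) :=
    Submodule.mapQ _ _ p (Submodule.smul_top_le_comap_smul_top I p)
  have hpbarR : ∀ l, pbarR (Submodule.Quotient.mk l) = Submodule.Quotient.mk (p l) := fun l => rfl
  let pbar : ((M →₀ R) ⧸ (I • ⊤ : Submodule R (M →₀ R))) →ₗ[R ⧸ I]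
      (M ⧸ (I • ⊤ : Submodule R M)) :=
    LinearMap.extendScalarsOfSurjective Ideal.Quotient.mk_surjective pbarR
  have hsurj : Function.Surjective pbar := by
    intro y
    obtain ⟨m, rfl⟩ := Submodule.Quotient.mk_surjective _ y
    obtain ⟨l, rfl⟩ := hp m
    exact ⟨Submodule.Quotient.mk l, rfl⟩
  obtain ⟨sbar, hs⟩ := Module.projective_lifting_property pbar LinearMap.id hsurj
  have hps : ∀ y, pbarR (sbar y) = y := fun y => LinearMap.congr_fun hs y
  obtain ⟨e, he⟩ := Module.projective_lifting_property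
    (Submodule.mkQ (I • ⊤ : Submodule R (M →₀ R)))
    ((sbar.restrictScalars R) ∘ₗ pbarR ∘ₗ (Submodule.mkQ (I • ⊤ : Submodule R (M →₀ R))))
    (Submodule.mkQ_surjective _)
  have hqe : ∀ l, (Submodule.Quotient.mk (e l) : (M →₀ R) ⧸ (I • ⊤ : Submodule R (M →₀ R))) =
      sbar (Submodule.Quotient.mk (p l)) := fun l => LinearMap.congr_fun he l
  have h1 : ∀ l, p (e l) - p l ∈ (I • ⊤ : Submodule R M) := by
    intro l
    rw [← Submodule.Quotient.eq, ← hpbarR, hqe, hps]
  refine ⟨e, h1, ?_, ?_, ?_⟩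
  · intro l
    rw [← Submodule.Quotient.eq, hqe, hqe]
    congr 1
    exact (Submodule.Quotient.eq _).mpr (h1 l)
  · intro l hl
    rw [← Submodule.Quotient.mk_eq_zero, hqe, (Submodule.Quotient.mk_eq_zero _).mpr hl,
      _root_.map_zero]
  · intro m
    obtain ⟨t, ht⟩ := Submodule.Quotient.mk_surjective _ (sbar (Submodule.Quotient.mk m))
    have ht1 : (Submodule.Quotient.mk (p t) : M ⧸ (I • ⊤ : Submodule R M)) =
        Submodule.Quotient.mk m := by
      rw [← hpbarR, ht, hps]
    refine ⟨t, (Submodule.Quotient.eq _).mp ht1.symm, ?_⟩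
    rw [← Submodule.Quotient.eq, hqe, ht1, ht]

end Data

theorem main (R : Type u) [CommRing R] [IsNoetherianRing R] (I : Ideal R) [IsAdicComplete I R]
    (M : Type u) [AddCommGroup M] [Module R M] [Module.Flat R M]
    [Module.Projective (R ⧸ I) (M ⧸ (I • ⊤ : Submodule R M))] :
    Module.Flat R (AdicCompletion I M) ∧
      ∀ (ι : Type u) (Qf : ι → Type u) [∀ i, AddCommGroup (Qf i)] [∀ i, Module R (Qf i)],
        Function.Injective (TensorProduct.piRightHom R R (AdicCompletion I M) Qf) := by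
  obtain ⟨e, h1, h2, h3, h4⟩ := exists_data R I M
  haveI : Module.Flat R (M × (ℕ →₀ (M →₀ R))) := flat_prod (R := R) (M := M) (N := ℕ →₀ (M →₀ R))
  have ha := sw_surj I (Finsupp.linearCombination R (id : M → M)) e h1 h2 h4
  have hb := sw_inj I (Finsupp.linearCombination R (id : M → M)) e h2 h3
  have hbij := map_bijective I (sw (Finsupp.linearCombination R (id : M → M)) e)
    (fun n => surj_pow I _ ha n) (fun n => inj_pow I _ ha hb n)
  let Eq := LinearEquiv.ofBijective
    (AdicCompletion.map I (sw (Finsupp.linearCombination R (id : M → M)) e)) hbij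
  let ε : (ℕ × M →₀ R) ≃ₗ[R] (ℕ →₀ (M →₀ R)) := Finsupp.finsuppProdLEquiv R
  have hεε : ε.toLinearMap ∘ₗ ε.symm.toLinearMap = LinearMap.id :=
    LinearMap.ext fun z => ε.apply_symm_apply z
  let i : AdicCompletion I M →ₗ[R] AdicCompletion I (ℕ × M →₀ R) :=
    ((AdicCompletion.map I ε.symm.toLinearMap).restrictScalars R) ∘ₗ
      (Eq.symm.toLinearMap.restrictScalars R) ∘ₗ
      ((AdicCompletion.map I (LinearMap.inl R M (ℕ →₀ (M →₀ R)))).restrictScalars R)
  let r : AdicCompletion I (ℕ × M →₀ R) →ₗ[R] AdicCompletion I M :=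
    ((AdicCompletion.map I (LinearMap.fst R M (ℕ →₀ (M →₀ R)))).restrictScalars R) ∘ₗ
      (Eq.toLinearMap.restrictScalars R) ∘ₗ
      ((AdicCompletion.map I ε.toLinearMap).restrictScalars R)
  have k1 : (AdicCompletion.map I (M := ℕ × M →₀ R) (N := ℕ →₀ (M →₀ R)) ε.toLinearMap) ∘ₗ
      (AdicCompletion.map I (M := ℕ →₀ (M →₀ R)) (N := ℕ × M →₀ R) ε.symm.toLinearMap) =
      LinearMap.id := by
    rw [AdicCompletion.map_comp, hεε, AdicCompletion.map_id]
  have k2 : (AdicCompletion.map I (M := M × (ℕ →₀ (M →₀ R))) (N := M)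
        (LinearMap.fst R M (ℕ →₀ (M →₀ R)))) ∘ₗ
      (AdicCompletion.map I (M := M) (N := M × (ℕ →₀ (M →₀ R)))
        (LinearMap.inl R M (ℕ →₀ (M →₀ R)))) = LinearMap.id := by
    rw [AdicCompletion.map_comp, LinearMap.fst_comp_inl, AdicCompletion.map_id]
  have hri : r ∘ₗ i = LinearMap.id := by
    apply LinearMap.ext
    intro x
    show AdicCompletion.map I (M := M × (ℕ →₀ (M →₀ R))) (N := M)
        (LinearMap.fst R M (ℕ →₀ (M →₀ R)))
      (Eq (AdicCompletion.map I (M := ℕ × M →₀ R) (N := ℕ →₀ (M →₀ R)) ε.toLinearMap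
        (AdicCompletion.map I (M := ℕ →₀ (M →₀ R)) (N := ℕ × M →₀ R) ε.symm.toLinearMap
        (Eq.symm (AdicCompletion.map I (M := M) (N := M × (ℕ →₀ (M →₀ R)))
          (LinearMap.inl R M (ℕ →₀ (M →₀ R))) x))))) = x
    have k1' := LinearMap.congr_fun k1
      (Eq.symm (AdicCompletion.map I (M := M) (N := M × (ℕ →₀ (M →₀ R)))
        (LinearMap.inl R M (ℕ →₀ (M →₀ R))) x))
    rw [LinearMap.comp_apply, LinearMap.id_apply] at k1'
    rw [k1', LinearEquiv.apply_symm_apply]
    exact LinearMap.congr_fun k2 x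
  haveI : Module.Flat R (AdicCompletion I (ℕ × M →₀ R)) :=
    Groth.Agent.Helper12.ComplFree.flat_completion I (ℕ × M)
  refine ⟨Module.Flat.of_retract i r hri, fun ι Qf _ _ => ?_⟩
  exact Groth.Agent.Helper12.MLProj.ml_of_retract
    (fun ι' Qf' _ _ => Groth.Agent.Helper12.ComplFree.ml_completion I (ℕ × M) ι' Qf') i r hri ι Qf

end Groth.Agent.Helper12.ComplProj
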