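import Mathlib

/-!
Extension of a derivation `D : A → A` to the `I`-adic completion of `A`
(using `D (I^(n+1)) ⊆ I^n`).
-/

set_option linter.style.haveILetI false
set_option linter.unusedSectionVars false

namespace Groth.Agent.Helper12.DerivCompl

open AdicCompletion

variable {k : Type*} [CommRing k] {A : Type*} [CommRing A] [Algebra k A] (I : Ideal A)
  (D : Derivation k A A)

theorem smul_top_eq (n : ℕ) : (I ^ n • ⊤ : Submodule A A) = I ^ n :=
  (Ideal.smul_eq_mul _ _).trans (Ideal.mul_top _)

theorem deriv_mem (n : ℕ) {x : A} (hx : x ∈ I ^ (n + 1)) : D x ∈ I ^ n := by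
  induction n generalizing x with
  | zero => simp
  | succ n ih =>
    have hx' : x ∈ I ^ (n + 1) • I := by rwa [Ideal.smul_eq_mul, ← pow_succ]
    refine Submodule.smul_induction_on (p := fun x => D x ∈ I ^ (n + 1)) hx' ?_ ?_
    · intro a ha b hb
      rw [smul_eq_mul, D.leibniz]
      refine Ideal.add_mem _ ?_ ?_
      · rw [smul_eq_mul]; exact Ideal.mul_mem_right _ _ ha
      · rw [smul_eq_mul, pow_succ']; exact Ideal.mul_mem_mul hb (ih ha)
    · intro a b ha hb
      rw [map_add]; exact Ideal.add_mem _ ha hb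

/-- the shifted derivative of a Cauchy sequence -/
noncomputable def dseq (f : AdicCauchySequence I A) : AdicCauchySequence I A :=
  ⟨fun n => D (f (n + 1)), by
    intro m n hmn
    have h1 : f (m + 1) ≡ f (n + 1) [SMOD (I ^ (m + 1) • ⊤ : Submodule A A)] :=
      f.property (Nat.succ_le_succ hmn)
    rw [SModEq.sub_mem] at h1 ⊢
    rw [smul_top_eq] at h1 ⊢
    rw [← map_sub]
    exact deriv_mem I D m h1⟩

theorem dseq_apply (f : AdicCauchySequence I A) (n : ℕ) : dseq I D f n = D (f (n + 1)) := rfl

theorem mk_eq_mk_iff (f g : AdicCauchySequence I A) :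
    mk I A f = mk I A g ↔ ∀ n, f n - g n ∈ I ^ n := by
  constructor
  · intro h n
    have h1 : (Submodule.Quotient.mk (f n) : A ⧸ (I ^ n • ⊤ : Submodule A A)) =
        Submodule.Quotient.mk (g n) :=
      congrArg (fun x : AdicCompletion I A => x.val n) h
    rw [Submodule.Quotient.eq, smul_top_eq] at h1
    exact h1
  · intro h
    apply AdicCompletion.ext
    intro n
    show (Submodule.Quotient.mk (f n) : A ⧸ (I ^ n • ⊤ : Submodule A A)) =
        Submodule.Quotient.mk (g n)
    rw [Submodule.Quotient.eq, smul_top_eq]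
    exact h n

/-- the underlying function of the extended derivation -/
noncomputable def dhatFun (x : AdicCompletion I A) : AdicCompletion I A :=
  mk I A (dseq I D (Classical.choose (mk_surjective I A x)))

theorem dhatFun_mk (f : AdicCauchySequence I A) :
    dhatFun I D (mk I A f) = mk I A (dseq I D f) := by
  unfold dhatFun
  have h := Classical.choose_spec (mk_surjective I A (mk I A f))
  rw [mk_eq_mk_iff] at h ⊢
  intro n
  rw [dseq_apply, dseq_apply, ← map_sub]
  exact deriv_mem I D n (h (n + 1))

theorem dhatFun_add (x y : AdicCompletion I A) :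
    dhatFun I D (x + y) = dhatFun I D x + dhatFun I D y := by
  obtain ⟨f, rfl⟩ := mk_surjective I A x
  obtain ⟨g, rfl⟩ := mk_surjective I A y
  have e1 : mk I A f + mk I A g = mk I A (f + g) := (map_add _ _ _).symm
  rw [e1, dhatFun_mk, dhatFun_mk, dhatFun_mk]
  have e2 : mk I A (dseq I D f) + mk I A (dseq I D g) = mk I A (dseq I D f + dseq I D g) :=
    (map_add _ _ _).symm
  rw [e2]
  congr 1
  apply AdicCauchySequence.ext
  intro n
  rw [AdicCauchySequence.add_apply, dseq_apply, dseq_apply, dseq_apply,
    AdicCauchySequence.add_apply, map_add]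

theorem dhatFun_mul (x y : AdicCompletion I A) :
    dhatFun I D (x * y) = x * dhatFun I D y + y * dhatFun I D x := by
  obtain ⟨f, rfl⟩ := mk_surjective I A x
  obtain ⟨g, rfl⟩ := mk_surjective I A y
  have e1 : mk I A f * mk I A g = mk I A (f * g) := (map_mul (mkₐ I) f g).symm
  rw [e1, dhatFun_mk, dhatFun_mk, dhatFun_mk]
  have e2 : mk I A f * mk I A (dseq I D g) = mk I A (f * dseq I D g) :=
    (map_mul (mkₐ I) _ _).symm
  have e3 : mk I A g * mk I A (dseq I D f) = mk I A (g * dseq I D f) :=
    (map_mul (mkₐ I) _ _).symm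
  have e4 : mk I A (f * dseq I D g) + mk I A (g * dseq I D f) =
      mk I A (f * dseq I D g + g * dseq I D f) := (map_add _ _ _).symm
  rw [e2, e3, e4, mk_eq_mk_iff]
  intro n
  show D (f (n + 1) * g (n + 1)) - (f n * D (g (n + 1)) + g n * D (f (n + 1))) ∈ I ^ n
  rw [D.leibniz, smul_eq_mul, smul_eq_mul]
  have hf : f (n + 1) - f n ∈ I ^ n := by
    have h1 : f (n + 1) ≡ f n [SMOD (I ^ n • ⊤ : Submodule A A)] :=
      (f.property (Nat.le_succ n)).symm
    rw [SModEq.sub_mem, smul_top_eq] at h1
    exact h1
  have hg : g (n + 1) - g n ∈ I ^ n := by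
    have h1 : g (n + 1) ≡ g n [SMOD (I ^ n • ⊤ : Submodule A A)] :=
      (g.property (Nat.le_succ n)).symm
    rw [SModEq.sub_mem, smul_top_eq] at h1
    exact h1
  have e5 : f (n + 1) * D (g (n + 1)) + g (n + 1) * D (f (n + 1)) -
      (f n * D (g (n + 1)) + g n * D (f (n + 1))) =
      (f (n + 1) - f n) * D (g (n + 1)) + (g (n + 1) - g n) * D (f (n + 1)) := by ring
  rw [e5]
  exact Ideal.add_mem _ (Ideal.mul_mem_right _ _ hf) (Ideal.mul_mem_right _ _ hg)

/-- constant Cauchy sequence -/
def constSeq (a : A) : AdicCauchySequence I A := ⟨fun _ => a, fun _ => rfl⟩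

theorem of_eq_mk (a : A) : of I A a = mk I A (constSeq I a) := by
  apply AdicCompletion.ext
  intro n
  rfl

theorem dhatFun_of (a : A) : dhatFun I D (of I A a) = of I A (D a) := by
  rw [of_eq_mk, dhatFun_mk, of_eq_mk]
  exact congrArg _ (AdicCauchySequence.ext fun n => rfl)

theorem smul_eq (c : k) (x : AdicCompletion I A) : c • x = of I A (algebraMap k A c) * x := by
  rw [Algebra.smul_def]
  rfl

theorem dhatFun_smul (c : k) (x : AdicCompletion I A) :
    dhatFun I D (c • x) = c • dhatFun I D x := by
  rw [smul_eq, dhatFun_mul, dhatFun_of, D.map_algebraMap, _root_.map_zero, mul_zero, add_zero, ← smul_eq]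

/-- The extension of a derivation to the adic completion. -/
noncomputable def dhat : Derivation k (AdicCompletion I A) (AdicCompletion I A) :=
  Derivation.mk'
    { toFun := dhatFun I D
      map_add' := dhatFun_add I D
      map_smul' := fun c x => dhatFun_smul I D c x }
    (fun x y => by
      show dhatFun I D (x * y) = x • dhatFun I D y + y • dhatFun I D x
      rw [smul_eq_mul, smul_eq_mul]
      exact dhatFun_mul I D x y)

theorem dhat_of (a : A) : dhat I D (of I A a) = of I A (D a) := dhatFun_of I D a

end Groth.Agent.Helper12.DerivCompl
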