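import Mathlib
import Groth.Agent.Lib.Helper12.Kaplansky
import Groth.Agent.Lib.Helper12.KapLocal

set_option autoImplicit false

namespace Groth.Agent.Helper12.KapLocal

universe u

section Decomp
variable {R : Type*} [CommRing R] [IsLocalRing R] {M : Type*} [AddCommGroup M] [Module R M]

theorem free_of_decomp [Module.Projective R M] {κ : Type*} (L : κ → Submodule R M)
    (h1 : iSupIndep L) (h2 : ⨆ k, L k = ⊤)
    (h3 : ∀ k, ∃ s : Set (L k), s.Countable ∧ Submodule.span R s = ⊤) : Module.Free R M := by
  classical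
  have hfree : ∀ k : κ, Module.Free R (L k) := by
    intro k
    have hc : IsCompl (L k) (⨆ (j : κ) (_ : j ≠ k), L j) := by
      refine ⟨h1 k, ?_⟩
      rw [codisjoint_iff, ← iSup_split_single L k, h2]
    haveI : Module.Projective R (L k) :=
      Module.Projective.of_split (L k).subtype
        (Submodule.projectionOnto (L k) _ hc)
        (by ext z; simp)
    obtain ⟨t, ht, htspan⟩ := h3 k
    exact free_of_countable t ht htspan
  have hint : DirectSum.IsInternal L :=
    (DirectSum.isInternal_submodule_iff_iSupIndep_and_iSup_eq_top L).mpr ⟨h1, h2⟩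
  exact Module.Free.of_basis (hint.collectedBasis fun k =>
      @Module.Free.chooseBasis R _ _ _ _ (hfree k))

end Decomp

section Main

theorem exists_decomp_of_projective (R : Type u) [CommRing R] (P : Type u)
    [AddCommGroup P] [Module R P] [Module.Projective R P] :
    ∃ (M : Submodule R (P →₀ R)) (_ : P ≃ₗ[R] M) (𝒞 : Set (Submodule R (P →₀ R))),
      iSupIndep (fun k : ↥𝒞 => (k.1).comap M.subtype) ∧
      (⨆ k : ↥𝒞, (k.1).comap M.subtype) = ⊤ ∧
      ∀ k : ↥𝒞, ∃ s : Set ↥((k.1).comap M.subtype), s.Countable ∧ Submodule.span R s = ⊤ := by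
  classical
  obtain ⟨s, hs⟩ := Module.projective_def'.mp (inferInstance : Module.Projective R P)
  obtain ⟨lc, hlc⟩ : ∃ lc : (P →₀ R) →ₗ[R] P, lc = Finsupp.linearCombination R id := ⟨_, rfl⟩
  rw [← hlc] at hs
  have hs' : ∀ p, lc (s p) = p := fun p => LinearMap.congr_fun hs p
  have hinj : Function.Injective s := Function.LeftInverse.injective hs'
  have hPQ : IsCompl (LinearMap.range s) (LinearMap.ker lc) := by
    constructor
    · rw [Submodule.disjoint_def]
      rintro _ ⟨p, rfl⟩ hz
      rw [LinearMap.mem_ker, hs'] at hz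
      rw [hz, map_zero]
    · rw [codisjoint_iff, eq_top_iff]
      intro z _
      rw [Submodule.mem_sup]
      refine ⟨s (lc z), ⟨lc z, rfl⟩, z - s (lc z), ?_, add_sub_cancel _ _⟩
      rw [LinearMap.mem_ker, map_sub, hs', sub_self]
  let N : P → Submodule R (P →₀ R) := fun x =>
    LinearMap.range (Finsupp.lsingle x : R →ₗ[R] P →₀ R)
  have hind : iSupIndep N := by
    intro x
    have h1 := Finsupp.disjoint_lsingle_lsingle (R := R) (M := R) ({x} : Set P) ({x}ᶜ : Set P)
      disjoint_compl_right
    have h2 : (⨆ a ∈ ({x} : Set P), LinearMap.range (Finsupp.lsingle a : R →ₗ[R] P →₀ R))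
        = N x := by simp [N]
    rw [h2] at h1
    exact h1
  have htop : ⨆ x, N x = ⊤ := Finsupp.iSup_lsingle_range
  have hcg : ∀ x, Kap.CG (N x) := by
    intro x
    refine ⟨{Finsupp.single x 1}, Set.countable_singleton _, le_antisymm ?_ ?_⟩
    · rw [Submodule.span_le, Set.singleton_subset_iff]
      exact ⟨1, rfl⟩
    · rintro _ ⟨r, rfl⟩
      have : (Finsupp.lsingle x : R →ₗ[R] P →₀ R) r = r • Finsupp.single x (1 : R) := by
        rw [Finsupp.smul_single_one]; rfl
      rw [this]
      exact Submodule.smul_mem _ _ (Submodule.subset_span rfl)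
  obtain ⟨𝒞, h1, h2, h3⟩ :=
    Kap.kaplansky N hind htop hcg (LinearMap.range s) (LinearMap.ker lc) hPQ
  exact ⟨LinearMap.range s, LinearEquiv.ofInjective s hinj, 𝒞, h1, h2, h3⟩

theorem free_of_projective (R : Type u) [CommRing R] [IsLocalRing R] (P : Type u)
    [AddCommGroup P] [Module R P] [Module.Projective R P] : Module.Free R P := by
  obtain ⟨M, e, 𝒞, h1, h2, h3⟩ := exists_decomp_of_projective R P
  haveI : Module.Projective R M := Module.Projective.of_equiv' e
  have hM : Module.Free R M :=
    free_of_decomp (R := R) (M := M) (fun k : ↥𝒞 => (k.1).comap M.subtype) h1 h2 h3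
  exact Module.Free.of_equiv' hM e.symm

end Main

end Groth.Agent.Helper12.KapLocal
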