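import Mathlib
import Groth.Agent.Lib.Helper12.Dominate
import Groth.Agent.Lib.Helper12.TensorPi

set_option autoImplicit false
universe u

open TensorProduct

namespace Groth.Agent.Helper12

section

variable {R S : Type u} [CommRing R] [CommRing S] [Algebra R S]

/-- `M ⊗ Q → M ⊗ (S ⊗ Q)` is injective for faithfully flat `S`. -/
theorem lTensor_mk_injective [Module.FaithfullyFlat R S] (N Q : Type u) [AddCommGroup N] [Module R N]
    [AddCommGroup Q] [Module R Q] :
    Function.Injective ((TensorProduct.mk R S Q 1).lTensor N) := by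
  have h1 : (TensorProduct.leftComm R N S Q).toLinearMap ∘ₗ (TensorProduct.mk R S Q 1).lTensor N =
      TensorProduct.mk R S (N ⊗[R] Q) 1 := by
    apply TensorProduct.ext'
    intro n q
    simp
  have h2 := Module.FaithfullyFlat.tensorProduct_mk_injective (A := R) (B := S) (N ⊗[R] Q)
  rw [← h1, LinearMap.coe_comp] at h2
  exact Function.Injective.of_comp h2

/-- the diagonal map `∏ Q_i → ∏ S ⊗ Q_i`. -/
noncomputable def piMk (R S : Type u) [CommRing R] [CommRing S] [Algebra R S]
    {ι : Type u} (Q : ι → Type u) [∀ i, AddCommGroup (Q i)]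
    [∀ i, Module R (Q i)] : (∀ i, Q i) →ₗ[R] ∀ i, S ⊗[R] Q i :=
  LinearMap.pi fun i => (TensorProduct.mk R S (Q i) 1) ∘ₗ LinearMap.proj i

theorem proj_comp_piMk {ι : Type u} (Q : ι → Type u) [∀ i, AddCommGroup (Q i)]
    [∀ i, Module R (Q i)] (i : ι) :
    (LinearMap.proj i : (∀ i, S ⊗[R] Q i) →ₗ[R] S ⊗[R] Q i) ∘ₗ piMk R S Q =
      (TensorProduct.mk R S (Q i) 1) ∘ₗ LinearMap.proj i := by
  ext x
  rfl

theorem piMk_lTensor_injective_of_fp [Module.FaithfullyFlat R S] {ι : Type u} (Q : ι → Type u)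
    [∀ i, AddCommGroup (Q i)] [∀ i, Module R (Q i)] (N : Type u) [AddCommGroup N] [Module R N]
    [Module.FinitePresentation R N] :
    Function.Injective ((piMk R S Q).lTensor N) := by
  rw [injective_iff_map_eq_zero]
  intro x hx
  apply piRightHom_injective_of_finitePresentation N Q
  rw [map_zero]
  funext i
  rw [piRightHom_apply']
  apply lTensor_mk_injective (S := S) N (Q i)
  have h0 : ((0 : ∀ i, N ⊗[R] Q i) i) = 0 := rfl
  rw [h0, map_zero, ← LinearMap.comp_apply, ← LinearMap.lTensor_comp, ← proj_comp_piMk,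
    LinearMap.lTensor_comp, LinearMap.comp_apply, hx, map_zero]

theorem piMk_lTensor_injective [Module.FaithfullyFlat R S] {ι : Type u} (Q : ι → Type u)
    [∀ i, AddCommGroup (Q i)] [∀ i, Module R (Q i)] (N : Type u) [AddCommGroup N] [Module R N] :
    Function.Injective ((piMk R S Q).lTensor N) := by
  rw [LinearMap.lTensor_inj_iff_rTensor_inj, injective_iff_map_eq_zero]
  intro x hx
  have h := dominates_of_fp (piMk R S Q) LinearMap.id (fun N' _ _ hN' => by
    intro y hy
    have h1 := piMk_lTensor_injective_of_fp (R := R) (S := S) Q N'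
    rw [LinearMap.lTensor_inj_iff_rTensor_inj] at h1
    have h2 : y = 0 := h1 ((LinearMap.mem_ker.mp hy).trans (map_zero _).symm)
    rw [h2]
    exact Submodule.zero_mem _) N
  have hx' : x ∈ LinearMap.ker ((piMk R S Q).rTensor N) := hx
  have h3 := h hx'
  rw [LinearMap.mem_ker, LinearMap.rTensor_id, LinearMap.id_apply] at h3
  exact h3

end

section

variable {R S : Type u} [CommRing R] [CommRing S] [Algebra R S]
  (M : Type u) [AddCommGroup M] [Module R M]

/-- `(S ⊗_R M) ⊗_S X ≃ M ⊗_R X` for an `S`-module `X`. -/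
noncomputable def psi (X : Type u) [AddCommGroup X] [Module S X] [Module R X]
    [IsScalarTower R S X] : (S ⊗[R] M) ⊗[S] X ≃ₗ[R] M ⊗[R] X :=
  ((TensorProduct.comm S (S ⊗[R] M) X).restrictScalars R) ≪≫ₗ
    ((TensorProduct.AlgebraTensorModule.cancelBaseChange R S S X M).restrictScalars R) ≪≫ₗ
    TensorProduct.comm R X M

theorem psi_tmul (X : Type u) [AddCommGroup X] [Module S X] [Module R X]
    [IsScalarTower R S X] (s : S) (m : M) (x : X) :
    psi M X ((s ⊗ₜ[R] m) ⊗ₜ[S] x) = m ⊗ₜ[R] (s • x) := by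
  simp [psi]

theorem psi_natural {X X' : Type u} [AddCommGroup X] [Module S X] [Module R X]
    [IsScalarTower R S X] [AddCommGroup X'] [Module S X'] [Module R X']
    [IsScalarTower R S X'] (u : X →ₗ[S] X') (z : (S ⊗[R] M) ⊗[S] X) :
    psi M X' (u.lTensor (S ⊗[R] M) z) = (u.restrictScalars R).lTensor M (psi M X z) := by
  induction z using TensorProduct.induction_on with
  | zero => simp
  | add a b ha hb => rw [map_add, map_add, ha, hb, map_add, map_add]
  | tmul t x =>
    induction t using TensorProduct.induction_on with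
    | zero => simp
    | add a b ha hb =>
      rw [TensorProduct.add_tmul, map_add, map_add, ha, hb, map_add, map_add]
    | tmul s m =>
      rw [LinearMap.lTensor_tmul, psi_tmul, psi_tmul, LinearMap.lTensor_tmul]
      simp

/-- descent of the Mittag-Leffler (product) property along a faithfully flat ring map. -/
theorem ml_descent [Module.FaithfullyFlat R S]
    (h : ∀ (ι : Type u) (Q : ι → Type u) [∀ i, AddCommGroup (Q i)] [∀ i, Module S (Q i)],
      Function.Injective (TensorProduct.piRightHom S S (S ⊗[R] M) Q))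
    (ι : Type u) (Q : ι → Type u) [∀ i, AddCommGroup (Q i)] [∀ i, Module R (Q i)] :
    Function.Injective (TensorProduct.piRightHom R R M Q) := by
  rw [injective_iff_map_eq_zero]
  intro z hz
  let z₁ : M ⊗[R] (∀ i, S ⊗[R] Q i) := (piMk R S Q).lTensor M z
  let z₂ : (S ⊗[R] M) ⊗[S] (∀ i, S ⊗[R] Q i) := (psi M (∀ i, S ⊗[R] Q i)).symm z₁
  have h2 : TensorProduct.piRightHom S S (S ⊗[R] M) (fun i => S ⊗[R] Q i) z₂ = 0 := by
    funext i
    rw [piRightHom_apply' (R := S)]
    apply (psi M (S ⊗[R] Q i)).injective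
    rw [psi_natural]
    have h5 : psi M (∀ i, S ⊗[R] Q i) z₂ = z₁ := LinearEquiv.apply_symm_apply _ _
    rw [h5]
    show (LinearMap.lTensor M _) ((piMk R S Q).lTensor M z) = _
    rw [← LinearMap.comp_apply, ← LinearMap.lTensor_comp]
    have h6 : (LinearMap.proj i : (∀ i, S ⊗[R] Q i) →ₗ[S] _).restrictScalars R ∘ₗ piMk R S Q =
        (TensorProduct.mk R S (Q i) 1) ∘ₗ LinearMap.proj i := rfl
    rw [h6, LinearMap.lTensor_comp, LinearMap.comp_apply, ← piRightHom_apply', hz]
    simp
  have h3 : z₂ = 0 := h ι _ (h2.trans (map_zero _).symm)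
  have h4 : z₁ = 0 := by
    have h5 : psi M (∀ i, S ⊗[R] Q i) z₂ = z₁ := LinearEquiv.apply_symm_apply _ _
    rw [← h5, h3, map_zero]
  exact piMk_lTensor_injective (S := S) Q M (h4.trans (map_zero _).symm)

end

end Groth.Agent.Helper12
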