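import Mathlib
import Groth.Agent.Lib.Helper12.Kaplansky
import Groth.Agent.Lib.Helper12.KapLocal2
import Groth.Agent.Lib.Helper12.MLDescent
import Groth.Agent.Lib.Helper12.MLProj

/-!
# Faithfully flat descent of projectivity (helper12)

Raynaud–Gruson / Stacks 05A9: if `S ⊗ M` is projective over `S` and `R → S` is faithfully
flat then `M` is projective over `R`.
-/

set_option autoImplicit false
set_option linter.style.haveILetI false
set_option linter.unusedSectionVars false

universe u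

namespace Groth.Agent.Helper12.ProjDescent

open TensorProduct Groth.Agent.Helper12.Kap

section BaseChange

variable {R : Type*} [CommRing R] (S : Type*) [CommRing S] [Algebra R S]
  {M : Type*} [AddCommGroup M] [Module R M]

theorem one_tmul_mem_baseChange {N : Submodule R M} {m : M} (hm : m ∈ N) :
    (1 : S) ⊗ₜ[R] m ∈ N.baseChange S := Submodule.tmul_mem_baseChange_of_mem 1 hm

theorem baseChange_le_iff_forall (N : Submodule R M) (P : Submodule S (S ⊗[R] M)) :
    N.baseChange S ≤ P ↔ ∀ m ∈ N, (1 : S) ⊗ₜ[R] m ∈ P := by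
  rw [Submodule.baseChange_eq_span, Submodule.span_le]
  constructor
  · intro h m hm
    exact h ⟨m, hm, rfl⟩
  · rintro h _ ⟨m, hm, rfl⟩
    exact h m hm

theorem baseChange_iSup {ι : Sort*} (N : ι → Submodule R M) :
    (⨆ i, N i).baseChange S = ⨆ i, (N i).baseChange S := by
  apply le_antisymm
  · rw [baseChange_le_iff_forall]
    intro m hm
    refine Submodule.iSup_induction N
      (motive := fun m => (1 : S) ⊗ₜ[R] m ∈ ⨆ i, (N i).baseChange S) hm ?_ ?_ ?_
    · intro i x hx
      exact (le_iSup (fun i => (N i).baseChange S) i) (one_tmul_mem_baseChange S hx)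
    · rw [TensorProduct.tmul_zero]; exact zero_mem _
    · intro x y hx hy
      rw [TensorProduct.tmul_add]; exact add_mem hx hy
  · exact iSup_le fun i => Submodule.baseChange_mono S (le_iSup N i)

theorem baseChange_sup (N N' : Submodule R M) :
    (N ⊔ N').baseChange S = N.baseChange S ⊔ N'.baseChange S := by
  apply le_antisymm
  · rw [baseChange_le_iff_forall]
    intro m hm
    obtain ⟨a, ha, b, hb, rfl⟩ := Submodule.mem_sup.mp hm
    rw [TensorProduct.tmul_add]
    exact Submodule.add_mem_sup (one_tmul_mem_baseChange S ha) (one_tmul_mem_baseChange S hb)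
  · exact sup_le (Submodule.baseChange_mono S le_sup_left)
      (Submodule.baseChange_mono S le_sup_right)

theorem ker_baseChange_mkQ (N : Submodule R M) :
    LinearMap.ker (N.mkQ.baseChange S) = N.baseChange S := by
  ext x
  have hex := lTensor_exact S (LinearMap.exact_subtype_mkQ N) (Submodule.mkQ_surjective N)
  rw [LinearMap.mem_ker]
  show (N.mkQ.lTensor S) x = 0 ↔ x ∈ LinearMap.range (N.subtype.baseChange S)
  rw [hex x]
  exact Iff.rfl

end BaseChange

section Sub

variable {R : Type*} [CommRing R] {M : Type*} [AddCommGroup M] [Module R M]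

theorem cg_sub (N N' : Submodule R M) (hNN' : N ≤ N') (s : Set M) (hs : s.Countable)
    (hsN' : N' = N ⊔ Submodule.span R s) :
    ∃ t : Set (↥N' ⧸ N.comap N'.subtype), t.Countable ∧ Submodule.span R t = ⊤ := by
  subst hsN'
  set N' := N ⊔ Submodule.span R s with hN'
  have hsN : ∀ x ∈ s, x ∈ N' := fun x hx =>
    (le_sup_right : Submodule.span R s ≤ N') (Submodule.subset_span hx)
  let t' : Set ↥N' := {x : ↥N' | (x : M) ∈ s}
  have ht' : t'.Countable := hs.preimage_of_injOn Subtype.val_injective.injOn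
  have himg : N'.subtype '' t' = s := by
    ext x
    constructor
    · rintro ⟨y, hy, rfl⟩; exact hy
    · intro hx; exact ⟨⟨x, hsN x hx⟩, hx, rfl⟩
  have hmapP : (Submodule.span R t').map N'.subtype = Submodule.span R s := by
    rw [Submodule.map_span, himg]
  have hsup : Submodule.span R t' ⊔ N.comap N'.subtype = ⊤ := by
    rw [eq_top_iff]
    rintro ⟨n', hn'⟩ -
    obtain ⟨a, ha, b, hb, hab⟩ := Submodule.mem_sup.mp hn'
    rw [← hmapP] at hb
    obtain ⟨p, hp, hpb⟩ := hb
    have ha' : a ∈ N' := hNN' ha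
    have heq : (⟨n', hn'⟩ : ↥N') = p + ⟨a, ha'⟩ := by
      apply Subtype.ext
      show n' = (p : M) + a
      have hpb' : (p : M) = b := hpb
      rw [hpb', ← hab, add_comm]
    rw [heq]
    exact Submodule.add_mem_sup hp (show N'.subtype ⟨a, ha'⟩ ∈ N from ha)
  refine ⟨(N.comap N'.subtype).mkQ '' t', ht'.image _, ?_⟩
  have h1 : (Submodule.span R t' ⊔ N.comap N'.subtype).map (N.comap N'.subtype).mkQ = ⊤ := by
    rw [hsup, Submodule.map_top, Submodule.range_mkQ]
  rw [Submodule.map_sup, Submodule.mkQ_map_self, sup_bot_eq] at h1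
  rw [← Submodule.map_span]
  exact h1

end Sub

section Main

variable {R S : Type u} [CommRing R] [CommRing S] [Algebra R S] [Module.FaithfullyFlat R S]
  {M : Type u} [AddCommGroup M] [Module R M] [Module.Projective S (S ⊗[R] M)]
  {κ : Type u} (Q : κ → Submodule S (S ⊗[R] M))

/-- If `N` is adapted then `S ⊗ (M ⧸ N)` is projective. -/
theorem projective_quotient (hind : iSupIndep Q) (htop : ⨆ k, Q k = ⊤) (N : Submodule R M)
    (J : Set κ) (hN : N.baseChange S = MJ Q J) : Module.Projective S (S ⊗[R] (M ⧸ N)) := by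
  obtain ⟨ρ, hρ1, hρ2, hρ3, hρ4⟩ := exists_proj Q hind htop J
  obtain ⟨q, hq⟩ : ∃ q : (S ⊗[R] M) →ₗ[S] S ⊗[R] (M ⧸ N), q = N.mkQ.baseChange S := ⟨_, rfl⟩
  have hqs : Function.Surjective q := by
    rw [hq]; exact LinearMap.baseChange_surjective S (Submodule.mkQ_surjective N)
  have hker : LinearMap.ker q = MJ Q J := by rw [hq, ker_baseChange_mkQ, hN]
  have hle : LinearMap.ker q ≤ LinearMap.ker ρ := by
    intro x hx
    rw [hker] at hx
    exact hρ3 x hx
  let σ : S ⊗[R] (M ⧸ N) →ₗ[S] S ⊗[R] M :=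
    ((LinearMap.ker q).liftQ ρ hle) ∘ₗ (q.quotKerEquivOfSurjective hqs).symm.toLinearMap
  have hσ : ∀ x, σ (q x) = ρ x := by
    intro x
    show (LinearMap.ker q).liftQ ρ hle ((q.quotKerEquivOfSurjective hqs).symm (q x)) = ρ x
    rw [LinearMap.quotKerEquivOfSurjective_symm_apply, Submodule.liftQ_apply]
  refine Module.Projective.of_split σ q (LinearMap.ext fun y => ?_)
  obtain ⟨x, rfl⟩ := hqs y
  rw [LinearMap.comp_apply, hσ, LinearMap.id_apply]
  have h1 : x - ρ x ∈ LinearMap.ker q := by rw [hker]; exact hρ2 x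
  rw [LinearMap.mem_ker, map_sub, sub_eq_zero] at h1
  exact h1.symm

/-- The base change of a quotient of adapted submodules is projective. -/
theorem projective_tensor_sub (hind : iSupIndep Q) (htop : ⨆ k, Q k = ⊤)
    (N N' : Submodule R M) (hNN' : N ≤ N') (J J' : Set κ)
    (hN : N.baseChange S = MJ Q J) (hN' : N'.baseChange S = MJ Q J') :
    Module.Projective S (S ⊗[R] (↥N' ⧸ N.comap N'.subtype)) := by
  haveI hA : Module.Projective S (S ⊗[R] (M ⧸ N)) := projective_quotient Q hind htop N J hN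
  haveI hB : Module.Projective S (S ⊗[R] (M ⧸ N')) := projective_quotient Q hind htop N' J' hN'
  let a : (↥N' ⧸ N.comap N'.subtype) →ₗ[R] M ⧸ N :=
    (N.comap N'.subtype).mapQ N N'.subtype le_rfl
  let c : (M ⧸ N) →ₗ[R] M ⧸ N' :=
    N.mapQ N' LinearMap.id (by rw [Submodule.comap_id]; exact hNN')
  have ha : Function.Injective a := by
    rw [injective_iff_map_eq_zero]
    intro y hy
    obtain ⟨x, rfl⟩ := Submodule.Quotient.mk_surjective _ y
    have hy' : (Submodule.Quotient.mk (N'.subtype x) : M ⧸ N) = 0 := hy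
    rw [Submodule.Quotient.mk_eq_zero] at hy' ⊢
    exact hy'
  have hc : Function.Surjective c := by
    intro z
    obtain ⟨m, rfl⟩ := Submodule.Quotient.mk_surjective _ z
    exact ⟨Submodule.Quotient.mk m, rfl⟩
  have hac : Function.Exact a c := by
    intro z
    obtain ⟨m, rfl⟩ := Submodule.Quotient.mk_surjective _ z
    constructor
    · intro hz
      have hz' : (Submodule.Quotient.mk m : M ⧸ N') = 0 := hz
      rw [Submodule.Quotient.mk_eq_zero] at hz'
      exact ⟨Submodule.Quotient.mk ⟨m, hz'⟩, rfl⟩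
    · rintro ⟨y, hy⟩
      obtain ⟨x, rfl⟩ := Submodule.Quotient.mk_surjective _ y
      have hy' : (Submodule.Quotient.mk (x : M) : M ⧸ N) = Submodule.Quotient.mk m := hy
      rw [← hy']
      show (Submodule.Quotient.mk (x : M) : M ⧸ N') = 0
      rw [Submodule.Quotient.mk_eq_zero]
      exact x.2
  obtain ⟨aS, haS⟩ : ∃ aS : S ⊗[R] (↥N' ⧸ N.comap N'.subtype) →ₗ[S] S ⊗[R] (M ⧸ N),
    aS = a.baseChange S := ⟨_, rfl⟩
  obtain ⟨cS, hcS⟩ : ∃ cS : S ⊗[R] (M ⧸ N) →ₗ[S] S ⊗[R] (M ⧸ N'),
    cS = c.baseChange S := ⟨_, rfl⟩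
  have haSinj : Function.Injective aS := by
    rw [haS]
    show Function.Injective (a.lTensor S)
    exact Module.Flat.lTensor_preserves_injective_linearMap a ha
  have hcSs : Function.Surjective cS := by
    rw [hcS]; exact LinearMap.baseChange_surjective S hc
  have hexS : Function.Exact aS cS := by
    rw [haS, hcS]
    exact lTensor_exact S hac hc
  obtain ⟨s, hs⟩ := Module.projective_lifting_property cS LinearMap.id hcSs
  have hs' : ∀ z, cS (s z) = z := fun z => LinearMap.congr_fun hs z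
  let e : S ⊗[R] (M ⧸ N) →ₗ[S] S ⊗[R] (M ⧸ N) := LinearMap.id - s ∘ₗ cS
  have he_apply : ∀ x, e x = x - s (cS x) := fun x => rfl
  have he : ∀ x, e x ∈ LinearMap.range aS := by
    intro x
    have h1 : cS (e x) = 0 := by
      rw [he_apply, map_sub, hs', sub_self]
    exact (hexS (e x)).mp h1
  let b : S ⊗[R] (M ⧸ N) →ₗ[S] S ⊗[R] (↥N' ⧸ N.comap N'.subtype) :=
    (LinearEquiv.ofInjective aS haSinj).symm.toLinearMap ∘ₗ
      (e.codRestrict (LinearMap.range aS) he)
  have hb : ∀ x, aS (b x) = e x := by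
    intro x
    have := LinearEquiv.apply_symm_apply (LinearEquiv.ofInjective aS haSinj)
      (e.codRestrict (LinearMap.range aS) he x)
    exact congrArg Subtype.val this
  refine Module.Projective.of_split aS b (LinearMap.ext fun w => ?_)
  apply haSinj
  rw [LinearMap.comp_apply, hb, LinearMap.id_apply, he_apply]
  have h2 : cS (aS w) = 0 := (hexS (aS w)).mpr ⟨w, rfl⟩
  rw [h2, map_zero, sub_zero]

theorem projective_sub (hind : iSupIndep Q) (htop : ⨆ k, Q k = ⊤)
    (N N' : Submodule R M) (hNN' : N ≤ N') (J J' : Set κ)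
    (hN : N.baseChange S = MJ Q J) (hN' : N'.baseChange S = MJ Q J')
    (s : Set M) (hs : s.Countable) (hsN' : N' = N ⊔ Submodule.span R s) :
    Module.Projective R (↥N' ⧸ N.comap N'.subtype) := by
  haveI hP : Module.Projective S (S ⊗[R] (↥N' ⧸ N.comap N'.subtype)) :=
    projective_tensor_sub Q hind htop N N' hNN' J J' hN hN'
  haveI : Module.Flat R (↥N' ⧸ N.comap N'.subtype) :=
    Module.Flat.of_flat_tensorProduct R _ S
  have hML : ∀ (ι : Type u) (Qf : ι → Type u) [∀ i, AddCommGroup (Qf i)]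
      [∀ i, Module R (Qf i)],
      Function.Injective (TensorProduct.piRightHom R R (↥N' ⧸ N.comap N'.subtype) Qf) := by
    intro ι Qf _ _
    exact ml_descent (S := S) (↥N' ⧸ N.comap N'.subtype)
      (fun ι' Q' _ _ => MLProj.ml_of_projective ι' Q') ι Qf
  obtain ⟨t, ht, hspan⟩ := cg_sub N N' hNN' s hs hsN'
  exact MLProj.projective_of_flat_ml_countable hML t ht hspan

theorem exists_complement (hind : iSupIndep Q) (htop : ⨆ k, Q k = ⊤)
    (N N' : Submodule R M) (hNN' : N ≤ N') (J J' : Set κ)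
    (hN : N.baseChange S = MJ Q J) (hN' : N'.baseChange S = MJ Q J')
    (s : Set M) (hs : s.Countable) (hsN' : N' = N ⊔ Submodule.span R s) :
    ∃ C : Submodule R M, Disjoint N C ∧ N ⊔ C = N' ∧ CG C ∧ Module.Projective R ↥C := by
  haveI hW := projective_sub Q hind htop N N' hNN' J J' hN hN' s hs hsN'
  obtain ⟨t, ht, hspan⟩ := cg_sub N N' hNN' s hs hsN'
  obtain ⟨τ, hτ⟩ := Module.projective_lifting_property (N.comap N'.subtype).mkQ LinearMap.id
    (Submodule.mkQ_surjective _)
  have hτ' : ∀ w, (N.comap N'.subtype).mkQ (τ w) = w := fun w => LinearMap.congr_fun hτ w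
  let j : (↥N' ⧸ N.comap N'.subtype) →ₗ[R] M := N'.subtype ∘ₗ τ
  have hj : Function.Injective j := by
    intro w w' h
    have h1 : τ w = τ w' := Subtype.ext h
    rw [← hτ' w, ← hτ' w', h1]
  refine ⟨LinearMap.range j, ?_, ?_, ?_, ?_⟩
  · rw [Submodule.disjoint_def]
    rintro x hxN ⟨w, rfl⟩
    have h1 : τ w ∈ N.comap N'.subtype := hxN
    have h2 : (N.comap N'.subtype).mkQ (τ w) = 0 := by
      rw [Submodule.mkQ_apply, Submodule.Quotient.mk_eq_zero]; exact h1
    rw [hτ'] at h2
    rw [h2, map_zero]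
  · apply le_antisymm
    · refine sup_le hNN' ?_
      rintro _ ⟨w, rfl⟩
      exact (τ w).2
    · intro n' hn'
      obtain ⟨w, hw⟩ : ∃ w, w = (N.comap N'.subtype).mkQ ⟨n', hn'⟩ := ⟨_, rfl⟩
      have h1 : (⟨n', hn'⟩ : ↥N') - τ w ∈ N.comap N'.subtype := by
        have h0 : (N.comap N'.subtype).mkQ ((⟨n', hn'⟩ : ↥N') - τ w) = 0 := by
          rw [map_sub, hτ', hw, sub_self]
        exact (Submodule.Quotient.mk_eq_zero _).mp h0
      have h2 : n' - j w ∈ N := by
        have h3 := h1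
        rw [Submodule.mem_comap, map_sub] at h3
        exact h3
      have h4 : n' = (n' - j w) + j w := by abel
      rw [h4]
      exact Submodule.add_mem_sup h2 ⟨w, rfl⟩
  · refine ⟨j '' t, ht.image _, ?_⟩
    rw [← Submodule.map_span, hspan, Submodule.map_top]
  · exact Module.Projective.of_equiv' (LinearEquiv.ofInjective j hj)

/-- Every element lies in a countably generated adapted submodule. -/
theorem exists_adapted (htop : ⨆ k, Q k = ⊤) (gen : κ → Set (S ⊗[R] M))
    (hgen : ∀ k, (gen k).Countable ∧ Submodule.span S (gen k) = Q k) (x : M) :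
    ∃ (s : Set M) (J' : Set κ), s.Countable ∧ x ∈ s ∧
      (Submodule.span R s).baseChange S = MJ Q J' := by
  classical
  have hsupp : ∀ t : S ⊗[R] M, ∃ F : Finset κ, t ∈ ⨆ k ∈ F, Q k := fun t =>
    Submodule.mem_iSup_iff_exists_finset.mp (htop ▸ Submodule.mem_top)
  choose supp hsupp using hsupp
  have hcomp : ∀ t : S ⊗[R] M, ∃ F : Finset M,
      t ∈ Submodule.span S (TensorProduct.mk R S M 1 '' (F : Set M)) := by
    intro t
    induction t using TensorProduct.induction_on with
    | zero => exact ⟨∅, zero_mem _⟩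
    | tmul a m =>
      refine ⟨{m}, ?_⟩
      have h1 : a ⊗ₜ[R] m = a • ((1 : S) ⊗ₜ[R] m) := by
        rw [TensorProduct.smul_tmul', smul_eq_mul, mul_one]
      rw [h1]
      exact Submodule.smul_mem _ _ (Submodule.subset_span ⟨m, by simp, rfl⟩)
    | add t₁ t₂ h₁ h₂ =>
      obtain ⟨F₁, hF₁⟩ := h₁
      obtain ⟨F₂, hF₂⟩ := h₂
      refine ⟨F₁ ∪ F₂, ?_⟩
      refine add_mem (Submodule.span_mono (Set.image_mono ?_) hF₁)
        (Submodule.span_mono (Set.image_mono ?_) hF₂)
      · exact_mod_cast Finset.subset_union_left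
      · exact_mod_cast Finset.subset_union_right
  choose comp hcomp using hcomp
  obtain ⟨Jof, hJof⟩ : ∃ Jof : Set M → Set κ, ∀ s, Jof s =
      ⋃ m ∈ s, (↑(supp ((1 : S) ⊗ₜ[R] m)) : Set κ) := ⟨_, fun _ => rfl⟩
  obtain ⟨step, hstep⟩ : ∃ step : Set M → Set M, ∀ s, step s =
      s ∪ ⋃ k ∈ Jof s, ⋃ g ∈ gen k, (↑(comp g) : Set M) := ⟨_, fun _ => rfl⟩
  obtain ⟨sn, hsn⟩ : ∃ sn : ℕ → Set M, ∀ n, sn n = step^[n] {x} := ⟨_, fun _ => rfl⟩
  have hsn0 : sn 0 = {x} := by rw [hsn]; rfl
  have hsnsucc : ∀ n, sn (n + 1) = step (sn n) := by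
    intro n; rw [hsn, hsn, Function.iterate_succ_apply']
  have hJcount : ∀ s : Set M, s.Countable → (Jof s).Countable := by
    intro s hs
    rw [hJof]
    exact hs.biUnion fun m _ => Finset.countable_toSet _
  have hcount : ∀ n, (sn n).Countable := by
    intro n
    induction n with
    | zero => rw [hsn0]; exact Set.countable_singleton x
    | succ n ih =>
      rw [hsnsucc, hstep]
      exact ih.union ((hJcount _ ih).biUnion fun k _ =>
        (hgen k).1.biUnion fun g _ => Finset.countable_toSet _)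
  refine ⟨⋃ n, sn n, Jof (⋃ n, sn n), Set.countable_iUnion hcount,
    Set.mem_iUnion.mpr ⟨0, by rw [hsn0]; rfl⟩, ?_⟩
  rw [Submodule.baseChange_span]
  apply le_antisymm
  · rw [Submodule.span_le]
    rintro _ ⟨m, hm, rfl⟩
    show (1 : S) ⊗ₜ[R] m ∈ MJ Q (Jof (⋃ n, sn n))
    refine (biSup_mono ?_ : (⨆ k ∈ (↑(supp ((1 : S) ⊗ₜ[R] m)) : Set κ), Q k) ≤
      MJ Q (Jof (⋃ n, sn n))) (hsupp _)
    intro k hk
    rw [hJof]
    exact Set.mem_biUnion hm hk
  · refine iSup₂_le fun k hk => ?_
    rw [hJof] at hk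
    obtain ⟨m, hm, hkm⟩ := Set.mem_iUnion₂.mp hk
    obtain ⟨n, hmn⟩ := Set.mem_iUnion.mp hm
    have hkn : k ∈ Jof (sn n) := by
      rw [hJof]; exact Set.mem_biUnion hmn hkm
    rw [← (hgen k).2, Submodule.span_le]
    intro g hg
    have hsub : (↑(comp g) : Set M) ⊆ ⋃ n, sn n := by
      intro y hy
      refine Set.mem_iUnion.mpr ⟨n + 1, ?_⟩
      rw [hsnsucc, hstep]
      exact Or.inr (Set.mem_biUnion hkn (Set.mem_biUnion hg hy))
    exact Submodule.span_mono (Set.image_mono hsub) (hcomp g)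

/-- admissible partial decompositions -/
def Ok (x : Set κ × Set (Submodule R M)) : Prop :=
  (∀ C ∈ x.2, CG C ∧ Module.Projective R ↥C) ∧ sSupIndep x.2 ∧
    (sSup x.2).baseChange S = MJ Q x.1

theorem ok_chain (c : Set (Set κ × Set (Submodule R M))) (hc : c ⊆ {x | Ok Q x})
    (hchain : IsChain (· ≤ ·) c) : ∃ ub ∈ {x | Ok Q x}, ∀ z ∈ c, z ≤ ub := by
  rcases c.eq_empty_or_nonempty with rfl | hne
  · refine ⟨(∅, ∅), ⟨?_, sSupIndep_empty, ?_⟩, fun z hz => absurd hz (Set.notMem_empty z)⟩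
    · intro C hC; exact absurd hC (Set.notMem_empty C)
    · show (sSup (∅ : Set (Submodule R M))).baseChange S = MJ Q (∅ : Set κ)
      rw [sSup_empty, Submodule.baseChange_bot, MJ_empty]
  haveI : Nonempty ↥c := hne.to_subtype
  have hMJ : MJ Q (⋃ x : ↥c, x.1.1) = ⨆ x : ↥c, MJ Q x.1.1 := by
    apply le_antisymm
    · refine iSup₂_le fun i hi => ?_
      obtain ⟨x, hx⟩ := Set.mem_iUnion.mp hi
      exact (le_MJ Q hx).trans (le_iSup (fun x : ↥c => MJ Q x.1.1) x)
    · exact iSup_le fun x => MJ_mono Q (Set.subset_iUnion (fun x : ↥c => x.1.1) x)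
  have hdir2 : Directed (· ⊆ ·) (fun x : ↥c => x.1.2) := by
    intro x y
    rcases hchain.total x.2 y.2 with h | h
    · exact ⟨y, h.2, subset_rfl⟩
    · exact ⟨x, subset_rfl, h.2⟩
  refine ⟨(⋃ x : ↥c, x.1.1, ⋃ x : ↥c, x.1.2), ⟨?_, ?_, ?_⟩, ?_⟩
  · intro C hC
    obtain ⟨x, hx⟩ := Set.mem_iUnion.mp hC
    exact (hc x.2).1 C hx
  · show sSupIndep (⋃ x : ↥c, x.1.2)
    rw [sSupIndep_iff_finite]
    intro t ht
    obtain ⟨x, hx⟩ := hdir2.exists_mem_subset_of_finset_subset_biUnion ht
    exact (hc x.2).2.1.mono hx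
  · show (sSup (⋃ x : ↥c, x.1.2)).baseChange S = MJ Q (⋃ x : ↥c, x.1.1)
    rw [sSup_iUnion, baseChange_iSup, hMJ]
    exact iSup_congr fun x => (hc x.2).2.2
  · intro z hz
    exact ⟨Set.subset_iUnion (fun x : ↥c => x.1.1) ⟨z, hz⟩,
      Set.subset_iUnion (fun x : ↥c => x.1.2) ⟨z, hz⟩⟩

theorem projective_of_decomp (hind : iSupIndep Q) (htop : ⨆ k, Q k = ⊤)
    (hcg : ∀ k, CG (Q k)) : Module.Projective R M := by
  classical
  choose gen hgen using hcg
  obtain ⟨⟨J, 𝒞⟩, hm⟩ := zorn_le₀ {x | Ok Q x} (ok_chain Q)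
  have hok : Ok Q (J, 𝒞) := hm.1
  have hN : (sSup 𝒞).baseChange S = MJ Q J := hok.2.2
  have htop' : sSup 𝒞 = ⊤ := by
    by_contra hne
    obtain ⟨x, hx⟩ : ∃ x : M, x ∉ sSup 𝒞 := by
      by_contra h
      push_neg at h
      exact hne (eq_top_iff.mpr fun x _ => h x)
    obtain ⟨s, J₁, hs, hxs, hsJ⟩ := exists_adapted Q htop gen hgen x
    have hN' : (sSup 𝒞 ⊔ Submodule.span R s).baseChange S = MJ Q (J ∪ J₁) := by
      rw [baseChange_sup, hN, hsJ, MJ_union]
    obtain ⟨C, hdisj, hsup, hCcg, hCproj⟩ := exists_complement Q hind htop (sSup 𝒞)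
      (sSup 𝒞 ⊔ Submodule.span R s) le_sup_left J (J ∪ J₁) hN hN' s hs rfl
    have hnew : Ok Q (J ∪ J₁, insert C 𝒞) := by
      refine ⟨?_, ?_, ?_⟩
      · intro D hD
        rcases Set.mem_insert_iff.mp hD with rfl | hD
        · exact ⟨hCcg, hCproj⟩
        · exact hok.1 D hD
      · intro a ha
        by_cases haL : a = C
        · subst haL
          refine Disjoint.mono_right (sSup_le_sSup ?_) hdisj.symm
          intro D hD
          rcases Set.mem_insert_iff.mp hD.1 with h | h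
          · exact absurd h hD.2
          · exact h
        · have ha' : a ∈ 𝒞 := (Set.mem_insert_iff.mp ha).resolve_left haL
          have h1 : Disjoint a (sSup (𝒞 \ {a})) := hok.2.1 ha'
          have h2 : Disjoint (a ⊔ sSup (𝒞 \ {a})) C := by
            refine Disjoint.mono_left ?_ hdisj
            exact sup_le (le_sSup ha') (sSup_le_sSup Set.diff_subset)
          have h3 := h1.disjoint_sup_right_of_disjoint_sup_left h2
          refine h3.mono_right ?_
          apply sSup_le
          intro D hD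
          rcases Set.mem_insert_iff.mp hD.1 with h | h
          · rw [h]; exact le_sup_right
          · exact le_sup_of_le_left (le_sSup ⟨h, hD.2⟩)
      · show (sSup (insert C 𝒞)).baseChange S = MJ Q (J ∪ J₁)
        rw [sSup_insert, sup_comm, hsup, hN']
    have hle : ((J, 𝒞) : Set κ × Set (Submodule R M)) ≤ (J ∪ J₁, insert C 𝒞) :=
      ⟨Set.subset_union_left, Set.subset_insert _ _⟩
    have h1 := hm.2 hnew hle
    have hC𝒞 : C ∈ 𝒞 := h1.2 (Set.mem_insert C 𝒞)
    have hCN : C ≤ sSup 𝒞 := le_sSup hC𝒞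
    apply hx
    have h2 : x ∈ sSup 𝒞 ⊔ Submodule.span R s :=
      (le_sup_right : Submodule.span R s ≤ _) (Submodule.subset_span hxs)
    rw [← hsup] at h2
    exact (sup_le le_rfl hCN) h2
  have hind' : iSupIndep (fun C : ↥𝒞 => (C : Submodule R M)) := (sSupIndep_iff 𝒞).mp hok.2.1
  have hsup' : ⨆ C : ↥𝒞, (C : Submodule R M) = ⊤ := by rw [← sSup_eq_iSup', htop']
  have hint : DirectSum.IsInternal (fun C : ↥𝒞 => (C : Submodule R M)) :=
    (DirectSum.isInternal_submodule_iff_iSupIndep_and_iSup_eq_top _).mpr ⟨hind', hsup'⟩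
  haveI : ∀ C : ↥𝒞, Module.Projective R ↥(C : Submodule R M) := fun C => (hok.1 C.1 C.2).2
  exact Module.Projective.of_equiv'
    (LinearEquiv.ofBijective (DirectSum.coeLinearMap fun C : ↥𝒞 => (C : Submodule R M)) hint)

end Main

/-- Faithfully flat descent of projectivity. -/
theorem main (R : Type u) [CommRing R] (S : Type u) [CommRing S] [Algebra R S]
    [Module.FaithfullyFlat R S] (M : Type u) [AddCommGroup M] [Module R M]
    [Module.Projective S (S ⊗[R] M)] : Module.Projective R M := by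
  obtain ⟨M', e, 𝒞', h1, h2, h3⟩ := KapLocal.exists_decomp_of_projective S (S ⊗[R] M)
  let L : ↥𝒞' → Submodule S ↥M' := fun k => (k.1).comap M'.subtype
  let Q : ↥𝒞' → Submodule S (S ⊗[R] M) := fun k => Submodule.orderIsoMapComap e.symm (L k)
  have hind : iSupIndep Q := h1.map_orderIso (Submodule.orderIsoMapComap e.symm)
  have htop : ⨆ k, Q k = ⊤ := by
    show ⨆ k, Submodule.orderIsoMapComap e.symm (L k) = ⊤
    rw [← OrderIso.map_iSup, h2, OrderIso.map_top]
  have hcg : ∀ k, CG (Q k) := by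
    intro k
    obtain ⟨s, hs, hspan⟩ := h3 k
    refine ⟨((e.symm : ↥M' →ₗ[S] (S ⊗[R] M)) ∘ₗ (L k).subtype) '' s, hs.image _, ?_⟩
    rw [← Submodule.map_span, hspan, Submodule.map_top, LinearMap.range_comp,
      Submodule.range_subtype]
    rfl
  exact projective_of_decomp Q hind htop hcg

end Groth.Agent.Helper12.ProjDescent
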