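import Mathlib
import Groth.Agent.Lib.Helper12.ProjDescent

/-!
# Kaplansky dévissages (helper12)

Direct sum dévissages of a module: a well-ordered increasing continuous exhaustive family of
submodules with split successive steps gives an internal direct sum decomposition, and conversely.
Also: enlarging countably generated submodules to ones adapted to a decomposition of a base change.
-/

set_option autoImplicit false
set_option linter.style.haveILetI false
set_option linter.unusedSectionVars false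

universe u

namespace Groth.Agent.Helper12.Devissage

open TensorProduct

section Quot

variable {R : Type*} [CommRing R] {M : Type*} [AddCommGroup M] [Module R M]

theorem quotEquiv (A B C : Submodule R M) (h1 : A ⊓ C = ⊥) (h2 : A ⊔ C = B) :
    Nonempty (↥C ≃ₗ[R] ↥B ⧸ A.comap B.subtype) := by
  subst h2
  have hCB : C ≤ A ⊔ C := le_sup_right
  let f : ↥C →ₗ[R] ↥(A ⊔ C) ⧸ A.comap (A ⊔ C).subtype :=
    (A.comap (A ⊔ C).subtype).mkQ ∘ₗ Submodule.inclusion hCB
  have hinj : Function.Injective f := by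
    rw [← LinearMap.ker_eq_bot, LinearMap.ker_eq_bot']
    intro c hc
    have h3 : Submodule.inclusion hCB c ∈ A.comap (A ⊔ C).subtype :=
      (Submodule.Quotient.mk_eq_zero _).mp hc
    have h4 : (c : M) ∈ A := h3
    have h5 : (c : M) ∈ A ⊓ C := ⟨h4, c.2⟩
    rw [h1] at h5
    exact Subtype.ext ((Submodule.mem_bot R).mp h5)
  have hsurj : Function.Surjective f := by
    intro y
    obtain ⟨⟨b, hb⟩, rfl⟩ := Submodule.mkQ_surjective _ y
    obtain ⟨a, ha, c, hc, hac⟩ := Submodule.mem_sup.mp hb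
    refine ⟨⟨c, hc⟩, ?_⟩
    show (A.comap (A ⊔ C).subtype).mkQ (Submodule.inclusion hCB ⟨c, hc⟩) =
      (A.comap (A ⊔ C).subtype).mkQ ⟨b, hb⟩
    rw [Submodule.mkQ_apply, Submodule.mkQ_apply, Submodule.Quotient.eq]
    show ((Submodule.inclusion hCB ⟨c, hc⟩ - ⟨b, hb⟩ : ↥(A ⊔ C)) : M) ∈ A
    have h6 : ((Submodule.inclusion hCB ⟨c, hc⟩ - ⟨b, hb⟩ : ↥(A ⊔ C)) : M) = -a := by
      show c - b = -a
      rw [← hac]; abel
    rw [h6]
    exact A.neg_mem ha
  exact ⟨LinearEquiv.ofBijective f ⟨hinj, hsurj⟩⟩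

theorem cg_of_equiv {X Y : Type*} [AddCommGroup X] [Module R X] [AddCommGroup Y] [Module R Y]
    (e : X ≃ₗ[R] Y) (h : ∃ t : Set X, t.Countable ∧ Submodule.span R t = ⊤) :
    ∃ t : Set Y, t.Countable ∧ Submodule.span R t = ⊤ := by
  obtain ⟨t, ht, hspan⟩ := h
  refine ⟨(e : X →ₗ[R] Y) '' t, ht.image _, ?_⟩
  rw [← Submodule.map_span, hspan, Submodule.map_top, LinearEquiv.range]

end Quot

section Internal

variable {R : Type*} [CommRing R] {M : Type*} [AddCommGroup M] [Module R M]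
  {S : Type*} [LinearOrder S] [WellFoundedLT S] (Mf : S → Submodule R M)

theorem le_iSup_compl
    (hlim : ∀ s : S, Order.IsSuccPrelimit s → Mf s = ⨆ t : {t : S // t < s}, Mf t.1)
    (C : {p : S × S // p.1 ⋖ p.2} → Submodule R M)
    (hC2 : ∀ p, Mf p.1.1 ⊔ C p = Mf p.1.2) (s : S) :
    Mf s ≤ ⨆ p, C p := by
  induction s using WellFoundedLT.induction with
  | ind s ih =>
    by_cases hs : Order.IsSuccPrelimit s
    · rw [hlim s hs]
      exact iSup_le fun t => ih t.1 t.2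
    · obtain ⟨r, hr⟩ := Order.not_isSuccPrelimit_iff_exists_covBy.mp hs
      rw [← hC2 ⟨(r, s), hr⟩]
      exact sup_le (ih r hr.lt) (le_iSup C ⟨(r, s), hr⟩)

theorem indep (hmono : Monotone Mf)
    (C : {p : S × S // p.1 ⋖ p.2} → Submodule R M)
    (hC1 : ∀ p, Mf p.1.1 ⊓ C p = ⊥)
    (hC2 : ∀ p, Mf p.1.1 ⊔ C p = Mf p.1.2) :
    iSupIndep C := by
  classical
  rw [iSupIndep_iff_dfinsupp_lsum_injective]
  refine (injective_iff_map_eq_zero _).mpr fun v hv => ?_
  by_contra hne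
  have hsupp : v.support.Nonempty :=
    Finset.nonempty_iff_ne_empty.mpr fun h => hne (DFinsupp.support_eq_empty.mp h)
  obtain ⟨p, hp, hmax⟩ := Finset.exists_max_image v.support (fun p => p.1.2) hsupp
  have hsum : ∑ q ∈ v.support, ((v q : ↥(C q)) : M) = 0 := by
    rw [← hv, DFinsupp.lsum_apply_apply, DFinsupp.sumAddHom_apply]
    rfl
  have hrest : ∀ q ∈ v.support.erase p, ((v q : ↥(C q)) : M) ∈ Mf p.1.1 := by
    intro q hq
    obtain ⟨hqp, hqs⟩ := Finset.mem_erase.mp hq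
    have hle : q.1.2 ≤ p.1.2 := hmax q hqs
    have hlt : q.1.2 < p.1.2 := by
      rcases hle.lt_or_eq with h | h
      · exact h
      · exfalso
        apply hqp
        have h1 : q.1.1 = p.1.1 := by
          have hq' : q.1.1 ⋖ p.1.2 := h ▸ q.2
          exact hq'.unique_left p.2
        exact Subtype.ext (Prod.ext h1 h)
    have hle' : q.1.2 ≤ p.1.1 := p.2.le_of_lt hlt
    have hCq : C q ≤ Mf q.1.2 := le_sup_right.trans (hC2 q).le
    exact hmono hle' (hCq (v q).2)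
  have hvp : ((v p : ↥(C p)) : M) ∈ Mf p.1.1 := by
    have h0 := Finset.add_sum_erase v.support (fun q => ((v q : ↥(C q)) : M)) hp
    rw [hsum] at h0
    rw [eq_neg_of_add_eq_zero_left h0]
    exact (Mf p.1.1).neg_mem (Submodule.sum_mem _ hrest)
  have hzero : ((v p : ↥(C p)) : M) ∈ Mf p.1.1 ⊓ C p := ⟨hvp, (v p).2⟩
  rw [hC1 p, Submodule.mem_bot] at hzero
  exact (DFinsupp.mem_support_iff.mp hp) (Subtype.ext hzero)

theorem exists_internal (hmono : Monotone Mf)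
    (hlim : ∀ s : S, Order.IsSuccPrelimit s → Mf s = ⨆ t : {t : S // t < s}, Mf t.1)
    (htop : (⨆ s, Mf s) = ⊤)
    (C : {p : S × S // p.1 ⋖ p.2} → Submodule R M)
    (hC1 : ∀ p, Mf p.1.1 ⊓ C p = ⊥)
    (hC2 : ∀ p, Mf p.1.1 ⊔ C p = Mf p.1.2) :
    iSupIndep C ∧ iSup C = ⊤ := by
  refine ⟨indep Mf hmono C hC1 hC2, ?_⟩
  rw [eq_top_iff, ← htop]
  exact iSup_le fun s => le_iSup_compl Mf hlim C hC2 s

end Internal

/-- S6389. -/
theorem main6389 {R : Type u} [CommRing R] {M : Type u} [AddCommGroup M] [Module R M]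
    {S : Type u} [LinearOrder S] [WellFoundedLT S] (Mf : S → Submodule R M)
    (hmono : Monotone Mf)
    (hlim : ∀ s : S, Order.IsSuccPrelimit s → Mf s = ⨆ t : {t : S // t < s}, Mf t.1)
    (htop : (⨆ s, Mf s) = ⊤)
    (hsucc : ∀ s t : S, s ⋖ t → ∃ C : Submodule R M, Mf s ⊓ C = ⊥ ∧ Mf s ⊔ C = Mf t) :
    Nonempty (M ≃ₗ[R] DirectSum {p : S × S // p.1 ⋖ p.2}
      fun p => ↥(Mf p.1.2) ⧸ Submodule.comap (Mf p.1.2).subtype (Mf p.1.1)) := by
  classical
  have hC : ∀ p : {p : S × S // p.1 ⋖ p.2}, ∃ C : Submodule R M,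
      Mf p.1.1 ⊓ C = ⊥ ∧ Mf p.1.1 ⊔ C = Mf p.1.2 := fun p => hsucc p.1.1 p.1.2 p.2
  choose C hC1 hC2 using hC
  have hint : DirectSum.IsInternal C :=
    (DirectSum.isInternal_submodule_iff_iSupIndep_and_iSup_eq_top C).mpr
      (exists_internal Mf hmono hlim htop C hC1 hC2)
  let e1 : (DirectSum {p : S × S // p.1 ⋖ p.2} fun p => ↥(C p)) ≃ₗ[R] M :=
    LinearEquiv.ofBijective (DirectSum.coeLinearMap C) hint
  have hq : ∀ p : {p : S × S // p.1 ⋖ p.2}, Nonempty (↥(C p) ≃ₗ[R]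
      ↥(Mf p.1.2) ⧸ Submodule.comap (Mf p.1.2).subtype (Mf p.1.1)) :=
    fun p => quotEquiv _ _ _ (hC1 p) (hC2 p)
  let e2 : (DirectSum {p : S × S // p.1 ⋖ p.2} fun p => ↥(C p)) ≃ₗ[R]
      DirectSum {p : S × S // p.1 ⋖ p.2}
        fun p => ↥(Mf p.1.2) ⧸ Submodule.comap (Mf p.1.2).subtype (Mf p.1.1) :=
    DFinsupp.mapRange.linearEquiv fun p => (hq p).some
  exact ⟨e1.symm.trans e2⟩

/-- S6390, `←`. -/
theorem main6390_mpr {R : Type u} [CommRing R] {M : Type u} [AddCommGroup M] [Module R M]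
    {S : Type u} [LinearOrder S] [WellFoundedLT S] (Mf : S → Submodule R M)
    (hmono : Monotone Mf)
    (hlim : ∀ s : S, Order.IsSuccPrelimit s → Mf s = ⨆ t : {t : S // t < s}, Mf t.1)
    (htop : (⨆ s, Mf s) = ⊤)
    (hsucc : ∀ s t : S, s ⋖ t → ∃ C : Submodule R M, Mf s ⊓ C = ⊥ ∧ Mf s ⊔ C = Mf t ∧
      ∃ T : Set (↥(Mf t) ⧸ Submodule.comap (Mf t).subtype (Mf s)),
        T.Countable ∧ Submodule.span R T = ⊤) :
    ∃ (ι : Type u) (N : ι → Submodule R M), (iSupIndep N ∧ iSup N = ⊤) ∧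
      ∀ i, ∃ T : Set ↥(N i), T.Countable ∧ Submodule.span R T = ⊤ := by
  classical
  have hC : ∀ p : {p : S × S // p.1 ⋖ p.2}, ∃ C : Submodule R M,
      Mf p.1.1 ⊓ C = ⊥ ∧ Mf p.1.1 ⊔ C = Mf p.1.2 ∧
      ∃ T : Set (↥(Mf p.1.2) ⧸ Submodule.comap (Mf p.1.2).subtype (Mf p.1.1)),
        T.Countable ∧ Submodule.span R T = ⊤ := fun p => hsucc p.1.1 p.1.2 p.2
  choose C hC1 hC2 hC3 using hC
  refine ⟨{p : S × S // p.1 ⋖ p.2}, C, exists_internal Mf hmono hlim htop C hC1 hC2, fun p => ?_⟩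
  obtain ⟨e⟩ := quotEquiv _ _ _ (hC1 p) (hC2 p)
  exact cg_of_equiv e.symm (hC3 p)

/-- S6390, `→`. -/
theorem main6390_mp {R : Type u} [CommRing R] {M : Type u} [AddCommGroup M] [Module R M]
    {ι : Type u} (N : ι → Submodule R M) (hind : iSupIndep N) (htop : iSup N = ⊤)
    (hcg : ∀ i, ∃ T : Set ↥(N i), T.Countable ∧ Submodule.span R T = ⊤) :
    ∃ (S : Type u) (_ : LinearOrder S) (_ : WellFoundedLT S) (Mf : S → Submodule R M),
      Monotone Mf ∧
      (∀ s : S, Order.IsSuccPrelimit s → Mf s = ⨆ t : {t : S // t < s}, Mf t.1) ∧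
      (⨆ s, Mf s) = ⊤ ∧
      (∀ s t : S, s ⋖ t → ∃ C : Submodule R M, Mf s ⊓ C = ⊥ ∧ Mf s ⊔ C = Mf t ∧
        ∃ T : Set (↥(Mf t) ⧸ Submodule.comap (Mf t).subtype (Mf s)),
          T.Countable ∧ Submodule.span R T = ⊤) := by
  classical
  obtain ⟨inst1, inst2⟩ := exists_wellFoundedLT ι
  obtain ⟨Mf, hMf⟩ : ∃ Mf : WithTop ι → Submodule R M,
      ∀ s, Mf s = ⨆ (i : ι) (_ : (i : WithTop ι) < s), N i := ⟨_, fun _ => rfl⟩
  have hNle : ∀ (i : ι) (s : WithTop ι), (i : WithTop ι) < s → N i ≤ Mf s := by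
    intro i s h
    rw [hMf]
    exact le_iSup₂_of_le i h le_rfl
  have hmono : Monotone Mf := by
    intro s s' h
    rw [hMf s]
    exact iSup₂_le fun i hi => hNle i s' (hi.trans_le h)
  refine ⟨WithTop ι, inferInstance, inferInstance, Mf, hmono, ?_, ?_, ?_⟩
  · intro s hs
    apply le_antisymm
    · rw [hMf s]
      refine iSup₂_le fun i hi => ?_
      have h1 : ¬ ((i : WithTop ι) ⋖ s) := hs _
      obtain ⟨c, hc1, hc2⟩ := (not_covBy_iff hi).mp h1
      exact le_iSup_of_le (⟨c, hc2⟩ : {t : WithTop ι // t < s}) (hNle i c hc1)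
    · exact iSup_le fun t => hmono t.2.le
  · rw [eq_top_iff, ← htop]
    exact iSup_le fun i => le_iSup_of_le (⊤ : WithTop ι) (hNle i ⊤ (WithTop.coe_lt_top i))
  · intro s t hst
    have hs : s ≠ ⊤ := (hst.lt.trans_le le_top).ne
    obtain ⟨i, rfl⟩ := WithTop.ne_top_iff_exists.mp hs
    have h1 : Mf (i : WithTop ι) ⊓ N i = ⊥ := by
      have hle : Mf (i : WithTop ι) ≤ ⨆ (j : ι) (_ : j ≠ i), N j := by
        rw [hMf]
        exact iSup₂_le fun j hj => le_iSup₂_of_le j (ne_of_lt (WithTop.coe_lt_coe.mp hj)) le_rfl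
      exact disjoint_iff.mp ((hind i).symm.mono_left hle)
    have h2 : Mf (i : WithTop ι) ⊔ N i = Mf t := by
      apply le_antisymm
      · exact sup_le (hmono hst.le) (hNle i t hst.lt)
      · rw [hMf t]
        refine iSup₂_le fun j hj => ?_
        have hji : (j : WithTop ι) ≤ i := hst.le_of_lt hj
        rcases (WithTop.coe_le_coe.mp hji).lt_or_eq with h | h
        · exact (hNle j i (WithTop.coe_lt_coe.mpr h)).trans le_sup_left
        · rw [h]; exact le_sup_right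
    refine ⟨N i, h1, h2, ?_⟩
    obtain ⟨e⟩ := quotEquiv _ _ _ h1 h2
    exact cg_of_equiv e (hcg i)

section Adapted

variable {R : Type*} [CommRing R] {S : Type*} [CommRing S] [Algebra R S]
  {M : Type*} [AddCommGroup M] [Module R M] {κ : Type*} (Q : κ → Submodule S (S ⊗[R] M))

/-- Every countable subset lies in a countably generated adapted submodule. -/
theorem exists_adapted (htop : ⨆ k, Q k = ⊤) (gen : κ → Set (S ⊗[R] M))
    (hgen : ∀ k, (gen k).Countable ∧ Submodule.span S (gen k) = Q k)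
    (s₀ : Set M) (hs₀ : s₀.Countable) :
    ∃ (s : Set M) (J' : Set κ), s.Countable ∧ s₀ ⊆ s ∧
      (Submodule.span R s).baseChange S = ⨆ k ∈ J', Q k := by
  classical
  have hsupp : ∀ t : S ⊗[R] M, ∃ F : Finset κ, t ∈ ⨆ k ∈ F, Q k := fun t =>
    Submodule.mem_iSup_iff_exists_finset.mp (htop ▸ Submodule.mem_top)
  choose supp hsupp using hsupp
  have hcomp : ∀ t : S ⊗[R] M, ∃ F : Finset M,
      t ∈ Submodule.span S (TensorProduct.mk R S M 1 '' (F : Set M)) := by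
    intro t
    induction t using TensorProduct.induction_on with
    | zero => exact ⟨∅, zero_mem _⟩
    | tmul a m =>
      refine ⟨{m}, ?_⟩
      have h1 : a ⊗ₜ[R] m = a • ((1 : S) ⊗ₜ[R] m) := by
        rw [TensorProduct.smul_tmul', smul_eq_mul, mul_one]
      rw [h1]
      exact Submodule.smul_mem _ _ (Submodule.subset_span ⟨m, by simp, rfl⟩)
    | add t₁ t₂ h₁ h₂ =>
      obtain ⟨F₁, hF₁⟩ := h₁
      obtain ⟨F₂, hF₂⟩ := h₂
      refine ⟨F₁ ∪ F₂, ?_⟩
      refine add_mem (Submodule.span_mono (Set.image_mono ?_) hF₁)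
        (Submodule.span_mono (Set.image_mono ?_) hF₂)
      · exact_mod_cast Finset.subset_union_left
      · exact_mod_cast Finset.subset_union_right
  choose comp hcomp using hcomp
  obtain ⟨Jof, hJof⟩ : ∃ Jof : Set M → Set κ, ∀ s, Jof s =
      ⋃ m ∈ s, (↑(supp ((1 : S) ⊗ₜ[R] m)) : Set κ) := ⟨_, fun _ => rfl⟩
  obtain ⟨step, hstep⟩ : ∃ step : Set M → Set M, ∀ s, step s =
      s ∪ ⋃ k ∈ Jof s, ⋃ g ∈ gen k, (↑(comp g) : Set M) := ⟨_, fun _ => rfl⟩
  obtain ⟨sn, hsn⟩ : ∃ sn : ℕ → Set M, ∀ n, sn n = step^[n] s₀ := ⟨_, fun _ => rfl⟩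
  have hsn0 : sn 0 = s₀ := by rw [hsn]; rfl
  have hsnsucc : ∀ n, sn (n + 1) = step (sn n) := by
    intro n; rw [hsn, hsn, Function.iterate_succ_apply']
  have hJcount : ∀ s : Set M, s.Countable → (Jof s).Countable := by
    intro s hs
    rw [hJof]
    exact hs.biUnion fun m _ => Finset.countable_toSet _
  have hcount : ∀ n, (sn n).Countable := by
    intro n
    induction n with
    | zero => rw [hsn0]; exact hs₀
    | succ n ih =>
      rw [hsnsucc, hstep]
      exact ih.union ((hJcount _ ih).biUnion fun k _ =>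
        (hgen k).1.biUnion fun g _ => Finset.countable_toSet _)
  refine ⟨⋃ n, sn n, Jof (⋃ n, sn n), Set.countable_iUnion hcount,
    fun y hy => Set.mem_iUnion.mpr ⟨0, by rw [hsn0]; exact hy⟩, ?_⟩
  rw [Submodule.baseChange_span]
  apply le_antisymm
  · rw [Submodule.span_le]
    rintro _ ⟨m, hm, rfl⟩
    show (1 : S) ⊗ₜ[R] m ∈ ⨆ k ∈ Jof (⋃ n, sn n), Q k
    refine (biSup_mono ?_ : (⨆ k ∈ (↑(supp ((1 : S) ⊗ₜ[R] m)) : Set κ), Q k) ≤
      ⨆ k ∈ Jof (⋃ n, sn n), Q k) (hsupp _)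
    intro k hk
    rw [hJof]
    exact Set.mem_biUnion hm hk
  · refine iSup₂_le fun k hk => ?_
    rw [hJof] at hk
    obtain ⟨m, hm, hkm⟩ := Set.mem_iUnion₂.mp hk
    obtain ⟨n, hmn⟩ := Set.mem_iUnion.mp hm
    have hkn : k ∈ Jof (sn n) := by
      rw [hJof]; exact Set.mem_biUnion hmn hkm
    rw [← (hgen k).2, Submodule.span_le]
    intro g hg
    have hsub : (↑(comp g) : Set M) ⊆ ⋃ n, sn n := by
      intro y hy
      refine Set.mem_iUnion.mpr ⟨n + 1, ?_⟩
      rw [hsnsucc, hstep]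
      exact Or.inr (Set.mem_biUnion hkn (Set.mem_biUnion hg hy))
    exact Submodule.span_mono (Set.image_mono hsub) (hcomp g)

end Adapted

/-- S6383. -/
theorem main6383 {R S : Type u} [CommRing R] [CommRing S] [Algebra R S]
    {M : Type u} [AddCommGroup M] [Module R M] {I : Type u}
    (Q : I → Submodule S (S ⊗[R] M)) (htop : iSup Q = ⊤)
    (hQc : ∀ i, ∃ t : Set (S ⊗[R] M), t.Countable ∧ Submodule.span S t = Q i)
    (N : Submodule R M) (hN : ∃ s : Set M, s.Countable ∧ Submodule.span R s = N) :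
    ∃ (N' : Submodule R M) (I' : Set I), N ≤ N' ∧
      (∃ s : Set M, s.Countable ∧ Submodule.span R s = N') ∧
      Submodule.span S ((TensorProduct.mk R S M 1) '' (N' : Set M)) = ⨆ i ∈ I', Q i := by
  choose gen hgen using hQc
  obtain ⟨s₀, hs₀, rfl⟩ := hN
  obtain ⟨s, J', hs, hsub, hbc⟩ := exists_adapted Q htop gen hgen s₀ hs₀
  refine ⟨Submodule.span R s, J', Submodule.span_mono hsub, ⟨s, hs, rfl⟩, ?_⟩
  rw [← hbc, Submodule.baseChange_eq_span, Submodule.map_coe]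

end Groth.Agent.Helper12.Devissage
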