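import Mathlib
import Groth.Prelude.Def_FibCat2

/-!
Categories fibred in groupoids: comparison with Mathlib's `Functor.IsFibered`.
-/

open CategoryTheory Functor

namespace Groth.Agent.Helper12

universe v₂ u₂ v u

variable {C : Type u} [Category.{v} C] {S : Type u₂} [Category.{v₂} S] (p : S ⥤ C)

/-- In a category fibred in groupoids every morphism is strongly cartesian over any morphism
it lifts. -/
lemma isStronglyCartesian_of_isFibGrpd [FibCat.IsFibGrpd p] {R T : C} (f : R ⟶ T) {a b : S}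
    (φ : a ⟶ b) [p.IsHomLift f φ] : p.IsStronglyCartesian f φ := by
  have hs := FibCat.IsFibGrpd.isStronglyCartesian (p := p) φ
  have hdom : p.obj a = R := IsHomLift.domain_eq p f φ
  have hcod : p.obj b = T := IsHomLift.codomain_eq p f φ
  subst hdom hcod
  have hf : f = p.map φ := IsHomLift.eq_of_isHomLift p f φ
  rw [hf]
  exact hs

lemma isFibered_of_isFibGrpd [FibCat.IsFibGrpd p] : p.IsFibered := by
  apply Functor.IsFibered.of_exists_isStronglyCartesian
  intro a R f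
  obtain ⟨b, φ, hφ⟩ := FibCat.IsFibGrpd.exists_lift (p := p) f
  exact ⟨b, φ, isStronglyCartesian_of_isFibGrpd p f φ⟩

/-- A morphism of a category fibred in groupoids lying over an isomorphism is an isomorphism. -/
lemma isIso_of_isFibGrpd [FibCat.IsFibGrpd p] {R T : C} (f : R ⟶ T) [IsIso f] {a b : S}
    (φ : a ⟶ b) [p.IsHomLift f φ] : IsIso φ := by
  have := isStronglyCartesian_of_isFibGrpd p f φ
  exact IsStronglyCartesian.isIso_of_base_isIso p f φ

lemma isGroupoid_fiber_of_isFibGrpd [FibCat.IsFibGrpd p] (U : C) : IsGroupoid (p.Fiber U) := by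
  constructor
  intro a b φ
  have hlift : p.IsHomLift (𝟙 U) φ.1 := φ.2
  have hiso : IsIso φ.1 := isIso_of_isFibGrpd p (𝟙 U) φ.1
  have hinv : p.IsHomLift (𝟙 U) (inv φ.1) := inferInstance
  refine ⟨⟨⟨inv φ.1, hinv⟩, ?_, ?_⟩⟩
  · apply Fiber.hom_ext
    change φ.1 ≫ inv φ.1 = 𝟙 _
    simp
  · apply Fiber.hom_ext
    change inv φ.1 ≫ φ.1 = 𝟙 _
    simp

lemma isFibGrpd_of_isFibered [p.IsFibered] (hg : ∀ U : C, IsGroupoid (p.Fiber U)) :
    FibCat.IsFibGrpd p := by
  refine ⟨?_, ?_⟩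
  · intro x V f
    obtain ⟨y, φ, hφ⟩ := Functor.IsPreFibered.exists_isCartesian' (p := p) f
    exact ⟨y, φ, inferInstance⟩
  · intro y x φ
    obtain ⟨y', ψ, hψ⟩ := Functor.IsPreFibered.exists_isCartesian' (p := p) (p.map φ)
    obtain ⟨χ, hχlift, hχ⟩ : ∃ χ : y ⟶ y', p.IsHomLift (𝟙 (p.obj y)) χ ∧ χ ≫ ψ = φ :=
      ⟨IsCartesian.map p (p.map φ) ψ φ, inferInstance, IsCartesian.fac p (p.map φ) ψ φ⟩
    have hy' : p.obj y' = p.obj y := IsHomLift.domain_eq p (p.map φ) ψ
    have hχiso : IsIso χ := by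
      let χ' : (Fiber.mk (p := p) (rfl : p.obj y = p.obj y)) ⟶ Fiber.mk hy' := ⟨χ, hχlift⟩
      have : IsIso χ' := (hg (p.obj y)).all_isIso χ'
      exact (inferInstance : IsIso (Fiber.fiberInclusion.map χ'))
    have h1 : p.IsStronglyCartesian (p.map φ) ψ := inferInstance
    have h2 : p.IsStronglyCartesian (𝟙 (p.obj y)) χ := IsStronglyCartesian.of_isIso p _ χ
    have h3 : p.IsStronglyCartesian (𝟙 (p.obj y) ≫ p.map φ) (χ ≫ ψ) := inferInstance
    rw [Category.id_comp, hχ] at h3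
    exact h3

end Groth.Agent.Helper12
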