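import Groth.Prelude.Def_FibCat2
import Groth.Agent.Lib.Helper12.FibGrpd
import Groth.Agent.Lib.Helper12.EquivOver
import Mathlib

set_option autoImplicit false
universe v u

open CategoryTheory CategoryTheory.Limits Functor

namespace Groth.Agent.Helper12

variable {C : Type u} [Category.{v} C] {𝒳 𝒴 : BasedCategory.{v, max u v} C}

theorem diag_isEquivOver_of_fullyFaithful (G : 𝒳 ⥤ᵇ 𝒴) [G.toFunctor.Full] [G.toFunctor.Faithful] :
    FibCat.IsEquivOver (FibCat.diag G) := by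
  refine ⟨FibCat.fpFst G G, ⟨?_⟩, ⟨?_⟩⟩
  · refine BasedNatIso.mkNatIso (NatIso.ofComponents (fun x => Iso.refl x) ?_) ?_
    · intro x y f
      change f ≫ 𝟙 y = 𝟙 x ≫ f
      rw [Category.comp_id, Category.id_comp]
    · intro x
      exact IsHomLift.id rfl
  · refine BasedNatIso.mkNatIso (NatIso.ofComponents (fun t =>
      ObjectProperty.isoMk _ (CategoricalPullback.mkIso (Iso.refl t.obj.fst)
        (G.toFunctor.preimageIso t.obj.iso) ?_)) ?_) ?_
    · have h1 : (((FibCat.fpFst G G).comp (FibCat.diag G)).obj t).obj.iso.hom =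
          𝟙 (G.obj t.obj.fst) := rfl
      rw [h1]
      change G.toFunctor.map (𝟙 t.obj.fst) ≫ t.obj.iso.hom =
        𝟙 (G.toFunctor.obj t.obj.fst) ≫ G.toFunctor.map (G.toFunctor.preimageIso t.obj.iso).hom
      rw [CategoryTheory.Functor.map_id, Category.id_comp, Category.id_comp,
        Functor.preimageIso_hom, Functor.map_preimage]
    · intro X Y f
      apply ObjectProperty.hom_ext
      apply CategoricalPullback.hom_ext
      · change f.hom.fst ≫ 𝟙 _ = 𝟙 _ ≫ f.hom.fst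
        rw [Category.comp_id, Category.id_comp]
      · change f.hom.fst ≫ (G.toFunctor.preimageIso Y.obj.iso).hom =
          (G.toFunctor.preimageIso X.obj.iso).hom ≫ f.hom.snd
        apply G.toFunctor.map_injective
        rw [CategoryTheory.Functor.map_comp, CategoryTheory.Functor.map_comp, Functor.preimageIso_hom, Functor.preimageIso_hom,
          Functor.map_preimage, Functor.map_preimage]
        exact f.hom.w
    · intro a
      refine IsHomLift.of_fac _ _ _ rfl rfl ?_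
      change 𝟙 (𝒳.p.obj a.obj.fst) = 𝟙 _ ≫ 𝒳.p.map (𝟙 a.obj.fst) ≫ 𝟙 _
      rw [CategoryTheory.Functor.map_id, Category.id_comp, Category.id_comp]

theorem faithful_of_diag_isEquivOver (G : 𝒳 ⥤ᵇ 𝒴)
    (hE : FibCat.IsEquivOver (FibCat.diag G)) : G.toFunctor.Faithful := by
  have heq := isEquivalence_of_isEquivOver _ hE
  refine ⟨fun {x x'} f f' hff' => ?_⟩
  have hw : G.toFunctor.map f ≫ (((FibCat.diag G).obj x').obj.iso.hom) =
      ((FibCat.diag G).obj x).obj.iso.hom ≫ G.toFunctor.map f' := by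
    change G.toFunctor.map f ≫ 𝟙 _ = 𝟙 _ ≫ G.toFunctor.map f'
    rw [Category.comp_id, Category.id_comp, hff']
  obtain ⟨h, hh⟩ := (FibCat.diag G).toFunctor.map_surjective
    (ObjectProperty.homMk ⟨f, f', hw⟩ : (FibCat.diag G).obj x ⟶ (FibCat.diag G).obj x')
  have h1 : h = f := congrArg (fun k => k.hom.fst) hh
  have h2 : h = f' := congrArg (fun k => k.hom.snd) hh
  exact h1.symm.trans h2

theorem full_of_diag_isEquivOver (G : 𝒳 ⥤ᵇ 𝒴) [h𝒳 : FibCat.IsFibGrpd 𝒳.p]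
    [h𝒴 : FibCat.IsFibGrpd 𝒴.p]
    (hE : FibCat.IsEquivOver (FibCat.diag G)) : G.toFunctor.Full := by
  have heq := isEquivalence_of_isEquivOver _ hE
  refine ⟨fun {x x'} ψ => ?_⟩
  obtain ⟨u, hu⟩ : ∃ u : 𝒳.p.obj x ⟶ 𝒳.p.obj x',
      u = eqToHom (G.w_obj x).symm ≫ 𝒴.p.map ψ ≫ eqToHom (G.w_obj x') := ⟨_, rfl⟩
  have hψ : 𝒴.p.IsHomLift u ψ := IsHomLift.of_fac _ _ _ (G.w_obj x) (G.w_obj x') hu
  obtain ⟨z, φ, hφ⟩ := h𝒳.exists_lift (x := x') u
  have hGφ : 𝒴.p.IsHomLift u (G.toFunctor.map φ) := (BasedFunctor.isHomLift_iff G u φ).mpr hφ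
  have hsc : 𝒴.p.IsStronglyCartesian u (G.toFunctor.map φ) :=
    isStronglyCartesian_of_isFibGrpd 𝒴.p u _
  obtain ⟨θ, ⟨hθ1, hθ2⟩, -⟩ := IsStronglyCartesian.universal_property 𝒴.p u
    (G.toFunctor.map φ) (𝟙 (𝒳.p.obj x)) u (Category.id_comp u).symm ψ
  have hθiso : IsIso θ := isIso_of_isFibGrpd 𝒴.p (𝟙 (𝒳.p.obj x)) θ
  obtain ⟨w, ⟨i⟩⟩ := Functor.EssSurj.mem_essImage (F := (FibCat.diag G).toFunctor)
    (⟨⟨x, z, asIso θ⟩, hθ1⟩ : (FibCat.fp G G).obj)
  obtain ⟨α, β, hw⟩ : ∃ (α : w ≅ x) (β : w ⟶ z),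
      G.toFunctor.map α.hom ≫ θ = 𝟙 (G.toFunctor.obj w) ≫ G.toFunctor.map β :=
    ⟨(CategoricalPullback.π₁ _ _).mapIso ((FibCat.fpProp G G).ι.mapIso i), i.hom.hom.snd,
      i.hom.hom.w⟩
  refine ⟨α.inv ≫ β ≫ φ, ?_⟩
  rw [Category.id_comp] at hw
  rw [CategoryTheory.Functor.map_comp, CategoryTheory.Functor.map_comp, ← hθ2, ← hw,
    ← Category.assoc, ← Category.assoc, ← CategoryTheory.Functor.map_comp,
    α.inv_hom_id, CategoryTheory.Functor.map_id, Category.id_comp]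

end Groth.Agent.Helper12
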