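import Mathlib

set_option autoImplicit false
universe u

open TensorProduct

namespace Groth.Agent.Helper12

section

variable {R : Type*} [CommRing R] {ι : Type*} [Preorder ι] [IsDirected ι (· ≤ ·)] [Nonempty ι]
  [DecidableEq ι] {G : ι → Type*} [∀ i, AddCommGroup (G i)] [∀ i, Module R (G i)]
  (f : ∀ i j, i ≤ j → G i →ₗ[R] G j) [DirectedSystem G fun i j h => f i j h]

theorem dirLim_f_f {i j k : ι} (hij : i ≤ j) (hjk : j ≤ k) (x : G i) :
    f j k hjk (f i j hij x) = f i k (hij.trans hjk) x :=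
  DirectedSystem.map_map (f := fun i j h => f i j h) hij hjk x

theorem dirLim_f_comp {i j k : ι} (hij : i ≤ j) (hjk : j ≤ k) :
    f j k hjk ∘ₗ f i j hij = f i k (hij.trans hjk) :=
  LinearMap.ext fun x => dirLim_f_f f hij hjk x

/-- maps from a finite module into a stage which agree in the limit agree at a later stage. -/
theorem dirLim_eq_at_stage {P : Type*} [AddCommGroup P] [Module R P] [Module.Finite R P]
    {j : ι} (u v : P →ₗ[R] G j)
    (h : Module.DirectLimit.of R ι G f j ∘ₗ u = Module.DirectLimit.of R ι G f j ∘ₗ v) :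
    ∃ (j' : ι) (hjj' : j ≤ j'), f j j' hjj' ∘ₗ u = f j j' hjj' ∘ₗ v := by
  obtain ⟨n, s, hs⟩ := Module.Finite.exists_fin (R := R) (M := P)
  have h1 : ∀ a : Fin n, ∃ (k : ι) (hjk : j ≤ k), f j k hjk (u (s a)) = f j k hjk (v (s a)) := by
    intro a
    have := LinearMap.congr_fun h (s a)
    exact Module.DirectLimit.exists_eq_of_of_eq this
  choose k hjk hk using h1
  obtain ⟨j', hj'⟩ := Finite.exists_le (fun a : Option (Fin n) => a.elim j k)
  have hjj' : j ≤ j' := hj' none
  refine ⟨j', hjj', ?_⟩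
  apply LinearMap.ext_on_range hs
  intro a
  have hk' : k a ≤ j' := hj' (some a)
  simp only [LinearMap.coe_comp, Function.comp_apply]
  rw [← dirLim_f_f f (hjk a) hk', ← dirLim_f_f f (hjk a) hk', hk a]

/-- maps from a finite free module into the limit lift to a stage. -/
theorem dirLim_lift_free {n : ℕ} (φ : (Fin n → R) →ₗ[R] Module.DirectLimit G f) :
    ∃ (i : ι) (φ₀ : (Fin n → R) →ₗ[R] G i), Module.DirectLimit.of R ι G f i ∘ₗ φ₀ = φ := by
  classical
  have h1 : ∀ a : Fin n, ∃ (i : ι) (x : G i),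
      Module.DirectLimit.of R ι G f i x = φ (Pi.single a 1) := fun a => Module.DirectLimit.exists_of _
  choose ia x hx using h1
  obtain ⟨i, hi⟩ := Finite.exists_le ia
  refine ⟨i, Fintype.linearCombination R (fun a => f (ia a) i (hi a) (x a)), ?_⟩
  apply LinearMap.pi_ext'
  intro a
  ext
  simp [Fintype.linearCombination_apply, hx]

/-- maps from a finitely presented module into the limit lift to a stage. -/
theorem dirLim_lift_fp {Q : Type*} [AddCommGroup Q] [Module R Q] [Module.FinitePresentation R Q]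
    (ψ : Q →ₗ[R] Module.DirectLimit G f) :
    ∃ (i : ι) (ψ₀ : Q →ₗ[R] G i), Module.DirectLimit.of R ι G f i ∘ₗ ψ₀ = ψ := by
  classical
  obtain ⟨n, m, p, A, hp, hAp⟩ := Module.FinitePresentation.exists_fin' R Q
  obtain ⟨i, φ₀, hφ₀⟩ := dirLim_lift_free f (ψ ∘ₗ p)
  have h0 : Module.DirectLimit.of R ι G f i ∘ₗ (φ₀ ∘ₗ A) = Module.DirectLimit.of R ι G f i ∘ₗ 0 := by
    rw [← LinearMap.comp_assoc, hφ₀, LinearMap.comp_zero]
    ext v
    simp [hAp.apply_apply_eq_zero]
  obtain ⟨i', hii', h1⟩ := dirLim_eq_at_stage f (φ₀ ∘ₗ A) 0 h0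
  have hker : LinearMap.ker p ≤ LinearMap.ker (f i i' hii' ∘ₗ φ₀) := by
    intro v hv
    obtain ⟨w, rfl⟩ := (hAp v).mp hv
    have := LinearMap.congr_fun h1 w
    simpa using this
  let ψ₀ : Q →ₗ[R] G i' := (LinearMap.ker p).liftQ (f i i' hii' ∘ₗ φ₀) hker ∘ₗ
    (p.quotKerEquivOfSurjective hp).symm.toLinearMap
  have hψ₀ : ∀ v, ψ₀ (p v) = f i i' hii' (φ₀ v) := by
    intro v
    have : (p.quotKerEquivOfSurjective hp).symm (p v) = (LinearMap.ker p).mkQ v := by
      rw [LinearEquiv.symm_apply_eq]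
      rfl
    simp only [ψ₀, LinearMap.coe_comp, Function.comp_apply, LinearEquiv.coe_coe, this,
      Submodule.mkQ_apply, Submodule.liftQ_apply]
  refine ⟨i', ψ₀, ?_⟩
  ext q
  obtain ⟨v, rfl⟩ := hp q
  simp only [LinearMap.coe_comp, Function.comp_apply]
  rw [hψ₀ v, Module.DirectLimit.of_f]
  exact LinearMap.congr_fun hφ₀ v

/-- the tensored system is directed. -/
theorem directedSystem_rTensor (N : Type*) [AddCommGroup N] [Module R N] :
    DirectedSystem (fun i => G i ⊗[R] N) fun i j h => (f i j h).rTensor N where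
  map_self i x := by
    have : f i i le_rfl = LinearMap.id := LinearMap.ext fun y =>
      DirectedSystem.map_self (f := fun i j h => f i j h) y
    simp only [this, LinearMap.rTensor_id, LinearMap.id_apply]
  map_map k j i hij hjk x := by
    rw [← LinearMap.comp_apply, ← LinearMap.rTensor_comp, dirLim_f_comp]

/-- a tensor killed in the limit is killed at a later stage. -/
theorem dirLim_rTensor_zero_exact (N : Type*) [AddCommGroup N] [Module R N] {i : ι}
    (x : G i ⊗[R] N) (hx : (Module.DirectLimit.of R ι G f i).rTensor N x = 0) :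
    ∃ (k : ι) (hik : i ≤ k), (f i k hik).rTensor N x = 0 := by
  have := directedSystem_rTensor f N
  have h1 : Module.DirectLimit.of R ι (fun i => G i ⊗[R] N) (fun i j h => (f i j h).rTensor N) i x = 0 := by
    rw [← TensorProduct.directLimitLeft_rTensor_of, hx, map_zero]
  exact Module.DirectLimit.of.zero_exact h1

end

end Groth.Agent.Helper12
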