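import Mathlib

namespace Groth.Agent.Helper12

open CategoryTheory TensorProduct

universe u

/-- base change of a ring epimorphism is a ring epimorphism -/
theorem isEpi_baseChange (R A B : Type u) [CommRing R] [CommRing A] [CommRing B]
    [Algebra R A] [Algebra R B] [Algebra.IsEpi R B] : Algebra.IsEpi A (A ⊗[R] B) := by
  have hepi : Epi (CommRingCat.ofHom (algebraMap R B)) := CommRingCat.epi_iff_epi.mpr inferInstance
  have h := (CommRingCat.isPushout_tensorProduct R A B).epi_inl_of_epi hepi
  exact CommRingCat.epi_iff_epi.mp h

end Groth.Agent.Helper12
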