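import Mathlib

set_option autoImplicit false
universe u

namespace Groth.Agent.Helper12

open TensorProduct Cardinal

section card

theorem mk_sigma_nat_le {c : Cardinal.{u}} (hc : ℵ₀ ≤ c) (Y : ℕ → Type u)
    (h : ∀ n, #(Y n) ≤ c) : #(Σ n, Y n) ≤ c := by
  rw [Cardinal.mk_sigma]
  calc Cardinal.sum (fun n => #(Y n)) ≤ Cardinal.sum (fun _ : ℕ => c) :=
        Cardinal.sum_le_sum _ _ h
    _ = ℵ₀ * c := by rw [Cardinal.sum_const]; simp
    _ = c := Cardinal.aleph0_mul_eq hc

theorem mk_matrix_le (α β : Type) [Fintype α] [Fintype β] (R : Type u) [Infinite R] :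
    #(α → β → R) ≤ #R := by
  have e : (α → β → R) ≃ (α × β → R) := (Equiv.curry α β R).symm
  rw [Cardinal.mk_congr e, Cardinal.mk_arrow]
  rw [Cardinal.mk_fintype (α × β), Cardinal.lift_natCast, Cardinal.lift_uzero, Cardinal.power_natCast]
  exact Cardinal.power_nat_le (Cardinal.aleph0_le_mk R)

end card

section

variable {R S : Type u} [CommRing R] [CommRing S] [Algebra R S]

/-- The zigzag relation between an element `g` of `S` and a matrix over `R`. -/
def EpiRel (g : S) (t : Σ (k : ℕ) (l : ℕ), (Fin 2 ⊕ Fin k → Fin l → R)) : Prop :=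
  ∃ (m : Fin t.1 → S) (y : Fin t.2.1 → S),
    (∑ j, t.2.2 (Sum.inl 0) j • y j = 1) ∧ (∑ j, t.2.2 (Sum.inl 1) j • y j = -g) ∧
    (∀ i, ∑ j, t.2.2 (Sum.inr i) j • y j = 0) ∧
    ∀ j, t.2.2 (Sum.inl 0) j • g + t.2.2 (Sum.inl 1) j • (1 : S) +
      ∑ i, t.2.2 (Sum.inr i) j • m i = 0

theorem EpiRel.unique {g g' : S} {t : Σ (k : ℕ) (l : ℕ), (Fin 2 ⊕ Fin k → Fin l → R)}
    (h : EpiRel g t) (h' : EpiRel g' t) : g = g' := by
  obtain ⟨k, l, a⟩ := t
  obtain ⟨m, y, h1, h2, h3, h4⟩ := h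
  obtain ⟨m', y', h1', h2', h3', h4'⟩ := h'
  dsimp only at m y h1 h2 h3 h4 m' y' h1' h2' h3' h4'
  have E : ∑ j, (a (Sum.inl 0) j • g + a (Sum.inl 1) j • (1 : S) +
      ∑ i, a (Sum.inr i) j • m i) * y' j = 0 := by
    apply Finset.sum_eq_zero; intro j _; rw [h4 j, zero_mul]
  have E2 : ∑ j, (a (Sum.inl 0) j • g + a (Sum.inl 1) j • (1 : S) +
      ∑ i, a (Sum.inr i) j • m i) * y' j
      = g * ∑ j, a (Sum.inl 0) j • y' j + ∑ j, a (Sum.inl 1) j • y' j +
        ∑ i, m i * ∑ j, a (Sum.inr i) j • y' j := by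
    simp only [add_mul, Finset.sum_add_distrib, Finset.mul_sum, Finset.sum_mul, smul_mul_assoc,
      one_mul, mul_smul_comm]
    congr 1
    rw [Finset.sum_comm]
  rw [E2, h1', h2', mul_one] at E
  simp only [h3', mul_zero, Finset.sum_const_zero, add_zero] at E
  exact add_neg_eq_zero.mp E

theorem exists_epiRel [Algebra.IsEpi R S] (g : S) :
    ∃ t : Σ (k : ℕ) (l : ℕ), (Fin 2 ⊕ Fin k → Fin l → R), EpiRel g t := by
  classical
  have hepi : (1 : S) ⊗ₜ[R] g = g ⊗ₜ[R] 1 :=
    (Algebra.isEpi_iff_forall_one_tmul_eq R S).mp inferInstance g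
  have hNfg : (Submodule.span R ({g, 1} : Set S)).FG :=
    Submodule.fg_span (Set.toFinite {g, 1})
  have hgN : g ∈ Submodule.span R ({g, 1} : Set S) := Submodule.subset_span (by simp)
  have h1N : (1 : S) ∈ Submodule.span R ({g, 1} : Set S) := Submodule.subset_span (by simp)
  have hx : (Submodule.span R ({g, 1} : Set S)).subtype.rTensor S
      ((⟨g, hgN⟩ : Submodule.span R ({g, 1} : Set S)) ⊗ₜ[R] (1 : S) -
        (⟨1, h1N⟩ : Submodule.span R ({g, 1} : Set S)) ⊗ₜ[R] g) =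
      (Submodule.span R ({g, 1} : Set S)).subtype.rTensor S 0 := by
    simp only [map_sub, LinearMap.rTensor_tmul, Submodule.subtype_apply, map_zero]
    rw [hepi, sub_self]
  obtain ⟨N', hN'fg, hle, hx'⟩ := hNfg.exists_rTensor_fg_inclusion_eq hx
  rw [map_zero, map_sub, LinearMap.rTensor_tmul, LinearMap.rTensor_tmul] at hx'
  obtain ⟨k, s, hs⟩ := Submodule.fg_iff_exists_fin_generating_family.mp hN'fg
  subst hs
  have hsN' : ∀ i, s i ∈ Submodule.span R (Set.range s) := fun i =>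
    Submodule.subset_span ⟨i, rfl⟩
  obtain ⟨mm, hmm⟩ : ∃ mm : Fin 2 ⊕ Fin k → Submodule.span R (Set.range s),
      mm = Sum.elim ![⟨g, hle hgN⟩, ⟨1, hle h1N⟩] (fun i => ⟨s i, hsN' i⟩) := ⟨_, rfl⟩
  obtain ⟨nn, hnn⟩ : ∃ nn : Fin 2 ⊕ Fin k → S, nn = Sum.elim ![1, -g] (fun _ => 0) := ⟨_, rfl⟩
  have hspan : Submodule.span R (Set.range mm) = ⊤ := by
    have key : ∀ z (hz : z ∈ Submodule.span R (Set.range s)),
        (⟨z, hz⟩ : Submodule.span R (Set.range s)) ∈ Submodule.span R (Set.range mm) := by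
      intro z hz
      induction hz using Submodule.span_induction with
      | mem z hz =>
        obtain ⟨i, rfl⟩ := hz
        refine Submodule.subset_span ⟨Sum.inr i, ?_⟩
        rw [hmm]; rfl
      | zero => exact Submodule.zero_mem _
      | add a b _ _ ha hb => exact Submodule.add_mem _ ha hb
      | smul r a _ ha => exact Submodule.smul_mem _ r ha
    rw [eq_top_iff]
    rintro ⟨z, hz⟩ -
    exact key z hz
  have hsum : ∑ i, mm i ⊗ₜ[R] nn i = 0 := by
    rw [Fintype.sum_sum_type, Fin.sum_univ_two, hmm, hnn]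
    simp only [Sum.elim_inl, Sum.elim_inr, Matrix.cons_val_zero, Matrix.cons_val_one,
      tmul_zero, Finset.sum_const_zero, add_zero]
    rw [sub_eq_add_neg, ← tmul_neg] at hx'
    exact hx'
  obtain ⟨l, a, y, hy, ham⟩ := TensorProduct.vanishesTrivially_of_sum_tmul_eq_zero R hspan hsum
  refine ⟨⟨k, l, a⟩, s, y, ?_, ?_, ?_, ?_⟩
  · have := hy (Sum.inl 0)
    rw [hnn] at this
    exact this.symm
  · have := hy (Sum.inl 1)
    rw [hnn] at this
    exact this.symm
  · intro i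
    have := hy (Sum.inr i)
    rw [hnn] at this
    exact this.symm
  · intro j
    have := congrArg (Submodule.span R (Set.range s)).subtype (ham j)
    rw [Fintype.sum_sum_type, Fin.sum_univ_two, hmm] at this
    simpa using this

theorem card_le_of_isEpi [Algebra.IsEpi R S] [Infinite R] : #S ≤ #R := by
  choose f hf using exists_epiRel (R := R) (S := S)
  have hinj : Function.Injective f := fun g g' h => EpiRel.unique (hf g) (h ▸ hf g')
  refine (Cardinal.mk_le_of_injective hinj).trans ?_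
  have hc : ℵ₀ ≤ #R := Cardinal.aleph0_le_mk R
  refine mk_sigma_nat_le hc _ fun k => ?_
  refine mk_sigma_nat_le hc _ fun l => ?_
  exact mk_matrix_le _ _ R

end

end Groth.Agent.Helper12
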