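import Groth.Prelude.Def_EssEt
import Mathlib

set_option autoImplicit false
universe u

namespace Groth.Agent.Helper12

open EGA4loc

/-- Basic consequences of being an essentially etale local algebra. -/
theorem essEt_props (A : Type u) [CommRing A] [IsLocalRing A]
    (B : Type u) [CommRing B] [IsLocalRing B] [Algebra A B]
    (hB : EGA4loc.IsEssentiallyEtale A B) :
    Algebra.FormallyUnramified A B ∧ Algebra.EssFiniteType A B ∧
      IsLocalHom (algebraMap A B) := by
  obtain ⟨C, _, _, q, _, hEt, hq, ⟨e⟩⟩ := hB
  have hU1 : Algebra.FormallyUnramified C (Localization.AtPrime q) :=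
    Algebra.FormallyUnramified.of_isLocalization q.primeCompl
  have hU : Algebra.FormallyUnramified A (Localization.AtPrime q) :=
    Algebra.FormallyUnramified.comp A C (Localization.AtPrime q)
  have hF : Algebra.EssFiniteType A (Localization.AtPrime q) := inferInstance
  refine ⟨Algebra.FormallyUnramified.of_equiv e.symm,
    Algebra.EssFiniteType.of_surjective e.symm.toAlgHom e.symm.surjective, ⟨?_⟩⟩
  intro a ha
  have h1 : IsUnit (e (algebraMap A B a)) := ha.map e
  rw [AlgEquiv.commutes, IsScalarTower.algebraMap_apply A C (Localization.AtPrime q),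
    IsLocalization.AtPrime.isUnit_to_map_iff (Localization.AtPrime q) q] at h1
  have h2 : a ∉ IsLocalRing.maximalIdeal A := by
    rw [← hq]
    exact h1
  by_contra hna
  exact h2 ((IsLocalRing.mem_maximalIdeal a).mpr hna)

/-- An algebra map from an essentially etale local algebra to a local algebra (with local
structure map) is local. -/
theorem essEt_isLocalHom (A : Type u) [CommRing A] [IsLocalRing A]
    (B : Type u) [CommRing B] [IsLocalRing B] [Algebra A B]
    (hB : EGA4loc.IsEssentiallyEtale A B)
    (C : Type u) [CommRing C] [IsLocalRing C] [Algebra A C] [IsLocalHom (algebraMap A C)]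
    (φ : B →ₐ[A] C) : IsLocalHom φ.toRingHom := by
  obtain ⟨hU, hF, hL⟩ := essEt_props A B hB
  have hmap : (IsLocalRing.maximalIdeal A).map (algebraMap A B) = IsLocalRing.maximalIdeal B :=
    Algebra.FormallyUnramified.map_maximalIdeal
  have hAC : (IsLocalRing.maximalIdeal A).map (algebraMap A C) ≤ IsLocalRing.maximalIdeal C :=
    ((IsLocalRing.local_hom_TFAE (algebraMap A C)).out 0 2 rfl rfl).mp inferInstance
  refine ((IsLocalRing.local_hom_TFAE φ.toRingHom).out 0 2 rfl rfl).mpr ?_
  rw [← hmap, Ideal.map_map]
  have : φ.toRingHom.comp (algebraMap A B) = algebraMap A C := φ.comp_algebraMap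
  rw [this]
  exact hAC

end Groth.Agent.Helper12
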