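import Mathlib

set_option autoImplicit false
universe u

namespace Groth.Agent.Helper12

open TensorProduct

/-- Scaling the relations of a presentation over a localization so that they are defined
over the base ring. -/
theorem exists_presentation_hasCoeffs {R : Type u} [CommRing R] (M : Submonoid R)
    (S : Type u) [CommRing S] [Algebra R S] [IsLocalization M S]
    (T : Type u) [CommRing T] [Algebra S T] [Algebra R T] [IsScalarTower R S T] {ι σ : Type}
    (P : Algebra.Presentation S T ι σ) :
    ∃ P' : Algebra.Presentation S T ι σ, P'.HasCoeffs R := by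
  classical
  let _ := MvPolynomial.algebraMvPolynomial (σ := ι) (R := R) (S := S)
  have hloc : IsLocalization (M.map (MvPolynomial.C (σ := ι))) (MvPolynomial ι S) :=
    MvPolynomial.isLocalization M S
  have key : ∀ j : σ, ∃ (x : MvPolynomial ι R) (m : M),
      P.relation j * MvPolynomial.C (algebraMap R S m) = MvPolynomial.map (algebraMap R S) x := by
    intro j
    obtain ⟨⟨x, ⟨_, m, hm, rfl⟩⟩, hx⟩ :=
      IsLocalization.surj (M.map (MvPolynomial.C (σ := ι))) (P.relation j)
    refine ⟨x, ⟨m, hm⟩, ?_⟩
    simp only [MvPolynomial.algebraMap_def, MvPolynomial.map_C] at hx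
    exact hx
  choose x m hxm using key
  refine ⟨{ toGenerators := P.toGenerators
            relation := fun j => MvPolynomial.map (algebraMap R S) (x j)
            span_range_relation_eq_ker := ?_ }, ⟨?_⟩⟩
  · rw [← P.span_range_relation_eq_ker]
    apply le_antisymm
    · rw [Ideal.span_le]; rintro _ ⟨j, rfl⟩
      beta_reduce
      rw [← hxm j]
      exact Ideal.mul_mem_right _ _ (Ideal.subset_span ⟨j, rfl⟩)
    · rw [Ideal.span_le]; rintro _ ⟨j, rfl⟩
      have hu : IsUnit (MvPolynomial.C (σ := ι) (algebraMap R S (m j))) :=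
        (IsLocalization.map_units S (m j)).map MvPolynomial.C
      obtain ⟨u, hu⟩ := hu
      have : P.relation j = MvPolynomial.map (algebraMap R S) (x j) * ↑u⁻¹ := by
        rw [← hxm j, ← hu, mul_assoc, Units.mul_inv, mul_one]
      rw [SetLike.mem_coe, this]
      exact Ideal.mul_mem_right _ _ (Ideal.subset_span ⟨j, rfl⟩)
  · intro c hc
    simp only [Algebra.Presentation.coeffs, Set.mem_iUnion] at hc
    obtain ⟨j, hj⟩ := hc
    exact (MvPolynomial.mem_range_map_iff_coeffs_subset.mp ⟨x j, rfl⟩) hj

/-- If `T ≅ S ⊗[R] T₀` with `S = M⁻¹R`, then `T` is the localization of `T₀` at the image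
of `M`. -/
theorem isLocalization_of_tensor_equiv {R : Type u} [CommRing R] (M : Submonoid R)
    (S : Type u) [CommRing S] [Algebra R S] [IsLocalization M S]
    (T : Type u) [CommRing T] [Algebra S T] [Algebra R T] [IsScalarTower R S T]
    (T₀ : Type u) [CommRing T₀] [Algebra R T₀] (ψ : S ⊗[R] T₀ ≃ₐ[S] T) :
    ∃ (_ : Algebra T₀ T) (_ : IsScalarTower R T₀ T),
      IsLocalization (Algebra.algebraMapSubmonoid T₀ M) T := by
  let algT₀T : Algebra T₀ T :=
    (ψ.toAlgHom.toRingHom.comp (Algebra.TensorProduct.includeRight (R := R) (A := S)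
      (B := T₀)).toRingHom).toAlgebra
  have hmap : ∀ t : T₀, algebraMap T₀ T t = ψ (1 ⊗ₜ t) := fun t => rfl
  have htower : IsScalarTower R T₀ T := by
    refine IsScalarTower.of_algebraMap_eq fun r => ?_
    rw [hmap, IsScalarTower.algebraMap_apply R S T, ← ψ.commutes]
    congr 1
    change (algebraMap R S r) ⊗ₜ[R] (1 : T₀) = (1 : S) ⊗ₜ[R] algebraMap R T₀ r
    rw [Algebra.algebraMap_eq_smul_one r, Algebra.algebraMap_eq_smul_one r,
      TensorProduct.smul_tmul]
  refine ⟨algT₀T, htower, ?_⟩
  let _ := Algebra.TensorProduct.rightAlgebra (R := R) (A := S) (B := T₀)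
  have h1 : IsLocalization (Algebra.algebraMapSubmonoid T₀ M) (S ⊗[R] T₀) :=
    IsLocalization.tensorRight S M
  let ψ' : S ⊗[R] T₀ ≃ₐ[T₀] T := AlgEquiv.ofRingEquiv (f := ψ.toRingEquiv) (fun x => rfl)
  exact IsLocalization.isLocalization_of_algEquiv _ ψ'

/-- A finitely presented algebra over a localization `S = M⁻¹R` is the localization of a
finitely presented `R`-algebra at the image of `M`. -/
theorem exists_fp_model_of_isLocalization {R : Type u} [CommRing R] (M : Submonoid R)
    (S : Type u) [CommRing S] [Algebra R S] [IsLocalization M S]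
    (T : Type u) [CommRing T] [Algebra S T] [Algebra R T] [IsScalarTower R S T]
    [Algebra.FinitePresentation S T] :
    ∃ (T₀ : Type u) (_ : CommRing T₀) (_ : Algebra R T₀) (_ : Algebra T₀ T)
      (_ : IsScalarTower R T₀ T),
      Algebra.FinitePresentation R T₀ ∧ IsLocalization (Algebra.algebraMapSubmonoid T₀ M) T := by
  obtain ⟨P, hP⟩ := exists_presentation_hasCoeffs M S T
    (Algebra.Presentation.ofFinitePresentation S T)
  obtain ⟨a1, a2, a3⟩ := isLocalization_of_tensor_equiv M S T (P.ModelOfHasCoeffs R)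
    (P.tensorModelOfHasCoeffsEquiv R)
  exact ⟨P.ModelOfHasCoeffs R, inferInstance, inferInstance, a1, a2, inferInstance, a3⟩

end Groth.Agent.Helper12
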