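import Groth.Prelude.Def_EssEt
import Groth.Agent.Lib.Helper12.EssEt
import Groth.Agent.Lib.Helper12.LocModel
import Mathlib

set_option autoImplicit false
universe u

namespace Groth.Agent.Helper12

open TensorProduct

theorem essEt_of_fp_atPrime (A : Type u) [CommRing A] [IsLocalRing A]
    (T₀ : Type u) [CommRing T₀] [Algebra A T₀] [Algebra.FinitePresentation A T₀]
    (p : Ideal T₀) [p.IsPrime] (hp : p.comap (algebraMap A T₀) = IsLocalRing.maximalIdeal A)
    [hfe : Algebra.FormallyEtale A (Localization.AtPrime p)]
    (C : Type u) [CommRing C] [Algebra A C] (e : C ≃ₐ[A] Localization.AtPrime p) :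
    EGA4loc.IsEssentiallyEtale A C := by
  obtain ⟨f, hfp, hEt⟩ := Algebra.exists_etale_of_isEtaleAt (R := A) p
  have hdisj : Disjoint (Submonoid.powers f : Set T₀) (p : Set T₀) :=
    (Ideal.disjoint_powers_iff_notMem_of_isPrime _).mpr hfp
  have hs : (p.map (algebraMap T₀ (Localization.Away f))).IsPrime :=
    IsLocalization.isPrime_of_isPrime_disjoint (Submonoid.powers f) (Localization.Away f) p
      inferInstance hdisj
  have hcomap : (p.map (algebraMap T₀ (Localization.Away f))).comap
      (algebraMap T₀ (Localization.Away f)) = p :=
    IsLocalization.under_map_of_isPrime_disjoint (Submonoid.powers f) (Localization.Away f)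
      inferInstance hdisj
  have hloc : IsLocalization.AtPrime
      (Localization.AtPrime (p.map (algebraMap T₀ (Localization.Away f))))
      ((p.map (algebraMap T₀ (Localization.Away f))).comap
        (algebraMap T₀ (Localization.Away f))) :=
    IsLocalization.isLocalization_isLocalization_atPrime_isLocalization (Submonoid.powers f)
      (Localization.AtPrime (p.map (algebraMap T₀ (Localization.Away f))))
      (p.map (algebraMap T₀ (Localization.Away f)))
  have hpc : ((p.map (algebraMap T₀ (Localization.Away f))).comap
        (algebraMap T₀ (Localization.Away f))).primeCompl = p.primeCompl :=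
    Submonoid.ext fun x => by
      rw [Ideal.mem_primeCompl_iff, Ideal.mem_primeCompl_iff, hcomap]
  have hloc' : IsLocalization p.primeCompl
      (Localization.AtPrime (p.map (algebraMap T₀ (Localization.Away f)))) := hpc ▸ hloc
  have htw : IsScalarTower A T₀
      (Localization.AtPrime (p.map (algebraMap T₀ (Localization.Away f)))) := inferInstance
  let ε : Localization.AtPrime p ≃ₐ[T₀]
      Localization.AtPrime (p.map (algebraMap T₀ (Localization.Away f))) :=
    IsLocalization.algEquiv p.primeCompl _ _
  refine ⟨Localization.Away f, inferInstance, inferInstance,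
    p.map (algebraMap T₀ (Localization.Away f)), hs, hEt, ?_,
    ⟨e.trans (ε.restrictScalars A)⟩⟩
  rw [IsScalarTower.algebraMap_eq A T₀ (Localization.Away f), ← Ideal.comap_comap, hcomap, hp]

end Groth.Agent.Helper12
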