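import Mathlib
import Groth.Prelude.Def_FibCat2
import Groth.Prelude.Def_W4stkcategoriessitesFib
import Groth.Agent.Lib.Helper12.FibGrpd

/-!
Functors over the base between categories fibred in groupoids: faithfulness, fullness and
essential surjectivity are detected on fibres.
-/

open CategoryTheory Functor

namespace Groth.Agent.Helper12

universe v₂ u₂ v₃ u₃ v u

variable {C : Type u} [Category.{v} C] {𝒳 : BasedCategory.{v₂, u₂} C} {𝒴 : BasedCategory.{v₃, u₃} C}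
  (G : 𝒳 ⥤ᵇ 𝒴)

lemma faithful_fiberFunctor [G.toFunctor.Faithful] (U : C) : (FibCat.fiberFunctor G U).Faithful := by
  constructor
  intro x y φ ψ h
  apply Fiber.hom_ext
  apply G.toFunctor.map_injective
  exact congrArg Subtype.val h

lemma full_fiberFunctor [G.toFunctor.Full] (U : C) : (FibCat.fiberFunctor G U).Full := by
  constructor
  intro x y ψ
  obtain ⟨φ, hφ⟩ := G.toFunctor.map_surjective ψ.1
  have hl : 𝒳.p.IsHomLift (𝟙 U) φ := by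
    rw [← G.isHomLift_iff]
    rw [hφ]
    exact ψ.2
  exact ⟨⟨φ, hl⟩, Subtype.ext hφ⟩

lemma faithful_of_fiberFunctor [FibCat.IsFibGrpd 𝒳.p] [FibCat.IsFibGrpd 𝒴.p]
    (h : ∀ U : C, (FibCat.fiberFunctor G U).Faithful) : G.toFunctor.Faithful := by
  constructor
  intro a b φ₁ φ₂ heq
  have heq' : G.map φ₁ = G.map φ₂ := heq
  have hs := FibCat.IsFibGrpd.isStronglyCartesian (p := 𝒳.p) φ₂
  have hmap : 𝒳.p.map φ₁ = 𝒳.p.map φ₂ := by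
    have h1 : 𝒴.p.IsHomLift (𝒳.p.map φ₁) (G.map φ₁) := inferInstance
    rw [heq'] at h1
    have h2 : 𝒳.p.IsHomLift (𝒳.p.map φ₁) φ₂ := G.isHomLift_map _ _
    exact IsHomLift.eq_of_isHomLift 𝒳.p (𝒳.p.map φ₁) φ₂
  have hl : 𝒳.p.IsHomLift (𝟙 (𝒳.p.obj a) ≫ 𝒳.p.map φ₂) φ₁ := by
    rw [Category.id_comp, ← hmap]
    infer_instance
  obtain ⟨χ, ⟨hχl, hχ⟩, -⟩ := hs.universal_property' (𝟙 (𝒳.p.obj a)) φ₁
  have hs' : 𝒴.p.IsStronglyCartesian (𝒳.p.map φ₂) (G.map φ₂) :=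
    isStronglyCartesian_of_isFibGrpd 𝒴.p _ _
  have huniq := IsStronglyCartesian.universal_property 𝒴.p (𝒳.p.map φ₂) (G.map φ₂)
    (𝟙 (𝒳.p.obj a)) (𝒳.p.map φ₂) (Category.id_comp _).symm (G.map φ₂)
  have e1 : G.map χ = 𝟙 (G.obj a) :=
    huniq.unique ⟨inferInstance, by rw [← G.map_comp, hχ, heq']⟩
      ⟨inferInstance, Category.id_comp _⟩
  let χf : (Fiber.mk (p := 𝒳.p) (rfl : 𝒳.p.obj a = 𝒳.p.obj a)) ⟶ Fiber.mk rfl := ⟨χ, hχl⟩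
  have e2 : χf = 𝟙 _ := by
    apply (h (𝒳.p.obj a)).map_injective
    apply Fiber.hom_ext
    change G.map χ = G.map (𝟙 a)
    rw [e1, G.map_id]
  have e3 : χ = 𝟙 a := congrArg Subtype.val e2
  rw [← hχ, e3, Category.id_comp]

lemma full_of_fiberFunctor [FibCat.IsFibGrpd 𝒳.p] [FibCat.IsFibGrpd 𝒴.p]
    (h : ∀ U : C, (FibCat.fiberFunctor G U).Full) : G.toFunctor.Full := by
  constructor
  intro a b ψ
  obtain ⟨f, hf⟩ : ∃ f : 𝒳.p.obj a ⟶ 𝒳.p.obj b,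
      f = eqToHom (G.w_obj a).symm ≫ 𝒴.p.map ψ ≫ eqToHom (G.w_obj b) := ⟨_, rfl⟩
  have hψ : 𝒴.p.IsHomLift f ψ := IsHomLift.of_fac 𝒴.p _ ψ (G.w_obj a) (G.w_obj b) hf
  obtain ⟨a', φ₀, hφ₀⟩ := FibCat.IsFibGrpd.exists_lift (p := 𝒳.p) f
  have hs : 𝒴.p.IsStronglyCartesian f (G.map φ₀) := isStronglyCartesian_of_isFibGrpd 𝒴.p _ _
  obtain ⟨χ, ⟨hχl, hχ⟩, -⟩ := IsStronglyCartesian.universal_property 𝒴.p f (G.map φ₀)
    (𝟙 (𝒳.p.obj a)) f (Category.id_comp _).symm ψ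
  have ha' : 𝒳.p.obj a' = 𝒳.p.obj a := IsHomLift.domain_eq 𝒳.p f φ₀
  let χf : (FibCat.fiberFunctor G (𝒳.p.obj a)).obj (Fiber.mk rfl) ⟶
      (FibCat.fiberFunctor G (𝒳.p.obj a)).obj (Fiber.mk ha') := ⟨χ, hχl⟩
  obtain ⟨χ₀, hχ₀⟩ := (h (𝒳.p.obj a)).map_surjective χf
  refine ⟨χ₀.1 ≫ φ₀, ?_⟩
  have e : G.map χ₀.1 = χ := congrArg Subtype.val hχ₀
  change G.map (χ₀.1 ≫ φ₀) = ψ
  rw [G.map_comp, e]
  exact hχ

lemma essSurj_fiberFunctor [FibCat.IsFibGrpd 𝒳.p] [G.toFunctor.EssSurj] (U : C) :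
    (FibCat.fiberFunctor G U).EssSurj := by
  constructor
  intro y
  obtain ⟨x, ⟨ι⟩⟩ : ∃ x, Nonempty (G.obj x ≅ y.1) :=
    ⟨_, ⟨G.toFunctor.objObjPreimageIso y.1⟩⟩
  obtain ⟨u, hu⟩ : ∃ u : 𝒳.p.obj x ⟶ U,
      u = eqToHom (G.w_obj x).symm ≫ 𝒴.p.map ι.hom ≫ eqToHom y.2 := ⟨_, rfl⟩
  have hι : 𝒴.p.IsHomLift u ι.hom := IsHomLift.of_fac 𝒴.p _ _ (G.w_obj x) y.2 hu
  have huiso : IsIso u := by
    rw [hu]
    infer_instance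
  obtain ⟨x', φ, hφ⟩ := FibCat.IsFibGrpd.exists_lift (p := 𝒳.p) (inv u)
  have hφiso : IsIso φ := isIso_of_isFibGrpd 𝒳.p (inv u) φ
  have hx' : 𝒳.p.obj x' = U := IsHomLift.domain_eq 𝒳.p (inv u) φ
  have hl : 𝒴.p.IsHomLift (𝟙 U) (G.map φ ≫ ι.hom) := by
    have : 𝒴.p.IsHomLift (inv u ≫ u) (G.map φ ≫ ι.hom) := inferInstance
    rwa [IsIso.inv_hom_id] at this
  have hiso : IsIso (G.map φ ≫ ι.hom) := inferInstance
  obtain ⟨j, hj⟩ : ∃ j : y.1 ⟶ G.obj x', j = CategoryTheory.inv (G.map φ ≫ ι.hom) := ⟨_, rfl⟩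
  have hl' : 𝒴.p.IsHomLift (𝟙 U) j := by
    rw [hj]
    infer_instance
  have hj1 : (G.map φ ≫ ι.hom) ≫ j = 𝟙 _ := by rw [hj]; exact IsIso.hom_inv_id _
  have hj2 : j ≫ (G.map φ ≫ ι.hom) = 𝟙 _ := by rw [hj]; exact IsIso.inv_hom_id _
  refine ⟨Fiber.mk hx', ⟨?_⟩⟩
  exact
    { hom := ⟨G.map φ ≫ ι.hom, hl⟩
      inv := ⟨j, hl'⟩
      hom_inv_id := Fiber.hom_ext hj1
      inv_hom_id := Fiber.hom_ext hj2 }

lemma essSurj_of_fiberFunctor (h : ∀ U : C, (FibCat.fiberFunctor G U).EssSurj) :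
    G.toFunctor.EssSurj := by
  constructor
  intro y
  obtain ⟨x, ⟨ι⟩⟩ := (h (𝒴.p.obj y)).mem_essImage (Fiber.mk rfl)
  exact ⟨x.1, ⟨Fiber.fiberInclusion.mapIso ι⟩⟩

end Groth.Agent.Helper12
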