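import Mathlib

set_option autoImplicit false
universe u

namespace Groth.Agent.Helper12.LenFormula

variable {A B : Type u} [CommRing A] [CommRing B] [Algebra A B]

omit [CommRing A] [Algebra A B] in
/-- localized simple module at its own maximal ideal is simple -/
theorem simple_localized (I : Ideal B) [hI : I.IsMaximal] (Q : Type u) [AddCommGroup Q] [Module B Q]
    (e : Q ≃ₗ[B] B ⧸ I) :
    IsSimpleModule (Localization.AtPrime I) (LocalizedModule I.primeCompl Q) := by
  haveI : IsSimpleModule B Q := isSimpleModule_iff_quot_maximal.mpr ⟨I, hI, ⟨e⟩⟩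
  have hinj : ∀ (s : B) (q : Q), s ∉ I → s • q = 0 → q = 0 := by
    intro s q hs hsq
    obtain ⟨b, hb⟩ := Ideal.Quotient.mk_surjective (e q)
    have h1 : e (s • q) = 0 := by rw [hsq, map_zero]
    rw [map_smul, ← hb] at h1
    have h2 : Ideal.Quotient.mk I (s * b) = 0 := h1
    rw [Ideal.Quotient.eq_zero_iff_mem] at h2
    rcases hI.isPrime.mem_or_mem h2 with h | h
    · exact absurd h hs
    · have : e q = 0 := by rw [← hb]; exact Ideal.Quotient.eq_zero_iff_mem.mpr h
      exact e.map_eq_zero_iff.mp this
  rw [isSimpleModule_iff_toSpanSingleton_surjective]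
  constructor
  · haveI := IsSimpleModule.nontrivial B Q
    obtain ⟨q₀, hq₀⟩ := exists_ne (0 : Q)
    refine ⟨⟨LocalizedModule.mkLinearMap I.primeCompl Q q₀, 0, ?_⟩⟩
    intro h
    obtain ⟨s, hs⟩ := (IsLocalizedModule.eq_zero_iff I.primeCompl
      (LocalizedModule.mkLinearMap I.primeCompl Q)).mp h
    exact hq₀ (hinj s q₀ s.2 hs)
  · intro w hw w'
    induction w using LocalizedModule.induction_on with
    | h q s =>
    induction w' using LocalizedModule.induction_on with
    | h q' s' =>
    have hq : q ≠ 0 := by
      rintro rfl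
      exact hw (LocalizedModule.zero_mk s)
    obtain ⟨b, hb⟩ := IsSimpleModule.toSpanSingleton_surjective B hq q'
    have hb' : b • q = q' := hb
    refine ⟨Localization.mk (b * (s : B)) s', ?_⟩
    rw [LinearMap.toSpanSingleton_apply, LocalizedModule.mk_smul_mk]
    have h3 : LocalizedModule.mk ((b * (s : B)) • q) (s' * s) =
        LocalizedModule.mk (s • (b • q)) (s' * s) := by
      congr 1
      rw [Submonoid.smul_def, mul_comm, mul_smul]
    rw [h3, ← hb']
    exact LocalizedModule.mk_cancel_common_right s' s (b • q)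

noncomputable def rhs (A : Type u) (B : Type u) [CommRing A] [CommRing B] [Algebra A B]
    (M : Type u) [AddCommGroup M] [Module B M] : ℕ∞ :=
  ∑ᶠ n : MaximalSpectrum B,
    (Module.finrank (A ⧸ n.asIdeal.comap (algebraMap A B)) (B ⧸ n.asIdeal) : ℕ∞) *
      Module.length (Localization.AtPrime n.asIdeal) (LocalizedModule n.asIdeal.primeCompl M)

theorem rhs_add [Finite (MaximalSpectrum B)] (M : Type u) [AddCommGroup M] [Module B M]
    (N : Submodule B M) : rhs A B M = rhs A B N + rhs A B (M ⧸ N) := by
  haveI := Fintype.ofFinite (MaximalSpectrum B)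
  unfold rhs
  rw [finsum_eq_sum_of_fintype, finsum_eq_sum_of_fintype, finsum_eq_sum_of_fintype,
    ← Finset.sum_add_distrib]
  refine Finset.sum_congr rfl fun n _ => ?_
  rw [← mul_add]
  congr 1
  exact Module.length_eq_add_of_exact (LocalizedModule.map n.asIdeal.primeCompl N.subtype)
    (LocalizedModule.map n.asIdeal.primeCompl N.mkQ)
    (LocalizedModule.map_injective _ _ N.injective_subtype)
    (LocalizedModule.map_surjective _ _ N.mkQ_surjective)
    (LocalizedModule.map_exact _ _ _ (LinearMap.exact_subtype_mkQ N))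

theorem lhs_add (M : Type u) [AddCommGroup M] [Module B M] [Module A M] [IsScalarTower A B M]
    (N : Submodule B M) :
    Module.length A M = Module.length A N + Module.length A (M ⧸ N) :=
  Module.length_eq_add_of_exact (N.subtype.restrictScalars A) (N.mkQ.restrictScalars A)
    N.injective_subtype N.mkQ_surjective (LinearMap.exact_subtype_mkQ N)

theorem simple_case [IsLocalRing A]
    (hover : ∀ n : MaximalSpectrum B,
      n.asIdeal.comap (algebraMap A B) = IsLocalRing.maximalIdeal A)
    (hfin : ∀ n : MaximalSpectrum B,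
      Module.Finite (A ⧸ n.asIdeal.comap (algebraMap A B)) (B ⧸ n.asIdeal))
    (Q : Type u) [AddCommGroup Q] [Module B Q] [Module A Q] [IsScalarTower A B Q]
    [hQ : IsSimpleModule B Q] :
    Module.length A Q = rhs A B Q := by
  obtain ⟨I, hI, ⟨e⟩⟩ := isSimpleModule_iff_quot_maximal.mp hQ
  unfold rhs
  rw [finsum_eq_single _ (⟨I, hI⟩ : MaximalSpectrum B)]
  · haveI := simple_localized I Q e
    have h1 : Module.length (Localization.AtPrime I) (LocalizedModule I.primeCompl Q) = 1 :=
      Module.length_eq_one _ _
    show _ = (Module.finrank (A ⧸ I.comap (algebraMap A B)) (B ⧸ I) : ℕ∞) *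
      Module.length (Localization.AtPrime I) (LocalizedModule I.primeCompl Q)
    rw [h1, mul_one]
    have h2 : Module.length A Q = Module.length A (B ⧸ I) := (e.restrictScalars A).length_eq
    rw [h2]
    haveI hmax : (I.comap (algebraMap A B)).IsMaximal := by
      rw [hover ⟨I, hI⟩]; exact IsLocalRing.maximalIdeal.isMaximal A
    letI := Ideal.Quotient.field (I.comap (algebraMap A B))
    haveI := hfin ⟨I, hI⟩
    rw [Module.length_eq_of_surjective (S := A) (R := A ⧸ I.comap (algebraMap A B))
      (M := B ⧸ I) Ideal.Quotient.mk_surjective]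
    exact Module.length_eq_finrank _ _
  · intro n hn
    have : Subsingleton (LocalizedModule n.asIdeal.primeCompl Q) := by
      rw [LocalizedModule.subsingleton_iff]
      intro q
      have hex : ∃ s ∈ I, s ∉ n.asIdeal := by
        by_contra hcon
        push_neg at hcon
        have hle : I ≤ n.asIdeal := hcon
        have := hI.eq_of_le n.isMaximal.ne_top hle
        exact hn (MaximalSpectrum.ext this.symm)
      obtain ⟨s, hsI, hsn⟩ := hex
      refine ⟨s, hsn, ?_⟩
      apply e.injective
      rw [map_smul, map_zero]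
      obtain ⟨b, hb⟩ := Ideal.Quotient.mk_surjective (e q)
      rw [← hb]
      show Ideal.Quotient.mk I (s * b) = 0
      exact Ideal.Quotient.eq_zero_iff_mem.mpr (I.mul_mem_right _ hsI)
    rw [Module.length_eq_zero_iff.mpr this, mul_zero]

theorem main_aux [IsLocalRing A] [Finite (MaximalSpectrum B)]
    (hover : ∀ n : MaximalSpectrum B,
      n.asIdeal.comap (algebraMap A B) = IsLocalRing.maximalIdeal A)
    (hfin : ∀ n : MaximalSpectrum B,
      Module.Finite (A ⧸ n.asIdeal.comap (algebraMap A B)) (B ⧸ n.asIdeal))
    (M : Type u) [AddCommGroup M] [Module B M] (hM : IsFiniteLength B M) :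
    ∀ [Module A M] [IsScalarTower A B M], Module.length A M = rhs A B M := by
  induction hM with
  | @of_subsingleton M' i1 i2 hsub =>
    intro i3 i4
    rw [Module.length_eq_zero_iff.mpr hsub]
    symm
    unfold rhs
    apply finsum_eq_zero_of_forall_eq_zero
    intro n
    have : Subsingleton (LocalizedModule n.asIdeal.primeCompl M') := by
      rw [LocalizedModule.subsingleton_iff]
      intro m
      exact ⟨1, one_mem _, by rw [one_smul]; exact Subsingleton.elim _ _⟩
    rw [Module.length_eq_zero_iff.mpr this, mul_zero]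
  | @of_simple_quotient M' i1 i2 N hsimp hN ih =>
    intro i3 i4
    rw [lhs_add M' N, rhs_add (A := A) M' N, ih, simple_case hover hfin (M' ⧸ N)]

theorem main [IsLocalRing A] [Finite (MaximalSpectrum B)]
    (hover : ∀ n : MaximalSpectrum B,
      n.asIdeal.comap (algebraMap A B) = IsLocalRing.maximalIdeal A)
    (hfin : ∀ n : MaximalSpectrum B,
      Module.Finite (A ⧸ n.asIdeal.comap (algebraMap A B)) (B ⧸ n.asIdeal))
    (M : Type u) [AddCommGroup M] [Module B M] [Module A M] [IsScalarTower A B M]
    (hM : IsFiniteLength B M) :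
    Module.length A M = ∑ᶠ n : MaximalSpectrum B,
      (Module.finrank (A ⧸ n.asIdeal.comap (algebraMap A B)) (B ⧸ n.asIdeal) : ℕ∞) *
        Module.length (Localization.AtPrime n.asIdeal)
          (LocalizedModule n.asIdeal.primeCompl M) :=
  main_aux hover hfin M hM

end Groth.Agent.Helper12.LenFormula
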