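import Mathlib
import Groth.Agent.Lib.Helper12.LenFormula

set_option autoImplicit false
universe u

namespace Groth.Agent.Helper12.FibreMult

open TensorProduct

variable (A B : Type u) [CommRing A] [IsLocalRing A] [CommRing B] [Algebra A B]

theorem length_quot [Module.Free A B] [Module.Finite A B] :
    Module.length A (B ⧸ Ideal.map (algebraMap A B) (IsLocalRing.maximalIdeal A)) =
      (Module.finrank A B : ℕ∞) := by
  let e1 : (B ⧸ (Ideal.map (algebraMap A B) (IsLocalRing.maximalIdeal A)).restrictScalars A) ≃ₗ[A]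
      B ⧸ Ideal.map (algebraMap A B) (IsLocalRing.maximalIdeal A) :=
    Submodule.Quotient.restrictScalarsEquiv A _
  let e2 : (B ⧸ ((IsLocalRing.maximalIdeal A) • ⊤ : Submodule A B)) ≃ₗ[A]
      (B ⧸ (Ideal.map (algebraMap A B) (IsLocalRing.maximalIdeal A)).restrictScalars A) :=
    Submodule.quotEquivOfEq _ _ (Ideal.smul_top_eq_map (IsLocalRing.maximalIdeal A))
  let e3 : ((A ⧸ IsLocalRing.maximalIdeal A) ⊗[A] B) ≃ₗ[A]
      B ⧸ ((IsLocalRing.maximalIdeal A) • ⊤ : Submodule A B) :=
    TensorProduct.quotTensorEquivQuotSMul B (IsLocalRing.maximalIdeal A)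
  rw [← (e3.trans (e2.trans e1)).length_eq]
  rw [Module.length_eq_of_surjective (S := A) (R := A ⧸ IsLocalRing.maximalIdeal A)
    (M := (A ⧸ IsLocalRing.maximalIdeal A) ⊗[A] B) Ideal.Quotient.mk_surjective]
  letI := Ideal.Quotient.field (IsLocalRing.maximalIdeal A)
  rw [Module.length_eq_finrank, Module.finrank_baseChange]

theorem map_le_of_isMaximal [Module.Finite A B] (n : Ideal B) [n.IsMaximal] :
    Ideal.map (algebraMap A B) (IsLocalRing.maximalIdeal A) ≤ n := by
  rw [Ideal.map_le_iff_le_comap]
  have := Ideal.isMaximal_comap_of_isIntegral_of_isMaximal (R := A) n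
  rw [IsLocalRing.eq_maximalIdeal this]

theorem finite_maxSpec [Module.Free A B] [Module.Finite A B] : Finite (MaximalSpectrum B) := by
  have hlen := length_quot A B
  have hfl : IsFiniteLength A (B ⧸ Ideal.map (algebraMap A B) (IsLocalRing.maximalIdeal A)) := by
    rw [← Module.length_ne_top_iff, hlen]
    exact ENat.natCast_ne_top _
  have hart : IsArtinian A (B ⧸ Ideal.map (algebraMap A B) (IsLocalRing.maximalIdeal A)) :=
    (isFiniteLength_iff_isNoetherian_isArtinian.mp hfl).2
  haveI : IsArtinianRing (B ⧸ Ideal.map (algebraMap A B) (IsLocalRing.maximalIdeal A)) :=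
    isArtinian_of_tower A hart
  have hsurj : Function.Surjective
      (Ideal.Quotient.mk (Ideal.map (algebraMap A B) (IsLocalRing.maximalIdeal A))) :=
    Ideal.Quotient.mk_surjective
  have hcm : ∀ n : MaximalSpectrum B, Ideal.comap
      (Ideal.Quotient.mk (Ideal.map (algebraMap A B) (IsLocalRing.maximalIdeal A)))
      (Ideal.map (Ideal.Quotient.mk (Ideal.map (algebraMap A B) (IsLocalRing.maximalIdeal A)))
        n.asIdeal) = n.asIdeal := by
    intro n
    rw [Ideal.comap_map_of_surjective _ hsurj, ← RingHom.ker_eq_comap_bot, Ideal.mk_ker]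
    haveI := n.isMaximal
    exact sup_eq_left.mpr (map_le_of_isMaximal A B n.asIdeal)
  have hmax : ∀ n : MaximalSpectrum B,
      (Ideal.map (Ideal.Quotient.mk (Ideal.map (algebraMap A B) (IsLocalRing.maximalIdeal A)))
        n.asIdeal).IsMaximal := by
    intro n
    rcases Ideal.map_eq_top_or_isMaximal_of_surjective _ hsurj n.isMaximal with h | h
    · exfalso
      have h1 := hcm n
      rw [h, Ideal.comap_top] at h1
      exact n.isMaximal.ne_top h1.symm
    · exact h
  let g : MaximalSpectrum B →
      MaximalSpectrum (B ⧸ Ideal.map (algebraMap A B) (IsLocalRing.maximalIdeal A)) :=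
    fun n => ⟨_, hmax n⟩
  refine Finite.of_injective g ?_
  intro n n' h
  apply MaximalSpectrum.ext
  have h1 : (g n).asIdeal = (g n').asIdeal := by rw [h]
  rw [← hcm n, ← hcm n']
  exact congrArg _ h1

theorem main [Module.Free A B] [Module.Finite A B] (d : ℕ) (hd : Module.finrank A B = d)
    (hres : ∀ (n : Ideal B) [n.IsMaximal]
      (h : Ideal.map (algebraMap A B) (IsLocalRing.maximalIdeal A) ≤ n),
      Function.Bijective (Ideal.quotientMap n (algebraMap A B) (Ideal.map_le_iff_le_comap.mp h))) :
    finsum (fun n : {n : MaximalSpectrum B //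
        Ideal.map (algebraMap A B) (IsLocalRing.maximalIdeal A) ≤ n.asIdeal} =>
      Module.length (Localization.AtPrime n.1.asIdeal)
        (LocalizedModule n.1.asIdeal.primeCompl
          (B ⧸ Ideal.map (algebraMap A B) (IsLocalRing.maximalIdeal A)))) = (d : ℕ∞) := by
  haveI := finite_maxSpec A B
  have hJn : ∀ n : MaximalSpectrum B,
      Ideal.map (algebraMap A B) (IsLocalRing.maximalIdeal A) ≤ n.asIdeal := by
    intro n
    haveI := n.isMaximal
    exact map_le_of_isMaximal A B n.asIdeal
  have hover : ∀ n : MaximalSpectrum B,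
      n.asIdeal.comap (algebraMap A B) = IsLocalRing.maximalIdeal A := by
    intro n
    haveI := n.isMaximal
    exact IsLocalRing.eq_maximalIdeal
      (Ideal.isMaximal_comap_of_isIntegral_of_isMaximal (R := A) n.asIdeal)
  have hfr : ∀ n : MaximalSpectrum B,
      Module.finrank (A ⧸ n.asIdeal.comap (algebraMap A B)) (B ⧸ n.asIdeal) = 1 ∧
      Module.Finite (A ⧸ n.asIdeal.comap (algebraMap A B)) (B ⧸ n.asIdeal) := by
    intro n
    haveI := n.isMaximal
    haveI hmx : (n.asIdeal.comap (algebraMap A B)).IsMaximal :=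
      Ideal.isMaximal_comap_of_isIntegral_of_isMaximal (R := A) n.asIdeal
    letI := Ideal.Quotient.field (n.asIdeal.comap (algebraMap A B))
    have hbij : Function.Bijective
        (Algebra.linearMap (A ⧸ n.asIdeal.comap (algebraMap A B)) (B ⧸ n.asIdeal)) :=
      by
        have h := hres n.asIdeal (hJn n)
        have heq : ∀ a : A, Algebra.linearMap (A ⧸ n.asIdeal.comap (algebraMap A B)) (B ⧸ n.asIdeal)
            (Ideal.Quotient.mk _ a) =
            Ideal.quotientMap n.asIdeal (algebraMap A B)
              (Ideal.map_le_iff_le_comap.mp (hJn n)) (Ideal.Quotient.mk _ a) := fun a => rfl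
        constructor
        · intro x y hxy
          obtain ⟨a, rfl⟩ := Ideal.Quotient.mk_surjective x
          obtain ⟨a', rfl⟩ := Ideal.Quotient.mk_surjective y
          rw [heq, heq] at hxy
          have h1 := h.1 hxy
          rw [Ideal.Quotient.eq] at h1 ⊢
          rw [hover n]
          exact h1
        · intro y
          obtain ⟨z, hz⟩ := h.2 y
          obtain ⟨a, rfl⟩ := Ideal.Quotient.mk_surjective z
          exact ⟨Ideal.Quotient.mk _ a, by rw [heq]; exact hz⟩
    let e := LinearEquiv.ofBijective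
      (Algebra.linearMap (A ⧸ n.asIdeal.comap (algebraMap A B)) (B ⧸ n.asIdeal)) hbij
    refine ⟨?_, Module.Finite.equiv e⟩
    rw [← e.finrank_eq, Module.finrank_self]
  have hFL : IsFiniteLength B (B ⧸ Ideal.map (algebraMap A B) (IsLocalRing.maximalIdeal A)) := by
    rw [← Module.length_ne_top_iff]
    have h1 := Submodule.length_le_length_restrictScalars A
      (⊤ : Submodule B (B ⧸ Ideal.map (algebraMap A B) (IsLocalRing.maximalIdeal A)))
    rw [Submodule.restrictScalars_top, Module.length_top, Module.length_top, length_quot] at h1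
    exact ne_top_of_le_ne_top (ENat.natCast_ne_top _) h1
  have hlen := LenFormula.main hover (fun n => (hfr n).2)
    (B ⧸ Ideal.map (algebraMap A B) (IsLocalRing.maximalIdeal A)) hFL
  rw [length_quot, hd] at hlen
  rw [hlen]
  rw [← finsum_comp_equiv (Equiv.subtypeUnivEquiv hJn)]
  refine finsum_congr fun n => ?_
  rw [(hfr _).1, Nat.cast_one, one_mul]
  rfl

end Groth.Agent.Helper12.FibreMult
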