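import Mathlib

set_option autoImplicit false
universe u v

namespace Groth.Agent.Helper12.FibreRank

open TensorProduct

variable {R : Type u} [CommRing R] {M : Type v} [AddCommGroup M] [Module R M]

/-- the fibre is spanned by pure tensors `1 ⊗ y` -/
theorem span_one_tmul (K : Type u) [Field K] [Algebra R K] :
    Submodule.span K (Set.range fun y : M => (1 : K) ⊗ₜ[R] y) = ⊤ := by
  rw [eq_top_iff]
  rintro z -
  induction z using TensorProduct.induction_on with
  | zero => exact Submodule.zero_mem _
  | tmul a y =>
    have : a ⊗ₜ[R] y = a • ((1 : K) ⊗ₜ[R] y) := by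
      rw [TensorProduct.smul_tmul', smul_eq_mul, mul_one]
    rw [this]
    exact Submodule.smul_mem _ _ (Submodule.subset_span ⟨y, rfl⟩)
  | add z₁ z₂ h₁ h₂ => exact Submodule.add_mem _ h₁ h₂

theorem one_tmul_smul (K : Type u) [Field K] [Algebra R K] (r : R) (y : M) :
    (1 : K) ⊗ₜ[R] (r • y) = algebraMap R K r • ((1 : K) ⊗ₜ[R] y) := by
  rw [TensorProduct.tmul_smul, algebraMap_smul]

theorem exists_gen [Module.Finite R M] (P : Ideal R) [hP : P.IsPrime] :
    ∃ f : R, f ∉ P ∧ ∃ (n : ℕ) (m : Fin n → M),
      n = Module.finrank P.ResidueField (P.ResidueField ⊗[R] M) ∧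
      ∀ y : M, f • y ∈ Submodule.span R (Set.range m) := by
  classical
  have hstop : Submodule.span P.ResidueField
      (Set.range fun y : M => (1 : P.ResidueField) ⊗ₜ[R] y) = ⊤ := span_one_tmul P.ResidueField
  obtain ⟨w, hws, hwspan, hwli⟩ := Submodule.exists_fun_fin_finrank_span_eq P.ResidueField
    (Set.range fun y : M => (1 : P.ResidueField) ⊗ₜ[R] y)
  have hnP : Module.finrank P.ResidueField (Submodule.span P.ResidueField
      (Set.range fun y : M => (1 : P.ResidueField) ⊗ₜ[R] y)) =
      Module.finrank P.ResidueField (P.ResidueField ⊗[R] M) := by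
    rw [hstop, finrank_top]
  choose m hm using hws
  have hsub : Subsingleton (P.ResidueField ⊗[R] (M ⧸ Submodule.span R (Set.range m))) := by
    let g := ((Submodule.span R (Set.range m)).mkQ).baseChange P.ResidueField
    have hgs : Function.Surjective g := by
      have : (g : P.ResidueField ⊗[R] M → P.ResidueField ⊗[R] (M ⧸ Submodule.span R (Set.range m)))
          = ((Submodule.span R (Set.range m)).mkQ).lTensor P.ResidueField := by
        ext; rfl
      rw [this]
      exact LinearMap.lTensor_surjective P.ResidueField (Submodule.mkQ_surjective _)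
    have hg0 : g = 0 := by
      have : Submodule.span P.ResidueField (Set.range w) ≤ LinearMap.ker g := by
        rw [Submodule.span_le]
        rintro _ ⟨i, rfl⟩
        rw [SetLike.mem_coe, LinearMap.mem_ker, ← hm i, LinearMap.baseChange_tmul]
        have : (Submodule.span R (Set.range m)).mkQ (m i) = 0 :=
          (Submodule.Quotient.mk_eq_zero _).mpr (Submodule.subset_span ⟨i, rfl⟩)
        rw [this, tmul_zero]
      have h' : ⊤ ≤ LinearMap.ker g := le_trans (le_of_eq (hstop.symm.trans hwspan.symm)) this
      rw [top_le_iff, LinearMap.ker_eq_top] at h'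
      exact h'
    refine ⟨fun a b => ?_⟩
    obtain ⟨a', rfl⟩ := hgs a
    obtain ⟨b', rfl⟩ := hgs b
    rw [hg0]; rfl
  have hnot : (⟨P, hP⟩ : PrimeSpectrum R) ∉
      Module.support R (M ⧸ Submodule.span R (Set.range m)) := by
    rw [Module.mem_support_iff_nontrivial_residueField_tensorProduct]
    exact not_nontrivial_iff_subsingleton.mpr hsub
  rw [Module.mem_support_iff_of_finite] at hnot
  obtain ⟨f₁, hf₁ann, hf₁P⟩ := SetLike.not_le_iff_exists.mp hnot
  refine ⟨f₁, hf₁P, _, m, hnP, ?_⟩
  intro y
  have := Module.mem_annihilator.mp hf₁ann ((Submodule.span R (Set.range m)).mkQ y)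
  rw [← map_smul, Submodule.mkQ_apply, Submodule.Quotient.mk_eq_zero] at this
  exact this

theorem finrank_le_of_gen (q : Ideal R) [q.IsPrime] (f : R) (hf : f ∉ q) {n : ℕ} (m : Fin n → M)
    (hgen : ∀ y : M, f • y ∈ Submodule.span R (Set.range m)) :
    Module.finrank q.ResidueField (q.ResidueField ⊗[R] M) ≤ n := by
  classical
  let w : Fin n → q.ResidueField ⊗[R] M := fun i => (1 : q.ResidueField) ⊗ₜ[R] m i
  have hspan : ⊤ ≤ Submodule.span q.ResidueField (Set.range w) := by
    rw [← span_one_tmul (R := R) (M := M) q.ResidueField, Submodule.span_le]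
    rintro _ ⟨y, rfl⟩
    have h1 : (1 : q.ResidueField) ⊗ₜ[R] (f • y) ∈ Submodule.span q.ResidueField (Set.range w) := by
      have h2 : Submodule.span R (Set.range m) ≤
          ((Submodule.span q.ResidueField (Set.range w)).restrictScalars R).comap
            (TensorProduct.mk R q.ResidueField M 1) := by
        rw [Submodule.span_le]
        rintro _ ⟨i, rfl⟩
        exact Submodule.subset_span ⟨i, rfl⟩
      exact h2 (hgen y)
    have hf' : algebraMap R q.ResidueField f ≠ 0 := by
      rw [Ne, Ideal.algebraMap_residueField_eq_zero]; exact hf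
    rw [one_tmul_smul] at h1
    have := Submodule.smul_mem _ (algebraMap R q.ResidueField f)⁻¹ h1
    rwa [smul_smul, inv_mul_cancel₀ hf', one_smul] at this
  calc Module.finrank q.ResidueField (q.ResidueField ⊗[R] M)
      = Module.finrank q.ResidueField (⊤ : Submodule q.ResidueField (q.ResidueField ⊗[R] M)) :=
        (finrank_top _ _).symm
    _ = Module.finrank q.ResidueField (Submodule.span q.ResidueField (Set.range w)) := by
        rw [top_le_iff.mp hspan]
    _ ≤ Fintype.card (Fin n) := finrank_range_le_card w
    _ = n := Fintype.card_fin n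

theorem eventually_le [Module.Finite R M] (x : PrimeSpectrum R) :
    ∀ᶠ q in nhds x, Module.finrank q.asIdeal.ResidueField (q.asIdeal.ResidueField ⊗[R] M) ≤
      Module.finrank x.asIdeal.ResidueField (x.asIdeal.ResidueField ⊗[R] M) := by
  obtain ⟨f, hfP, n, m, hn, hgen⟩ := exists_gen (M := M) x.asIdeal
  have hopen : IsOpen (PrimeSpectrum.basicOpen f : Set (PrimeSpectrum R)) :=
    (PrimeSpectrum.basicOpen f).isOpen
  filter_upwards [hopen.mem_nhds (show x ∈ (PrimeSpectrum.basicOpen f : Set _) from hfP)] with q hq
  rw [← hn]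
  exact finrank_le_of_gen q.asIdeal f hq m hgen

theorem ker_identity (K : Type u) [Field K] [Algebra R K] {F : Type v} [AddCommGroup F] [Module R F]
    [Module.Finite R M] [Module.Finite R F] [Module.Free R F] (δ : M →ₗ[R] F) :
    Module.finrank K (LinearMap.ker (δ.baseChange K)) + Module.finrank R F =
      Module.finrank K (K ⊗[R] M) + Module.finrank K (K ⊗[R] (F ⧸ LinearMap.range δ)) := by
  have h1 := LinearMap.finrank_range_add_finrank_ker (δ.baseChange K)
  have h2 := LinearMap.finrank_range_add_finrank_ker ((LinearMap.range δ).mkQ.baseChange K)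
  have h3 : Module.finrank K (LinearMap.range ((LinearMap.range δ).mkQ.baseChange K)) =
      Module.finrank K (K ⊗[R] (F ⧸ LinearMap.range δ)) := by
    have hs : Function.Surjective ((LinearMap.range δ).mkQ.baseChange K) := by
      have : (((LinearMap.range δ).mkQ.baseChange K) : K ⊗[R] F → K ⊗[R] (F ⧸ LinearMap.range δ))
          = ((LinearMap.range δ).mkQ).lTensor K := by
        ext; rfl
      rw [this]
      exact LinearMap.lTensor_surjective K (Submodule.mkQ_surjective _)
    rw [LinearMap.range_eq_top.mpr hs, finrank_top]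
  have h4 : LinearMap.ker ((LinearMap.range δ).mkQ.baseChange K) =
      LinearMap.range (δ.baseChange K) := by
    have hex := lTensor_exact K (LinearMap.exact_map_mkQ_range δ)
      (Submodule.mkQ_surjective (LinearMap.range δ))
    ext x
    rw [LinearMap.mem_ker, LinearMap.mem_range]
    exact hex x
  haveI : Nontrivial R := (algebraMap R K).domain_nontrivial
  have h5 : Module.finrank K (K ⊗[R] F) = Module.finrank R F := Module.finrank_baseChange
  rw [h4] at h2
  omega

theorem main (A : Type u) [CommRing A] (M : Type v) (F : Type v) [AddCommGroup M] [Module A M]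
    [Module.Finite A M] [AddCommGroup F] [Module A F] [Module.Finite A F] [Module.Free A F]
    (δ : M →ₗ[A] F) :
    UpperSemicontinuous (fun x : PrimeSpectrum A =>
      Module.finrank x.asIdeal.ResidueField
        (LinearMap.ker (δ.baseChange x.asIdeal.ResidueField))) := by
  intro x y hxy
  filter_upwards [eventually_le (M := M) x, eventually_le (M := F ⧸ LinearMap.range δ) x]
    with q h1 h2
  have kx := ker_identity x.asIdeal.ResidueField δ
  have kq := ker_identity q.asIdeal.ResidueField δ
  have hxy' : Module.finrank x.asIdeal.ResidueField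
        (LinearMap.ker (δ.baseChange x.asIdeal.ResidueField)) < y := hxy
  show Module.finrank q.asIdeal.ResidueField
        (LinearMap.ker (δ.baseChange q.asIdeal.ResidueField)) < y
  omega

end Groth.Agent.Helper12.FibreRank
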