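import Mathlib
import Groth.Prelude.Def_FlatCA

/-!
# A finite algebra is a directed colimit of finite, finitely presented algebras
-/

namespace Groth.Agent.Helper12.FinColim

universe u

theorem aux (A B A' : Type u) [CommRing A] [CommRing B] [CommRing A'] [Algebra A B]
    [Algebra A A'] (π : B →ₐ[A] A') (hπ : Function.Surjective π) (I₀ : Ideal B)
    (hI₀K : I₀ ≤ RingHom.ker (π : B →+* A')) (hI₀fg : I₀.FG)
    (hfin : ∀ J : Ideal B, I₀ ≤ J → J.FG →
      Module.Finite A (B ⧸ J) ∧ Algebra.FinitePresentation A (B ⧸ J)) :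
    ∃ (ι : Type u) (_ : Preorder ι) (G : ι → Type u) (_ : ∀ i, CommRing (G i))
      (_ : ∀ i, Algebra A (G i))
      (g : ∀ i j, i ≤ j → G i →ₐ[A] G j) (_ : ∀ i, Algebra (G i) A')
      (_ : ∀ i, IsScalarTower A (G i) A'),
      FlatCA.IsDirectedColimitRing G (fun i j h => (g i j h).toRingHom) A' ∧
        ∀ i, Module.Finite A (G i) ∧ Algebra.FinitePresentation A (G i) := by
  classical
  let K : Ideal B := RingHom.ker (π : B →+* A')
  let J : Finset K → Ideal B := fun s =>
    I₀ ⊔ Ideal.span ((fun b : K => (b : B)) '' (s : Set K))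
  have J_mono : ∀ {s t : Finset K}, s ≤ t → J s ≤ J t := by
    intro s t h
    exact sup_le_sup_left (Ideal.span_mono (Set.image_mono (Finset.coe_subset.mpr h))) _
  have J_le_K : ∀ s : Finset K, J s ≤ K := by
    intro s
    refine sup_le hI₀K ?_
    rw [Ideal.span_le]
    rintro _ ⟨b, _, rfl⟩
    exact b.2
  have J_fg : ∀ s : Finset K, (J s).FG := by
    intro s
    exact Submodule.FG.sup hI₀fg (Submodule.fg_span (s.finite_toSet.image _))
  have hlift : ∀ (s : Finset K) (a : B), a ∈ J s → π a = 0 :=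
    fun s a ha => J_le_K s ha
  refine ⟨Finset K, inferInstance, fun s => B ⧸ J s, fun s => inferInstance,
    fun s => inferInstance, fun s t h => Ideal.Quotient.factorₐ A (J_mono h),
    fun s => (Ideal.Quotient.liftₐ (J s) π (hlift s)).toRingHom.toAlgebra, fun s => ?_, ?_, ?_⟩
  · letI : Algebra (B ⧸ J s) A' :=
      (Ideal.Quotient.liftₐ (J s) π (hlift s)).toRingHom.toAlgebra
    exact IsScalarTower.of_algebraMap_eq
      (fun a => ((Ideal.Quotient.liftₐ (J s) π (hlift s)).commutes a).symm)
  · refine ⟨inferInstance, ⟨∅⟩, ?_, ?_, ?_, ?_, ?_⟩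
    · intro s
      apply Ideal.Quotient.ringHom_ext
      refine RingHom.ext (fun b => ?_)
      simp only [RingHom.comp_apply, RingHom.id_apply, AlgHom.toRingHom_eq_coe, RingHom.coe_coe,
        Ideal.Quotient.factorₐ_apply_mk]
    · intro s t r hst htr
      apply Ideal.Quotient.ringHom_ext
      refine RingHom.ext (fun b => ?_)
      simp only [RingHom.comp_apply, AlgHom.toRingHom_eq_coe, RingHom.coe_coe,
        Ideal.Quotient.factorₐ_apply_mk]
    · intro s t h
      apply Ideal.Quotient.ringHom_ext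
      refine RingHom.ext (fun b => ?_)
      simp only [RingHom.comp_apply, AlgHom.toRingHom_eq_coe, RingHom.coe_coe,
        Ideal.Quotient.factorₐ_apply_mk]
      have e : ∀ (s : Finset K) (b : B),
          (Ideal.Quotient.liftₐ (J s) π (hlift s)).toRingHom (Ideal.Quotient.mk (J s) b) = π b :=
        fun s b => rfl
      exact (e t b).trans (e s b).symm
    · intro a
      obtain ⟨b, rfl⟩ := hπ a
      exact ⟨∅, Ideal.Quotient.mk _ b, rfl⟩
    · intro s y hy
      obtain ⟨b, rfl⟩ := Ideal.Quotient.mk_surjective y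
      have hb : b ∈ K := hy
      refine ⟨insert ⟨b, hb⟩ s, Finset.subset_insert _ _, ?_⟩
      show Ideal.Quotient.mk (J (insert ⟨b, hb⟩ s)) b = 0
      rw [Ideal.Quotient.eq_zero_iff_mem]
      refine Ideal.mem_sup_right (Ideal.subset_span ⟨⟨b, hb⟩, ?_, rfl⟩)
      exact Finset.mem_coe.mpr (Finset.mem_insert_self _ _)
  · intro s
    exact hfin (J s) le_sup_left (J_fg s)

theorem main (A A' : Type u) [CommRing A] [CommRing A']
    [Algebra A A'] [Module.Finite A A'] :
    ∃ (ι : Type u) (_ : Preorder ι) (G : ι → Type u) (_ : ∀ i, CommRing (G i))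
      (_ : ∀ i, Algebra A (G i))
      (g : ∀ i j, i ≤ j → G i →ₐ[A] G j) (_ : ∀ i, Algebra (G i) A')
      (_ : ∀ i, IsScalarTower A (G i) A'),
      FlatCA.IsDirectedColimitRing G (fun i j h => (g i j h).toRingHom) A' ∧
        ∀ i, Module.Finite A (G i) ∧ Algebra.FinitePresentation A (G i) := by
  classical
  obtain ⟨n, x, hx⟩ := Module.Finite.exists_fin (R := A) (M := A')
  have hint : ∀ k, IsIntegral A (x k) := fun k => Algebra.IsIntegral.isIntegral (x k)
  choose P hPm hP using hint
  let π : MvPolynomial (Fin n) A →ₐ[A] A' := MvPolynomial.aeval x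
  have hπ : Function.Surjective π := by
    have hle : (⊤ : Submodule A A') ≤ Subalgebra.toSubmodule π.range := by
      rw [← hx, Submodule.span_le]
      rintro _ ⟨k, rfl⟩
      exact ⟨MvPolynomial.X k, MvPolynomial.aeval_X x k⟩
    intro a
    obtain ⟨b, hb⟩ := hle (Submodule.mem_top (x := a))
    exact ⟨b, hb⟩
  let I₀ : Ideal (MvPolynomial (Fin n) A) := Ideal.span
    (Set.range fun k => Polynomial.aeval (MvPolynomial.X k : MvPolynomial (Fin n) A) (P k))
  have hI₀K : I₀ ≤ RingHom.ker (π : MvPolynomial (Fin n) A →+* A') := by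
    rw [Ideal.span_le]
    rintro _ ⟨k, rfl⟩
    show π (Polynomial.aeval (MvPolynomial.X k : MvPolynomial (Fin n) A) (P k)) = 0
    rw [← Polynomial.aeval_algHom_apply, MvPolynomial.aeval_X, Polynomial.aeval_def]
    exact hP k
  refine aux A (MvPolynomial (Fin n) A) A' π hπ I₀ hI₀K
    (Submodule.fg_span (Set.finite_range _)) ?_
  intro J hJ hJfg
  constructor
  · have hintG : ∀ k, IsIntegral A
        (Ideal.Quotient.mk J (MvPolynomial.X k) : MvPolynomial (Fin n) A ⧸ J) := by
      intro k
      refine ⟨P k, hPm k, ?_⟩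
      rw [← Polynomial.aeval_def]
      have h1 : (Ideal.Quotient.mk J (MvPolynomial.X k) : MvPolynomial (Fin n) A ⧸ J) =
          Ideal.Quotient.mkₐ A J (MvPolynomial.X k) := rfl
      rw [h1, Polynomial.aeval_algHom_apply, Ideal.Quotient.mkₐ_eq_mk,
        Ideal.Quotient.eq_zero_iff_mem]
      exact hJ (Ideal.subset_span ⟨k, rfl⟩)
    have hgen : Algebra.adjoin A (Set.range fun k =>
        (Ideal.Quotient.mk J (MvPolynomial.X k) : MvPolynomial (Fin n) A ⧸ J)) = ⊤ := by
      have h1 : Algebra.adjoin A (Set.range (MvPolynomial.X : Fin n → MvPolynomial (Fin n) A))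
          = ⊤ := MvPolynomial.adjoin_range_X
      have h2 := congrArg (Subalgebra.map (Ideal.Quotient.mkₐ A J)) h1
      rw [AlgHom.map_adjoin, Algebra.map_top,
        (AlgHom.range_eq_top _).mpr (Ideal.Quotient.mkₐ_surjective A J),
        ← Set.range_comp] at h2
      exact h2
    have hfg := fg_adjoin_of_finite (R := A) (Set.finite_range fun k =>
        (Ideal.Quotient.mk J (MvPolynomial.X k) : MvPolynomial (Fin n) A ⧸ J))
      (by rintro _ ⟨k, rfl⟩; exact hintG k)
    rw [hgen, Algebra.top_toSubmodule] at hfg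
    exact ⟨hfg⟩
  · exact Algebra.FinitePresentation.quotient hJfg

end Groth.Agent.Helper12.FinColim
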