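import Mathlib

set_option autoImplicit false
universe u
open TensorProduct

namespace Groth.Agent.Helper12.FinFlatIso

/-- Nakayama over all maximal ideals. -/
theorem nak {R M : Type*} [CommRing R] [AddCommGroup M] [Module R M] (N : Submodule R M)
    (hN : N.FG) (h : ∀ (n : Ideal R) [n.IsMaximal], N ≤ n • N) : N = ⊥ := by
  by_contra hne
  have hI : N.annihilator ≠ ⊤ := fun h' => hne (Submodule.annihilator_eq_top_iff.mp h')
  obtain ⟨n, hn, hle⟩ := Ideal.exists_le_maximal _ hI
  obtain ⟨r, hr1, hr2⟩ :=
    Submodule.exists_sub_one_mem_and_smul_eq_zero_of_fg_of_le_smul n N hN (h n)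
  have hr : r ∈ n := hle (Submodule.mem_annihilator.mpr hr2)
  have h1 : (1 : R) ∈ n := by
    have := n.sub_mem hr hr1
    simpa using this
  exact hn.ne_top ((Ideal.eq_top_iff_one n).mpr h1)

theorem unit_trick {R M : Type*} [CommRing R] [AddCommGroup M] [Module R M] (N : Submodule R M)
    (n : Ideal R) [hn : n.IsMaximal] (s : R) (hs : s ∉ n) (y : M) (hy : y ∈ N)
    (hsy : s • y ∈ n • N) : y ∈ n • N := by
  obtain ⟨r, i, hi, hri⟩ := hn.exists_inv hs
  have : y = r • (s • y) + i • y := by rw [smul_smul, ← add_smul, hri, one_smul]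
  rw [this]
  exact (n • N).add_mem ((n • N).smul_mem r hsy) (Submodule.smul_mem_smul hi hy)

attribute [local instance] Algebra.TensorProduct.rightAlgebra in
/-- Vanishing in the fibre. -/
theorem fibre_zero {R S : Type*} [CommRing R] [CommRing S] [Algebra R S] (p : Ideal R) [p.IsPrime]
    (y : S) (hy : (1 : p.ResidueField) ⊗ₜ[R] y = 0) :
    ∃ s ∉ p, s • y ∈ p • (⊤ : Submodule R S) := by
  have e := Ideal.Fiber.algEquivAux₁ (S := S) p
  have h1 := e.commutes y
  have h2 : algebraMap S (p.Fiber S) y = (1 : p.ResidueField) ⊗ₜ[R] y := rfl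
  rw [h2, hy, map_zero] at h1
  have h3 : algebraMap S (Localization (Algebra.algebraMapSubmonoid S p.primeCompl)) y ∈
      Ideal.map (algebraMap S (Localization (Algebra.algebraMapSubmonoid S p.primeCompl)))
        (Ideal.map (algebraMap R S) p) := by
    rw [← Ideal.Quotient.eq_zero_iff_mem]
    exact h1.symm
  rw [IsLocalization.mem_map_algebraMap_iff (Algebra.algebraMapSubmonoid S p.primeCompl)] at h3
  obtain ⟨⟨⟨a, ha⟩, ⟨t, ht⟩⟩, h4⟩ := h3
  obtain ⟨t', ht', rfl⟩ := Submonoid.mem_map.mp ht
  simp only at h4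
  rw [← map_mul, IsLocalization.eq_iff_exists (Algebra.algebraMapSubmonoid S p.primeCompl)] at h4
  obtain ⟨⟨c, hc⟩, h5⟩ := h4
  obtain ⟨c', hc', rfl⟩ := Submonoid.mem_map.mp hc
  simp only at h5
  refine ⟨c' * t', p.primeCompl.mul_mem hc' ht', ?_⟩
  rw [Ideal.smul_top_eq_map]
  show (c' * t') • y ∈ Ideal.map (algebraMap R S) p
  have : (c' * t') • y = algebraMap R S c' * (y * algebraMap R S t') := by
    rw [Algebra.smul_def, map_mul]; ring
  rw [this, h5]
  exact Ideal.mul_mem_left _ _ ha

/-- Flat quotient lemma. -/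
theorem flat_quot {R N Q : Type*} [CommRing R] [AddCommGroup N] [Module R N] [AddCommGroup Q]
    [Module R Q] [Module.Flat R Q] (g : N →ₗ[R] Q) (hg : Function.Surjective g) (𝔞 : Ideal R) :
    LinearMap.ker g ⊓ 𝔞 • (⊤ : Submodule R N) ≤ 𝔞 • LinearMap.ker g := by
  classical
  rintro x ⟨hx1, hx2⟩
  have hx2' : x ∈ 𝔞 • Submodule.span R (Set.range (id : N → N)) := by
    rw [Set.range_id, Submodule.span_univ]; exact hx2
  obtain ⟨a, ha, hsum⟩ := (Submodule.mem_ideal_smul_span_iff_exists_sum 𝔞 id x).mp hx2'
  have hsum' : ∑ i : a.support, a i • (i : N) = x := by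
    rw [← hsum, Finsupp.sum, Finset.sum_coe_sort a.support (fun i => a i • i)]
    rfl
  have h0 : ∑ i : a.support, a i • g (i : N) = 0 := by
    have h := congrArg g hsum'
    rw [map_sum] at h
    simp only [map_smul] at h
    rw [h]; exact hx1
  obtain ⟨k, b, z, hz, hb⟩ := Module.Flat.isTrivialRelation_of_sum_smul_eq_zero h0
  simp only at hz hb
  choose w hw using fun j => hg (z j)
  have key : x = ∑ i : a.support, a i • ((i : N) - ∑ j, b i j • w j) := by
    have h2 : ∑ i : a.support, a i • ∑ j, b i j • w j = 0 := by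
      simp only [Finset.smul_sum, smul_smul]
      rw [Finset.sum_comm]
      apply Finset.sum_eq_zero
      intro j _
      rw [← Finset.sum_smul, hb j, zero_smul]
    simp only [smul_sub, Finset.sum_sub_distrib]
    rw [h2, sub_zero, hsum']
  rw [key]
  apply Submodule.sum_mem
  intro i _
  apply Submodule.smul_mem_smul (ha i)
  rw [LinearMap.mem_ker, map_sub, map_sum, hz i]
  simp only [map_smul, hw, sub_self]

/-- Local vanishing. -/
theorem loc_zero {R M : Type u} [CommRing R] [AddCommGroup M] [Module R M] [Module.Finite R M]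
    (N : Submodule R M) [Module.Flat R (M ⧸ N)] (m : Ideal R) [m.IsMaximal] (h : N ≤ m • N)
    (x : M) (hx : x ∈ N) : LocalizedModule.mkLinearMap m.primeCompl M x = 0 := by
  let S := m.primeCompl
  let Rm := Localization S
  let πm : LocalizedModule S M →ₗ[Rm] LocalizedModule S (M ⧸ N) := LocalizedModule.map S N.mkQ
  have hπs : Function.Surjective πm :=
    LocalizedModule.map_surjective S N.mkQ (Submodule.mkQ_surjective N)
  haveI : Module.Free Rm (LocalizedModule S (M ⧸ N)) := Module.free_of_flat_of_isLocalRing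
  obtain ⟨σ, hσ⟩ := Module.projective_lifting_property πm LinearMap.id hπs
  have hKfg : (LinearMap.ker πm).FG := by
    have : LinearMap.ker πm = LinearMap.range (LinearMap.id - σ ∘ₗ πm) := by
      ext z
      constructor
      · intro hz
        refine ⟨z, ?_⟩
        have hz' : πm z = 0 := hz
        simp [hz']
      · rintro ⟨w, rfl⟩
        have h1 : πm (σ (πm w)) = πm w := LinearMap.congr_fun hσ (πm w)
        rw [LinearMap.mem_ker]
        simp [h1]
    rw [this, LinearMap.range_eq_map]
    exact Submodule.FG.map (LinearMap.id - σ ∘ₗ πm)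
      (Module.Finite.fg_top (R := Rm) (M := LocalizedModule S M))
  have hι : ∀ n ∈ N, LocalizedModule.mkLinearMap S M n ∈ LinearMap.ker πm := by
    intro n hn
    rw [LinearMap.mem_ker, LocalizedModule.mkLinearMap_apply, LocalizedModule.map_mk]
    have : N.mkQ n = 0 := (Submodule.Quotient.mk_eq_zero N).mpr hn
    rw [this, LocalizedModule.zero_mk]
  have hιm : ∀ n ∈ N, LocalizedModule.mkLinearMap S M n ∈
      IsLocalRing.maximalIdeal Rm • LinearMap.ker πm := by
    intro n hn
    have hn' := h hn
    refine Submodule.smul_induction_on hn' ?_ ?_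
    · intro a ha n' hn'
      rw [map_smul, ← algebraMap_smul Rm a]
      apply Submodule.smul_mem_smul _ (hι n' hn')
      exact (IsLocalization.AtPrime.to_map_mem_maximal_iff Rm m a).mpr ha
    · intro y z hy hz
      rw [map_add]; exact add_mem hy hz
  have hKle : LinearMap.ker πm ≤ IsLocalRing.maximalIdeal Rm • LinearMap.ker πm := by
    intro z hz
    induction z using LocalizedModule.induction_on with
    | h y s =>
      have hz' : πm (LocalizedModule.mk y s) = 0 := hz
      rw [LocalizedModule.map_mk, ← LocalizedModule.zero_mk s, LocalizedModule.mk_eq] at hz'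
      obtain ⟨u, hu⟩ := hz'
      have huN : (u * s) • y ∈ N := by
        rw [← Submodule.Quotient.mk_eq_zero N]
        have h3 : (u * s) • N.mkQ y = 0 := by rw [mul_smul, hu, smul_zero, smul_zero]
        rw [Submonoid.smul_def] at h3 ⊢
        rw [Submodule.Quotient.mk_smul]
        exact h3
      have heq : LocalizedModule.mk y s = (Localization.mk 1 (u * s * s) : Rm) •
          LocalizedModule.mkLinearMap S M ((u * s) • y) := by
        rw [LocalizedModule.mkLinearMap_apply, LocalizedModule.mk_smul_mk, one_smul, mul_one,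
          LocalizedModule.mk_cancel_common_left]
      rw [heq]
      exact Submodule.smul_mem _ _ (hιm _ huN)
  have hKbot := Submodule.eq_bot_of_le_smul_of_le_jacobson_bot (IsLocalRing.maximalIdeal Rm)
    (LinearMap.ker πm) hKfg hKle (IsLocalRing.maximalIdeal_le_jacobson _)
  have := hι x hx
  rw [hKbot] at this
  exact (Submodule.mem_bot Rm).mp this

theorem eq_bot_of_flat_quot {R M : Type u} [CommRing R] [AddCommGroup M] [Module R M]
    [Module.Finite R M] (N : Submodule R M) [Module.Flat R (M ⧸ N)]
    (h : ∀ (m : Ideal R) [m.IsMaximal], N ≤ m • N) : N = ⊥ := by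
  rw [eq_bot_iff]
  intro x hx
  rw [Submodule.mem_bot]
  refine Module.eq_zero_of_localization_maximal (R := R) (M := M)
    (fun (P : Ideal R) _ => LocalizedModule P.primeCompl M)
    (fun (P : Ideal R) _ => LocalizedModule.mkLinearMap P.primeCompl M) x ?_
  intro m hm
  exact loc_zero N m (h m) x hx

end Groth.Agent.Helper12.FinFlatIso
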