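import Mathlib
import Groth.Agent.Lib.Helper12.FinFlatIso

set_option autoImplicit false
universe u
open TensorProduct

namespace Groth.Agent.Helper12.FinFlatIso

variable {R A B : Type u} [CommRing R] [CommRing A] [CommRing B] [Algebra R A] [Algebra R B]

theorem surj [Module.Finite R A] (f : B →ₐ[R] A)
    (hmax : ∀ (m : Ideal R) [m.IsMaximal],
      Function.Surjective (LinearMap.lTensor m.ResidueField f.toLinearMap)) :
    Function.Surjective f := by
  have htop : (⊤ : Submodule R (A ⧸ LinearMap.range f.toLinearMap)) = ⊥ := by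
    apply nak _ Module.Finite.fg_top
    intro m hm
    rintro q -
    obtain ⟨a, rfl⟩ := Submodule.Quotient.mk_surjective _ q
    obtain ⟨t, ht⟩ := hmax m ((1 : m.ResidueField) ⊗ₜ[R] a)
    obtain ⟨r, hr, b, hb⟩ := Ideal.Fiber.exists_smul_eq_one_tmul m t
    have h1 : (1 : m.ResidueField) ⊗ₜ[R] (r • a - f b) = 0 := by
      have h2 := congrArg (LinearMap.lTensor m.ResidueField f.toLinearMap) hb
      rw [map_smul, ht, LinearMap.lTensor_tmul] at h2
      rw [TensorProduct.tmul_sub, TensorProduct.tmul_smul, h2]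
      simp
    obtain ⟨s, hs, hsm⟩ := fibre_zero m _ h1
    have h3 : (LinearMap.range f.toLinearMap).mkQ (s • (r • a - f b)) =
        (s * r) • (Submodule.Quotient.mk a : A ⧸ LinearMap.range f.toLinearMap) := by
      have h5 : (LinearMap.range f.toLinearMap).mkQ (f b) = 0 := by
        rw [Submodule.mkQ_apply, Submodule.Quotient.mk_eq_zero]
        exact ⟨b, rfl⟩
      rw [map_smul, map_sub, h5, sub_zero, map_smul, smul_smul, Submodule.mkQ_apply]
    have hmem : (s * r) • (Submodule.Quotient.mk a : A ⧸ LinearMap.range f.toLinearMap) ∈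
        m • (⊤ : Submodule R (A ⧸ LinearMap.range f.toLinearMap)) := by
      rw [← h3]
      have h4 : (LinearMap.range f.toLinearMap).mkQ (s • (r • a - f b)) ∈
          Submodule.map (LinearMap.range f.toLinearMap).mkQ (m • (⊤ : Submodule R A)) :=
        Submodule.mem_map_of_mem hsm
      rw [Submodule.map_smul''] at h4
      exact Submodule.smul_mono (le_refl _) le_top h4
    exact unit_trick ⊤ m (s * r) (fun h => (hm.isPrime.mem_or_mem h).elim hs hr) _ trivial hmem
  intro a
  have h : (Submodule.Quotient.mk a : A ⧸ LinearMap.range f.toLinearMap) ∈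
      (⊤ : Submodule R (A ⧸ LinearMap.range f.toLinearMap)) := trivial
  rw [htop] at h
  obtain ⟨b, hb⟩ := (Submodule.Quotient.mk_eq_zero _).mp ((Submodule.mem_bot R).mp h)
  exact ⟨b, hb⟩

theorem inj_fibre [Module.Finite R A] (f : B →ₐ[R] A) (hf : Function.Surjective f)
    (p : Ideal R) [p.IsPrime]
    (hrank : Module.rank p.ResidueField (p.ResidueField ⊗[R] B) =
        Module.rank p.ResidueField (p.ResidueField ⊗[R] A)) :
    Function.Injective (LinearMap.lTensor p.ResidueField f.toLinearMap) := by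
  have hA : Module.rank p.ResidueField (p.ResidueField ⊗[R] A) < Cardinal.aleph0 :=
    Module.rank_lt_aleph0 _ _
  have hB : Module.Finite p.ResidueField (p.ResidueField ⊗[R] B) := by
    rw [← Module.rank_lt_aleph0_iff, hrank]; exact hA
  have hfin : Module.finrank p.ResidueField (p.ResidueField ⊗[R] B) =
      Module.finrank p.ResidueField (p.ResidueField ⊗[R] A) := by
    simp only [Module.finrank, hrank]
  have hs : Function.Surjective (LinearMap.baseChange p.ResidueField f.toLinearMap) := by
    rw [LinearMap.baseChange_eq_ltensor]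
    exact LinearMap.lTensor_surjective _ hf
  have h := (LinearMap.injective_iff_surjective_of_finrank_eq_finrank hfin).mpr hs
  rw [LinearMap.baseChange_eq_ltensor] at h
  exact h

theorem ker_smul [Module.Flat R A] (f : B →ₐ[R] A) (hf : Function.Surjective f)
    (p : Ideal R) [p.IsPrime]
    (hinj : Function.Injective (LinearMap.lTensor p.ResidueField f.toLinearMap))
    (y : B) (hy : f y = 0) : ∃ s ∉ p, s • y ∈ p • LinearMap.ker f.toLinearMap := by
  have h1 : (1 : p.ResidueField) ⊗ₜ[R] y = 0 := by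
    apply hinj
    rw [LinearMap.lTensor_tmul, map_zero, AlgHom.toLinearMap_apply, hy, TensorProduct.tmul_zero]
  obtain ⟨s, hs, hsm⟩ := fibre_zero p y h1
  refine ⟨s, hs, flat_quot f.toLinearMap hf p ⟨?_, hsm⟩⟩
  show f.toLinearMap (s • y) = 0
  rw [map_smul, AlgHom.toLinearMap_apply, hy, smul_zero]

theorem exists_fg_ideal [Module.Finite R A] [Algebra.FiniteType R B] (f : B →ₐ[R] A) :
    ∃ I' : Ideal B, I'.FG ∧ (∀ b ∈ I', f b = 0) ∧ Module.Finite R (B ⧸ I') := by
  classical
  obtain ⟨s, hs⟩ := (Algebra.FiniteType.out : (⊤ : Subalgebra R B).FG)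
  have hint : ∀ x : B, ∃ P : Polynomial R, P.Monic ∧ Polynomial.aeval (f x) P = 0 := fun x => by
    obtain ⟨P, hPm, hP⟩ := IsIntegral.of_finite R (f x)
    exact ⟨P, hPm, by rw [Polynomial.aeval_def]; exact hP⟩
  choose P hPm hP using hint
  let I' : Ideal B := Ideal.span ((fun x => Polynomial.aeval x (P x)) '' (s : Set B))
  have hI'f : ∀ b ∈ I', f b = 0 := by
    intro b hb
    have hle : I' ≤ RingHom.ker f.toRingHom := by
      apply Ideal.span_le.mpr
      rintro _ ⟨x, hx, rfl⟩
      show f (Polynomial.aeval x (P x)) = 0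
      rw [← Polynomial.aeval_algHom_apply, hP]
    exact hle hb
  refine ⟨I', ⟨s.image (fun x => Polynomial.aeval x (P x)), by rw [Finset.coe_image]⟩, hI'f, ?_⟩
  let π : B →ₐ[R] B ⧸ I' := Ideal.Quotient.mkₐ R I'
  have hπ : Function.Surjective π := Ideal.Quotient.mkₐ_surjective R I'
  have hadj : Algebra.adjoin R (π '' (s : Set B)) = ⊤ := by
    rw [← AlgHom.map_adjoin, hs, Algebra.map_top, AlgHom.range_eq_top]
    exact hπ
  have hfg := fg_adjoin_of_finite (R := R) (s := π '' (s : Set B)) (s.finite_toSet.image _) (by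
    rintro _ ⟨x, hx, rfl⟩
    refine ⟨P x, hPm x, ?_⟩
    rw [← Polynomial.aeval_def, Polynomial.aeval_algHom_apply]
    show Ideal.Quotient.mk I' (Polynomial.aeval x (P x)) = 0
    rw [Ideal.Quotient.eq_zero_iff_mem]
    exact Ideal.subset_span ⟨x, hx, rfl⟩)
  rw [hadj, Algebra.top_toSubmodule] at hfg
  exact ⟨hfg⟩

theorem main [Module.Finite R A] [Module.Flat R A] [Algebra.FiniteType R B] (f : B →ₐ[R] A)
    (hrank : ∀ p : PrimeSpectrum R,
      Module.rank p.asIdeal.ResidueField (p.asIdeal.ResidueField ⊗[R] B) =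
        Module.rank p.asIdeal.ResidueField (p.asIdeal.ResidueField ⊗[R] A))
    (hmax : ∀ (m : Ideal R) [m.IsMaximal],
      Function.Bijective (LinearMap.lTensor m.ResidueField f.toLinearMap)) :
    Function.Bijective f := by
  have hsurj : Function.Surjective f := surj f (fun m _ => (hmax m).2)
  have hinj : ∀ (p : Ideal R) [p.IsPrime],
      Function.Injective (LinearMap.lTensor p.ResidueField f.toLinearMap) :=
    fun p hp => inj_fibre f hsurj p (hrank ⟨p, hp⟩)
  have hker : ∀ (p : Ideal R) [p.IsPrime] (y : B), f y = 0 →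
      ∃ s ∉ p, s • y ∈ p • LinearMap.ker f.toLinearMap :=
    fun p _ y hy => ker_smul f hsurj p (hinj p) y hy
  have hkermax : ∀ (m : Ideal R) [m.IsMaximal],
      LinearMap.ker f.toLinearMap ≤ m • LinearMap.ker f.toLinearMap := by
    intro m hm y hy
    obtain ⟨s, hs, hsy⟩ := hker m y hy
    exact unit_trick _ m s hs y hy hsy
  obtain ⟨I', hI'fg, hI'f, hfin⟩ := exists_fg_ideal f
  have := hfin
  let g : B ⧸ I' →ₐ[R] A := Ideal.Quotient.liftₐ I' f hI'f
  have hgmk : ∀ b : B, g (Ideal.Quotient.mk I' b) = f b := fun b => rfl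
  have hgsurj : Function.Surjective g.toLinearMap := fun a => by
    obtain ⟨b, rfl⟩ := hsurj a
    exact ⟨Ideal.Quotient.mk I' b, hgmk b⟩
  have : Module.Flat R ((B ⧸ I') ⧸ LinearMap.ker g.toLinearMap) :=
    Module.Flat.of_linearEquiv (LinearMap.quotKerEquivOfSurjective g.toLinearMap hgsurj)
  have hK : LinearMap.ker g.toLinearMap = ⊥ := by
    apply eq_bot_of_flat_quot
    intro m hm z hz
    obtain ⟨b, rfl⟩ := Ideal.Quotient.mk_surjective z
    have hb : b ∈ LinearMap.ker f.toLinearMap := by
      have h0 : g (Ideal.Quotient.mk I' b) = 0 := hz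
      rw [hgmk] at h0
      exact h0
    have h1 := hkermax m hb
    let πl : B →ₗ[R] B ⧸ I' := (Ideal.Quotient.mkₐ R I').toLinearMap
    have h2 : πl b ∈ Submodule.map πl (m • LinearMap.ker f.toLinearMap) :=
      Submodule.mem_map_of_mem h1
    rw [Submodule.map_smul''] at h2
    refine Submodule.smul_mono (le_refl _) ?_ h2
    rintro _ ⟨b', hb', rfl⟩
    show g (Ideal.Quotient.mk I' b') = 0
    rw [hgmk]; exact hb'
  have hkerI : ∀ b : B, f b = 0 → b ∈ I' := by
    intro b hb
    have h0 : Ideal.Quotient.mk I' b ∈ LinearMap.ker g.toLinearMap := by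
      show g (Ideal.Quotient.mk I' b) = 0
      rw [hgmk]; exact hb
    rw [hK] at h0
    exact Ideal.Quotient.eq_zero_iff_mem.mp ((Submodule.mem_bot R).mp h0)
  have hJ : RingHom.ker f.toRingHom = I' :=
    le_antisymm (fun b hb => hkerI b hb) (fun b hb => hI'f b hb)
  have hJfg : (RingHom.ker f.toRingHom).FG := hJ ▸ hI'fg
  have hJbot : RingHom.ker f.toRingHom = ⊥ := by
    apply nak (R := B) (M := B) _ hJfg
    intro n hn y hy
    have hy0 : f y = 0 := hy
    obtain ⟨s, hs, hsy⟩ := hker (n.comap (algebraMap R B)) y hy0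
    have hsub : ∀ z ∈ (n.comap (algebraMap R B)) • LinearMap.ker f.toLinearMap,
        z ∈ n • RingHom.ker f.toRingHom := by
      intro z hz
      refine Submodule.smul_induction_on hz ?_ ?_
      · intro a ha y' hy'
        have hay : a • y' = (algebraMap R B a) • y' := (algebraMap_smul B a y').symm
        rw [hay]
        exact Submodule.smul_mem_smul ha hy'
      · intro z1 z2 h1 h2
        exact add_mem h1 h2
    have h3 : (algebraMap R B s) • y ∈ n • RingHom.ker f.toRingHom := by
      rw [algebraMap_smul]; exact hsub _ hsy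
    exact unit_trick _ n (algebraMap R B s) hs y hy h3
  exact ⟨(RingHom.injective_iff_ker_eq_bot f.toRingHom).mpr hJbot, hsurj⟩

end Groth.Agent.Helper12.FinFlatIso
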