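import Mathlib

/-!
# Finite algebras over a local ring: decomposition into local rings vs lifting idempotents (helper12)
-/

set_option autoImplicit false
set_option linter.style.haveILetI false
set_option linter.unusedSectionVars false

namespace Groth.Agent.Helper12.FinLocDecomp

/-- In a finite product of local rings, idempotents lift modulo any ideal. -/
theorem lift_idem_of_equiv {B : Type*} [CommRing B] {ι : Type*} [Fintype ι] {C : ι → Type*}
    [∀ j, CommRing (C j)] [∀ j, IsLocalRing (C j)] (e : B ≃+* (∀ j, C j)) (I : Ideal B) (b : B)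
    (hb : b * b - b ∈ I) : ∃ g : B, IsIdempotentElem g ∧ g - b ∈ I := by
  classical
  let π : ∀ j, B →+* C j := fun j => (Pi.evalRingHom C j).comp (e : B →+* ∀ j, C j)
  have hπs : ∀ j, Function.Surjective (π j) :=
    fun j => (Function.surjective_eval j).comp e.surjective
  let gj : ι → B := fun j => e.symm (Pi.single j 1)
  have hK1 : ∀ j (x : B), π j x = 0 → x * gj j = 0 := by
    intro j x hx
    apply e.injective
    rw [map_mul, map_zero]
    show e x * e (e.symm (Pi.single j 1)) = 0
    rw [e.apply_symm_apply]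
    funext i
    rw [Pi.mul_apply, Pi.zero_apply]
    by_cases hij : i = j
    · subst hij
      have h0 : e x i = 0 := hx
      rw [h0, zero_mul]
    · rw [Pi.single_eq_of_ne hij, mul_zero]
  have hsum : ∑ j, gj j = 1 := by
    apply e.injective
    rw [map_sum, map_one]
    simp only [gj, e.apply_symm_apply]
    exact Finset.univ_sum_single (1 : ∀ j, C j)
  let χ : ∀ j, C j := fun j => if IsUnit (π j b) then 1 else 0
  have hχ : χ * χ = χ := by
    funext j
    simp only [Pi.mul_apply, χ]
    split_ifs <;> simp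
  refine ⟨e.symm χ, ?_, ?_⟩
  · show e.symm χ * e.symm χ = e.symm χ
    rw [← map_mul, hχ]
  · have h1 : e.symm χ - b = ∑ j, (e.symm χ - b) * gj j := by
      rw [← Finset.mul_sum, hsum, mul_one]
    rw [h1]
    refine I.sum_mem fun j _ => ?_
    have hbj : π j (b * b - b) ∈ Ideal.map (π j) I := Ideal.mem_map_of_mem _ hb
    by_cases hu : IsUnit (π j b)
    · have h2 : π j (e.symm χ - 1) = 0 := by
        show (e (e.symm χ - 1)) j = 0
        rw [map_sub, map_one, e.apply_symm_apply, Pi.sub_apply, Pi.one_apply]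
        show (if IsUnit (π j b) then (1 : C j) else 0) - 1 = 0
        rw [if_pos hu, sub_self]
      have h3 := hK1 j _ h2
      have h4 : π j b - 1 ∈ Ideal.map (π j) I := by
        have h0 : π j (b * b - b) = π j b * (π j b - 1) := by rw [map_sub, map_mul]; ring
        rw [h0] at hbj
        exact (Ideal.unit_mul_mem_iff_mem _ hu).mp hbj
      obtain ⟨i, hiI, hi⟩ := (Ideal.mem_map_iff_of_surjective (π j) (hπs j)).mp h4
      have h5 : π j (b - 1 - i) = 0 := by rw [map_sub, map_sub, map_one, hi, sub_self]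
      have h6 := hK1 j _ h5
      have h7 : (e.symm χ - b) * gj j =
          (e.symm χ - 1) * gj j - (b - 1 - i) * gj j - i * gj j := by ring
      rw [h7, h3, h6, sub_zero, zero_sub]
      exact I.neg_mem (I.mul_mem_right _ hiI)
    · have hu' : IsUnit (1 - π j b) :=
        (IsLocalRing.isUnit_or_isUnit_one_sub_self (π j b)).resolve_left hu
      have h2 : π j (e.symm χ) = 0 := by
        show (e (e.symm χ)) j = 0
        rw [e.apply_symm_apply]
        show (if IsUnit (π j b) then (1 : C j) else 0) = 0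
        rw [if_neg hu]
      have h3 := hK1 j _ h2
      have h4 : π j b ∈ Ideal.map (π j) I := by
        have h0 : π j (b * b - b) = (1 - π j b) * (- π j b) := by rw [map_sub, map_mul]; ring
        rw [h0] at hbj
        have h00 := (Ideal.unit_mul_mem_iff_mem _ hu').mp hbj
        exact (Ideal.neg_mem_iff _).mp h00
      obtain ⟨i, hiI, hi⟩ := (Ideal.mem_map_iff_of_surjective (π j) (hπs j)).mp h4
      have h5 : π j (b - i) = 0 := by rw [map_sub, hi, sub_self]
      have h6 := hK1 j _ h5
      have h7 : (e.symm χ - b) * gj j = e.symm χ * gj j - (b - i) * gj j - i * gj j := by ring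
      rw [h7, h3, h6, sub_zero, zero_sub]
      exact I.neg_mem (I.mul_mem_right _ hiI)

section Lift

variable {A : Type*} [CommRing A] [IsLocalRing A] {B : Type*} [CommRing B] [Algebra A B]
  [Module.Finite A B]

local notation "𝔪B" => Ideal.map (algebraMap A B) (IsLocalRing.maximalIdeal A)

theorem le_of_isMaximal (n : Ideal B) (hn : n.IsMaximal) : 𝔪B ≤ n := by
  haveI := hn
  have h1 : (n.comap (algebraMap A B)).IsMaximal :=
    Ideal.isMaximal_comap_of_isIntegral_of_isMaximal n
  have h2 : n.comap (algebraMap A B) = IsLocalRing.maximalIdeal A :=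
    IsLocalRing.eq_maximalIdeal h1
  rw [← h2]
  exact Ideal.map_comap_le

theorem artinian_quot : IsArtinianRing (B ⧸ 𝔪B) := by
  letI : Field (A ⧸ IsLocalRing.maximalIdeal A) := Ideal.Quotient.field _
  haveI : Module.Finite (A ⧸ IsLocalRing.maximalIdeal A) (B ⧸ 𝔪B) :=
    Module.Finite.of_restrictScalars_finite A _ _
  exact IsArtinianRing.of_finite (A ⧸ IsLocalRing.maximalIdeal A) (B ⧸ 𝔪B)

theorem comap_map_mk (n : Ideal B) (hn : n.IsMaximal) :
    Ideal.comap (Ideal.Quotient.mk 𝔪B) (Ideal.map (Ideal.Quotient.mk 𝔪B) n) = n := by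
  rw [Ideal.comap_map_of_surjective _ Ideal.Quotient.mk_surjective, ← RingHom.ker_eq_comap_bot,
    Ideal.mk_ker]
  exact sup_eq_left.mpr (le_of_isMaximal n hn)

theorem map_mk_isMaximal (n : Ideal B) (hn : n.IsMaximal) :
    (Ideal.map (Ideal.Quotient.mk 𝔪B) n).IsMaximal := by
  rcases Ideal.map_eq_top_or_isMaximal_of_surjective (Ideal.Quotient.mk 𝔪B)
    Ideal.Quotient.mk_surjective hn with h | h
  · exfalso
    have h1 := comap_map_mk (A := A) n hn
    rw [h, Ideal.comap_top] at h1
    exact hn.ne_top h1.symm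
  · exact h

include A in
theorem finite_maxSpec : Finite (MaximalSpectrum B) := by
  haveI := artinian_quot (A := A) (B := B)
  let φ : MaximalSpectrum B → MaximalSpectrum (B ⧸ 𝔪B) :=
    fun n => ⟨_, map_mk_isMaximal (A := A) n.asIdeal n.isMaximal⟩
  refine Finite.of_injective φ fun n n' h => ?_
  have h1 : Ideal.map (Ideal.Quotient.mk 𝔪B) n.asIdeal =
      Ideal.map (Ideal.Quotient.mk 𝔪B) n'.asIdeal := congrArg MaximalSpectrum.asIdeal h
  apply MaximalSpectrum.ext
  rw [← comap_map_mk (A := A) n.asIdeal n.isMaximal, h1,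
    comap_map_mk (A := A) n'.asIdeal n'.isMaximal]

theorem exists_sep_idem
    (hlift : Set.SurjOn (Ideal.Quotient.mk 𝔪B) {e : B | IsIdempotentElem e}
      {e | IsIdempotentElem e}) (n : Ideal B) (hn : n.IsMaximal) :
    ∃ g : B, IsIdempotentElem g ∧ g ∉ n ∧
      ∀ n' : Ideal B, n'.IsMaximal → n' ≠ n → g ∈ n' := by
  haveI := artinian_quot (A := A) (B := B)
  haveI := map_mk_isMaximal (A := A) n hn
  obtain ⟨r, hrn, hr, hrq⟩ :=
    IsArtinianRing.exists_not_mem_forall_mem_of_ne (Ideal.map (Ideal.Quotient.mk 𝔪B) n)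
  obtain ⟨g, hg, rfl⟩ := hlift hr
  refine ⟨g, hg, fun hgn => hrn (Ideal.mem_map_of_mem _ hgn), fun n' hn' hne => ?_⟩
  have hne' : Ideal.map (Ideal.Quotient.mk 𝔪B) n' ≠ Ideal.map (Ideal.Quotient.mk 𝔪B) n := by
    intro h
    apply hne
    rw [← comap_map_mk (A := A) n' hn', h, comap_map_mk (A := A) n hn]
  have h1 := hrq (Ideal.map (Ideal.Quotient.mk 𝔪B) n')
    (map_mk_isMaximal (A := A) n' hn').isPrime hne'
  exact (Ideal.mem_quotient_iff_mem (le_of_isMaximal (A := A) n' hn')).mp h1

theorem toPi_surjective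
    (hlift : Set.SurjOn (Ideal.Quotient.mk 𝔪B) {e : B | IsIdempotentElem e}
      {e | IsIdempotentElem e}) :
    Function.Surjective (MaximalSpectrum.toPiLocalization B) := by
  classical
  haveI := finite_maxSpec (A := A) (B := B)
  haveI : Fintype (MaximalSpectrum B) := Fintype.ofFinite _
  have hg : ∀ n : MaximalSpectrum B, ∃ g : B, IsIdempotentElem g ∧ g ∉ n.asIdeal ∧
      ∀ n' : Ideal B, n'.IsMaximal → n' ≠ n.asIdeal → g ∈ n' :=
    fun n => exists_sep_idem (A := A) hlift n.asIdeal n.isMaximal
  choose g hg1 hg2 hg3 using hg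
  intro x
  have hfrac : ∀ n : MaximalSpectrum B, ∃ (b : B) (s : B), s ∉ n.asIdeal ∧
      x n * algebraMap B (Localization.AtPrime n.asIdeal) s =
        algebraMap B (Localization.AtPrime n.asIdeal) b := by
    intro n
    obtain ⟨⟨b, s⟩, h⟩ := IsLocalization.surj n.asIdeal.primeCompl (x n)
    exact ⟨b, s.1, s.2, h⟩
  choose b s hs hxs using hfrac
  have hgg : ∀ n : MaximalSpectrum B, (1 - g n) * g n = 0 := by
    intro n
    rw [sub_mul, one_mul, (hg1 n).eq, sub_self]
  have ht : ∀ n : MaximalSpectrum B, ∃ t : B, s n * t * g n = g n := by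
    intro n
    have htop : Ideal.span {s n} ⊔ Ideal.span {1 - g n} = ⊤ := by
      by_contra hne
      obtain ⟨n', hn', hle⟩ := Ideal.exists_le_maximal _ hne
      have h1 : s n ∈ n' := hle (Ideal.mem_sup_left (Ideal.subset_span rfl))
      have h2 : 1 - g n ∈ n' := hle (Ideal.mem_sup_right (Ideal.subset_span rfl))
      by_cases hnn : n' = n.asIdeal
      · exact hs n (hnn ▸ h1)
      · have h3 : g n ∈ n' := hg3 n n' hn' hnn
        exact hn'.ne_top ((Ideal.eq_top_iff_one n').mpr (by simpa using n'.add_mem h2 h3))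
    have h1 : (1 : B) ∈ Ideal.span {s n} ⊔ Ideal.span {1 - g n} := htop ▸ Submodule.mem_top
    obtain ⟨y, hy, z, hz, hyz⟩ := Submodule.mem_sup.mp h1
    obtain ⟨t, rfl⟩ := Ideal.mem_span_singleton'.mp hy
    obtain ⟨u, rfl⟩ := Ideal.mem_span_singleton'.mp hz
    refine ⟨t, ?_⟩
    calc s n * t * g n = (t * s n + u * (1 - g n)) * g n - u * ((1 - g n) * g n) := by ring
      _ = g n := by rw [hyz, hgg n, mul_zero, sub_zero, one_mul]
  choose t ht using ht
  have hloc1 : ∀ n : MaximalSpectrum B,
      algebraMap B (Localization.AtPrime n.asIdeal) (g n) = 1 := by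
    intro n
    have h3 : algebraMap B (Localization.AtPrime n.asIdeal) (1 - g n) = 0 := by
      rw [IsLocalization.map_eq_zero_iff n.asIdeal.primeCompl]
      refine ⟨⟨g n, hg2 n⟩, ?_⟩
      show g n * (1 - g n) = 0
      rw [mul_comm]; exact hgg n
    rw [map_sub, map_one, sub_eq_zero] at h3
    exact h3.symm
  have hloc0 : ∀ n n' : MaximalSpectrum B, n' ≠ n →
      algebraMap B (Localization.AtPrime n.asIdeal) (g n') = 0 := by
    intro n n' hne
    have hmem : g n' ∈ n.asIdeal :=
      hg3 n' n.asIdeal n.isMaximal (fun h => hne (MaximalSpectrum.ext h).symm)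
    rw [IsLocalization.map_eq_zero_iff n.asIdeal.primeCompl]
    refine ⟨⟨1 - g n', fun h => ?_⟩, hgg n'⟩
    exact n.isMaximal.ne_top ((Ideal.eq_top_iff_one _).mpr
      (by simpa using n.asIdeal.add_mem h hmem))
  refine ⟨∑ n, b n * t n * g n, ?_⟩
  funext n
  show algebraMap B (Localization.AtPrime n.asIdeal) (∑ n', b n' * t n' * g n') = x n
  rw [map_sum, Finset.sum_eq_single n]
  · have hunit : IsUnit (algebraMap B (Localization.AtPrime n.asIdeal) (s n)) :=
      IsLocalization.map_units _ (⟨s n, hs n⟩ : n.asIdeal.primeCompl)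
    apply hunit.mul_left_injective
    show algebraMap B (Localization.AtPrime n.asIdeal) (b n * t n * g n) *
      algebraMap B (Localization.AtPrime n.asIdeal) (s n) =
      x n * algebraMap B (Localization.AtPrime n.asIdeal) (s n)
    rw [hxs n, ← map_mul]
    have h5 : b n * t n * g n * s n = b n * (s n * t n * g n) := by ring
    rw [h5, ht n, map_mul, hloc1 n, mul_one]
  · intro n' _ hne
    rw [map_mul, hloc0 n n' hne, mul_zero]
  · intro h; exact absurd (Finset.mem_univ n) h

end Lift

end Groth.Agent.Helper12.FinLocDecomp
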