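import Mathlib

/-!
# Finite-order elements of `GL_N(K)` are conjugate into `GL_N(R)` (R a PID with fraction field K)

The lattice `L = Σ_i g^i R^N` is finitely generated, spans `K^N`, and is stable under `g` and `g⁻¹`;
it is free of rank `N`, and a basis of `L` conjugates `g` into `GL_N(R)`.
-/

set_option autoImplicit false

universe u

open Module

namespace Groth.Agent.Helper12.FinOrdGL

variable {R : Type*} [CommRing R] [IsDomain R] [IsPrincipalIdealRing R]
  {K : Type*} [Field K] [Algebra R K] [IsFractionRing R K] {N : ℕ}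

theorem exists_stable_lattice (g : GL (Fin N) K) (hg : IsOfFinOrder g) :
    ∃ L : Submodule R (Fin N → K), Submodule.IsLattice K L ∧
      (∀ v ∈ L, (g : Matrix (Fin N) (Fin N) K).mulVec v ∈ L) ∧
      (∀ v ∈ L, ((g⁻¹ : GL (Fin N) K) : Matrix (Fin N) (Fin N) K).mulVec v ∈ L) := by
  classical
  obtain ⟨S, hS⟩ : ∃ S : Set (Fin N → K), S = {v | ∃ (i : ℕ) (j : Fin N),
      v = ((g ^ i : GL (Fin N) K) : Matrix (Fin N) (Fin N) K).mulVec (Pi.single j 1)} := ⟨_, rfl⟩
  have hn : 0 < orderOf g := hg.orderOf_pos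
  have hSfin : S.Finite := by
    have hsub : S ⊆ (fun ij : ℕ × Fin N =>
        ((g ^ ij.1 : GL (Fin N) K) : Matrix (Fin N) (Fin N) K).mulVec (Pi.single ij.2 1)) ''
        ((Finset.range (orderOf g) ×ˢ Finset.univ : Finset (ℕ × Fin N)) : Set (ℕ × Fin N)) := by
      rw [hS]
      rintro v ⟨i, j, rfl⟩
      refine ⟨(i % orderOf g, j), ?_, ?_⟩
      · simp [Nat.mod_lt _ hn]
      · simp only [pow_mod_orderOf]
    exact ((Finset.finite_toSet _).image _).subset hsub
  have hmemS : ∀ (i : ℕ) (j : Fin N),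
      ((g ^ i : GL (Fin N) K) : Matrix (Fin N) (Fin N) K).mulVec (Pi.single j 1) ∈ S := by
    intro i j; rw [hS]; exact ⟨i, j, rfl⟩
  have hinv : g⁻¹ = g ^ (orderOf g - 1) := by
    refine (eq_inv_of_mul_eq_one_left ?_).symm
    rw [← pow_succ, Nat.sub_add_cancel hn, pow_orderOf_eq_one]
  refine ⟨Submodule.span R S, ⟨Submodule.fg_span hSfin, ?_⟩, ?_, ?_⟩
  · rw [eq_top_iff, ← (Pi.basisFun K (Fin N)).span_eq]
    refine Submodule.span_mono ?_
    rintro _ ⟨j, rfl⟩
    refine Submodule.subset_span ?_
    have := hmemS 0 j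
    rw [pow_zero, Units.val_one, Matrix.one_mulVec] at this
    rw [Pi.basisFun_apply]
    exact this
  · intro v hv
    have hle : Submodule.map ((Matrix.toLin' (g : Matrix (Fin N) (Fin N) K)).restrictScalars R)
        (Submodule.span R S) ≤ Submodule.span R S := by
      rw [Submodule.map_span_le]
      intro m hm
      rw [hS] at hm
      obtain ⟨i, j, rfl⟩ := hm
      refine Submodule.subset_span ?_
      show (g : Matrix (Fin N) (Fin N) K).mulVec
        (((g ^ i : GL (Fin N) K) : Matrix (Fin N) (Fin N) K).mulVec (Pi.single j 1)) ∈ S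
      rw [Matrix.mulVec_mulVec, ← Units.val_mul, ← pow_succ']
      exact hmemS (i + 1) j
    have := hle (Submodule.mem_map_of_mem hv)
    simpa using this
  · intro v hv
    have hle : Submodule.map
        ((Matrix.toLin' ((g⁻¹ : GL (Fin N) K) : Matrix (Fin N) (Fin N) K)).restrictScalars R)
        (Submodule.span R S) ≤ Submodule.span R S := by
      rw [Submodule.map_span_le]
      intro m hm
      rw [hS] at hm
      obtain ⟨i, j, rfl⟩ := hm
      refine Submodule.subset_span ?_
      show ((g⁻¹ : GL (Fin N) K) : Matrix (Fin N) (Fin N) K).mulVec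
        (((g ^ i : GL (Fin N) K) : Matrix (Fin N) (Fin N) K).mulVec (Pi.single j 1)) ∈ S
      rw [Matrix.mulVec_mulVec, ← Units.val_mul, hinv, ← pow_add]
      exact hmemS (orderOf g - 1 + i) j
    have := hle (Submodule.mem_map_of_mem hv)
    simpa using this

theorem conj_into_integral (g : GL (Fin N) K) (hg : IsOfFinOrder g) :
    ∃ (P Q : Matrix (Fin N) (Fin N) K) (M M' : Matrix (Fin N) (Fin N) R),
      P * Q = 1 ∧ Q * P = 1 ∧ M * M' = 1 ∧ M' * M = 1 ∧
      P * (g : Matrix (Fin N) (Fin N) K) * Q = M.map (algebraMap R K) := by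
  classical
  obtain ⟨L, hL, hst, hst'⟩ := exists_stable_lattice (R := R) g hg
  have := hL
  have : Module.IsTorsionFree R K := inferInstance
  have hfr : Module.finrank R L = N := by
    rw [Submodule.IsLattice.finrank_of_pi K L, Fintype.card_fin]
  let b : Basis (Fin N) R L := Module.finBasisOfFinrankEq R L hfr
  let B : Basis (Fin N) K (Fin N → K) := b.extendOfIsLattice K
  let E : Basis (Fin N) K (Fin N → K) := Pi.basisFun K (Fin N)
  let T : (Fin N → K) →ₗ[K] (Fin N → K) := Matrix.toLin' (g : Matrix (Fin N) (Fin N) K)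
  let T' : (Fin N → K) →ₗ[K] (Fin N → K) :=
    Matrix.toLin' ((g⁻¹ : GL (Fin N) K) : Matrix (Fin N) (Fin N) K)
  let TL : L →ₗ[R] L := (T.restrictScalars R).restrict (fun v hv => by
    simpa [T] using hst v hv)
  let TL' : L →ₗ[R] L := (T'.restrictScalars R).restrict (fun v hv => by
    simpa [T'] using hst' v hv)
  have hTL : ∀ x : L, ((TL x : L) : Fin N → K) = (g : Matrix (Fin N) (Fin N) K).mulVec x := by
    intro x; simp [TL, T, LinearMap.restrict_apply]
  have hTL' : ∀ x : L, ((TL' x : L) : Fin N → K) =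
      ((g⁻¹ : GL (Fin N) K) : Matrix (Fin N) (Fin N) K).mulVec x := by
    intro x; simp [TL', T', LinearMap.restrict_apply]
  have h1 : TL ∘ₗ TL' = LinearMap.id := by
    ext x : 2
    rw [LinearMap.comp_apply, hTL, hTL', Matrix.mulVec_mulVec, ← Units.val_mul, mul_inv_cancel]
    simp
  have h2 : TL' ∘ₗ TL = LinearMap.id := by
    ext x : 2
    rw [LinearMap.comp_apply, hTL', hTL, Matrix.mulVec_mulVec, ← Units.val_mul, inv_mul_cancel]
    simp
  have hrepr : ∀ (x : L) (i : Fin N), B.repr (x : Fin N → K) i = algebraMap R K (b.repr x i) := by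
    intro x i
    have hx : (x : Fin N → K) = ∑ j, (algebraMap R K (b.repr x j)) • B j := by
      conv_lhs => rw [← b.sum_repr x]
      rw [Submodule.coe_sum]
      refine Finset.sum_congr rfl (fun j _ => ?_)
      rw [Submodule.coe_smul, Basis.extendOfIsLattice_apply, algebraMap_smul]
    rw [hx, B.repr_sum_self]
  refine ⟨B.toMatrix E, E.toMatrix B, LinearMap.toMatrix b b TL, LinearMap.toMatrix b b TL',
    Basis.toMatrix_mul_toMatrix_flip B E, Basis.toMatrix_mul_toMatrix_flip E B, ?_, ?_, ?_⟩
  · rw [← LinearMap.toMatrix_comp b b b, h1, LinearMap.toMatrix_id]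
  · rw [← LinearMap.toMatrix_comp b b b, h2, LinearMap.toMatrix_id]
  · have hg' : (g : Matrix (Fin N) (Fin N) K) = LinearMap.toMatrix E E T := by
      rw [LinearMap.toMatrix_eq_toMatrix', LinearMap.toMatrix'_toLin']
    rw [hg', basis_toMatrix_mul_linearMap_toMatrix_mul_basis_toMatrix]
    ext i j
    rw [LinearMap.toMatrix_apply, Matrix.map_apply, LinearMap.toMatrix_apply]
    have hBj : B j = ((b j : L) : Fin N → K) := Basis.extendOfIsLattice_apply K b j
    have hT : T (B j) = ((TL (b j) : L) : Fin N → K) := by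
      rw [hTL, hBj]; simp [T]
    rw [hT, hrepr]

theorem main (R : Type u) [CommRing R] [IsDomain R] [IsDiscreteValuationRing R]
    (K : Type u) [Field K] [Algebra R K] [IsFractionRing R K]
    (N : ℕ) (g : GL (Fin N) K) (hg : IsOfFinOrder g) :
    ∃ (R' : Type u) (_ : CommRing R') (_ : IsDomain R') (_ : IsDiscreteValuationRing R')
      (K' : Type u) (_ : Field K') (_ : Algebra R' K') (_ : IsFractionRing R' K')
      (_ : Algebra R R') (_ : Algebra K K') (_ : Algebra R K')
      (_ : IsScalarTower R R' K') (_ : IsScalarTower R K K')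
      (_ : Module.Finite K K') (_ : IsLocalHom (algebraMap R R'))
      (h : GL (Fin N) K') (g' : GL (Fin N) R'),
      h * Matrix.GeneralLinearGroup.map (algebraMap K K') g * h⁻¹ =
        Matrix.GeneralLinearGroup.map (algebraMap R' K') g' := by
  obtain ⟨P, Q, M, M', hPQ, hQP, hMM', hM'M, hconj⟩ := conj_into_integral (R := R) g hg
  refine ⟨R, inferInstance, inferInstance, inferInstance, K, inferInstance, inferInstance,
    inferInstance, Algebra.id R, Algebra.id K, inferInstance, inferInstance, inferInstance,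
    inferInstance, ⟨fun a ha => ha⟩, ⟨P, Q, hPQ, hQP⟩, ⟨M, M', hMM', hM'M⟩, ?_⟩
  apply Units.ext
  rw [Units.val_mul, Units.val_mul]
  ext i j
  simp only [Units.inv_mk]
  have := congrFun (congrFun hconj i) j
  simpa [Matrix.GeneralLinearGroup.map] using this

end Groth.Agent.Helper12.FinOrdGL
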