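import Mathlib
import Groth.Prelude.Def_FlatMod2
import Groth.Agent.Lib.Helper4.SemiLocalFree

/-!
# A locally free module of rank `r` on the source of a finite morphism is free over the preimage of a
neighbourhood of any point of the target (semi-local freeness + closedness of finite morphisms).
-/

set_option autoImplicit false

universe u

open CategoryTheory AlgebraicGeometry TopologicalSpace

namespace Groth.Agent.Helper12.FiniteFree

theorem main {X' X : Scheme.{u}} (f : X' ⟶ X) [IsFinite f] (r : ℕ)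
    (F : X'.Modules) (hF : FlatMod.IsFinLocFreeOfRank r F) (x : X) :
    ∃ U : X.Opens, x ∈ U ∧
      Nonempty (F.restrict (f ⁻¹ᵁ U).ι ≅ FlatMod.freeMod (↑(f ⁻¹ᵁ U)) r) := by
  obtain ⟨V, hxV⟩ : ∃ V : X.affineOpens, x ∈ (V : X.Opens) := by
    have hx0 : x ∈ (⨆ U : X.affineOpens, (U : X.Opens)) := by
      rw [iSup_affineOpens_eq_top]; trivial
    exact Opens.mem_iSup.mp hx0
  have hV' : IsAffineOpen (f ⁻¹ᵁ (V : X.Opens)) := V.2.preimage f
  have hZ : (f ⁻¹' {x}).Finite := f.finite_preimage_singleton x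
  have hZV : (f ⁻¹' {x}) ⊆ ((f ⁻¹ᵁ (V : X.Opens) : X'.Opens) : Set X') := by
    intro z hz
    have hz' : f z = x := hz
    show f z ∈ (V : X.Opens)
    rw [hz']
    exact hxV
  obtain ⟨U', hZU', -, ⟨e⟩⟩ :=
    Groth.Agent.Helper4.SemiLocalFree.main X' r F hF _ hZ _ hV' hZV
  have hC : IsClosed (f '' ((U' : Set X')ᶜ)) := f.isClosedMap _ U'.isOpen.isClosed_compl
  have hxC : x ∉ f '' ((U' : Set X')ᶜ) := by
    rintro ⟨z, hz, hzx⟩
    exact hz (hZU' hzx)
  let U : X.Opens := ⟨(f '' ((U' : Set X')ᶜ))ᶜ, hC.isOpen_compl⟩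
  refine ⟨U, hxC, ?_⟩
  have hle : f ⁻¹ᵁ U ≤ U' := by
    intro z hz
    by_contra hzU'
    exact hz ⟨z, hzU', rfl⟩
  exact Groth.Agent.Helper4.SemiLocalFree.restrict_free_of_le F hle r e

end Groth.Agent.Helper12.FiniteFree
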