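import Mathlib
import Groth.Agent.H29.RegParam

/-!
# Fixed locus of a finite group acting on a regular local ring (helper12)

`main`: `k` a field, `A` a regular local `k`-algebra with residue field `k`, `G` a finite group
of order invertible in `k` acting on `A`: then `A / (g • a - a)` is regular.
-/

set_option autoImplicit false
set_option linter.style.haveILetI false
set_option linter.unusedSectionVars false
universe u

namespace Groth.Agent.Helper12.FixedLocus

open IsLocalRing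

section Stable

variable {A : Type u} [CommRing A] [IsLocalRing A] {G : Type u} [Group G] [MulSemiringAction G A]

theorem smul_mem_maximalIdeal (g : G) {x : A} (hx : x ∈ maximalIdeal A) :
    g • x ∈ maximalIdeal A := by
  rw [mem_maximalIdeal, mem_nonunits_iff] at hx ⊢
  intro h
  apply hx
  have h2 := h.map (MulSemiringAction.toRingHom G A g⁻¹)
  have h3 : MulSemiringAction.toRingHom G A g⁻¹ (g • x) = x := by
    show g⁻¹ • g • x = x
    exact inv_smul_smul g x
  rwa [h3] at h2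

theorem smul_mem_maximalIdeal_pow (g : G) (i : ℕ) {x : A} (hx : x ∈ maximalIdeal A ^ i) :
    g • x ∈ maximalIdeal A ^ i := by
  induction i generalizing x with
  | zero => rw [pow_zero, Ideal.one_eq_top]; trivial
  | succ i ih =>
    rw [pow_succ] at hx ⊢
    refine Submodule.mul_induction_on hx ?_ ?_
    · intro y hy z hz
      rw [smul_mul']
      exact Ideal.mul_mem_mul (ih hy) (smul_mem_maximalIdeal g hz)
    · intro y z hy hz
      rw [smul_add]
      exact Ideal.add_mem _ hy hz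

end Stable

section Rel

variable {k : Type u} [Field k] {A : Type u} [CommRing A] [Algebra k A] [IsLocalRing A]
  [IsNoetherianRing A] {G : Type u} [Group G] [Finite G] [MulSemiringAction G A]
  [SMulCommClass G k A]

/-- Relative version of "trivial on the cotangent space implies trivial". -/
theorem rel_trivial
    (hres : ∀ a : A, ∃ c : k, a - algebraMap k A c ∈ maximalIdeal A)
    (hG : (Nat.card G : k) ≠ 0)
    (J₀ : Ideal A) (hJ₀m : J₀ ≤ maximalIdeal A)
    (hJ₀G : ∀ (h : G) (x : A), x ∈ J₀ → h • x ∈ J₀)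
    (g : G)
    (hg : ∀ a ∈ maximalIdeal A, g • a - a ∈ J₀ ⊔ maximalIdeal A ^ 2) (a : A) :
    g • a - a ∈ J₀ := by
  classical
  obtain ⟨m, hm⟩ : ∃ m : Ideal A, m = maximalIdeal A := ⟨_, rfl⟩
  rw [← hm] at hg hres hJ₀m
  have hgc : ∀ c : k, g • (algebraMap k A c) = algebraMap k A c := by
    intro c
    rw [Algebra.algebraMap_eq_smul_one, smul_comm, smul_one]
  have hN_mul : ∀ x y : A, g • (x * y) - x * y =
      x * (g • y - y) + (g • x - x) * y + (g • x - x) * (g • y - y) := by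
    intro x y
    rw [smul_mul']; ring
  have hN_add : ∀ x y : A, g • (x + y) - (x + y) = (g • x - x) + (g • y - y) := by
    intro x y
    rw [smul_add]; ring
  have hFmono : ∀ {i j : ℕ}, i ≤ j → J₀ ⊔ m ^ j ≤ J₀ ⊔ m ^ i :=
    fun h => sup_le_sup_left (Ideal.pow_le_pow_right h) _
  have hFmul : ∀ (i j : ℕ) (x y : A), x ∈ J₀ ⊔ m ^ i → y ∈ J₀ ⊔ m ^ j →
      x * y ∈ J₀ ⊔ m ^ (i + j) := by
    intro i j x y hx hy
    obtain ⟨x1, hx1, x2, hx2, rfl⟩ := Submodule.mem_sup.mp hx
    obtain ⟨y1, hy1, y2, hy2, rfl⟩ := Submodule.mem_sup.mp hy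
    have h1 : (x1 + x2) * (y1 + y2) = (x1 * (y1 + y2) + x2 * y1) + x2 * y2 := by ring
    rw [h1]
    refine Submodule.add_mem_sup
      (Ideal.add_mem _ (Ideal.mul_mem_right _ _ hx1) (Ideal.mul_mem_left _ _ hy1)) ?_
    rw [pow_add]
    exact Ideal.mul_mem_mul hx2 hy2
  have hNA : ∀ a : A, g • a - a ∈ J₀ ⊔ m ^ 2 := by
    intro a
    obtain ⟨c, h1⟩ := hres a
    have h2 := hg _ h1
    rw [smul_sub, hgc] at h2
    have : g • a - a = g • a - algebraMap k A c - (a - algebraMap k A c) := by ring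
    rw [this]; exact h2
  have hNpow0 : ∀ i : ℕ, ∀ x ∈ m ^ i, g • x - x ∈ J₀ ⊔ m ^ (i + 1) := by
    intro i
    induction i with
    | zero => intro x _; exact hFmono (by omega) (hNA x)
    | succ i ih =>
      intro x hx
      rw [pow_succ] at hx
      refine Submodule.mul_induction_on hx ?_ ?_
      · intro y hy z hz
        rw [hN_mul]
        have hz2 : g • z - z ∈ J₀ ⊔ m ^ 2 := hNA z
        have hy1 := ih y hy
        have hy0 : y ∈ J₀ ⊔ m ^ i := Submodule.mem_sup_right hy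
        have hz1 : z ∈ J₀ ⊔ m ^ 1 := Submodule.mem_sup_right (by rwa [pow_one])
        refine Ideal.add_mem _ (Ideal.add_mem _ ?_ ?_) ?_
        · exact hFmono (by omega) (hFmul i 2 _ _ hy0 hz2)
        · exact hFmono (by omega) (hFmul (i + 1) 1 _ _ hy1 hz1)
        · exact hFmono (by omega) (hFmul (i + 1) 2 _ _ hy1 hz2)
      · intro y z hy hz
        rw [hN_add]
        exact Ideal.add_mem _ hy hz
  have hNF : ∀ i : ℕ, ∀ x ∈ J₀ ⊔ m ^ i, g • x - x ∈ J₀ ⊔ m ^ (i + 1) := by
    intro i x hx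
    obtain ⟨x1, hx1, x2, hx2, rfl⟩ := Submodule.mem_sup.mp hx
    rw [hN_add]
    refine Ideal.add_mem _ (Submodule.mem_sup_left ?_) (hNpow0 i x2 hx2)
    exact Ideal.sub_mem _ (hJ₀G g x1 hx1) hx1
  have hgpow : ∀ j i : ℕ, ∀ x ∈ J₀ ⊔ m ^ i, g ^ j • x - x ∈ J₀ ⊔ m ^ (i + 1) := by
    intro j
    induction j with
    | zero => intro i x _; rw [pow_zero, one_smul, sub_self]; exact Ideal.zero_mem _
    | succ j ih =>
      intro i x hx
      have h1 : g ^ (j + 1) • x - x = (g • (g ^ j • x - x) - (g ^ j • x - x)) + (g ^ j • x - x)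
          + (g • x - x) := by
        rw [pow_succ', mul_smul, smul_sub]; ring
      rw [h1]
      have h2 := ih i x hx
      refine Ideal.add_mem _ (Ideal.add_mem _ ?_ h2) (hNF i x hx)
      exact hFmono (by omega) (hNF (i + 1) _ h2)
  have main : ∀ n : ℕ, ∀ a : A, g • a - a ∈ J₀ ⊔ m ^ n := by
    intro n
    induction n with
    | zero => intro a; rw [pow_zero, Ideal.one_eq_top, sup_top_eq]; trivial
    | succ n ih =>
      intro a
      obtain ⟨b, hb⟩ : ∃ b : A, b = g • a - a := ⟨_, rfl⟩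
      rw [← hb]
      have hbn : b ∈ J₀ ⊔ m ^ n := hb ▸ ih a
      have hS : ∑ j ∈ Finset.range (Nat.card G), g ^ j • b = 0 := by
        have h1 : ∀ j, g ^ j • b = g ^ (j + 1) • a - g ^ j • a := by
          intro j
          rw [hb, smul_sub, pow_succ, mul_smul]
        rw [Finset.sum_congr rfl (fun j _ => h1 j), Finset.sum_range_sub (fun j => g ^ j • a),
          pow_card_eq_one', one_smul, pow_zero, one_smul, sub_self]
      have h2 : (Nat.card G : A) * b = - ∑ j ∈ Finset.range (Nat.card G), (g ^ j • b - b) := by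
        rw [Finset.sum_sub_distrib, hS, Finset.sum_const, Finset.card_range, nsmul_eq_mul]
        ring
      have h3 : (Nat.card G : A) * b ∈ J₀ ⊔ m ^ (n + 1) := by
        rw [h2]
        exact (Ideal.neg_mem_iff _).mpr (Ideal.sum_mem _ fun j _ => hgpow j n b hbn)
      have h4 : b = algebraMap k A ((Nat.card G : k)⁻¹) * ((Nat.card G : A) * b) := by
        rw [← mul_assoc, ← map_natCast (algebraMap k A), ← map_mul, inv_mul_cancel₀ hG, map_one,
          one_mul]
      rw [h4]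
      exact Ideal.mul_mem_left _ _ h3
  have hne : J₀ ≠ ⊤ := fun h =>
    (maximalIdeal.isMaximal A).ne_top (top_le_iff.mp (by rw [← h, ← hm]; exact hJ₀m))
  haveI : IsLocalRing (A ⧸ J₀) := Groth.Agent.H29.isLocalRing_quotient_of_ne_top A J₀ hne
  have hmk : ∀ n, Ideal.Quotient.mk J₀ (g • a - a) ∈ maximalIdeal (A ⧸ J₀) ^ n := by
    intro n
    obtain ⟨b1, hb1, b2, hb2, hb⟩ := Submodule.mem_sup.mp (main n a)
    rw [← hb, map_add, Ideal.Quotient.eq_zero_iff_mem.mpr hb1, zero_add,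
      ← Groth.Agent.H29.map_mk_maximalIdeal A J₀, ← Ideal.map_pow]
    rw [hm] at hb2
    exact Ideal.mem_map_of_mem _ hb2
  have hbot : Ideal.Quotient.mk J₀ (g • a - a) ∈ (⊥ : Ideal (A ⧸ J₀)) := by
    rw [← Ideal.iInf_pow_eq_bot_of_isLocalRing (maximalIdeal (A ⧸ J₀))
      (Ideal.IsPrime.ne_top inferInstance)]
    exact Ideal.mem_iInf.mpr hmk
  exact Ideal.Quotient.eq_zero_iff_mem.mp (Ideal.mem_bot.mp hbot)

end Rel

section Maschke

variable {k : Type u} [Field k] {A : Type u} [CommRing A] [Algebra k A] [IsLocalRing A]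
  {G : Type u} [Group G] [Finite G] [MulSemiringAction G A] [SMulCommClass G k A]

/-- Maschke by hand: a `G`-stable `k`-subspace `W` of the coinvariant ideal `J`, meeting `m²`
trivially, and with `J ⊆ W + m²` (on generators). -/
theorem exists_W (hG : (Nat.card G : k) ≠ 0) :
    ∃ W : Submodule k A, (∀ (h : G) (w : A), w ∈ W → h • w ∈ W) ∧
      (∀ w ∈ W, w ∈ Ideal.span {x : A | ∃ (g : G) (a : A), x = g • a - a}) ∧
      (∀ w ∈ W, w ∈ maximalIdeal A ^ 2 → w = 0) ∧
      (∀ (g : G) (a : A), ∃ w ∈ W, g • a - a - w ∈ maximalIdeal A ^ 2) := by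
  classical
  haveI : Fintype G := Fintype.ofFinite G
  obtain ⟨ν, hν⟩ : ∃ ν : k, ν * (Fintype.card G : k) = 1 :=
    ⟨_, inv_mul_cancel₀ (by rwa [← Nat.card_eq_fintype_card])⟩
  have hcard : ∀ x : A, ν • ∑ _g : G, x = x := by
    intro x
    rw [Finset.sum_const, Finset.card_univ, ← Nat.cast_smul_eq_nsmul k, smul_smul, hν, one_smul]
  obtain ⟨J, hJ⟩ : ∃ J : Ideal A, J = Ideal.span {x : A | ∃ (g : G) (a : A), x = g • a - a} :=
    ⟨_, rfl⟩
  rw [← hJ]
  -- the averaging operator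
  obtain ⟨π, hπ⟩ : ∃ π : A →ₗ[k] A, ∀ x, π x = ν • ∑ g : G, g • x :=
    ⟨ν • ∑ g : G, DistribSMul.toLinearMap k A g, fun x => by
      simp [LinearMap.sum_apply]⟩
  have hπG : ∀ (h : G) (x : A), π (h • x) = π x := by
    intro h x
    rw [hπ, hπ]
    congr 1
    refine Fintype.sum_equiv (Equiv.mulRight h) _ _ (fun g => ?_)
    show g • h • x = (g * h) • x
    rw [mul_smul]
  have hπJ : ∀ x : A, x - π x ∈ J := by
    intro x
    have h1 : x - π x = ν • ∑ g : G, (x - g • x) := by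
      rw [Finset.sum_sub_distrib, smul_sub, hcard, hπ]
    rw [h1, Algebra.smul_def]
    refine Ideal.mul_mem_left _ _ (Ideal.sum_mem _ fun g _ => ?_)
    have h2 : x - g • x = -(g • x - x) := by ring
    rw [h2, hJ]
    exact (Ideal.neg_mem_iff _).mpr (Ideal.subset_span ⟨g, x, rfl⟩)
  -- a projection onto m², then averaged
  obtain ⟨q, hq⟩ := Submodule.exists_isCompl ((maximalIdeal A ^ 2).restrictScalars k)
  obtain ⟨p₀, hp₀mem, hp₀id⟩ : ∃ p₀ : A →ₗ[k] A, (∀ x, p₀ x ∈ maximalIdeal A ^ 2) ∧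
      (∀ x ∈ maximalIdeal A ^ 2, p₀ x = x) :=
    ⟨Submodule.projection _ q hq, fun x => Submodule.projection_apply_mem hq x,
      fun x hx => Submodule.projection_apply_of_mem_left hq hx⟩
  obtain ⟨p, hp⟩ : ∃ p : A →ₗ[k] A, ∀ x, p x = ν • ∑ g : G, g • p₀ (g⁻¹ • x) :=
    ⟨ν • ∑ g : G, (DistribSMul.toLinearMap k A g) ∘ₗ p₀ ∘ₗ (DistribSMul.toLinearMap k A g⁻¹),
      fun x => by simp [LinearMap.sum_apply]⟩
  have hpmem : ∀ x, p x ∈ maximalIdeal A ^ 2 := by
    intro x
    rw [hp, Algebra.smul_def]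
    exact Ideal.mul_mem_left _ _ (Ideal.sum_mem _ fun g _ =>
      smul_mem_maximalIdeal_pow g 2 (hp₀mem _))
  have hpid : ∀ x ∈ maximalIdeal A ^ 2, p x = x := by
    intro x hx
    rw [hp]
    have h1 : ∀ g : G, g • p₀ (g⁻¹ • x) = x := by
      intro g
      rw [hp₀id _ (smul_mem_maximalIdeal_pow g⁻¹ 2 hx), smul_inv_smul]
    rw [Finset.sum_congr rfl (fun g _ => h1 g), hcard]
  have hpG : ∀ (h : G) (x : A), p (h • x) = h • p x := by
    intro h x
    have h1 : h • ∑ g : G, g • p₀ (g⁻¹ • x) = ∑ g : G, h • g • p₀ (g⁻¹ • x) := Finset.smul_sum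
    rw [hp, hp, smul_comm h ν, h1]
    congr 1
    refine Fintype.sum_equiv (Equiv.mulLeft h⁻¹) _ _ (fun g => ?_)
    show g • p₀ (g⁻¹ • h • x) = h • (h⁻¹ * g) • p₀ ((h⁻¹ * g)⁻¹ • x)
    have e1 : (h⁻¹ * g)⁻¹ • x = g⁻¹ • h • x := by rw [mul_inv_rev, inv_inv, mul_smul]
    have e2 : ∀ y : A, h • (h⁻¹ * g) • y = g • y := by
      intro y; rw [← mul_smul, mul_inv_cancel_left]
    rw [e1, e2]
  have hπp : ∀ x : A, π (p x) = p (π x) := by
    intro x
    rw [hπ, hπ, map_smul, map_sum]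
    congr 1
    exact Finset.sum_congr rfl fun g _ => (hpG g x).symm
  refine ⟨LinearMap.ker π ⊓ LinearMap.ker p, ?_, ?_, ?_, ?_⟩
  · intro h w hw
    rw [Submodule.mem_inf, LinearMap.mem_ker, LinearMap.mem_ker] at hw ⊢
    exact ⟨by rw [hπG, hw.1], by rw [hpG, hw.2, smul_zero]⟩
  · intro w hw
    rw [Submodule.mem_inf, LinearMap.mem_ker, LinearMap.mem_ker] at hw
    have := hπJ w
    rwa [hw.1, sub_zero] at this
  · intro w hw hw2
    rw [Submodule.mem_inf, LinearMap.mem_ker, LinearMap.mem_ker] at hw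
    exact (hpid w hw2).symm.trans hw.2
  · intro g a
    have hx : π (g • a - a) = 0 := by rw [map_sub, hπG, sub_self]
    obtain ⟨y, hy⟩ : ∃ y : A, y = g • a - a := ⟨_, rfl⟩
    rw [← hy] at hx ⊢
    refine ⟨y - p y, ?_, ?_⟩
    · rw [Submodule.mem_inf, LinearMap.mem_ker, LinearMap.mem_ker]
      constructor
      · rw [map_sub, hπp, hx, map_zero, sub_zero]
      · rw [map_sub, hpid _ (hpmem _), sub_self]
    · rw [sub_sub_cancel]
      exact hpmem _

end Maschke

section Gens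

variable {k : Type u} [Field k] {A : Type u} [CommRing A] [Algebra k A] [IsLocalRing A]
  [IsNoetherianRing A]

theorem exists_gens (hres : Function.Surjective (algebraMap k (ResidueField A)))
    (W : Submodule k A) (hWm : ∀ w ∈ W, w ∈ maximalIdeal A)
    (hW2 : ∀ w ∈ W, w ∈ maximalIdeal A ^ 2 → w = 0) :
    ∃ (r : ℕ) (x : Fin r → maximalIdeal A),
      LinearIndependent (ResidueField A) (fun i => (maximalIdeal A).toCotangent (x i)) ∧
      (∀ i, (x i : A) ∈ W) ∧
      (∀ w ∈ W, w ∈ Ideal.span (Set.range fun i => (x i : A))) := by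
  classical
  obtain ⟨b, hbsub, hbspan, hbli⟩ := exists_linearIndependent (ResidueField A)
    ((maximalIdeal A).toCotangent '' {y : maximalIdeal A | (y : A) ∈ W})
  have hbfin : b.Finite := hbli.setFinite
  haveI : Fintype b := hbfin.fintype
  obtain ⟨e⟩ : Nonempty (b ≃ Fin (Fintype.card b)) := ⟨Fintype.equivFin b⟩
  have hch : ∀ i : Fin (Fintype.card b), ∃ y : maximalIdeal A, (y : A) ∈ W ∧
      (maximalIdeal A).toCotangent y = (e.symm i : CotangentSpace A) :=
    fun i => hbsub (e.symm i).2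
  choose x hxW hx using hch
  have hrange : Set.range (fun i => (maximalIdeal A).toCotangent (x i)) = b := by
    ext z
    constructor
    · rintro ⟨i, rfl⟩
      show (maximalIdeal A).toCotangent (x i) ∈ b
      rw [hx i]; exact (e.symm i).2
    · intro hz
      refine ⟨e ⟨z, hz⟩, ?_⟩
      show (maximalIdeal A).toCotangent (x (e ⟨z, hz⟩)) = z
      rw [hx, Equiv.symm_apply_apply]
  refine ⟨Fintype.card b, x, ?_, hxW, ?_⟩
  · have h1 := hbli.comp e.symm e.symm.injective
    have h2 : (fun i => (maximalIdeal A).toCotangent (x i)) = Subtype.val ∘ e.symm := funext hx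
    rw [h2]; exact h1
  · intro v hv
    obtain ⟨y₀, hy₀⟩ : ∃ y₀ : maximalIdeal A, (y₀ : A) = v := ⟨⟨v, hWm v hv⟩, rfl⟩
    have h1 : (maximalIdeal A).toCotangent y₀ ∈ Submodule.span (ResidueField A)
        (Set.range fun i => (maximalIdeal A).toCotangent (x i)) := by
      rw [hrange, hbspan]
      exact Submodule.subset_span ⟨y₀, by show (y₀ : A) ∈ W; rw [hy₀]; exact hv, rfl⟩
    obtain ⟨lam, hlam⟩ := (Submodule.mem_span_range_iff_exists_fun (ResidueField A)).mp h1
    choose μ hμ using fun i => hres (lam i)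
    obtain ⟨d, hd⟩ : ∃ d : maximalIdeal A, d = y₀ - ∑ i, algebraMap k A (μ i) • x i := ⟨_, rfl⟩
    have hd0 : (maximalIdeal A).toCotangent d = 0 := by
      rw [hd, map_sub, map_sum, sub_eq_zero, ← hlam]
      refine Finset.sum_congr rfl fun i _ => ?_
      rw [map_smul, ← hμ i, ← algebraMap_smul (ResidueField A) (algebraMap k A (μ i))]
      rfl
    have hdA : (d : A) = v - ∑ i, algebraMap k A (μ i) * (x i : A) := by
      rw [hd, Submodule.coe_sub, hy₀, Submodule.coe_sum]
      simp only [Submodule.coe_smul, smul_eq_mul]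
    have hyW : ∑ i, algebraMap k A (μ i) * (x i : A) ∈ W := by
      refine Submodule.sum_mem _ fun i _ => ?_
      rw [← Algebra.smul_def]
      exact Submodule.smul_mem _ _ (hxW i)
    have hdW : (d : A) ∈ W := by rw [hdA]; exact Submodule.sub_mem _ hv hyW
    have hd2 : (d : A) ∈ maximalIdeal A ^ 2 := (Ideal.toCotangent_eq_zero _ d).mp hd0
    have h0 := hW2 _ hdW hd2
    rw [hdA, sub_eq_zero] at h0
    rw [h0]
    exact Ideal.sum_mem _ fun i _ => Ideal.mul_mem_left _ _ (Ideal.subset_span ⟨i, rfl⟩)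

end Gens

section Main

variable (k : Type u) [Field k] (A : Type u) [CommRing A] [Algebra k A]
  [hA : IsRegularLocalRing A]
  (G : Type u) [Group G] [Finite G] [MulSemiringAction G A] [SMulCommClass G k A]

theorem main (hres : Function.Surjective (algebraMap k (ResidueField A)))
    (hG : (Nat.card G : k) ≠ 0) :
    IsRegularLocalRing (A ⧸ Ideal.span {x : A | ∃ (g : G) (a : A), x = g • a - a}) := by
  classical
  have hres' : ∀ a : A, ∃ c : k, a - algebraMap k A c ∈ maximalIdeal A := by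
    intro a
    obtain ⟨c, hc⟩ := hres (IsLocalRing.residue A a)
    refine ⟨c, ?_⟩
    rw [← IsLocalRing.residue_eq_zero_iff, map_sub, ← hc]
    exact sub_eq_zero.mpr rfl
  have hgc : ∀ (g : G) (c : k), g • (algebraMap k A c) = algebraMap k A c := by
    intro g c
    rw [Algebra.algebraMap_eq_smul_one, smul_comm, smul_one]
  obtain ⟨J, hJ⟩ : ∃ J : Ideal A, J = Ideal.span {x : A | ∃ (g : G) (a : A), x = g • a - a} :=
    ⟨_, rfl⟩
  have hJm : J ≤ maximalIdeal A := by
    rw [hJ, Ideal.span_le]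
    rintro _ ⟨g, a, rfl⟩
    obtain ⟨c, hc⟩ := hres' a
    have h1 : g • a - a = g • (a - algebraMap k A c) - (a - algebraMap k A c) := by
      rw [smul_sub, hgc]; ring
    rw [h1]
    exact Ideal.sub_mem _ (smul_mem_maximalIdeal g hc) hc
  obtain ⟨W, hWG, hWJ, hW2, hWgen⟩ := exists_W (k := k) (A := A) (G := G) hG
  rw [← hJ] at hWJ
  have hWm : ∀ w ∈ W, w ∈ maximalIdeal A := fun w hw => hJm (hWJ w hw)
  obtain ⟨r, x, hli, hxW, hspan⟩ := exists_gens hres W hWm hW2
  obtain ⟨J₀, hJ₀⟩ : ∃ J₀ : Ideal A, J₀ = Ideal.span (Set.range fun i => (x i : A)) := ⟨_, rfl⟩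
  have hJ₀J : J₀ ≤ J := by
    rw [hJ₀, Ideal.span_le]
    rintro _ ⟨i, rfl⟩
    exact hWJ _ (hxW i)
  have hJ₀G : ∀ (h : G) (y : A), y ∈ J₀ → h • y ∈ J₀ := by
    intro h y hy
    rw [hJ₀] at hy ⊢
    refine Submodule.span_induction ?_ ?_ ?_ ?_ hy
    · rintro _ ⟨i, rfl⟩
      exact hspan _ (hWG h _ (hxW i))
    · rw [smul_zero]; exact Ideal.zero_mem _
    · intro y z _ _ hy hz
      rw [smul_add]; exact Ideal.add_mem _ hy hz
    · intro a y _ hy
      rw [smul_eq_mul, smul_mul']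
      exact Ideal.mul_mem_left _ _ hy
  have hJJ₀ : J ≤ J₀ := by
    rw [hJ, Ideal.span_le]
    rintro _ ⟨g, a, rfl⟩
    refine rel_trivial hres' hG J₀ (hJ₀J.trans hJm) hJ₀G g ?_ a
    intro a' _
    obtain ⟨w, hw, hw2⟩ := hWgen g a'
    have h1 : g • a' - a' = w + (g • a' - a' - w) := by ring
    rw [h1]
    refine Submodule.add_mem_sup ?_ hw2
    rw [hJ₀]; exact hspan w hw
  have hJeq : J = J₀ := le_antisymm hJJ₀ hJ₀J
  rw [← hJ, hJeq, hJ₀]
  exact (Groth.Agent.H29.isRegularLocalRing_quotient_of_linearIndependent A x hli).2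

end Main

end Groth.Agent.Helper12.FixedLocus
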