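import Mathlib
import Groth.Prelude.Def_Coh
import Groth.Prelude.Def_FlatMod2
import Groth.Agent.Lead.StalkLoc
import Groth.Agent.Lib.Helper12.TildeFlat

/-!
# Flatness of a quasi-coherent module over a base, tested on affine opens

For `f : X ⟶ S`, `F` quasi-coherent on `X`, affine opens `U ≤ f⁻¹ V`: `F` is flat over `S` at all
points of `U` iff `F(U)` is a flat `O_S(V)`-module.
-/

set_option autoImplicit false
set_option linter.style.haveILetI false
universe u
open CategoryTheory CategoryTheory.Limits AlgebraicGeometry Opposite TopologicalSpace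
open Groth.Agent.Lead.QCoh Groth.Agent.Lead.StalkLoc

namespace Groth.Agent.Helper12.FlatAffine

variable {X S : Scheme.{u}} (f : X ⟶ S) (F : X.Modules)
  {U : X.Opens} {V : S.Opens} (hUV : U ≤ f ⁻¹ᵁ V)

theorem germ_appLE (x : X) (hx : x ∈ U) (hfx : f.base x ∈ V) (a : Γ(S, V)) :
    X.presheaf.germ U x hx (f.appLE V U hUV a) =
      f.stalkMap x (S.presheaf.germ V (f.base x) hfx a) := by
  rw [Scheme.Hom.germ_stalkMap_apply]
  simp only [Scheme.Hom.appLE, CommRingCat.comp_apply]
  exact TopCat.Presheaf.germ_res_apply X.presheaf (homOfLE hUV) x hx _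

/-- the `O_S(V)`-module structure on the stalk `F_x`. -/
noncomputable abbrev modV (x : X) (hfx : f.base x ∈ V) : Module Γ(S, V) (F.presheaf.stalk x) :=
  Module.compHom _ ((f.stalkMap x).hom.comp (S.presheaf.germ V (f.base x) hfx).hom)

theorem flatOverAt_iff (hV : IsAffineOpen V) (x : X) (hfx : f.base x ∈ V) :
    FlatMod.IsFlatOverAt f F x ↔
      @Module.Flat Γ(S, V) (F.presheaf.stalk x) _ _ (modV f F x hfx) := by
  letI : Algebra Γ(S, V) (S.presheaf.stalk (f.base x)) :=
    S.presheaf.algebra_section_stalk ⟨f.base x, hfx⟩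
  haveI : IsLocalization.AtPrime (S.presheaf.stalk (f.base x))
      (hV.primeIdealOf ⟨f.base x, hfx⟩).asIdeal := hV.isLocalization_stalk ⟨_, hfx⟩
  letI := FlatMod.moduleStalkOver f F x
  letI := modV f F x hfx
  haveI : IsScalarTower Γ(S, V) (S.presheaf.stalk (f.base x)) (F.presheaf.stalk x) :=
    .of_algebraMap_smul fun a m => rfl
  exact Module.flat_iff_of_isLocalization (S.presheaf.stalk (f.base x))
    (hV.primeIdealOf ⟨_, hfx⟩).asIdeal.primeCompl (F.presheaf.stalk x)

/-- the `O_S(V)`-module structure on the sections `F(U)`. -/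
noncomputable abbrev modSec : Module Γ(S, V) Γ(F, U) := Module.compHom _ (f.appLE V U hUV).hom

variable [F.IsQuasicoherent] (hU : IsAffineOpen U)

include hU in
theorem stalk_flat_of_flat (x : X) (hx : x ∈ U)
    (h : @Module.Flat Γ(S, V) Γ(F, U) _ _ (modSec f F hUV)) :
    @Module.Flat Γ(S, V) (F.presheaf.stalk x) _ _ (modV f F x (hUV hx)) := by
  letI : Algebra Γ(S, V) Γ(X, U) := (f.appLE V U hUV).hom.toAlgebra
  letI := modSec f F hUV
  letI := modV f F x (hUV hx)
  letI : Module Γ(X, U) (F.presheaf.stalk x) := Module.compHom _ (X.presheaf.germ U x hx).hom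
  haveI : IsScalarTower Γ(S, V) Γ(X, U) Γ(F, U) := .of_algebraMap_smul fun _ _ => rfl
  haveI : IsScalarTower Γ(S, V) Γ(X, U) (F.presheaf.stalk x) := .of_algebraMap_smul fun a m => by
    show (X.presheaf.germ U x hx (f.appLE V U hUV a)) • m =
      (f.stalkMap x (S.presheaf.germ V (f.base x) (hUV hx) a)) • m
    rw [germ_appLE f hUV x hx (hUV hx) a]
  obtain ⟨germL, -, hloc⟩ := isLocalizedModule_germ F hU x hx
  haveI := hloc
  haveI := h
  exact TildeFlat.flat_of_isLocalizedModule (A := Γ(S, V)) (B := Γ(X, U))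
    (hU.primeIdealOf ⟨x, hx⟩).asIdeal.primeCompl germL

open TensorProduct in
include hU in
theorem flat_of_stalk_flat
    (h : ∀ (x : X) (hx : x ∈ U),
      @Module.Flat Γ(S, V) (F.presheaf.stalk x) _ _ (modV f F x (hUV hx))) :
    @Module.Flat Γ(S, V) Γ(F, U) _ _ (modSec f F hUV) := by
  letI : Algebra Γ(S, V) Γ(X, U) := (f.appLE V U hUV).hom.toAlgebra
  letI := modSec f F hUV
  haveI : IsScalarTower Γ(S, V) Γ(X, U) Γ(F, U) := .of_algebraMap_smul fun _ _ => rfl
  rw [Module.Flat.iff_lTensor_injectiveₛ]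
  intro P _ _ N
  show Function.Injective (AlgebraTensorModule.lTensor Γ(X, U) Γ(F, U) N.subtype)
  refine injective_of_localized_maximal _ fun J hJ => ?_
  let z : PrimeSpectrum Γ(X, U) := ⟨J, inferInstance⟩
  have hx : hU.fromSpec z ∈ U :=
    hU.opensRange_fromSpec.le (show hU.fromSpec z ∈ hU.fromSpec.opensRange from ⟨z, rfl⟩)
  have hz : hU.primeIdealOf ⟨hU.fromSpec z, hx⟩ = z := primeIdealOf_fromSpec hU z hx
  set x : X := hU.fromSpec z with hxdef
  letI := modV f F x (hUV hx)
  letI : Module Γ(X, U) (F.presheaf.stalk x) := Module.compHom _ (X.presheaf.germ U x hx).hom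
  haveI : IsScalarTower Γ(S, V) Γ(X, U) (F.presheaf.stalk x) := .of_algebraMap_smul fun a m => by
    show (X.presheaf.germ U x hx (f.appLE V U hUV a)) • m =
      (f.stalkMap x (S.presheaf.germ V (f.base x) (hUV hx) a)) • m
    rw [germ_appLE f hUV x hx (hUV hx) a]
  obtain ⟨germL, -, hloc⟩ := isLocalizedModule_germ F hU x hx
  rw [hz] at hloc
  haveI : IsLocalizedModule J.primeCompl germL := hloc
  haveI := h x hx
  rw [← IsLocalizedModule.map_injective_iff_localizedModuleMap_injective
    (AlgebraTensorModule.rTensor Γ(S, V) N germL)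
    (AlgebraTensorModule.rTensor Γ(S, V) P germL),
    IsLocalizedModule.map_lTensor]
  exact Module.Flat.lTensor_preserves_injective_linearMap N.subtype N.injective_subtype

omit [F.IsQuasicoherent] in
theorem main (hF : Coh.IsQCoh F) :
    FlatMod.IsFlatOver f F ↔
      ∀ (U : X.Opens) (V : S.Opens) (hUV : U ≤ f ⁻¹ᵁ V), IsAffineOpen U → IsAffineOpen V →
        @Module.Flat Γ(S, V) Γ(F, U) _ _ (modSec f F hUV) := by
  haveI : F.IsQuasicoherent := hF
  constructor
  · intro h U V hUV hU hV
    exact flat_of_stalk_flat f F hUV hU fun x hx => (flatOverAt_iff f F hV x (hUV hx)).mp (h x)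
  · intro h x
    obtain ⟨V, hV, hfxV, -⟩ := Opens.isBasis_iff_nbhd.mp S.isBasis_affineOpens
      (show f.base x ∈ (⊤ : S.Opens) from trivial)
    obtain ⟨U, hU, hxU, hUV⟩ := Opens.isBasis_iff_nbhd.mp X.isBasis_affineOpens
      (show x ∈ f ⁻¹ᵁ V from hfxV)
    exact (flatOverAt_iff f F hV x (hUV hxU)).mpr
      (stalk_flat_of_flat f F hUV hU x hxU (h U V hUV hU hV))

end Groth.Agent.Helper12.FlatAffine
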