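import Mathlib
import Groth.Agent.Lib.Helper12.EpiCard

set_option autoImplicit false
universe u

open Cardinal

namespace Groth.Agent.Helper12

theorem mk_fin_arrow_le {c : Cardinal.{u}} (hc : ℵ₀ ≤ c) (l : ℕ) (X : Type u) (hX : #X ≤ c) :
    #(Fin l → X) ≤ c := by
  rw [Cardinal.mk_arrow, Cardinal.mk_fin, Cardinal.lift_natCast, Cardinal.lift_uzero]
  calc #X ^ (l : Cardinal.{u}) ≤ c ^ (l : Cardinal.{u}) := Cardinal.power_le_power_right hX
    _ ≤ c := Cardinal.power_nat_le hc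

theorem mk_prod_le {c : Cardinal.{u}} (hc : ℵ₀ ≤ c) (X Y : Type u) (hX : #X ≤ c) (hY : #Y ≤ c) :
    #(X × Y) ≤ c := by
  rw [Cardinal.mk_prod, Cardinal.lift_id, Cardinal.lift_id]
  calc #X * #Y ≤ c * c := mul_le_mul' hX hY
    _ = c := Cardinal.mul_eq_self hc

/-- one step of the flat-closure construction. -/
theorem flat_step {A B : Type u} [CommRing A] [CommRing B] [Algebra A B] [Module.Flat A B]
    (E : Subalgebra A B) (hE : #E ≤ max #A ℵ₀) :
    ∃ E' : Subalgebra A B, E ≤ E' ∧ #E' ≤ max #A ℵ₀ ∧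
      ∀ (l : ℕ) (f : Fin l → A) (x : Fin l → B), (∀ i, x i ∈ E) → ∑ i, f i • x i = 0 →
        ∃ (k : ℕ) (a : Fin l → Fin k → A) (y : Fin k → B), (∀ j, y j ∈ E') ∧
          (∀ i, x i = ∑ j, a i j • y j) ∧ ∀ j, ∑ i, f i * a i j = 0 := by
  classical
  set κ : Cardinal.{u} := max #A ℵ₀ with hκdef
  have hκ : ℵ₀ ≤ κ := le_max_right _ _
  have hA : #A ≤ κ := le_max_left _ _
  let Rel : Type u := Σ l : ℕ, {p : (Fin l → A) × (Fin l → E) // ∑ i, p.1 i • ((p.2 i : E) : B) = 0}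
  have hRel : #Rel ≤ κ := by
    refine mk_sigma_nat_le hκ _ fun l => ?_
    refine (Cardinal.mk_subtype_le _).trans ?_
    exact mk_prod_le hκ _ _ (mk_fin_arrow_le hκ l A hA) (mk_fin_arrow_le hκ l E hE)
  have hflat : ∀ r : Rel, ∃ (k : ℕ) (a : Fin r.1 → Fin k → A) (y : Fin k → B),
      (∀ i, ((r.2.1.2 i : E) : B) = ∑ j, a i j • y j) ∧ ∀ j, ∑ i, r.2.1.1 i * a i j = 0 := fun r =>
    Module.Flat.iff_forall_isTrivialRelation.mp inferInstance (l := r.1) (f := r.2.1.1)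
      (x := fun i => ((r.2.1.2 i : E) : B)) r.2.2
  choose kk aa yy hyy haa using hflat
  let W : Set B := ⋃ r : Rel, Set.range (yy r)
  have hW : #W ≤ κ := by
    refine (Cardinal.mk_iUnion_le _).trans ?_
    calc #Rel * ⨆ r : Rel, #(Set.range (yy r)) ≤ κ * ℵ₀ := by
          refine mul_le_mul' hRel ?_
          refine ciSup_le' fun r => ?_
          exact (Set.finite_range (yy r)).lt_aleph0.le
      _ ≤ κ * κ := mul_le_mul' le_rfl hκ
      _ = κ := Cardinal.mul_eq_self hκ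
  refine ⟨Algebra.adjoin A ((E : Set B) ∪ W), ?_, ?_, ?_⟩
  · intro x hx
    exact Algebra.subset_adjoin (Or.inl hx)
  · refine (Algebra.cardinalMk_adjoin_le A _).trans ?_
    refine max_le (max_le hA ?_) hκ
    refine (Cardinal.mk_union_le _ _).trans ?_
    calc #(E : Set B) + #W ≤ κ + κ := add_le_add hE hW
      _ = κ := Cardinal.add_eq_self hκ
  · intro l f x hx hrel
    let r : Rel := ⟨l, ⟨(f, fun i => ⟨x i, hx i⟩), hrel⟩⟩
    refine ⟨kk r, aa r, yy r, fun j => ?_, hyy r, haa r⟩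
    exact Algebra.subset_adjoin (Or.inr (Set.mem_iUnion.mpr ⟨r, ⟨j, rfl⟩⟩))

/-- every small subalgebra of a flat algebra is contained in a small flat subalgebra. -/
theorem exists_flat_subalgebra {A B : Type u} [CommRing A] [CommRing B] [Algebra A B]
    [Module.Flat A B] (E : Subalgebra A B) (hE : #E ≤ max #A ℵ₀) :
    ∃ B' : Subalgebra A B, E ≤ B' ∧ Module.Flat A B' ∧ #B' ≤ max #A ℵ₀ := by
  classical
  set κ : Cardinal.{u} := max #A ℵ₀ with hκdef
  have hκ : ℵ₀ ≤ κ := le_max_right _ _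
  choose nxt hnxt1 hnxt2 hnxt3 using
    fun E : {E : Subalgebra A B // #E ≤ κ} => flat_step E.1 E.2
  let En : ℕ → {E : Subalgebra A B // #E ≤ κ} := fun n =>
    Nat.rec ⟨E, hE⟩ (fun _ prev => ⟨nxt prev, hnxt2 prev⟩) n
  have hmono : Monotone (fun n => (En n).1) :=
    monotone_nat_of_le_succ fun n => hnxt1 (En n)
  let B' : Subalgebra A B := ⨆ n, (En n).1
  have hmem : ∀ x : B, x ∈ B' ↔ ∃ n, x ∈ (En n).1 := fun x => by
    have h := Subalgebra.coe_iSup_of_directed (K := fun n => (En n).1) hmono.directed_le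
    rw [← SetLike.mem_coe, h, Set.mem_iUnion]
    rfl
  refine ⟨B', le_iSup (fun n => (En n).1) 0, ?_, ?_⟩
  · apply Module.Flat.of_forall_isTrivialRelation
    intro l f x hrel
    have hx : ∀ i, ∃ n, (x i : B) ∈ (En n).1 := fun i => (hmem _).mp (x i).2
    choose n hn using hx
    obtain ⟨N, hN⟩ : ∃ N, ∀ i, n i ≤ N :=
      ⟨Finset.univ.sup n, fun i => Finset.le_sup (Finset.mem_univ i)⟩
    have hxN : ∀ i, (x i : B) ∈ (En N).1 := fun i => hmono (hN i) (hn i)
    have hrelB : ∑ i, f i • (x i : B) = 0 := by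
      have := congrArg (B'.val) hrel
      simpa using this
    obtain ⟨k, a, y, hy, hxy, ha⟩ := hnxt3 (En N) l f (fun i => (x i : B)) hxN hrelB
    have hyB' : ∀ j, y j ∈ B' := fun j => (hmem _).mpr ⟨N + 1, hy j⟩
    refine ⟨k, a, fun j => ⟨y j, hyB' j⟩, fun i => ?_, ha⟩
    apply Subtype.ext
    have h2 : ((∑ j, a i j • (⟨y j, hyB' j⟩ : B') : B') : B) = ∑ j, a i j • y j := by
      have := map_sum (B'.val) (fun j => a i j • (⟨y j, hyB' j⟩ : B')) Finset.univ
      simpa using this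
    rw [h2]
    exact hxy i
  · let g : (Σ n, ((En n).1 : Type u)) → B' := fun p => ⟨p.2.1, (hmem _).mpr ⟨p.1, p.2.2⟩⟩
    have hg : Function.Surjective g := by
      rintro ⟨x, hx⟩
      obtain ⟨n, hn⟩ := (hmem x).mp hx
      exact ⟨⟨n, ⟨x, hn⟩⟩, rfl⟩
    refine (Cardinal.mk_le_of_surjective hg).trans ?_
    exact mk_sigma_nat_le hκ _ fun n => (En n).2

end Groth.Agent.Helper12
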