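import Mathlib
import Groth.Agent.Lib.Helper8.LocalCrit

/-!
# Flatness and exactness of a complex from exactness of its closed fibre (helper12)

Stacks 00ME / 00MH in the Noetherian local setting, without `Tor`.
-/

set_option autoImplicit false
set_option linter.style.haveILetI false
set_option linter.unusedSectionVars false

universe u

namespace Groth.Agent.Helper12.FlatComplex

open TensorProduct Function

section tensor

variable {S : Type*} [CommRing S] (I : Ideal S)

theorem one_tmul_eq_zero_iff {N : Type*} [AddCommGroup N] [Module S N] (n : N) :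
    (1 : S ⧸ I) ⊗ₜ[S] n = 0 ↔ n ∈ I • (⊤ : Submodule S N) := by
  rw [← (TensorProduct.quotTensorEquivQuotSMul N I).map_eq_zero_iff,
    TensorProduct.quotTensorEquivQuotSMul_mk_one_tmul, Submodule.Quotient.mk_eq_zero]

theorem exists_one_tmul {N : Type*} [AddCommGroup N] [Module S N] (z : (S ⧸ I) ⊗[S] N) :
    ∃ y : N, z = (1 : S ⧸ I) ⊗ₜ[S] y := by
  obtain ⟨y, hy⟩ :=
    Submodule.Quotient.mk_surjective _ (TensorProduct.quotTensorEquivQuotSMul N I z)
  refine ⟨y, ?_⟩
  rw [← TensorProduct.quotTensorEquivQuotSMul_symm_mk I y, hy, LinearEquiv.symm_apply_apply]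

theorem exists_sub_mem_of_exact_mod {M N P : Type*} [AddCommGroup M] [Module S M]
    [AddCommGroup N] [Module S N] [AddCommGroup P] [Module S P] (f : M →ₗ[S] N) (g : N →ₗ[S] P)
    (h : Function.Exact (f.lTensor (S ⧸ I)) (g.lTensor (S ⧸ I))) (x : N)
    (hx : g x ∈ I • (⊤ : Submodule S P)) : ∃ y : M, x - f y ∈ I • (⊤ : Submodule S N) := by
  have h1 : g.lTensor (S ⧸ I) ((1 : S ⧸ I) ⊗ₜ[S] x) = 0 := by
    rw [LinearMap.lTensor_tmul, one_tmul_eq_zero_iff]; exact hx
  obtain ⟨w, hw⟩ := (h _).mp h1
  obtain ⟨y, rfl⟩ := exists_one_tmul I w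
  refine ⟨y, ?_⟩
  rw [← one_tmul_eq_zero_iff, TensorProduct.tmul_sub, ← hw, LinearMap.lTensor_tmul, sub_self]

theorem mkQ_mem_smul_top {N : Type*} [AddCommGroup N] [Module S N] (P : Submodule S N) {z : N}
    (hz : z ∈ I • (⊤ : Submodule S N)) : P.mkQ z ∈ I • (⊤ : Submodule S (N ⧸ P)) := by
  refine Submodule.smul_induction_on hz (fun a ha x _ => ?_) (fun x y hx hy => ?_)
  · rw [map_smul]; exact Submodule.smul_mem_smul ha Submodule.mem_top
  · rw [map_add]; exact add_mem hx hy

end tensor

section mu

variable {R : Type*} [CommRing R] (m : Ideal R)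

/-- The multiplication map `m ⊗ X → X`. -/
noncomputable def mu (X : Type*) [AddCommGroup X] [Module R X] : (m ⊗[R] X) →ₗ[R] X :=
  (TensorProduct.lid R X).toLinearMap ∘ₗ (m.subtype.rTensor X)

theorem mu_tmul {X : Type*} [AddCommGroup X] [Module R X] (a : m) (x : X) :
    mu m X (a ⊗ₜ[R] x) = (a : R) • x := by
  simp [mu]

theorem mu_natural {X Y : Type*} [AddCommGroup X] [Module R X] [AddCommGroup Y] [Module R Y]
    (f : X →ₗ[R] Y) (w : m ⊗[R] X) : mu m Y (f.lTensor m w) = f (mu m X w) := by
  induction w using TensorProduct.induction_on with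
  | zero => simp
  | tmul a x => rw [LinearMap.lTensor_tmul, mu_tmul, mu_tmul, map_smul]
  | add x y hx hy => rw [map_add, map_add, hx, hy, map_add, map_add]

theorem mu_mem {X : Type*} [AddCommGroup X] [Module R X] (w : m ⊗[R] X) :
    mu m X w ∈ m • (⊤ : Submodule R X) := by
  induction w using TensorProduct.induction_on with
  | zero => rw [map_zero]; exact zero_mem _
  | tmul a x => rw [mu_tmul]; exact Submodule.smul_mem_smul a.2 Submodule.mem_top
  | add x y hx hy => rw [map_add]; exact add_mem hx hy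

theorem exists_mu_eq {X : Type*} [AddCommGroup X] [Module R X] {x : X}
    (hx : x ∈ m • (⊤ : Submodule R X)) : ∃ w, mu m X w = x := by
  refine Submodule.smul_induction_on hx
    (fun a ha y _ => ⟨(⟨a, ha⟩ : m) ⊗ₜ[R] y, mu_tmul m _ _⟩) ?_
  rintro _ _ ⟨w₁, rfl⟩ ⟨w₂, rfl⟩
  exact ⟨w₁ + w₂, map_add _ _ _⟩

theorem mu_injective_of_flat (X : Type*) [AddCommGroup X] [Module R X] [Module.Flat R X] :
    Function.Injective (mu m X) := by
  intro a b h
  have h' : TensorProduct.lid R X (m.subtype.rTensor X a) =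
      TensorProduct.lid R X (m.subtype.rTensor X b) := h
  exact Module.Flat.rTensor_preserves_injective_linearMap m.subtype Subtype.val_injective
    ((TensorProduct.lid R X).injective h')

theorem rTensor_injective_of_mu (X : Type*) [AddCommGroup X] [Module R X]
    (h : ∀ z : m ⊗[R] X, mu m X z = 0 → z = 0) : Function.Injective (m.subtype.rTensor X) := by
  rw [injective_iff_map_eq_zero]
  intro z hz
  apply h
  show TensorProduct.lid R X (m.subtype.rTensor X z) = 0
  rw [hz, map_zero]

theorem mem_smul_top_iff {S X : Type*} [CommRing S] [Algebra R S] [AddCommGroup X]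
    [Module R X] [Module S X] [IsScalarTower R S X] (x : X) :
    x ∈ (m.map (algebraMap R S)) • (⊤ : Submodule S X) ↔ x ∈ m • (⊤ : Submodule R X) := by
  have h := Ideal.smul_restrictScalars m (⊤ : Submodule S X)
  rw [Submodule.restrictScalars_top] at h
  constructor
  · intro hx
    rw [← h]; exact hx
  · intro hx
    rw [← h] at hx; exact hx

end mu

section lemmaL

variable {R S : Type u} [CommRing R] [CommRing S] [IsLocalRing R] [IsLocalRing S]
  [IsNoetherianRing R] [IsNoetherianRing S] [Algebra R S] [IsLocalHom (algebraMap R S)]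

/-- Stacks 00ME, Noetherian case. -/
theorem lemmaL {M N Q : Type u} [AddCommGroup M] [AddCommGroup N] [AddCommGroup Q]
    [Module S M] [Module S N] [Module S Q] [Module R M] [Module R N] [Module R Q]
    [IsScalarTower R S M] [IsScalarTower R S N] [IsScalarTower R S Q]
    [Module.Finite S M] [Module.Finite S N] [Module.Flat R N]
    (u : M →ₗ[S] N) (π : N →ₗ[S] Q) (hπ : Function.Surjective π)
    (hex : ∀ n, π n = 0 ↔ n ∈ LinearMap.range u)
    (hu : ∀ x, u x ∈ ((IsLocalRing.maximalIdeal R).map (algebraMap R S)) • (⊤ : Submodule S N) →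
      x ∈ ((IsLocalRing.maximalIdeal R).map (algebraMap R S)) • (⊤ : Submodule S M)) :
    Function.Injective u ∧ Module.Flat R Q := by
  set m := IsLocalRing.maximalIdeal R with hm
  set I := m.map (algebraMap R S) with hI
  have hIS : I ≤ Ideal.jacobson ⊥ := by
    rw [IsLocalRing.jacobson_eq_maximalIdeal ⊥ bot_ne_top]
    exact IsLocalRing.map_maximalIdeal_le (algebraMap R S)
  haveI : Module.Finite S Q := Module.Finite.of_surjective π hπ
  let uR : M →ₗ[R] N := u.restrictScalars R
  let πR : N →ₗ[R] Q := π.restrictScalars R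
  have hπR : Function.Surjective πR := hπ
  have hπu : πR ∘ₗ uR = 0 := by
    ext x
    exact (hex (u x)).mpr ⟨x, rfl⟩
  have hQ : Module.Flat R Q := by
    have h1 : Function.Injective (m.subtype.rTensor Q) := by
      apply rTensor_injective_of_mu
      intro z hz
      obtain ⟨z', rfl⟩ := LinearMap.lTensor_surjective m hπR z
      rw [mu_natural] at hz
      have hz' : π (mu m N z') = 0 := hz
      obtain ⟨x, hx⟩ := (hex _).mp hz'
      have hx1 : u x ∈ I • (⊤ : Submodule S N) := by
        rw [hx, mem_smul_top_iff]; exact mu_mem m z'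
      have hx2 : x ∈ m • (⊤ : Submodule R M) := (mem_smul_top_iff m x).mp (hu x hx1)
      obtain ⟨w, rfl⟩ := exists_mu_eq m hx2
      have h3 : uR.lTensor m w = z' := by
        apply mu_injective_of_flat m N
        rw [mu_natural]; exact hx
      rw [← h3, ← LinearMap.comp_apply, ← LinearMap.lTensor_comp, hπu, LinearMap.lTensor_zero,
        LinearMap.zero_apply]
    have h2 : Module.Flat (R ⧸ m) ((R ⧸ m) ⊗[R] Q) := by
      letI : Field (R ⧸ m) := Ideal.Quotient.field m
      infer_instance
    exact Groth.Agent.Helper8.LocalCrit.flat_of_rTensor_injective_of_flat_quotient (S := S) m hIS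
      h1 h2
  refine ⟨?_, hQ⟩
  haveI := hQ
  rw [← LinearMap.ker_eq_bot]
  let u' : M →ₗ[R] LinearMap.range uR := uR.rangeRestrict
  have hu' : Function.Surjective u' := uR.surjective_rangeRestrict
  have hcomp : (LinearMap.range uR).subtype ∘ₗ u' = uR := LinearMap.ext fun x => rfl
  have hexR : Function.Exact (LinearMap.range uR).subtype πR := by
    intro n
    constructor
    · intro hn
      obtain ⟨x, hx⟩ := (hex n).mp hn
      exact ⟨⟨n, ⟨x, hx⟩⟩, rfl⟩
    · rintro ⟨⟨y, x, hx⟩, rfl⟩
      exact (hex _).mpr ⟨x, hx⟩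
  have hinj : Function.Injective ((LinearMap.range uR).subtype.lTensor m) :=
    Groth.Agent.Helper8.LocalCrit.lTensor_injective_of_flat_coker hexR hπR
      (Submodule.injective_subtype _) m
  have key : ∀ k' : LinearMap.ker u', k' ∈ m • (⊤ : Submodule R (LinearMap.ker u')) →
      (k' : M) ∈ I • LinearMap.ker u := by
    intro k' hk'
    refine Submodule.smul_induction_on hk' (fun a ha y _ => ?_) (fun x y hx hy => ?_)
    · have hy : (y : M) ∈ LinearMap.ker u := by
        have h5 : u' y = 0 := y.2
        have h6 := congrArg Subtype.val h5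
        exact h6
      rw [Submodule.coe_smul, ← algebraMap_smul S a (y : M)]
      exact Submodule.smul_mem_smul (Ideal.mem_map_of_mem _ ha) hy
    · rw [Submodule.coe_add]; exact add_mem hx hy
  have hK : LinearMap.ker u ≤ I • LinearMap.ker u := by
    intro k hk
    have hk0 : u k = 0 := hk
    have hk1 : k ∈ m • (⊤ : Submodule R M) := by
      rw [← mem_smul_top_iff (S := S)]; apply hu; rw [hk0]; exact zero_mem _
    obtain ⟨w, rfl⟩ := exists_mu_eq m hk1
    have h4 : u'.lTensor m w = 0 := by
      apply hinj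
      rw [map_zero, ← LinearMap.comp_apply, ← LinearMap.lTensor_comp, hcomp]
      apply mu_injective_of_flat m N
      rw [mu_natural, map_zero]; exact hk0
    obtain ⟨w', rfl⟩ := (lTensor_exact m (LinearMap.exact_subtype_ker_map u') hu' w).mp h4
    rw [mu_natural]
    exact key _ (mu_mem m w')
  have hfg : (LinearMap.ker u).FG := IsNoetherian.noetherian _
  exact Submodule.eq_bot_of_le_smul_of_le_jacobson_bot I _ hfg hK hIS

/-- Flatness over `R` of an `S`-module, via restriction of scalars (`Module.compHom`). -/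
def FlatVia (R S : Type u) [CommRing R] [CommRing S] [Algebra R S] (M : Type u)
    [AddCommGroup M] [Module S M] : Prop :=
  @Module.Flat R M _ _ (Module.compHom M (algebraMap R S))

theorem lemmaL' {M N Q : Type u} [AddCommGroup M] [AddCommGroup N] [AddCommGroup Q]
    [Module S M] [Module S N] [Module S Q] [Module.Finite S M] [Module.Finite S N]
    (hN : FlatVia R S N) (u : M →ₗ[S] N) (π : N →ₗ[S] Q) (hπ : Function.Surjective π)
    (hex : ∀ n, π n = 0 ↔ n ∈ LinearMap.range u)
    (hu : ∀ x, u x ∈ ((IsLocalRing.maximalIdeal R).map (algebraMap R S)) • (⊤ : Submodule S N) →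
      x ∈ ((IsLocalRing.maximalIdeal R).map (algebraMap R S)) • (⊤ : Submodule S M)) :
    Function.Injective u ∧ FlatVia R S Q := by
  letI : Module R M := Module.compHom M (algebraMap R S)
  letI : Module R N := Module.compHom N (algebraMap R S)
  letI : Module R Q := Module.compHom Q (algebraMap R S)
  haveI : IsScalarTower R S M := IsScalarTower.of_algebraMap_smul fun _ _ => rfl
  haveI : IsScalarTower R S N := IsScalarTower.of_algebraMap_smul fun _ _ => rfl
  haveI : IsScalarTower R S Q := IsScalarTower.of_algebraMap_smul fun _ _ => rfl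
  haveI : Module.Flat R N := hN
  exact lemmaL u π hπ hex hu

/-- Module-level version of Stacks 00MH (Noetherian local case). -/
theorem main_modules (X : ℕ → Type u) [∀ j, AddCommGroup (X j)] [∀ j, Module S (X j)]
    [∀ j, Module.Finite S (X j)] (d : ∀ j, X (j + 1) →ₗ[S] X j)
    (hd : ∀ j x, d j (d (j + 1) x) = 0) (e : ℕ)
    (hzero : ∀ j, e < j → Subsingleton (X j)) (hflat : ∀ j, FlatVia R S (X j))
    (hex : ∀ j, j + 1 ≤ e → Function.Exact
      ((d (j + 1)).lTensor (S ⧸ (IsLocalRing.maximalIdeal R).map (algebraMap R S)))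
      ((d j).lTensor (S ⧸ (IsLocalRing.maximalIdeal R).map (algebraMap R S)))) :
    (∀ j, j + 1 ≤ e → ∀ x, d j x = 0 → ∃ y, d (j + 1) y = x) ∧
      FlatVia R S (X 0 ⧸ LinearMap.range (d 0)) := by
  have base : ∀ j, e ≤ j → FlatVia R S (X j ⧸ LinearMap.range (d j)) := by
    intro j hj
    haveI : Subsingleton (X (j + 1)) := hzero (j + 1) (by omega)
    refine (lemmaL' (hflat j) (d j) (LinearMap.range (d j)).mkQ (Submodule.mkQ_surjective _)
      ?_ ?_).2
    · intro n; rw [Submodule.mkQ_apply, Submodule.Quotient.mk_eq_zero]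
    · intro x _; rw [Subsingleton.elim x 0]; exact zero_mem _
  have step : ∀ j, j + 1 ≤ e →
      (∀ x, d j x = 0 → ∃ y, d (j + 1) y = x) ∧ FlatVia R S (X j ⧸ LinearMap.range (d j)) := by
    intro j hj
    have hle : LinearMap.range (d (j + 1)) ≤ LinearMap.ker (d j) := by
      rintro _ ⟨y, rfl⟩; exact hd j y
    let u : (X (j + 1) ⧸ LinearMap.range (d (j + 1))) →ₗ[S] X j :=
      (LinearMap.range (d (j + 1))).liftQ (d j) hle
    have hu_mk : ∀ x, u (Submodule.Quotient.mk x) = d j x := fun x => rfl
    have hrange : LinearMap.range u = LinearMap.range (d j) := Submodule.range_liftQ _ _ _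
    have hex' : ∀ n, (LinearMap.range (d j)).mkQ n = 0 ↔ n ∈ LinearMap.range u := by
      intro n
      rw [Submodule.mkQ_apply, Submodule.Quotient.mk_eq_zero, hrange]
    have hu' : ∀ xb, u xb ∈ ((IsLocalRing.maximalIdeal R).map (algebraMap R S)) •
        (⊤ : Submodule S (X j)) → xb ∈ ((IsLocalRing.maximalIdeal R).map (algebraMap R S)) •
        (⊤ : Submodule S (X (j + 1) ⧸ LinearMap.range (d (j + 1)))) := by
      intro xb hxb
      obtain ⟨x, rfl⟩ := Submodule.Quotient.mk_surjective _ xb
      rw [hu_mk] at hxb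
      obtain ⟨y, hy⟩ := exists_sub_mem_of_exact_mod _ (d (j + 1)) (d j) (hex j hj) x hxb
      have h1 : (Submodule.Quotient.mk x : X (j + 1) ⧸ LinearMap.range (d (j + 1))) =
          Submodule.Quotient.mk (x - d (j + 1) y) :=
        (Submodule.Quotient.eq _).mpr (by rw [sub_sub_cancel]; exact ⟨y, rfl⟩)
      rw [h1]
      exact mkQ_mem_smul_top _ _ hy
    obtain ⟨hinj, hQ⟩ := lemmaL' (M := X (j + 1) ⧸ LinearMap.range (d (j + 1))) (hflat j) u
      (LinearMap.range (d j)).mkQ (Submodule.mkQ_surjective _) hex' hu'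
    refine ⟨?_, hQ⟩
    intro x hx
    have h0 : u (Submodule.Quotient.mk x) = u 0 := by rw [hu_mk, hx, map_zero]
    have h1 := hinj h0
    rw [Submodule.Quotient.mk_eq_zero] at h1
    exact h1
  refine ⟨fun j hj => (step j hj).1, ?_⟩
  by_cases he : 1 ≤ e
  · exact (step 0 he).2
  · exact base 0 (by omega)

end lemmaL

section glue

open CategoryTheory

variable {R S : Type u} [CommRing R] [CommRing S] [IsLocalRing R] [IsLocalRing S]
  [IsNoetherianRing R] [IsNoetherianRing S] [Algebra R S] [IsLocalHom (algebraMap R S)]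

theorem main (C : ChainComplex (ModuleCat.{u} S) ℕ) (e : ℕ)
    (hzero : ∀ j, e < j → Limits.IsZero (C.X j)) (hfin : ∀ j, Module.Finite S (C.X j))
    (hflat : ∀ j, Module.Flat R ((ModuleCat.restrictScalars (algebraMap R S)).obj (C.X j)))
    (hex : ∀ j, 1 ≤ j → j ≤ e →
      (((MonoidalCategory.tensorLeft
          (ModuleCat.of S (S ⧸ (IsLocalRing.maximalIdeal R).map (algebraMap R S)))).mapHomologicalComplex
          (ComplexShape.down ℕ)).obj C).ExactAt j) :
    (∀ j, 1 ≤ j → j ≤ e → C.ExactAt j) ∧
      Module.Flat R ((ModuleCat.restrictScalars (algebraMap R S)).obj (C.homology 0)) := by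
  have hmain := main_modules (R := R) (S := S) (fun j => C.X j) (fun j => (C.d (j + 1) j).hom)
    ?_ e ?_ ?_ ?_
  · obtain ⟨h1, h2⟩ := hmain
    refine ⟨?_, ?_⟩
    · intro j hj1 hje
      obtain ⟨j', rfl⟩ : ∃ j', j = j' + 1 := ⟨j - 1, by omega⟩
      rw [HomologicalComplex.exactAt_iff' C (j' + 2) (j' + 1) j' (by simp) (by simp),
        ShortComplex.moduleCat_exact_iff]
      intro x hx
      exact h1 j' hje x hx
    · let iso0 : C.homology 0 ≅ ModuleCat.of S (C.X 0 ⧸ LinearMap.range (C.d 1 0).hom) :=
        ChainComplex.isoHomologyι₀ C ≪≫ C.opcyclesIsoSc' 1 0 0 (by simp) (by simp) ≪≫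
          (C.sc' 1 0 0).moduleCatOpcyclesIso
      let eR := ((ModuleCat.restrictScalars (algebraMap R S)).mapIso iso0).toLinearEquiv
      haveI : Module.Flat R ((ModuleCat.restrictScalars (algebraMap R S)).obj
          (ModuleCat.of S (C.X 0 ⧸ LinearMap.range (C.d 1 0).hom))) := h2
      exact Module.Flat.of_linearEquiv eR
  · intro j x
    have h : (C.d (j + 2) (j + 1) ≫ C.d (j + 1) j).hom x = 0 := by
      rw [C.d_comp_d]; rfl
    exact h
  · exact fun j hj => ModuleCat.subsingleton_of_isZero (hzero j hj)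
  · exact fun j => hflat j
  · intro j hj
    have h := hex (j + 1) (by omega) hj
    rw [HomologicalComplex.exactAt_iff' _ (j + 2) (j + 1) j (by simp) (by simp),
      ShortComplex.ShortExact.moduleCat_exact_iff_function_exact] at h
    exact h

end glue

end Groth.Agent.Helper12.FlatComplex
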