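import Mathlib

set_option autoImplicit false
universe u

namespace Groth.Agent.Helper12.FlatIdeals

variable {A : Type u} [CommRing A]

/-- Lemma A. -/
theorem ann_dichotomy (h2 : ∀ I : Ideal A, I.FG → Module.Flat A I) (a y : A) (hya : y * a = 0) :
    ∃ ε : A, (1 - ε) * a = 0 ∧ y * ε = 0 := by
  classical
  have hfg : (Ideal.span ({a} : Set A)).FG := ⟨{a}, by simp⟩
  haveI := h2 _ hfg
  have ha : a ∈ Ideal.span ({a} : Set A) := Ideal.subset_span rfl
  have hrel : ∑ i : Fin 1, (fun _ : Fin 1 => y) i •
      (fun _ : Fin 1 => (⟨a, ha⟩ : Ideal.span ({a} : Set A))) i = 0 := by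
    simp only [Fin.sum_univ_one]
    ext
    simp [hya]
  obtain ⟨k, c, z, hz, hc⟩ := Module.Flat.isTrivialRelation_of_sum_smul_eq_zero hrel
  simp only [Fin.sum_univ_one] at hc
  have hw : ∀ j, ∃ w : A, w * a = (z j : A) := fun j =>
    Ideal.mem_span_singleton'.mp (z j).2
  choose w hw using hw
  refine ⟨∑ j, c 0 j * w j, ?_, ?_⟩
  · have h1 := congrArg (fun t : Ideal.span ({a} : Set A) => (t : A)) (hz 0)
    simp only [Submodule.coe_sum, Submodule.coe_smul, smul_eq_mul] at h1
    have : (∑ j, c 0 j * w j) * a = a := by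
      rw [Finset.sum_mul]
      conv_rhs => rw [h1]
      refine Finset.sum_congr rfl fun j _ => ?_
      rw [mul_assoc, hw j]
    rw [sub_mul, one_mul, this, sub_self]
  · rw [Finset.mul_sum]
    refine Finset.sum_eq_zero fun j _ => ?_
    rw [← mul_assoc, hc j, zero_mul]

/-- Lemma B. -/
theorem pair_rel (h2 : ∀ I : Ideal A, I.FG → Module.Flat A I) (a b : A) :
    ∃ α β γ : A, (1 - α) * a = β * b ∧ b * α = a * γ := by
  classical
  have hfg : (Ideal.span ({a, b} : Set A)).FG := ⟨{a, b}, by simp⟩
  haveI := h2 _ hfg
  have ha : a ∈ Ideal.span ({a, b} : Set A) := Ideal.subset_span (by simp)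
  have hb : b ∈ Ideal.span ({a, b} : Set A) := Ideal.subset_span (by simp)
  have hrel : ∑ i : Fin 2, (![b, -a] : Fin 2 → A) i •
      (![⟨a, ha⟩, ⟨b, hb⟩] : Fin 2 → Ideal.span ({a, b} : Set A)) i = 0 := by
    simp only [Fin.sum_univ_two, Matrix.cons_val_zero, Matrix.cons_val_one]
    ext
    simp only [Submodule.coe_add, Submodule.coe_smul, smul_eq_mul, Submodule.coe_zero]
    ring
  obtain ⟨k, c, z, hz, hc⟩ := Module.Flat.isTrivialRelation_of_sum_smul_eq_zero hrel
  simp only [Fin.sum_univ_two, Matrix.cons_val_zero, Matrix.cons_val_one] at hc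
  have huv : ∀ j, ∃ u v : A, u * a + v * b = (z j : A) := fun j =>
    Ideal.mem_span_pair.mp (z j).2
  choose u v huv using huv
  refine ⟨∑ j, c 0 j * u j, ∑ j, c 0 j * v j, ∑ j, c 1 j * u j, ?_, ?_⟩
  · have h1 := congrArg (fun t : Ideal.span ({a, b} : Set A) => (t : A)) (hz 0)
    simp only [Submodule.coe_sum, Submodule.coe_smul, smul_eq_mul, Matrix.cons_val_zero] at h1
    have : a = (∑ j, c 0 j * u j) * a + (∑ j, c 0 j * v j) * b := by
      rw [Finset.sum_mul, Finset.sum_mul, ← Finset.sum_add_distrib]
      conv_lhs => rw [h1]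
      refine Finset.sum_congr rfl fun j _ => ?_
      rw [← huv j]; ring
    linear_combination this
  · rw [Finset.mul_sum, Finset.mul_sum]
    refine Finset.sum_congr rfl fun j _ => ?_
    have := hc j
    have h3 : b * c 0 j = a * c 1 j := by
      have h4 : b * c 0 j + -a * c 1 j = 0 := this
      linear_combination h4
    rw [← mul_assoc, h3, mul_assoc]

theorem loc_valuation (h2 : ∀ I : Ideal A, I.FG → Module.Flat A I) (p : Ideal A) [p.IsPrime] :
    ∃ _ : IsDomain (Localization.AtPrime p), ValuationRing (Localization.AtPrime p) := by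
  have hzero : ∀ (a : A) (s : p.primeCompl),
      algebraMap A (Localization.AtPrime p) a = 0 → IsLocalization.mk' (Localization.AtPrime p) a s = 0 := by
    intro a s h
    have h1 := IsLocalization.mk'_spec (Localization.AtPrime p) a s
    rw [h] at h1
    exact (IsUnit.mul_left_eq_zero (IsLocalization.map_units _ s)).mp h1
  have hnzd : NoZeroDivisors (Localization.AtPrime p) := by
    refine ⟨fun {x y} hxy => ?_⟩
    obtain ⟨a, s, rfl⟩ := IsLocalization.exists_mk'_eq p.primeCompl x
    obtain ⟨b, t, rfl⟩ := IsLocalization.exists_mk'_eq p.primeCompl y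
    rw [← IsLocalization.mk'_mul, IsLocalization.mk'_eq_zero_iff] at hxy
    obtain ⟨m, hm⟩ := hxy
    obtain ⟨ε, h1, h3⟩ := ann_dichotomy h2 a ((m : A) * b) (by rw [← hm]; ring)
    rcases IsLocalRing.isUnit_or_isUnit_one_sub_self
      (algebraMap A (Localization.AtPrime p) ε) with hu | hu
    · right
      apply hzero
      have h4 := congrArg (algebraMap A (Localization.AtPrime p)) h3
      rw [map_mul, map_mul, map_zero] at h4
      have h5 := (IsUnit.mul_left_eq_zero hu).mp h4
      exact (IsUnit.mul_right_eq_zero (IsLocalization.map_units _ m)).mp h5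
    · left
      apply hzero
      have h4 := congrArg (algebraMap A (Localization.AtPrime p)) h1
      rw [map_mul, map_sub, map_one, map_zero] at h4
      exact (IsUnit.mul_right_eq_zero hu).mp h4
  have hdom : IsDomain (Localization.AtPrime p) := NoZeroDivisors.to_isDomain _
  refine ⟨hdom, ?_⟩
  rw [ValuationRing.iff_dvd_total]
  refine ⟨fun x y => ?_⟩
  obtain ⟨a, s, rfl⟩ := IsLocalization.exists_mk'_eq p.primeCompl x
  obtain ⟨b, t, rfl⟩ := IsLocalization.exists_mk'_eq p.primeCompl y
  have hkey : algebraMap A (Localization.AtPrime p) a ∣ algebraMap A (Localization.AtPrime p) b ∨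
      algebraMap A (Localization.AtPrime p) b ∣ algebraMap A (Localization.AtPrime p) a := by
    obtain ⟨α, β, γ, h1, h3⟩ := pair_rel h2 a b
    have h1' := congrArg (algebraMap A (Localization.AtPrime p)) h1
    have h3' := congrArg (algebraMap A (Localization.AtPrime p)) h3
    simp only [map_mul, map_sub, map_one] at h1' h3'
    rcases IsLocalRing.isUnit_or_isUnit_one_sub_self
      (algebraMap A (Localization.AtPrime p) α) with hu | hu
    · left
      obtain ⟨αi, hαi⟩ := hu.exists_right_inv
      refine ⟨algebraMap A _ γ * αi, ?_⟩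
      calc algebraMap A (Localization.AtPrime p) b
          = algebraMap A _ b * (algebraMap A _ α * αi) := by rw [hαi, mul_one]
        _ = (algebraMap A _ b * algebraMap A _ α) * αi := by ring
        _ = _ := by rw [h3']; ring
    · right
      obtain ⟨ui, hui⟩ := hu.exists_left_inv
      refine ⟨ui * algebraMap A _ β, ?_⟩
      calc algebraMap A (Localization.AtPrime p) a
          = (ui * (1 - algebraMap A _ α)) * algebraMap A _ a := by rw [hui, one_mul]
        _ = ui * ((1 - algebraMap A _ α) * algebraMap A _ a) := by ring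
        _ = _ := by rw [h1']; ring
  have hs := IsLocalization.mk'_spec (Localization.AtPrime p) a s
  have ht := IsLocalization.mk'_spec (Localization.AtPrime p) b t
  have hus : IsUnit (algebraMap A (Localization.AtPrime p) s) := IsLocalization.map_units _ s
  have hut : IsUnit (algebraMap A (Localization.AtPrime p) t) := IsLocalization.map_units _ t
  rw [← hs, ← ht] at hkey
  rcases hkey with h | h
  · left
    exact (hus.mul_right_dvd).mp ((hut.dvd_mul_right).mp h)
  · right
    exact (hut.mul_right_dvd).mp ((hus.dvd_mul_right).mp h)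

theorem sub_flat
    (h4 : ∀ (p : Ideal A) [p.IsPrime], ∃ _ : IsDomain (Localization.AtPrime p),
      ValuationRing (Localization.AtPrime p))
    (M : Type u) [AddCommGroup M] [Module A M] [Module.Flat A M] (N : Submodule A M) :
    Module.Flat A N := by
  apply Module.flat_of_localized_maximal
  intro P hP
  obtain ⟨hdom, hval⟩ := h4 P
  rw [← Module.flat_iff_of_isLocalization (Localization.AtPrime P) P.primeCompl]
  rw [Module.Flat.flat_iff_torsion_eq_bot_of_isBezout]
  rw [eq_bot_iff]
  rintro x ⟨⟨r, hr⟩, hrx⟩
  have hrx' : r • x = 0 := hrx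
  have hinj : Function.Injective (LocalizedModule.map P.primeCompl N.subtype) :=
    LocalizedModule.map_injective _ _ N.injective_subtype
  have h0 : LocalizedModule.map P.primeCompl N.subtype x = 0 := by
    have h1 : r • LocalizedModule.map P.primeCompl N.subtype x = 0 := by
      rw [← map_smul, hrx', map_zero]
    exact (Module.Flat.isSMulRegular_of_nonZeroDivisors hr)
      (by simpa using h1)
  rw [Submodule.mem_bot]
  exact hinj (by rw [h0, map_zero])

theorem tfae (A : Type u) [CommRing A] :
    List.TFAE [∀ I : Ideal A, Module.Flat A I,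
      ∀ I : Ideal A, I.FG → Module.Flat A I,
      ∀ (M : Type u) [AddCommGroup M] [Module A M], Module.Flat A M →
        ∀ N : Submodule A M, Module.Flat A N,
      ∀ (p : Ideal A) [p.IsPrime], ∃ _ : IsDomain (Localization.AtPrime p),
        ValuationRing (Localization.AtPrime p)] := by
  tfae_have 1 → 2 := fun h I _ => h I
  tfae_have 2 → 4 := fun h p _ => loc_valuation h p
  tfae_have 4 → 3 := fun h M _ _ hM N => by
    haveI := hM
    exact sub_flat h M N
  tfae_have 3 → 1 := fun h I => h A inferInstance I
  tfae_finish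

end Groth.Agent.Helper12.FlatIdeals
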