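import Mathlib
import Groth.Prelude.Def_Coh
import Groth.Prelude.Def_FlatMod2
import Groth.Agent.Lead.QCoh8
import Groth.Agent.Lib.Helper12.FlatAffine

/-!
# Flatness over a base of the direct image along an affine morphism
-/

set_option autoImplicit false
set_option linter.style.haveILetI false
universe u
open CategoryTheory CategoryTheory.Limits AlgebraicGeometry Opposite TopologicalSpace
open Groth.Agent.Lead.QCoh Groth.Agent.Helper12.FlatAffine

namespace Groth.Agent.Helper12.FlatPush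

variable {X Y S : Scheme.{u}} (f : X ⟶ Y) (q : Y ⟶ S) (F : X.Modules)

theorem modSec_eq (W : Y.Opens) (V : S.Opens) (hWV : W ≤ q ⁻¹ᵁ V)
    (hUV : f ⁻¹ᵁ W ≤ (f ≫ q) ⁻¹ᵁ V) :
    modSec q ((Scheme.Modules.pushforward f).obj F) hWV = modSec (f ≫ q) F hUV := by
  refine Module.ext' _ _ fun a m => ?_
  show (q.appLE V W hWV a) • (show Γ((Scheme.Modules.pushforward f).obj F, W) from m) =
    ((f ≫ q).appLE V (f ⁻¹ᵁ W) hUV a) • (show Γ(F, f ⁻¹ᵁ W) from m)
  have h0 : (f ≫ q).appLE V (f ⁻¹ᵁ W) hUV = q.appLE V W hWV ≫ f.app W := by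
    rw [← Scheme.Hom.appLE_eq_app f, Scheme.Hom.appLE_comp_appLE]
  have h1 : (f ≫ q).appLE V (f ⁻¹ᵁ W) hUV a = f.app W (q.appLE V W hWV a) := congr($h0 a)
  rw [h1]
  rfl

theorem main [IsAffineHom f] (hF : Coh.IsQCoh F) :
    FlatMod.IsFlatOver (f ≫ q) F ↔ FlatMod.IsFlatOver q ((Coh.push f).obj F) := by
  haveI : F.IsQuasicoherent := hF
  have hG : ((Scheme.Modules.pushforward f).obj F).IsQuasicoherent :=
    isQuasicoherent_pushforward f F
  have hpre : ∀ (W : Y.Opens) (V : S.Opens), W ≤ q ⁻¹ᵁ V → f ⁻¹ᵁ W ≤ (f ≫ q) ⁻¹ᵁ V :=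
    fun W V hWV x hx => hWV hx
  constructor
  · intro h
    refine (FlatAffine.main q ((Scheme.Modules.pushforward f).obj F) hG).mpr ?_
    intro W V hWV hW hV
    rw [modSec_eq f q F W V hWV (hpre W V hWV)]
    exact (FlatAffine.main (f ≫ q) F hF).mp h (f ⁻¹ᵁ W) V (hpre W V hWV) (hW.preimage f) hV
  · intro h x
    have h' := (FlatAffine.main q ((Scheme.Modules.pushforward f).obj F) hG).mp h
    obtain ⟨V, hV, hxV, -⟩ := Opens.isBasis_iff_nbhd.mp S.isBasis_affineOpens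
      (show (f ≫ q).base x ∈ (⊤ : S.Opens) from trivial)
    obtain ⟨W, hW, hxW, hWV⟩ := Opens.isBasis_iff_nbhd.mp Y.isBasis_affineOpens
      (show f.base x ∈ q ⁻¹ᵁ V from hxV)
    have hUV := hpre W V hWV
    have hU : IsAffineOpen (f ⁻¹ᵁ W) := hW.preimage f
    have h2 := h' W V hWV hW hV
    rw [modSec_eq f q F W V hWV hUV] at h2
    exact (flatOverAt_iff (f ≫ q) F hV x (hUV hxW)).mpr
      (stalk_flat_of_flat (f ≫ q) F hUV hU x hxW h2)

end Groth.Agent.Helper12.FlatPush
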