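import Mathlib

set_option autoImplicit false
universe u

namespace Groth.Agent.Helper12

open PrimeSpectrum Module

attribute [local instance] Module.free_of_flat_of_isLocalRing

section

variable {R : Type u} [CommRing R] {M : Type u} [AddCommGroup M] [Module R M]
  {N : Type u} [AddCommGroup N] [Module R N]

theorem surj_at_of_notMem {φ : N →ₗ[R] M} {a : R}
    (h : Module.support R (M ⧸ LinearMap.range φ) ⊆ zeroLocus {a}) (q : PrimeSpectrum R)
    (hq : a ∉ q.asIdeal) :
    Function.Surjective (LocalizedModule.map q.asIdeal.primeCompl φ) := by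
  rw [φ.localizedMap_surjective_iff_subsingleton_localized_coker, ← Module.notMem_support_iff]
  intro hmem
  have := h hmem
  rw [mem_zeroLocus, Set.singleton_subset_iff] at this
  exact hq this

theorem surj_away_of_dvd {φ : N →ₗ[R] M} {a b : R}
    (h : Module.support R (M ⧸ LinearMap.range φ) ⊆ zeroLocus {a}) (hab : a ∣ b) :
    Function.Surjective (LocalizedModule.map (Submonoid.powers b) φ) := by
  rw [φ.localizedMap_surjective_iff_subsingleton_localized_coker,
    LocalizedModule.subsingleton_iff_support_subset]
  refine h.trans ?_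
  intro q hq
  rw [mem_zeroLocus, Set.singleton_subset_iff] at hq ⊢
  obtain ⟨c, rfl⟩ := hab
  exact Ideal.mul_mem_right _ _ hq

end

section

variable {R : Type u} [CommRing R] (M : Type u) [AddCommGroup M] [Module R M]
  [Module.Finite R M] [Module.Flat R M]

theorem exists_map_surj_near (p : PrimeSpectrum R) (n : ℕ) (hn : rankAtStalk M p = n) :
    ∃ (φ : (Fin n →₀ R) →ₗ[R] M) (a : R), a ∉ p.asIdeal ∧
      Module.support R (M ⧸ LinearMap.range φ) ⊆ zeroLocus {a} := by
  subst hn
  let Rₚ := Localization.AtPrime p.asIdeal
  let n := rankAtStalk M p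
  let f : (Fin n →₀ R) →ₗ[R] Fin n →₀ Rₚ := Finsupp.mapRange.linearMap (Algebra.linearMap R Rₚ)
  let g : M →ₗ[R] LocalizedModule.AtPrime p.asIdeal M :=
    LocalizedModule.mkLinearMap p.asIdeal.primeCompl M
  obtain ⟨φ, -, -, hφps⟩ := exists_localizedMap_surjective_of_surjective p.asIdeal.primeCompl f g
      ((finBasis Rₚ (LocalizedModule.AtPrime p.asIdeal M)).repr.restrictScalars R).symm.surjective
  obtain ⟨a, hap, hφas⟩ := by
    refine exists_localizedMap_away_surjective_of_localizedMap_atPrime_surjective p.asIdeal φ ?_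
    simpa [LocalizedModule.coe_map_eq f g]
  refine ⟨φ, a, hap, ?_⟩
  rw [φ.localizedMap_surjective_iff_subsingleton_localized_coker] at hφas
  exact LocalizedModule.subsingleton_iff_support_subset.mp hφas

theorem finrank_localized_finsupp (q' : PrimeSpectrum R) (n : ℕ) :
    Module.finrank (Localization.AtPrime q'.asIdeal)
      (LocalizedModule q'.asIdeal.primeCompl (Fin n →₀ R)) = n := by
  have : Nontrivial R := q'.nontrivial
  have := congrFun (rankAtStalk_eq_finrank_of_free (R := R) (M := Fin n →₀ R)) q'
  simpa [rankAtStalk] using this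

theorem isOpen_rank_le (k : ℕ) : IsOpen {q : PrimeSpectrum R | rankAtStalk M q ≤ k} := by
  rw [isOpen_iff_forall_mem_open]
  intro q hq
  obtain ⟨n, hn⟩ : ∃ n, rankAtStalk M q = n := ⟨_, rfl⟩
  obtain ⟨φ, a, haq, hsupp⟩ := exists_map_surj_near M q n hn
  refine ⟨basicOpen a, ?_, (basicOpen a).2, haq⟩
  intro q' hq'
  have hs := surj_at_of_notMem hsupp q' hq'
  have h1 := LinearMap.finrank_le_finrank_of_surjective hs
  rw [finrank_localized_finsupp q' n] at h1
  have hq2 : rankAtStalk M q ≤ k := hq
  rw [hn] at hq2
  exact le_trans h1 hq2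

theorem free_away_of_surj (N : Type u) [AddCommGroup N] [Module R N] [Module.Finite R N]
    [Module.Free R N] (φ : N →ₗ[R] M) (b : R)
    (hsurj : Function.Surjective (LocalizedModule.map (Submonoid.powers b) φ))
    (hrank : ∀ q : PrimeSpectrum R, b ∉ q.asIdeal → rankAtStalk M q = Module.finrank R N) :
    Module.Free (Localization.Away b) (LocalizedModule.Away b M) := by
  have hfreeN : Module.Free (Localization.Away b) (LocalizedModule.Away b N) :=
    Free.of_equiv (LocalizedModule.isBaseChange (Submonoid.powers b) N).equiv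
  refine Module.Free.of_equiv (LinearEquiv.ofBijective
    (LocalizedModule.map (Submonoid.powers b) φ) ?_)
  refine bijective_of_surjective_of_rankAtStalk_eq hsurj fun m _ => ?_
  have hmem : b ∉ (PrimeSpectrum.comap (algebraMap R (Localization.Away b))
      ⟨m, inferInstance⟩).asIdeal := by
    change b ∉ m.comap (algebraMap R (Localization.Away b))
    intro hem
    have hu : IsUnit (algebraMap R (Localization.Away b) b) :=
      IsLocalization.Away.algebraMap_isUnit b
    have hem' : algebraMap R (Localization.Away b) b ∈ m := hem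
    exact (Ideal.IsMaximal.ne_top (I := m) inferInstance) (Ideal.eq_top_of_isUnit_mem _ hem' hu)
  have hL : rankAtStalk (LocalizedModule.Away b N) ⟨m, inferInstance⟩ = Module.finrank R N := by
    rw [rankAtStalk_isBaseChange (LocalizedModule.isBaseChange (Submonoid.powers b) N)
      ⟨m, inferInstance⟩]
    simp
  have hR : rankAtStalk (LocalizedModule.Away b M) ⟨m, inferInstance⟩ = Module.finrank R N := by
    rw [rankAtStalk_isBaseChange (LocalizedModule.isBaseChange (Submonoid.powers b) M)
      ⟨m, inferInstance⟩]
    exact hrank _ hmem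
  exact hL.trans hR.symm

theorem projective_of_finite_flat_of_closed_gen_open
    (h1 : ∀ Z : Set (PrimeSpectrum R), IsClosed Z → StableUnderGeneralization Z → IsOpen Z) :
    Module.Projective R M := by
  have hge : ∀ k, IsOpen {q : PrimeSpectrum R | k ≤ rankAtStalk M q} := by
    intro k
    apply h1
    · rcases Nat.eq_zero_or_pos k with rfl | hk
      · simp
      · have : {q : PrimeSpectrum R | k ≤ rankAtStalk M q} =
            {q | rankAtStalk M q ≤ k - 1}ᶜ := by
          ext q; simp only [Set.mem_ofPred_eq, Set.mem_compl_iff, not_le]; omega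
        rw [this]; exact (isOpen_rank_le M (k - 1)).isClosed_compl
    · intro x y hyx hx
      have : y ≤ x := (PrimeSpectrum.le_iff_specializes y x).mpr hyx
      simp only [Set.mem_ofPred_eq] at hx ⊢
      rwa [rankAtStalk_eq_of_le_of_finite_of_flat M this]
  have hloc : ∀ p : PrimeSpectrum R, ∃ b : R, b ∉ p.asIdeal ∧
      Module.Free (Localization.Away b) (LocalizedModule.Away b M) := by
    intro p
    have hnt : Nontrivial R := p.nontrivial
    obtain ⟨n, hn⟩ : ∃ n, rankAtStalk M p = n := ⟨_, rfl⟩
    have hUopen : IsOpen {q : PrimeSpectrum R | rankAtStalk M q = n} := by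
      have : {q : PrimeSpectrum R | rankAtStalk M q = n} =
          {q | rankAtStalk M q ≤ n} ∩ {q | n ≤ rankAtStalk M q} := by
        ext q; simp only [Set.mem_ofPred_eq, Set.mem_inter_iff]; omega
      rw [this]; exact (isOpen_rank_le M _).inter (hge _)
    obtain ⟨_, ⟨_, ⟨e, rfl⟩, rfl⟩, hpe, heU⟩ :=
      PrimeSpectrum.isBasis_basic_opens.exists_subset_of_mem_open
        (show p ∈ {q : PrimeSpectrum R | rankAtStalk M q = n} from hn) hUopen
    obtain ⟨φ, a, hap, hsupp⟩ := exists_map_surj_near M p n hn
    refine ⟨a * e, p.isPrime.mul_notMem hap hpe, ?_⟩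
    have hsurj := surj_away_of_dvd hsupp (Dvd.intro e rfl : a ∣ a * e)
    refine free_away_of_surj M (Fin n →₀ R) φ (a * e) hsurj fun q hq => ?_
    have hq' : q ∈ {q : PrimeSpectrum R | rankAtStalk M q = n} := by
      apply heU
      change e ∉ q.asIdeal
      intro he
      exact hq (Ideal.mul_mem_left _ _ he)
    have hq'' : rankAtStalk M q = n := hq'
    rw [hq'']
    simp
  have hfp : Module.FinitePresentation R M := by
    let s : Set R := {b | Module.Free (Localization.Away b) (LocalizedModule.Away b M)}
    have hs : Ideal.span s = ⊤ := by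
      by_contra hne
      obtain ⟨m, hm, hle⟩ := Ideal.exists_le_maximal _ hne
      obtain ⟨b, hb, hfree⟩ := hloc ⟨m, hm.isPrime⟩
      exact hb (hle (Ideal.subset_span hfree))
    refine Module.FinitePresentation.of_localizationSpan s hs fun g => ?_
    have : Module.Free (Localization.Away g.1) (LocalizedModule.Away g.1 M) := g.2
    exact Module.finitePresentation_of_projective _ _
  exact (Module.freeLocus_eq_univ_iff).mp Module.freeLocus_eq_univ

end

end Groth.Agent.Helper12
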