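import Mathlib
import Groth.Agent.Lib.Helper8.LocalCrit

/-!
# Flatness of base change in a square of local rings (helper12)
-/

set_option autoImplicit false
set_option linter.style.haveILetI false
set_option linter.unusedSectionVars false
universe u

namespace Groth.Agent.Helper12.FlatSquare

open TensorProduct Function

/-- If `S'` is flat over `S` and the `S`-module `M` is flat over `R` (`R → S`), then
`S' ⊗[S] M` is flat over `R`. -/
theorem flat_tensor_of_flat (R S S' M : Type u) [CommRing R] [CommRing S] [CommRing S']
    [Algebra R S] [Algebra S S'] [Algebra R S'] [IsScalarTower R S S']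
    [AddCommGroup M] [Module R M] [Module S M] [IsScalarTower R S M]
    [Module.Flat S S'] [Module.Flat R M] : Module.Flat R (S' ⊗[S] M) := by
  rw [Module.Flat.iff_lTensor_preserves_injective_linearMap]
  intro N N' _ _ _ _ f hf
  have hsq : ∀ z, (AlgebraTensorModule.assoc R S S S' M N') (f.lTensor (S' ⊗[S] M) z) =
      (AlgebraTensorModule.lTensor S M f).lTensor S'
        (AlgebraTensorModule.assoc R S S S' M N z) := by
    intro z
    induction z using TensorProduct.induction_on with
    | zero => simp
    | tmul x n =>
      induction x using TensorProduct.induction_on with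
      | zero => simp
      | tmul s m => simp
      | add x y hx hy => simp only [add_tmul, map_add, hx, hy]
    | add x y hx hy => simp only [map_add, hx, hy]
  have hinj : Injective ((AlgebraTensorModule.lTensor S M f).lTensor S') := by
    apply Module.Flat.lTensor_preserves_injective_linearMap
    rw [AlgebraTensorModule.coe_lTensor]
    exact Module.Flat.lTensor_preserves_injective_linearMap f hf
  intro z1 z2 h
  apply (AlgebraTensorModule.assoc R S S S' M N).injective
  apply hinj
  rw [← hsq, ← hsq, h]

theorem flat_baseChange_square (R S R' S' : Type u) [CommRing R] [CommRing S]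
    [CommRing R'] [CommRing S'] [IsLocalRing R] [IsLocalRing R'] [IsLocalRing S']
    [Algebra R S] [Algebra R R'] [Algebra S S'] [Algebra R' S'] [Algebra R S']
    [IsScalarTower R S S'] [IsScalarTower R R' S']
    [IsLocalHom (algebraMap R' S')] [Module.Flat S S']
    [IsNoetherianRing R'] [IsNoetherianRing S']
    (hm : (IsLocalRing.maximalIdeal R).map (algebraMap R R') = IsLocalRing.maximalIdeal R')
    (M : Type u) [AddCommGroup M] [Module S M] [Module R M] [IsScalarTower R S M]
    [Module.Finite S M] [Module.Flat R M]
    (M' : Type u) [AddCommGroup M'] [Module S' M'] [Module S M'] [IsScalarTower S S' M']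
    [Module R' M'] [IsScalarTower R' S' M'] (j : M →ₗ[S] M') (hj : IsBaseChange S' j) :
    Module.Flat R' M' := by
  classical
  letI : Module R M' := Module.compHom M' (algebraMap R S')
  have hsmul : ∀ (r : R) (x : M'), r • x = algebraMap R S' r • x := fun _ _ => rfl
  haveI t1 : IsScalarTower R S' M' := IsScalarTower.of_algebraMap_smul fun r x => rfl
  haveI t2 : IsScalarTower R S M' := IsScalarTower.of_algebraMap_smul fun r x => by
    rw [hsmul, IsScalarTower.algebraMap_apply R S S', algebraMap_smul S' (algebraMap R S r) x]
  haveI t3 : IsScalarTower R R' M' := IsScalarTower.of_algebraMap_smul fun r x => by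
    rw [hsmul, IsScalarTower.algebraMap_apply R R' S', algebraMap_smul S' (algebraMap R R' r) x]
  haveI hflatR : Module.Flat R M' := by
    haveI := flat_tensor_of_flat R S S' M
    exact Module.Flat.of_linearEquiv (hj.equiv.restrictScalars R).symm
  haveI : Module.Finite S' M' := Module.Finite.equiv hj.equiv
  have hIS : (IsLocalRing.maximalIdeal R').map (algebraMap R' S') ≤ Ideal.jacobson ⊥ := by
    rw [IsLocalRing.jacobson_eq_maximalIdeal ⊥ bot_ne_top]
    exact IsLocalRing.map_maximalIdeal_le _
  refine Groth.Agent.Helper8.LocalCrit.flat_of_rTensor_injective_of_flat_quotient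
    (S := S') (IsLocalRing.maximalIdeal R') hIS ?_ ?_
  · -- injectivity of m' ⊗ M' → R' ⊗ M'
    have hmem : ∀ a : IsLocalRing.maximalIdeal R,
        algebraMap R R' (a : R) ∈ IsLocalRing.maximalIdeal R' :=
      fun a => hm ▸ Ideal.mem_map_of_mem _ a.2
    let F : (IsLocalRing.maximalIdeal R ⊗[R] M') →+ (IsLocalRing.maximalIdeal R' ⊗[R'] M') :=
      TensorProduct.liftAddHom
        (AddMonoidHom.mk' (fun (a : IsLocalRing.maximalIdeal R) =>
          (AddMonoidHom.mk'
          (fun (x : M') =>
            (⟨algebraMap R R' (a : R), hmem a⟩ : IsLocalRing.maximalIdeal R') ⊗ₜ[R'] x)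
          (fun x y => tmul_add _ x y) : M' →+ (IsLocalRing.maximalIdeal R' ⊗[R'] M')))
          (fun a b => by
            refine AddMonoidHom.ext fun x => ?_
            show (⟨algebraMap R R' ((a + b : IsLocalRing.maximalIdeal R) : R), _⟩ :
              IsLocalRing.maximalIdeal R') ⊗ₜ[R'] x = _ ⊗ₜ[R'] x + _ ⊗ₜ[R'] x
            rw [← add_tmul]
            congr 1
            apply Subtype.ext
            simp))
        (by
          intro r a x
          show (⟨algebraMap R R' ((r • a : IsLocalRing.maximalIdeal R) : R), _⟩ :
              IsLocalRing.maximalIdeal R') ⊗ₜ[R'] x = _ ⊗ₜ[R'] (r • x)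
          rw [← algebraMap_smul R' r x, ← smul_tmul]
          congr 1
          apply Subtype.ext
          simp [Algebra.smul_def])
    have hF : ∀ (a : IsLocalRing.maximalIdeal R) (x : M'),
        F (a ⊗ₜ x) = (⟨algebraMap R R' (a : R), hmem a⟩ : IsLocalRing.maximalIdeal R') ⊗ₜ[R'] x :=
      fun a x => rfl
    -- surjectivity of F
    have hsurj : ∀ z, ∃ w, F w = z := by
      intro z
      induction z using TensorProduct.induction_on with
      | zero => exact ⟨0, map_zero F⟩
      | add z1 z2 h1 h2 =>
        obtain ⟨w1, rfl⟩ := h1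
        obtain ⟨w2, rfl⟩ := h2
        exact ⟨w1 + w2, map_add F w1 w2⟩
      | tmul y x =>
        obtain ⟨y, hy⟩ := y
        have hy' : y ∈ Ideal.span (algebraMap R R' '' (IsLocalRing.maximalIdeal R : Set R)) :=
          hm.ge hy
        revert x hy
        refine Submodule.span_induction
          (p := fun y _ => ∀ (x : M') (hy : y ∈ IsLocalRing.maximalIdeal R'),
            ∃ w, F w = (⟨y, hy⟩ : IsLocalRing.maximalIdeal R') ⊗ₜ[R'] x) ?_ ?_ ?_ ?_ hy'
        · rintro _ ⟨a, ha, rfl⟩ x hy
          exact ⟨(⟨a, ha⟩ : IsLocalRing.maximalIdeal R) ⊗ₜ x, hF _ _⟩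
        · intro x hy
          refine ⟨0, ?_⟩
          rw [map_zero]
          have : (⟨0, hy⟩ : IsLocalRing.maximalIdeal R') = 0 := rfl
          rw [this, zero_tmul]
        · intro y1 y2 h1 h2 ih1 ih2 x hy
          have hy1 : y1 ∈ IsLocalRing.maximalIdeal R' := hm.le h1
          have hy2 : y2 ∈ IsLocalRing.maximalIdeal R' := hm.le h2
          obtain ⟨w1, hw1⟩ := ih1 x hy1
          obtain ⟨w2, hw2⟩ := ih2 x hy2
          refine ⟨w1 + w2, ?_⟩
          rw [map_add, hw1, hw2, ← add_tmul]
          rfl
        · intro c y1 h1 ih1 x hy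
          have hy1 : y1 ∈ IsLocalRing.maximalIdeal R' := hm.le h1
          obtain ⟨w1, hw1⟩ := ih1 (c • x) hy1
          refine ⟨w1, ?_⟩
          rw [hw1, ← smul_tmul]
          rfl
    -- the composite with `lid`
    have hcomp : ∀ w, TensorProduct.lid R' M'
        ((IsLocalRing.maximalIdeal R').subtype.rTensor M' (F w)) =
        TensorProduct.lid R M' ((IsLocalRing.maximalIdeal R).subtype.rTensor M' w) := by
      intro w
      induction w using TensorProduct.induction_on with
      | zero => simp
      | tmul a x =>
        rw [hF]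
        simp only [LinearMap.rTensor_tmul, Submodule.subtype_apply, TensorProduct.lid_tmul]
        rw [algebraMap_smul]
      | add w1 w2 h1 h2 => simp only [map_add, h1, h2]
    have hinjR : Injective ((IsLocalRing.maximalIdeal R).subtype.rTensor M') :=
      Module.Flat.rTensor_preserves_injective_linearMap _ Subtype.val_injective
    rw [injective_iff_map_eq_zero]
    intro z hz
    obtain ⟨w, rfl⟩ := hsurj z
    have h1 := hcomp w
    rw [hz, map_zero] at h1
    have h2 : (IsLocalRing.maximalIdeal R).subtype.rTensor M' w = 0 :=
      (TensorProduct.lid R M').injective (by rw [← h1, map_zero])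
    have h3 : w = 0 := hinjR (by rw [h2, map_zero])
    rw [h3, map_zero]
  · letI : Field (R' ⧸ IsLocalRing.maximalIdeal R') := Ideal.Quotient.field _
    infer_instance

end Groth.Agent.Helper12.FlatSquare
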