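import Groth.Prelude.Def_FibCat2
import Mathlib

set_option autoImplicit false
universe v u

open CategoryTheory CategoryTheory.Limits Functor

namespace Groth.Agent.Helper12

variable {C : Type u} [Category.{v} C] {𝒳 𝒴 𝒮 : BasedCategory.{v, max u v} C}
  (F : 𝒳 ⥤ᵇ 𝒮) (G : 𝒴 ⥤ᵇ 𝒮)

theorem fp_isHomLift_iff {R S : C} (h : R ⟶ S) {t t' : (FibCat.fp F G).obj} (Φ : t ⟶ t') :
    (FibCat.fp F G).p.IsHomLift h Φ ↔ 𝒳.p.IsHomLift h Φ.hom.fst := by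
  constructor
  · intro hΦ
    exact IsHomLift.of_fac' 𝒳.p h Φ.hom.fst (IsHomLift.domain_eq (FibCat.fp F G).p h Φ)
      (IsHomLift.codomain_eq (FibCat.fp F G).p h Φ) (IsHomLift.fac' (FibCat.fp F G).p h Φ)
  · intro hΦ
    have h1 : 𝒳.p.obj t.obj.fst = R := IsHomLift.domain_eq 𝒳.p h Φ.hom.fst
    have h2 : 𝒳.p.obj t'.obj.fst = S := IsHomLift.codomain_eq 𝒳.p h Φ.hom.fst
    have h3 := IsHomLift.fac' 𝒳.p h Φ.hom.fst
    exact IsHomLift.of_fac' (FibCat.fp F G).p h Φ h1 h2 h3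

theorem fp_isHomLift_snd' {R S : C} (h : R ⟶ S) {t t' : (FibCat.fp F G).obj} (Φ : t ⟶ t')
    [hΦ : (FibCat.fp F G).p.IsHomLift h Φ] : 𝒴.p.IsHomLift h Φ.hom.snd := by
  subst_hom_lift (FibCat.fp F G).p h Φ
  exact FibCat.fp_isHomLift_snd F G Φ

theorem isFibered_fp [𝒳.p.IsFibered] [𝒴.p.IsFibered] [𝒮.p.IsFibered]
    (hF : ∀ {R S : C} (f : R ⟶ S) {a b : 𝒳.obj} (φ : a ⟶ b),
      𝒳.p.IsStronglyCartesian f φ → 𝒮.p.IsStronglyCartesian f (F.map φ))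
    (hG : ∀ {R S : C} (f : R ⟶ S) {a b : 𝒴.obj} (φ : a ⟶ b),
      𝒴.p.IsStronglyCartesian f φ → 𝒮.p.IsStronglyCartesian f (G.map φ)) :
    (FibCat.fp F G).p.IsFibered := by
  apply Functor.IsFibered.of_exists_isStronglyCartesian
  intro t V f
  change V ⟶ 𝒳.p.obj t.obj.fst at f
  have ht : 𝒮.p.IsHomLift (𝟙 (𝒳.p.obj t.obj.fst)) t.obj.iso.hom := t.property
  have hy : 𝒴.p.obj t.obj.snd = 𝒳.p.obj t.obj.fst := by
    rw [← G.w_obj]; exact IsHomLift.codomain_eq 𝒮.p (𝟙 _) t.obj.iso.hom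
  obtain ⟨x', φ, hφc⟩ := CategoryTheory.IsPreFibered.exists_isCartesian 𝒳.p
    (rfl : 𝒳.p.obj t.obj.fst = _) f
  have hφ : 𝒳.p.IsStronglyCartesian f φ := inferInstance
  obtain ⟨y', ψ, hψc⟩ := CategoryTheory.IsPreFibered.exists_isCartesian 𝒴.p hy f
  have hψ : 𝒴.p.IsStronglyCartesian f ψ := inferInstance
  have hFφ : 𝒮.p.IsStronglyCartesian f (F.map φ) := hF f φ hφ
  have hGψ : 𝒮.p.IsStronglyCartesian f (G.map ψ) := hG f ψ hψ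
  have hV : 𝒳.p.obj x' = V := IsHomLift.domain_eq 𝒳.p f φ
  subst hV
  have hcomp : 𝒮.p.IsStronglyCartesian f (F.map φ ≫ t.obj.iso.hom) := by
    have h1 : 𝒮.p.IsStronglyCartesian (f ≫ 𝟙 _) (F.map φ ≫ t.obj.iso.hom) := inferInstance
    rwa [Category.comp_id] at h1
  obtain ⟨θ', hθ'lift, hθ'fac⟩ : ∃ θ' : F.obj x' ≅ G.obj y',
      𝒮.p.IsHomLift (𝟙 (𝒳.p.obj x')) θ'.hom ∧
        θ'.hom ≫ G.map ψ = F.map φ ≫ t.obj.iso.hom :=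
    ⟨IsStronglyCartesian.domainIsoOfBaseIso 𝒮.p (g := Iso.refl (𝒳.p.obj x')) (f := f) (f' := f)
        (by simp) (G.map ψ) (F.map φ ≫ t.obj.iso.hom),
      (inferInstance : 𝒮.p.IsHomLift (Iso.refl (𝒳.p.obj x')).hom _),
      IsStronglyCartesian.fac 𝒮.p f (G.map ψ) (g := (Iso.refl (𝒳.p.obj x')).hom) (f' := f)
        (by simp) (F.map φ ≫ t.obj.iso.hom)⟩
  refine ⟨⟨⟨x', y', θ'⟩, hθ'lift⟩, ObjectProperty.homMk ⟨φ, ψ, hθ'fac.symm⟩, ?_⟩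
  have hΦlift : (FibCat.fp F G).p.IsHomLift f
      (ObjectProperty.homMk ⟨φ, ψ, hθ'fac.symm⟩ :
        (⟨⟨x', y', θ'⟩, hθ'lift⟩ : (FibCat.fp F G).obj) ⟶ t) :=
    (fp_isHomLift_iff F G f _).mpr (inferInstance : 𝒳.p.IsHomLift f φ)
  refine { toIsHomLift := hΦlift, universal_property' := ?_ }
  intro t'' g Φ' hΦ'
  change 𝒳.p.obj t''.obj.fst ⟶ 𝒳.p.obj x' at g
  have ha : 𝒳.p.IsHomLift (g ≫ f) Φ'.hom.fst := (fp_isHomLift_iff F G _ Φ').mp hΦ'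
  have hb : 𝒴.p.IsHomLift (g ≫ f) Φ'.hom.snd := fp_isHomLift_snd' F G (g ≫ f) Φ' (hΦ := hΦ')
  obtain ⟨c, hc1, hc2⟩ : ∃ c : t''.obj.fst ⟶ x', 𝒳.p.IsHomLift g c ∧ c ≫ φ = Φ'.hom.fst :=
    ⟨IsStronglyCartesian.map 𝒳.p f φ (g := g) (f' := g ≫ f) rfl Φ'.hom.fst,
      IsStronglyCartesian.map_isHomLift 𝒳.p f φ (g := g) (f' := g ≫ f) rfl Φ'.hom.fst,
      IsStronglyCartesian.fac 𝒳.p f φ (g := g) (f' := g ≫ f) rfl Φ'.hom.fst⟩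
  obtain ⟨d, hd1, hd2⟩ : ∃ d : t''.obj.snd ⟶ y', 𝒴.p.IsHomLift g d ∧ d ≫ ψ = Φ'.hom.snd :=
    ⟨IsStronglyCartesian.map 𝒴.p f ψ (g := g) (f' := g ≫ f) rfl Φ'.hom.snd,
      IsStronglyCartesian.map_isHomLift 𝒴.p f ψ (g := g) (f' := g ≫ f) rfl Φ'.hom.snd,
      IsStronglyCartesian.fac 𝒴.p f ψ (g := g) (f' := g ≫ f) rfl Φ'.hom.snd⟩
  have ht'' : 𝒮.p.IsHomLift (𝟙 (𝒳.p.obj t''.obj.fst)) t''.obj.iso.hom := t''.property
  have hFc : 𝒮.p.IsHomLift g (F.map c) := (BasedFunctor.isHomLift_iff F g c).mpr hc1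
  have hGd : 𝒮.p.IsHomLift g (G.map d) := (BasedFunctor.isHomLift_iff G g d).mpr hd1
  have hcompat : F.map c ≫ θ'.hom = t''.obj.iso.hom ≫ G.map d := by
    have l1 : 𝒮.p.IsHomLift g (F.map c ≫ θ'.hom) := inferInstance
    have l2 : 𝒮.p.IsHomLift g (t''.obj.iso.hom ≫ G.map d) := inferInstance
    apply IsStronglyCartesian.ext 𝒮.p f (G.map ψ) g
    calc (F.map c ≫ θ'.hom) ≫ G.map ψ = F.map (c ≫ φ) ≫ t.obj.iso.hom := by
          rw [Category.assoc, hθ'fac, ← Category.assoc, ← CategoryTheory.Functor.map_comp]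
      _ = t''.obj.iso.hom ≫ G.map (d ≫ ψ) := by rw [hc2, hd2]; exact Φ'.hom.w
      _ = (t''.obj.iso.hom ≫ G.map d) ≫ G.map ψ := by
          rw [CategoryTheory.Functor.map_comp, Category.assoc]
  refine ⟨ObjectProperty.homMk ⟨c, d, hcompat⟩, ⟨?_, ?_⟩, ?_⟩
  · exact (fp_isHomLift_iff F G g _).mpr hc1
  · apply ObjectProperty.hom_ext
    apply CategoricalPullback.hom_ext
    · exact hc2
    · exact hd2
  · rintro χ ⟨hχ1, hχ2⟩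
    have k1 : 𝒳.p.IsHomLift g χ.hom.fst := (fp_isHomLift_iff F G g χ).mp hχ1
    have k2 : 𝒴.p.IsHomLift g χ.hom.snd := fp_isHomLift_snd' F G g χ (hΦ := hχ1)
    have e1 : χ.hom.fst ≫ φ = Φ'.hom.fst := congrArg (fun k => k.hom.fst) hχ2
    have e2 : χ.hom.snd ≫ ψ = Φ'.hom.snd := congrArg (fun k => k.hom.snd) hχ2
    apply ObjectProperty.hom_ext
    apply CategoricalPullback.hom_ext
    · change χ.hom.fst = c
      exact IsStronglyCartesian.ext 𝒳.p f φ g (by rw [e1, hc2])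
    · change χ.hom.snd = d
      exact IsStronglyCartesian.ext 𝒴.p f ψ g (by rw [e2, hd2])

end Groth.Agent.Helper12
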