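import Mathlib

universe u

namespace Groth.Agent.Helper12.FrobHeight

open scoped TensorProduct

variable {R : Type u} [CommRing R] {A : Type u} [CommRing A] [Algebra R A]

/-- augmentation on the base change -/
noncomputable def aug (ε : A →ₐ[R] R) (K : Type u) [CommRing K] [Algebra R K] :
    K ⊗[R] A →ₐ[K] K :=
  Algebra.TensorProduct.lift (Algebra.ofId K K) ((Algebra.ofId R K).comp ε)
    (fun _ _ => Commute.all _ _)

theorem aug_tmul (ε : A →ₐ[R] R) (K : Type u) [CommRing K] [Algebra R K] (k : K) (a : A) :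
    aug ε K (k ⊗ₜ a) = k * algebraMap R K (ε a) := by
  simp [aug, Algebra.ofId_apply]

theorem eps_sub (ε : A →ₐ[R] R) (a : A) : ε (a - algebraMap R A (ε a)) = 0 := by
  rw [map_sub, AlgHom.commutes]
  simp

theorem forward (ε : A →ₐ[R] R) (N : ℕ) (hN : ∀ a : A, ε a = 0 → a ^ N = 0) (hN0 : 0 < N)
    [Algebra.FiniteType R A] :
    Module.Finite R A ∧ ∀ (K : Type u) [Field K] [Algebra R K], IsLocalRing (K ⊗[R] A) := by
  constructor
  · haveI : Algebra.IsIntegral R A := ⟨fun a => by
      have h1 : IsIntegral R (a - algebraMap R A (ε a)) :=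
        IsIntegral.of_pow hN0 (by rw [hN _ (eps_sub ε a)]; exact isIntegral_zero)
      have := h1.add (isIntegral_algebraMap (x := ε a))
      rwa [sub_add_cancel] at this⟩
    exact Algebra.IsIntegral.finite
  · intro K _ _
    have hnil : ∀ x : K ⊗[R] A, IsNilpotent (x - algebraMap K _ (aug ε K x)) := by
      intro x
      induction x using TensorProduct.induction_on with
      | zero => simp
      | tmul k a =>
        have : k ⊗ₜ[R] a - algebraMap K (K ⊗[R] A) (aug ε K (k ⊗ₜ a))
            = k ⊗ₜ[R] (a - algebraMap R A (ε a)) := by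
          rw [aug_tmul, Algebra.TensorProduct.algebraMap_apply, TensorProduct.tmul_sub]
          congr 1
          show (k * algebraMap R K (ε a)) ⊗ₜ[R] (1 : A) = k ⊗ₜ[R] algebraMap R A (ε a)
          rw [Algebra.algebraMap_eq_smul_one (A := A) (ε a), TensorProduct.tmul_smul,
            TensorProduct.smul_tmul', Algebra.smul_def (ε a) k, mul_comm]
        rw [this]
        refine ⟨N, ?_⟩
        rw [Algebra.TensorProduct.tmul_pow, hN _ (eps_sub ε a), TensorProduct.tmul_zero]
      | add x y hx hy =>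
        have : x + y - algebraMap K _ (aug ε K (x + y))
            = (x - algebraMap K _ (aug ε K x)) + (y - algebraMap K _ (aug ε K y)) := by
          rw [map_add, map_add]; ring
        rw [this]
        exact (Commute.all _ _).isNilpotent_add hx hy
    haveI : Nontrivial (K ⊗[R] A) := (aug ε K).toRingHom.domain_nontrivial
    refine IsLocalRing.of_isUnit_or_isUnit_one_sub_self (fun x => ?_)
    by_cases h0 : aug ε K x = 0
    · right
      have := hnil x
      rw [h0, map_zero, sub_zero] at this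
      exact this.isUnit_one_sub
    · left
      have hu : IsUnit (algebraMap K (K ⊗[R] A) (aug ε K x)) := (IsUnit.mk0 _ h0).map _
      have := (hnil x).isUnit_add_left_of_commute hu (Commute.all _ _)
      rwa [add_sub_cancel] at this

theorem zero_of_local (ε : A →ₐ[R] R) [Module.Finite R A] (K : Type u) [Field K] [Algebra R K]
    [IsLocalRing (K ⊗[R] A)] (ιa : A →ₐ[R] K) (a : A) (ha : ε a = 0) : ιa a = 0 := by
  haveI : IsArtinianRing (K ⊗[R] A) := IsArtinianRing.of_finite K _
  obtain ⟨n, hn⟩ := IsArtinianRing.isNilpotent_jacobson_bot (R := K ⊗[R] A)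
  rw [IsLocalRing.jacobson_eq_maximalIdeal ⊥ bot_ne_top] at hn
  have hmem : (1 : K) ⊗ₜ[R] a ∈ IsLocalRing.maximalIdeal (K ⊗[R] A) := by
    rw [IsLocalRing.mem_maximalIdeal, mem_nonunits_iff]
    intro hu
    have := hu.map (aug ε K)
    rw [aug_tmul, ha, map_zero, mul_zero] at this
    exact not_isUnit_zero this
  have hpow : ((1 : K) ⊗ₜ[R] a) ^ n = 0 := by
    have := Ideal.pow_mem_pow hmem n
    rwa [hn, Ideal.zero_eq_bot, Ideal.mem_bot] at this
  let μ : K ⊗[R] A →ₐ[K] K :=
    Algebra.TensorProduct.lift (Algebra.ofId K K) ιa (fun _ _ => Commute.all _ _)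
  have h2 := congrArg μ hpow
  rw [map_pow, map_zero, Algebra.TensorProduct.lift_tmul, map_one, one_mul] at h2
  exact IsNilpotent.eq_zero ⟨n, h2⟩

abbrev Kp (P : Ideal A) [P.IsPrime] : Type u := AlgebraicClosure (FractionRing (A ⧸ P))

theorem backward [IsNoetherianRing A] (ε : A →ₐ[R] R) [Module.Finite R A]
    (h : ∀ (K : Type u) [Field K] [IsAlgClosed K] [Algebra R K], IsLocalRing (K ⊗[R] A)) :
    ∃ N : ℕ, ∀ a : A, ε a = 0 → a ^ N = 0 := by
  have hnil : ∀ a : A, ε a = 0 → a ∈ nilradical A := by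
    intro a ha
    rw [nilradical_eq_sInf, Ideal.mem_sInf]
    intro P hP
    haveI : P.IsPrime := hP
    let ι : A →+* Kp P := (algebraMap (FractionRing (A ⧸ P)) (Kp P)).comp
      ((algebraMap (A ⧸ P) (FractionRing (A ⧸ P))).comp (Ideal.Quotient.mk P))
    letI : Algebra R (Kp P) := (ι.comp (algebraMap R A)).toAlgebra
    let ιa : A →ₐ[R] Kp P := { ι with commutes' := fun r => rfl }
    haveI := h (Kp P)
    have hι : ιa a = 0 := zero_of_local ε (Kp P) ιa a ha
    have hinj : Function.Injective ((algebraMap (FractionRing (A ⧸ P)) (Kp P)).comp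
        (algebraMap (A ⧸ P) (FractionRing (A ⧸ P)))) :=
      (algebraMap (FractionRing (A ⧸ P)) (Kp P)).injective.comp
        (IsFractionRing.injective (A ⧸ P) (FractionRing (A ⧸ P)))
    have : Ideal.Quotient.mk P a = 0 := hinj (by rw [map_zero]; exact hι)
    exact Ideal.Quotient.eq_zero_iff_mem.mp this
  obtain ⟨N, hN⟩ := IsNoetherianRing.isNilpotent_nilradical A
  refine ⟨N, fun a ha => ?_⟩
  have := Ideal.pow_mem_pow (hnil a ha) N
  rwa [hN, Ideal.zero_eq_bot, Ideal.mem_bot] at this

theorem main (p : ℕ) [Fact p.Prime] (R : Type u) [CommRing R] [CharP R p]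
    [IsNoetherianRing R] (A : Type u) [CommRing A] [HopfAlgebra R A] [Algebra.FiniteType R A] :
    (∃ n : ℕ, ∀ a : A, Bialgebra.counitAlgHom R A a = 0 → a ^ p ^ n = 0) ↔
      (Module.Finite R A ∧ ∀ (K : Type u) [Field K] [IsAlgClosed K] [Algebra R K],
        IsLocalRing (K ⊗[R] A)) := by
  constructor
  · rintro ⟨n, hn⟩
    obtain ⟨h1, h2⟩ := forward (Bialgebra.counitAlgHom R A) (p ^ n) hn
      (pow_pos (Fact.out : p.Prime).pos n)
    exact ⟨h1, fun K _ _ _ => h2 K⟩
  · rintro ⟨h1, h2⟩
    haveI := h1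
    haveI : IsNoetherianRing A := Algebra.FiniteType.isNoetherianRing R A
    obtain ⟨N, hN⟩ := backward (Bialgebra.counitAlgHom R A) h2
    refine ⟨N, fun a ha => ?_⟩
    have hle : N ≤ p ^ N := (Nat.lt_pow_self (Fact.out : p.Prime).one_lt).le
    exact pow_eq_zero_of_le hle (hN a ha)

end Groth.Agent.Helper12.FrobHeight
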