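import Mathlib

universe u

namespace Groth.Agent.Helper12.GenNN

open MvPolynomial TensorProduct

attribute [local instance] MvPolynomial.algebraMvPolynomial

theorem key {P PK S T : Type*} [CommRing P] [CommRing PK] [CommRing S] [CommRing T]
    [Algebra P PK] [Algebra P S] [Algebra S T] [Algebra P T] [Algebra PK T]
    [IsScalarTower P S T] [IsScalarTower P PK T]
    (MP : Submonoid P) [IsLocalization MP PK]
    [IsLocalization (Algebra.algebraMapSubmonoid S MP) T]
    [Algebra.IsIntegral PK T] (s : S) : ∃ m ∈ MP, IsIntegral P (m • s) := by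
  have hx : IsIntegral PK (algebraMap S T s) := Algebra.IsIntegral.isIntegral _
  obtain ⟨m₁, h₁⟩ := IsIntegral.exists_multiple_integral_of_isLocalization MP _ hx
  have e : m₁ • algebraMap S T s = algebraMap S T ((m₁ : P) • s) := by
    rw [Submonoid.smul_def, Algebra.smul_def, Algebra.smul_def, map_mul,
      ← IsScalarTower.algebraMap_apply]
  rw [e] at h₁
  obtain ⟨m₂, hm₂, h₂⟩ :=
    IsLocalization.exists_isIntegral_smul_of_isIntegral_map (Sₘ := T) MP h₁
  exact ⟨m₂ * m₁, mul_mem hm₂ m₁.2, by rwa [mul_smul]⟩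

theorem scale_comp {K : Type*} [CommRing K] {d : ℕ} (c c' : Fin d → K)
    (h : ∀ i, c i * c' i = 1) :
    ((aeval (fun i => C (c' i) * X i) :
        MvPolynomial (Fin d) K →ₐ[K] MvPolynomial (Fin d) K).comp
      (aeval (fun i => C (c i) * X i))) = AlgHom.id K _ := by
  apply MvPolynomial.algHom_ext
  intro i
  have h1 : (aeval (fun i => C (c' i) * X i) :
      MvPolynomial (Fin d) K →ₐ[K] MvPolynomial (Fin d) K) (C (c i) * X i)
      = C (c i) * (C (c' i) * X i) := by
    rw [map_mul, aeval_X, aeval_C, MvPolynomial.algebraMap_eq]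
  rw [AlgHom.comp_apply, aeval_X, h1, ← mul_assoc, ← C_mul, h i, C_1, one_mul,
    AlgHom.id_apply]

theorem core {R S K T : Type u} [CommRing R] [IsDomain R] [CommRing S] [Algebra R S]
    [Algebra.FiniteType R S]
    [Field K] [Algebra R K] [IsFractionRing R K] [CommRing T] [Algebra K T] [Algebra R T]
    [IsScalarTower R K T] [Algebra S T] [IsScalarTower R S T] [Algebra.FiniteType K T]
    [locT : IsLocalization (Algebra.algebraMapSubmonoid S (nonZeroDivisors R)) T]
    (hinj : Function.Injective (algebraMap R S)) :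
    ∃ (d : ℕ) (y : Fin d → S) (S' : Subalgebra R S), AlgebraicIndependent R y ∧
      (∀ i, y i ∈ S') ∧ S'.FG ∧
      (∀ s ∈ S', IsIntegral (Algebra.adjoin R (Set.range y)) s) ∧
      ∃ f : R, f ≠ 0 ∧ ∀ s : S, ∃ n : ℕ, (f ^ n) • s ∈ S' := by
  classical
  haveI : Nontrivial T := by
    by_contra hT
    rw [not_nontrivial_iff_subsingleton] at hT
    have h0 : algebraMap S T 1 = 0 := Subsingleton.elim _ _
    rw [IsLocalization.map_eq_zero_iff (Algebra.algebraMapSubmonoid S (nonZeroDivisors R))] at h0
    obtain ⟨⟨_, r, hr, rfl⟩, h⟩ := h0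
    rw [mul_one] at h
    exact nonZeroDivisors.ne_zero hr (hinj (h.trans (map_zero _).symm))
  obtain ⟨d, g, ginj, gint⟩ := exists_integral_inj_algHom_of_fg K T
  have hsurj : ∀ t : T, ∃ r : R, r ≠ 0 ∧ ∃ s : S, r • t = algebraMap S T s := by
    intro t
    obtain ⟨⟨s, ⟨_, r, hr, rfl⟩⟩, h⟩ :=
      IsLocalization.surj (Algebra.algebraMapSubmonoid S (nonZeroDivisors R)) t
    refine ⟨r, nonZeroDivisors.ne_zero hr, s, ?_⟩
    rw [← h, Algebra.smul_def, mul_comm, IsScalarTower.algebraMap_apply R S T]
  choose c hc y hy using fun i : Fin d => hsurj (g (X i))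
  let cK : Fin d → K := fun i => algebraMap R K (c i)
  have hcK : ∀ i, cK i ≠ 0 := fun i =>
    (map_ne_zero_iff _ (IsFractionRing.injective R K)).mpr (hc i)
  let φ : MvPolynomial (Fin d) K →ₐ[K] MvPolynomial (Fin d) K :=
    aeval (fun i => C (cK i) * X i)
  let φ' : MvPolynomial (Fin d) K →ₐ[K] MvPolynomial (Fin d) K :=
    aeval (fun i => C (cK i)⁻¹ * X i)
  have h1 : φ'.comp φ = AlgHom.id K _ :=
    scale_comp cK _ (fun i => mul_inv_cancel₀ (hcK i))
  have h2 : φ.comp φ' = AlgHom.id K _ :=
    scale_comp _ cK (fun i => inv_mul_cancel₀ (hcK i))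
  let w : Fin d → T := fun i => algebraMap S T (y i)
  let gT : MvPolynomial (Fin d) K →ₐ[K] T := aeval w
  have hgT : gT = g.comp φ := by
    apply MvPolynomial.algHom_ext
    intro i
    show aeval w (X i) = g (aeval (fun i => C (cK i) * X i) (X i))
    rw [aeval_X, aeval_X, map_mul, ← MvPolynomial.algebraMap_eq, AlgHom.commutes]
    show algebraMap S T (y i) = _
    rw [← hy i, Algebra.smul_def, IsScalarTower.algebraMap_apply R K T]
  have hg : g = gT.comp φ' := by
    rw [hgT, AlgHom.comp_assoc, h2, AlgHom.comp_id]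
  have φinj : Function.Injective φ :=
    Function.LeftInverse.injective (g := φ') (fun p => by
      rw [← AlgHom.comp_apply, h1]; rfl)
  have gTinj : Function.Injective gT := by
    rw [hgT, AlgHom.coe_comp]
    exact ginj.comp φinj
  have gTint : gT.toRingHom.IsIntegral := by
    have e : gT.toRingHom.comp φ'.toRingHom = g.toRingHom := by rw [hg]; rfl
    have : (gT.toRingHom.comp φ'.toRingHom).IsIntegral := by rw [e]; exact gint
    exact RingHom.IsIntegral.tower_top _ _ this
  have aiK : AlgebraicIndependent K w := gTinj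
  have aiR : AlgebraicIndependent R w := aiK.restrictScalars (IsFractionRing.injective R K)
  have aiy : AlgebraicIndependent R y :=
    AlgebraicIndependent.of_comp (IsScalarTower.toAlgHom R S T) (by
      have e : ⇑(IsScalarTower.toAlgHom R S T) ∘ y = w := by
        funext i; rfl
      rw [e]; exact aiR)
  -- polynomial ring structures
  let MP : Submonoid (MvPolynomial (Fin d) R) :=
    (nonZeroDivisors R).map (C : R →+* MvPolynomial (Fin d) R)
  letI algPS : Algebra (MvPolynomial (Fin d) R) S :=
    (aeval y : MvPolynomial (Fin d) R →ₐ[R] S).toRingHom.toAlgebra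
  letI algPKT : Algebra (MvPolynomial (Fin d) K) T := gT.toRingHom.toAlgebra
  letI algPT : Algebra (MvPolynomial (Fin d) R) T :=
    ((algebraMap S T).comp (aeval y : MvPolynomial (Fin d) R →ₐ[R] S).toRingHom).toAlgebra
  haveI st1 : IsScalarTower (MvPolynomial (Fin d) R) S T :=
    IsScalarTower.of_algebraMap_eq (fun p => rfl)
  haveI st2 : IsScalarTower (MvPolynomial (Fin d) R) (MvPolynomial (Fin d) K) T :=
    IsScalarTower.of_algebraMap_eq (fun p => by
      show algebraMap S T (aeval y p) = aeval w (MvPolynomial.map (algebraMap R K) p)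
      rw [aeval_map_algebraMap K w p, ← aeval_algebraMap_apply T y p]
      rfl)
  have hsub : Algebra.algebraMapSubmonoid S MP =
      Algebra.algebraMapSubmonoid S (nonZeroDivisors R) := by
    ext x
    constructor
    · rintro ⟨_, ⟨r, hr, rfl⟩, rfl⟩
      refine ⟨r, hr, ?_⟩
      show algebraMap R S r = aeval y (C r)
      rw [aeval_C]
    · rintro ⟨r, hr, rfl⟩
      refine ⟨C r, ⟨r, hr, rfl⟩, ?_⟩
      show aeval y (C r) = algebraMap R S r
      rw [aeval_C]
  haveI locT' : IsLocalization (Algebra.algebraMapSubmonoid S MP) T := by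
    rw [hsub]; exact locT
  haveI : IsLocalization MP (MvPolynomial (Fin d) K) :=
    MvPolynomial.isLocalization (nonZeroDivisors R) K
  haveI : Algebra.IsIntegral (MvPolynomial (Fin d) K) T := ⟨fun t => gTint t⟩
  have step1 : ∀ s : S, ∃ a : R, a ≠ 0 ∧
      IsIntegral (Algebra.adjoin R (Set.range y)) (a • s) := by
    intro s
    obtain ⟨_, ⟨a, ha, rfl⟩, hint⟩ := key (P := MvPolynomial (Fin d) R)
      (PK := MvPolynomial (Fin d) K) (S := S) (T := T) MP s
    refine ⟨a, nonZeroDivisors.ne_zero ha, ?_⟩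
    have e1 : (C a : MvPolynomial (Fin d) R) • s = a • s := by
      rw [Algebra.smul_def, Algebra.smul_def]
      show aeval y (C a) * s = _
      rw [aeval_C]
    rw [e1] at hint
    let h : MvPolynomial (Fin d) R →+* Algebra.adjoin R (Set.range y) :=
      ((aeval y : MvPolynomial (Fin d) R →ₐ[R] S).codRestrict
        (Algebra.adjoin R (Set.range y)) (fun p => by
          rw [Algebra.adjoin_range_eq_range_aeval]; exact ⟨p, rfl⟩)).toRingHom
    have e2 : (algebraMap (Algebra.adjoin R (Set.range y)) S).comp h =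
        algebraMap (MvPolynomial (Fin d) R) S := RingHom.ext (fun p => rfl)
    have hint' : (algebraMap (MvPolynomial (Fin d) R) S).IsIntegralElem (a • s) := hint
    rw [← e2] at hint'
    exact RingHom.IsIntegralElem.of_comp hint'
  obtain ⟨G, hG⟩ := (Algebra.FiniteType.out : (⊤ : Subalgebra R S).FG)
  choose a ha haint using step1
  let f : R := ∏ s ∈ G, a s
  have hf0 : f ≠ 0 := Finset.prod_ne_zero_iff.mpr (fun s _ => ha s)
  have hfint : ∀ s ∈ G, IsIntegral (Algebra.adjoin R (Set.range y)) (f • s) := by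
    intro s hs
    obtain ⟨b, hb⟩ : a s ∣ f := Finset.dvd_prod_of_mem a hs
    rw [hb, mul_comm, mul_smul, Algebra.smul_def]
    refine IsIntegral.mul ?_ (haint s)
    have : algebraMap R S b =
        algebraMap (Algebra.adjoin R (Set.range y)) S (algebraMap R _ b) := rfl
    rw [this]
    exact isIntegral_algebraMap
  let S' : Subalgebra R S :=
    Algebra.adjoin R (Set.range y ∪ (fun s => f • s) '' (G : Set S))
  refine ⟨d, y, S', aiy, fun i => Algebra.subset_adjoin (Or.inl ⟨i, rfl⟩), ?_, ?_,
    f, hf0, ?_⟩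
  · refine ⟨Finset.univ.image y ∪ G.image (fun s => f • s), ?_⟩
    rw [Finset.coe_union, Finset.coe_image, Finset.coe_image, Finset.coe_univ, Set.image_univ]
  · intro s hs
    have hle : S' ≤ (integralClosure (Algebra.adjoin R (Set.range y)) S).restrictScalars R := by
      apply Algebra.adjoin_le
      rintro x (⟨i, rfl⟩ | ⟨s, hs, rfl⟩)
      · show IsIntegral (Algebra.adjoin R (Set.range y)) (y i)
        have : y i = algebraMap (Algebra.adjoin R (Set.range y)) S
            ⟨y i, Algebra.subset_adjoin ⟨i, rfl⟩⟩ := rfl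
        rw [this]
        exact isIntegral_algebraMap
      · exact hfint s hs
    exact hle hs
  · intro s
    have hs : s ∈ Algebra.adjoin R (G : Set S) := by rw [hG]; trivial
    induction hs using Algebra.adjoin_induction with
    | mem x hx =>
      exact ⟨1, by rw [pow_one]; exact Algebra.subset_adjoin (Or.inr ⟨x, hx, rfl⟩)⟩
    | algebraMap r =>
      exact ⟨0, by rw [pow_zero, one_smul]; exact Subalgebra.algebraMap_mem _ r⟩
    | add x z _ _ hx hz =>
      obtain ⟨n, hn⟩ := hx
      obtain ⟨m, hm⟩ := hz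
      refine ⟨n + m, ?_⟩
      rw [smul_add, pow_add]
      refine add_mem ?_ ?_
      · rw [mul_comm, mul_smul]; exact Subalgebra.smul_mem _ hn _
      · rw [mul_smul]; exact Subalgebra.smul_mem _ hm _
    | mul x z _ _ hx hz =>
      obtain ⟨n, hn⟩ := hx
      obtain ⟨m, hm⟩ := hz
      refine ⟨n + m, ?_⟩
      rw [pow_add, ← smul_mul_smul_comm]
      exact mul_mem hn hm

theorem main {R S : Type u} [CommRing R] [IsDomain R] [CommRing S] [Algebra R S]
    [Algebra.FiniteType R S] (hinj : Function.Injective (algebraMap R S)) :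
    ∃ (d : ℕ) (y : Fin d → S) (S' : Subalgebra R S), AlgebraicIndependent R y ∧
      (∀ i, y i ∈ S') ∧ S'.FG ∧
      (∀ s ∈ S', IsIntegral (Algebra.adjoin R (Set.range y)) s) ∧
      ∃ f : R, f ≠ 0 ∧ ∀ s : S, ∃ n : ℕ, (f ^ n) • s ∈ S' := by
  letI : Algebra S (FractionRing R ⊗[R] S) := Algebra.TensorProduct.rightAlgebra
  haveI : IsLocalization (Algebra.algebraMapSubmonoid S (nonZeroDivisors R))
      (FractionRing R ⊗[R] S) := IsLocalization.tensorRight (FractionRing R) (nonZeroDivisors R)
  exact core (K := FractionRing R) (T := FractionRing R ⊗[R] S) hinj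

end Groth.Agent.Helper12.GenNN
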