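import Mathlib
import Groth.Prelude.Def_EtGlue
import Groth.Agent.Lib.Lead.GlueFlat

set_option autoImplicit false
universe u
open TensorProduct

namespace Groth.Agent.Helper12.GlueRing

attribute [local instance] Algebra.TensorProduct.rightAlgebra

section Pair

variable {R R' : Type u} [CommRing R] [CommRing R'] [Algebra R R'] {f : R}
variable {A : Type u} [CommRing A] [Algebra R A]

lemma pow_smul_eq (n : ℕ) (x' : R' ⊗[R] A) :
    algebraMap A (R' ⊗[R] A) (algebraMap R A f) ^ n * x' = f ^ n • x' := by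
  rw [← map_pow, ← map_pow, ← IsScalarTower.algebraMap_apply R A (R' ⊗[R] A), ← Algebra.smul_def]

theorem quotPow (hq : EtGlue.QuotPowBijective R R' f) :
    EtGlue.QuotPowBijective A (R' ⊗[R] A) (algebraMap R A f) := by
  intro n hn
  constructor
  · rw [injective_iff_map_eq_zero]
    intro x hx
    obtain ⟨m, rfl⟩ := Ideal.Quotient.mk_surjective x
    rw [Ideal.quotientMap_mk, Ideal.Quotient.eq_zero_iff_mem, Ideal.map_span, Set.image_singleton,
      Ideal.mem_span_singleton'] at hx
    obtain ⟨y', hy'⟩ := hx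
    have h1 : (1 : R') ⊗ₜ[R] m = f ^ n • y' := by
      rw [← pow_smul_eq, ← map_pow, mul_comm, hy']; rfl
    obtain ⟨m₁, hm₁⟩ := Groth.Agent.Lead.Glue.exists_eq_smul_of_tmul_eq_smul hq n m y' h1
    rw [Ideal.Quotient.eq_zero_iff_mem, Ideal.mem_span_singleton']
    refine ⟨m₁, ?_⟩
    rw [hm₁, Algebra.smul_def, map_pow, mul_comm]
  · intro x
    obtain ⟨x', rfl⟩ := Ideal.Quotient.mk_surjective x
    obtain ⟨m, y', rfl⟩ := Groth.Agent.Lead.Glue.exists_tmul_add_smul A hq n x'
    refine ⟨Ideal.Quotient.mk _ m, ?_⟩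
    rw [Ideal.quotientMap_mk, Ideal.Quotient.eq]
    have h2 : f ^ n • y' ∈
        Ideal.map (algebraMap A (R' ⊗[R] A)) (Ideal.span {algebraMap R A f ^ n}) := by
      rw [← pow_smul_eq (A := A)]
      have h0 := Ideal.mem_map_of_mem (algebraMap A (R' ⊗[R] A))
        (Ideal.mem_span_singleton_self (algebraMap R A f ^ n))
      rw [map_pow] at h0
      exact Ideal.mul_mem_right _ _ h0
    have h3 : algebraMap A (R' ⊗[R] A) m - ((1 : R') ⊗ₜ[R] m + f ^ n • y') = -(f ^ n • y') := by
      rw [Algebra.TensorProduct.right_algebraMap_apply]; abel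
    rw [h3]; exact neg_mem h2

theorem glueingPair (hgp : EtGlue.IsGlueingPair R R' f) (hA : EtGlue.IsGlueable R R' f A) :
    EtGlue.IsGlueingPair A (R' ⊗[R] A) (algebraMap R A f) := by
  have hq := hgp.1
  rw [Groth.Agent.Lead.Glue.isGlueingPair_iff (quotPow hq)]
  obtain ⟨h1, h2⟩ := (Groth.Agent.Lead.Glue.isGlueable_iff hq A).1 hA
  refine ⟨fun x ⟨n, hn⟩ hx => h1 x ⟨n, ?_⟩ hx, fun x' ⟨n, hn⟩ => ?_⟩
  · rw [Algebra.smul_def, map_pow]; exact hn
  · obtain ⟨m, ⟨k, hk⟩, hm⟩ := h2 x' ⟨n, by rw [← pow_smul_eq]; exact hn⟩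
    exact ⟨m, ⟨k, by rw [← map_pow, ← Algebra.smul_def]; exact hk⟩, hm⟩

end Pair

section F3

variable {R R' A B : Type u} [CommRing R] [CommRing R'] [CommRing A] [CommRing B]
  [Algebra R R'] [Algebra R A] [Algebra R B] [Algebra A B] [IsScalarTower R A B]

lemma map_id_eq (g : A →ₐ[R] B) (x : R' ⊗[R] A) :
    Algebra.TensorProduct.map (AlgHom.id R' R') g x =
      Algebra.TensorProduct.map (AlgHom.id R R') g x := by
  induction x using TensorProduct.induction_on with
  | zero => simp
  | tmul a b => simp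
  | add a b ha hb => simp only [map_add, ha, hb]

variable (R R' A B) in
/-- The ring isomorphism `R' ⊗[R] B ≃ (R' ⊗[R] A) ⊗[A] B`. -/
noncomputable def e3 : R' ⊗[R] B ≃+* (R' ⊗[R] A) ⊗[A] B :=
  ((Algebra.IsPushout.cancelBaseChangeAlg R R' A (R' ⊗[R] A) B).symm : _ ≃+* _)

theorem e3_comp :
    algebraMap (R' ⊗[R] A) ((R' ⊗[R] A) ⊗[A] B) =
      ((e3 R R' A B : R' ⊗[R] B →+* (R' ⊗[R] A) ⊗[A] B)).comp
        (Algebra.TensorProduct.map (AlgHom.id R R') (IsScalarTower.toAlgHom R A B)).toRingHom := by
  have key := Algebra.IsPushout.cancelBaseChange_symm_comp_lTensor (R := R) (A := A) (C := B)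
    (S := R')
  refine RingHom.ext fun x => ?_
  have h3 := DFunLike.congr_fun key x
  have h4 : (Algebra.IsPushout.cancelBaseChangeAlg R R' A (R' ⊗[R] A) B).symm
      (Algebra.TensorProduct.map (AlgHom.id R R') (IsScalarTower.toAlgHom R A B) x) =
      (Algebra.TensorProduct.includeLeft :
        (R' ⊗[R] A) →ₐ[R'] (R' ⊗[R] A) ⊗[A] B) x := by
    rw [← map_id_eq]; exact h3
  exact h4.symm

theorem map_flat_iff :
    (Algebra.TensorProduct.map (AlgHom.id R R') (IsScalarTower.toAlgHom R A B)).toRingHom.Flat ↔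
      Module.Flat (R' ⊗[R] A) ((R' ⊗[R] A) ⊗[A] B) := by
  rw [← RingHom.flat_algebraMap_iff, e3_comp,
    RingHom.Flat.comp_iff_of_bijective_left (RingEquiv.bijective _)]

end F3

section F4

variable {A B : Type u} [CommRing A] [CommRing B] [Algebra A B] (a : A)

instance isLoc4 : IsLocalization (Submonoid.powers (algebraMap A B a))
    (Localization.Away a ⊗[A] B) := by
  have := IsLocalization.tensorRight (S := B) (Localization.Away a) (Submonoid.powers a)
  rwa [Algebra.algebraMapSubmonoid_powers] at this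

/-- The ring isomorphism `B_a ≃ A_a ⊗[A] B`. -/
noncomputable def e4 : Localization.Away (algebraMap A B a) ≃ₐ[B] Localization.Away a ⊗[A] B :=
  IsLocalization.algEquiv (Submonoid.powers (algebraMap A B a)) _ _

theorem e4_comp :
    algebraMap (Localization.Away a) (Localization.Away a ⊗[A] B) =
      ((e4 (B := B) a).toRingEquiv :
        Localization.Away (algebraMap A B a) →+* Localization.Away a ⊗[A] B).comp
        (Localization.awayMap (algebraMap A B) a) := by
  apply IsLocalization.ringHom_ext (Submonoid.powers a)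
  refine RingHom.ext fun x => ?_
  have h6 : Localization.awayMap (algebraMap A B) a (algebraMap A _ x) =
      algebraMap B _ (algebraMap A B x) := IsLocalization.map_eq _ x
  have h7 : e4 (B := B) a (algebraMap B _ (algebraMap A B x)) =
      algebraMap B _ (algebraMap A B x) :=
    (e4 (B := B) a).commutes _
  have h8 : algebraMap (Localization.Away a) (Localization.Away a ⊗[A] B)
      (algebraMap A (Localization.Away a) x) = algebraMap B _ (algebraMap A B x) := by
    rw [Algebra.TensorProduct.algebraMap_apply, Algebra.TensorProduct.right_algebraMap_apply,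
      Algebra.algebraMap_self, RingHom.id_apply,
      Algebra.algebraMap_eq_smul_one x, Algebra.algebraMap_eq_smul_one x, smul_tmul]
  simp only [RingHom.comp_apply]
  rw [h8, h6]
  exact h7.symm

theorem awayMap_flat_iff :
    (Localization.awayMap (algebraMap A B) a).Flat ↔
      Module.Flat (Localization.Away a) (Localization.Away a ⊗[A] B) := by
  rw [← RingHom.flat_algebraMap_iff, e4_comp,
    RingHom.Flat.comp_iff_of_bijective_left (RingEquiv.bijective _)]

end F4

theorem main' {R : Type u} [CommRing R] {R' : Type u} [CommRing R'] [Algebra R R'] {f : R}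
    (hRR' : EtGlue.IsGlueingPair R R' f) (A B : Type u) [CommRing A] [Algebra R A] [CommRing B]
    [Algebra R B] [Algebra A B] [IsScalarTower R A B]
    (hA : EtGlue.IsGlueable R R' f A) :
    Module.Flat A B ↔ (Localization.awayMap (algebraMap A B) (algebraMap R A f)).Flat ∧
      (Algebra.TensorProduct.map (AlgHom.id R R') (IsScalarTower.toAlgHom R A B)).toRingHom.Flat := by
  rw [awayMap_flat_iff, map_flat_iff]
  constructor
  · intro h; exact ⟨inferInstance, inferInstance⟩
  · rintro ⟨h1, h2⟩
    haveI := h1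
    haveI := h2
    exact Groth.Agent.Lead.GlueFlat.flat_of_glueingPair (glueingPair hRR' hA) B

theorem main (R : Type u) [CommRing R] (R' : Type u) [CommRing R'] [Algebra R R'] (f : R)
    (hRR' : EtGlue.IsGlueingPair R R' f) (A B : Type u) [CommRing A] [Algebra R A] [CommRing B]
    [Algebra R B]
    (hA : EtGlue.IsGlueable R R' f A) (hB : EtGlue.IsGlueable R R' f B) (φ : A →ₐ[R] B) :
    φ.toRingHom.Flat ↔ (Localization.awayMap φ.toRingHom (algebraMap R A f)).Flat ∧
      (Algebra.TensorProduct.map (AlgHom.id R R') φ).toRingHom.Flat := by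
  letI : Algebra A B := φ.toRingHom.toAlgebra
  haveI : IsScalarTower R A B := IsScalarTower.of_algebraMap_eq fun r => (φ.commutes r).symm
  exact main' hRR' A B hA

end Groth.Agent.Helper12.GlueRing
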