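import Mathlib
import Groth.Prelude.Def_EtGlue
import Groth.Agent.Lib.Lead.GlueFlat
import Groth.Agent.Lib.Lead.Glue4
import Groth.Agent.Lib.Helper12.GlueRing

set_option autoImplicit false
universe u
open TensorProduct

namespace Groth.Agent.Helper12.GlueRing

attribute [local instance] Algebra.TensorProduct.rightAlgebra

/-! ### transfer of ring hom properties along the isomorphisms `e3`, `e4` -/

lemma respectsIso_comp_iff {P : ∀ {R S : Type u} [CommRing R] [CommRing S], (R →+* S) → Prop}
    (hP : RingHom.RespectsIso @P) {X Y Z : Type u} [CommRing X] [CommRing Y] [CommRing Z]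
    (g : X →+* Y) (e : Y ≃+* Z) : P (e.toRingHom.comp g) ↔ P g := by
  constructor
  · intro h
    have h1 := hP.1 (e.toRingHom.comp g) e.symm h
    have h2 : e.symm.toRingHom.comp (e.toRingHom.comp g) = g := by
      ext x; simp
    rwa [h2] at h1
  · intro h; exact hP.1 g e h

section transfer

variable {P : ∀ {R S : Type u} [CommRing R] [CommRing S], (R →+* S) → Prop}

theorem map_iff (hP : RingHom.RespectsIso @P) {R R' A B : Type u} [CommRing R] [CommRing R']
    [CommRing A] [CommRing B]
    [Algebra R R'] [Algebra R A] [Algebra R B] [Algebra A B] [IsScalarTower R A B] :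
    P (Algebra.TensorProduct.map (AlgHom.id R R') (IsScalarTower.toAlgHom R A B)).toRingHom ↔
      P (algebraMap (R' ⊗[R] A) ((R' ⊗[R] A) ⊗[A] B)) := by
  rw [e3_comp]
  exact (respectsIso_comp_iff hP
    (Algebra.TensorProduct.map (AlgHom.id R R') (IsScalarTower.toAlgHom R A B)).toRingHom
    (e3 R R' A B)).symm

theorem awayMap_iff (hP : RingHom.RespectsIso @P) {A B : Type u} [CommRing A] [CommRing B]
    [Algebra A B] (a : A) :
    P (Localization.awayMap (algebraMap A B) a) ↔
      P (algebraMap (Localization.Away a) (Localization.Away a ⊗[A] B)) := by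
  rw [e4_comp]
  exact (respectsIso_comp_iff hP (Localization.awayMap (algebraMap A B) a)
    (e4 (B := B) a).toRingEquiv).symm

end transfer

/-! ### a module killed by both base changes of a glueing pair is zero -/

theorem subsingleton_of_glue {A A' : Type u} [CommRing A] [CommRing A'] [Algebra A A'] {a : A}
    (hq : EtGlue.QuotPowBijective A A' a) (M : Type u) [AddCommGroup M] [Module A M]
    [Subsingleton (Localization.Away a ⊗[A] M)] [Subsingleton (A' ⊗[A] M)] : Subsingleton M := by
  have htors : ∀ m : M, ∃ n, a ^ n • m = 0 := by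
    intro m
    have h0 : TensorProduct.mk A (Localization.Away a) M 1 m = 0 := Subsingleton.elim _ _
    obtain ⟨⟨_, n, rfl⟩, hc⟩ := (IsLocalizedModule.eq_zero_iff (Submonoid.powers a)
      (TensorProduct.mk A (Localization.Away a) M 1)).mp h0
    exact ⟨n, hc⟩
  refine ⟨fun m₁ m₂ => ?_⟩
  rw [Groth.Agent.Lead.Glue.eq_zero_of_tmul_eq_zero hq htors m₁ (Subsingleton.elim _ _),
    Groth.Agent.Lead.Glue.eq_zero_of_tmul_eq_zero hq htors m₂ (Subsingleton.elim _ _)]

/-! ### descent of finite presentation -/

section FP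

variable {A : Type u} [CommRing A] {P B : Type u} [CommRing P] [CommRing B]
  [Algebra A P] [Algebra A B]

/-- the kernel of `π` as an `A`-submodule -/
abbrev kerA (π : P →ₐ[A] B) : Submodule A P := (RingHom.ker π).restrictScalars A

/-- the quotient `K / K₀` as an `A`-module -/
abbrev Tq (π : P →ₐ[A] B) (K₀ : Ideal P) : Type u :=
  ↥(kerA π) ⧸ Submodule.comap (kerA π).subtype (K₀.restrictScalars A)

theorem exists_gens (N : Type u) [CommRing N] [Algebra A N]
    (π : P →ₐ[A] B) (hπ : Function.Surjective π)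
    [Algebra.FinitePresentation N (N ⊗[A] P)] [Algebra.FinitePresentation N (N ⊗[A] B)] :
    ∃ F : Finset P, (∀ p ∈ F, p ∈ RingHom.ker π) ∧
      (RingHom.ker π).map (Algebra.TensorProduct.includeRight : P →ₐ[A] N ⊗[A] P) ≤
        Ideal.span ((Algebra.TensorProduct.includeRight : P →ₐ[A] N ⊗[A] P) '' (F : Set P)) := by
  classical
  have hsurj : Function.Surjective (Algebra.TensorProduct.map (AlgHom.id N N) π) := by
    intro z
    induction z using TensorProduct.induction_on with
    | zero => exact ⟨0, map_zero _⟩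
    | tmul n b =>
      obtain ⟨p, rfl⟩ := hπ b
      exact ⟨n ⊗ₜ p, by simp⟩
    | add x y hx hy =>
      obtain ⟨w1, rfl⟩ := hx
      obtain ⟨w2, rfl⟩ := hy
      exact ⟨w1 + w2, map_add _ _ _⟩
  have hker : RingHom.ker (Algebra.TensorProduct.map (AlgHom.id N N) π) =
      (RingHom.ker π).map (Algebra.TensorProduct.includeRight : P →ₐ[A] N ⊗[A] P) :=
    Algebra.TensorProduct.lTensor_ker π hπ
  have hfg : (RingHom.ker (Algebra.TensorProduct.map (AlgHom.id N N) π).toRingHom).FG :=
    Algebra.FinitePresentation.ker_fG_of_surjective _ hsurj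
  have hfg2 : (RingHom.ker (Algebra.TensorProduct.map (AlgHom.id N N) π)).FG := hfg
  rw [hker] at hfg2
  have hfg' : (Submodule.span (N ⊗[A] P)
      ((Algebra.TensorProduct.includeRight : P →ₐ[A] N ⊗[A] P) '' (RingHom.ker π : Set P))).FG :=
    hfg2
  obtain ⟨s', hs'sub, hs'⟩ := (Submodule.fg_span_iff_fg_span_finset_subset _).mp hfg'
  have h : ∀ t ∈ s', ∃ p : P, p ∈ RingHom.ker π ∧
      (Algebra.TensorProduct.includeRight : P →ₐ[A] N ⊗[A] P) p = t :=
    fun t ht => hs'sub (Finset.mem_coe.mpr ht)
  choose! k hk using h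
  refine ⟨s'.image k, ?_, ?_⟩
  · intro p hp
    obtain ⟨t, ht, rfl⟩ := Finset.mem_image.mp hp
    exact (hk t ht).1
  · show Submodule.span (N ⊗[A] P)
      ((Algebra.TensorProduct.includeRight : P →ₐ[A] N ⊗[A] P) '' (RingHom.ker π : Set P)) ≤
      Submodule.span (N ⊗[A] P)
        ((Algebra.TensorProduct.includeRight : P →ₐ[A] N ⊗[A] P) '' ((s'.image k : Finset P) : Set P))
    rw [hs']
    apply Submodule.span_mono
    intro t ht
    exact ⟨k t, Finset.mem_coe.mpr (Finset.mem_image_of_mem k (Finset.mem_coe.mp ht)),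
      (hk t (Finset.mem_coe.mp ht)).2⟩

theorem subsingleton_tensor_quot (π : P →ₐ[A] B) (K₀ : Ideal P) (hK₀ : K₀ ≤ RingHom.ker π)
    (N : Type u) [CommRing N] [Algebra A N]
    (hinj : Function.Injective (LinearMap.lTensor N (kerA π).subtype))
    (hmap : (RingHom.ker π).map (Algebra.TensorProduct.includeRight : P →ₐ[A] N ⊗[A] P) ≤
      K₀.map (Algebra.TensorProduct.includeRight : P →ₐ[A] N ⊗[A] P)) :
    Subsingleton (N ⊗[A] Tq π K₀) := by
  have hle : K₀.restrictScalars A ≤ kerA π := fun x hx => hK₀ hx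
  have hq0 : (Submodule.comap (kerA π).subtype (K₀.restrictScalars A)).mkQ ∘ₗ
      Submodule.inclusion hle = 0 := by
    ext x
    simp only [LinearMap.comp_apply, Submodule.mkQ_apply, LinearMap.zero_apply,
      Submodule.Quotient.mk_eq_zero, Submodule.mem_comap, Submodule.subtype_apply,
      Submodule.coe_inclusion]
    exact x.2
  have hsub : (kerA π).subtype ∘ₗ Submodule.inclusion hle = (K₀.restrictScalars A).subtype :=
    Submodule.subtype_comp_inclusion _ _ hle
  suffices h : ∀ z : N ⊗[A] Tq π K₀, z = 0 from ⟨fun z w => by rw [h z, h w]⟩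
  intro z
  obtain ⟨x, rfl⟩ := LinearMap.lTensor_surjective N (Submodule.mkQ_surjective _) z
  have hx : LinearMap.lTensor N (kerA π).subtype x ∈
      LinearMap.range (LinearMap.lTensor N (K₀.restrictScalars A).subtype) := by
    have h1 : LinearMap.lTensor N (kerA π).subtype x ∈
        ((RingHom.ker π).map
          (Algebra.TensorProduct.includeRight : P →ₐ[A] N ⊗[A] P)).restrictScalars A := by
      rw [Ideal.map_includeRight_eq]; exact ⟨x, rfl⟩
    have h2 : LinearMap.lTensor N (kerA π).subtype x ∈
        (K₀.map (Algebra.TensorProduct.includeRight : P →ₐ[A] N ⊗[A] P)).restrictScalars A :=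
      hmap h1
    rw [Ideal.map_includeRight_eq] at h2; exact h2
  obtain ⟨y, hy⟩ := hx
  have hxy : x = LinearMap.lTensor N (Submodule.inclusion hle) y := by
    apply hinj
    rw [← LinearMap.comp_apply, ← LinearMap.lTensor_comp, hsub, hy]
  rw [hxy, ← LinearMap.comp_apply, ← LinearMap.lTensor_comp, hq0, LinearMap.lTensor_zero,
    LinearMap.zero_apply]

end FP

theorem fp_of_glue {A A' : Type u} [CommRing A] [CommRing A'] [Algebra A A'] {a : A}
    (hq : EtGlue.QuotPowBijective A A' a) (B : Type u) [CommRing B] [Algebra A B]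
    [Module.Flat A B] [Algebra.FiniteType A B]
    [Algebra.FinitePresentation (Localization.Away a) (Localization.Away a ⊗[A] B)]
    [Algebra.FinitePresentation A' (A' ⊗[A] B)] : Algebra.FinitePresentation A B := by
  classical
  obtain ⟨n, π, hπ⟩ := Algebra.FiniteType.iff_quotient_mvPolynomial''.mp
    (inferInstance : Algebra.FiniteType A B)
  obtain ⟨F1, hF1K, hF1⟩ := exists_gens (Localization.Away a) π hπ
  obtain ⟨F2, hF2K, hF2⟩ := exists_gens A' π hπ
  refine Algebra.FinitePresentation.of_surjective hπ ?_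
  have hK₀ : Ideal.span ((F1 ∪ F2 : Finset (MvPolynomial (Fin n) A)) : Set (MvPolynomial (Fin n) A))
      ≤ RingHom.ker π := by
    rw [Ideal.span_le]; intro p hp
    rcases Finset.mem_union.mp (Finset.mem_coe.mp hp) with h | h
    · exact hF1K p h
    · exact hF2K p h
  have hex : Function.Exact (kerA π).subtype π.toLinearMap := by
    intro y
    constructor
    · intro h
      exact ⟨⟨y, RingHom.mem_ker.mpr h⟩, rfl⟩
    · rintro ⟨x, rfl⟩
      have hx2 : (x : MvPolynomial (Fin n) A) ∈ RingHom.ker π := x.2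
      have hx3 : π (x : MvPolynomial (Fin n) A) = 0 := (RingHom.mem_ker (f := π)).mp hx2
      exact hx3
  have hinj1 : Function.Injective (LinearMap.lTensor (Localization.Away a) (kerA π).subtype) :=
    Module.Flat.lTensor_preserves_injective_linearMap _ (Submodule.injective_subtype _)
  have hinj2 : Function.Injective (LinearMap.lTensor A' (kerA π).subtype) :=
    LinearMap.lTensor_injective_of_exact_of_flat π.toLinearMap hπ (kerA π).subtype
      (Submodule.injective_subtype _) hex A'
  have hmap1 : (RingHom.ker π).map (Algebra.TensorProduct.includeRight :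
        MvPolynomial (Fin n) A →ₐ[A] Localization.Away a ⊗[A] MvPolynomial (Fin n) A) ≤
      (Ideal.span ((F1 ∪ F2 : Finset (MvPolynomial (Fin n) A)) :
        Set (MvPolynomial (Fin n) A))).map Algebra.TensorProduct.includeRight := by
    refine hF1.trans (Ideal.span_le.mpr ?_)
    rintro _ ⟨p, hp, rfl⟩
    exact Ideal.mem_map_of_mem _ (Ideal.subset_span
      (Finset.mem_coe.mpr (Finset.mem_union_left _ (Finset.mem_coe.mp hp))))
  have hmap2 : (RingHom.ker π).map (Algebra.TensorProduct.includeRight :
        MvPolynomial (Fin n) A →ₐ[A] A' ⊗[A] MvPolynomial (Fin n) A) ≤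
      (Ideal.span ((F1 ∪ F2 : Finset (MvPolynomial (Fin n) A)) :
        Set (MvPolynomial (Fin n) A))).map Algebra.TensorProduct.includeRight := by
    refine hF2.trans (Ideal.span_le.mpr ?_)
    rintro _ ⟨p, hp, rfl⟩
    exact Ideal.mem_map_of_mem _ (Ideal.subset_span
      (Finset.mem_coe.mpr (Finset.mem_union_right _ (Finset.mem_coe.mp hp))))
  haveI := subsingleton_tensor_quot π _ hK₀ (Localization.Away a) hinj1 hmap1
  haveI := subsingleton_tensor_quot π _ hK₀ A' hinj2 hmap2
  have hT : Subsingleton (Tq π (Ideal.span ((F1 ∪ F2 : Finset (MvPolynomial (Fin n) A)) :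
      Set (MvPolynomial (Fin n) A)))) := subsingleton_of_glue hq _
  have hle : RingHom.ker π ≤ Ideal.span ((F1 ∪ F2 : Finset (MvPolynomial (Fin n) A)) :
      Set (MvPolynomial (Fin n) A)) := by
    intro k hk
    have h0 := Subsingleton.elim (Submodule.Quotient.mk (⟨k, hk⟩ : kerA π) :
      Tq π (Ideal.span ((F1 ∪ F2 : Finset (MvPolynomial (Fin n) A)) :
        Set (MvPolynomial (Fin n) A)))) 0
    rw [Submodule.Quotient.mk_eq_zero] at h0
    exact h0
  have hEq : RingHom.ker π.toRingHom = Ideal.span ((F1 ∪ F2 : Finset (MvPolynomial (Fin n) A)) :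
      Set (MvPolynomial (Fin n) A)) := le_antisymm hle hK₀
  rw [hEq]; exact ⟨F1 ∪ F2, rfl⟩

/-! ### descent of formal unramifiedness -/

theorem fu_of_glue {A A' : Type u} [CommRing A] [CommRing A'] [Algebra A A'] {a : A}
    (hq : EtGlue.QuotPowBijective A A' a) (B : Type u) [CommRing B] [Algebra A B]
    [Algebra.FormallyUnramified (Localization.Away a) (Localization.Away a ⊗[A] B)]
    [Algebra.FormallyUnramified A' (A' ⊗[A] B)] : Algebra.FormallyUnramified A B := by
  haveI : Subsingleton (Localization.Away a ⊗[A] Ω[B⁄A]) :=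
    (KaehlerDifferential.tensorKaehlerEquivBase A (Localization.Away a) B
      (Localization.Away a ⊗[A] B)).toEquiv.subsingleton
  haveI : Subsingleton (A' ⊗[A] Ω[B⁄A]) :=
    (KaehlerDifferential.tensorKaehlerEquivBase A A' B (A' ⊗[A] B)).toEquiv.subsingleton
  exact ⟨subsingleton_of_glue hq _⟩

end Groth.Agent.Helper12.GlueRing
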