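import Mathlib
import Groth.Prelude.Def_EtGlue
import Groth.Agent.Lib.Helper12.GlueRing2

set_option autoImplicit false
universe u
open TensorProduct

namespace Groth.Agent.Helper12.GlueRing

attribute [local instance] Algebra.TensorProduct.rightAlgebra

section

variable {R : Type u} [CommRing R] {R' : Type u} [CommRing R'] [Algebra R R'] {f : R}

theorem main23' (hRR' : EtGlue.IsGlueingPair R R' f) (A B : Type u) [CommRing A] [Algebra R A]
    [CommRing B] [Algebra R B] [Algebra A B] [IsScalarTower R A B]
    (hA : EtGlue.IsGlueable R R' f A) :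
    (Module.Flat A B ∧ Algebra.FinitePresentation A B) ↔
      ((Localization.awayMap (algebraMap A B) (algebraMap R A f)).Flat ∧
        (Localization.awayMap (algebraMap A B) (algebraMap R A f)).FinitePresentation) ∧
      ((Algebra.TensorProduct.map (AlgHom.id R R') (IsScalarTower.toAlgHom R A B)).toRingHom.Flat ∧
        (Algebra.TensorProduct.map (AlgHom.id R R')
          (IsScalarTower.toAlgHom R A B)).toRingHom.FinitePresentation) := by
  constructor
  · rintro ⟨h1, h2⟩
    exact ⟨⟨(awayMap_flat_iff _).mpr inferInstance,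
      (awayMap_iff RingHom.finitePresentation_respectsIso _).mpr
        (RingHom.finitePresentation_algebraMap.mpr inferInstance)⟩,
      ⟨map_flat_iff.mpr inferInstance,
      (map_iff RingHom.finitePresentation_respectsIso).mpr
        (RingHom.finitePresentation_algebraMap.mpr inferInstance)⟩⟩
  · rintro ⟨⟨h1, h2⟩, ⟨h3, h4⟩⟩
    have hflat : Module.Flat A B := (main' hRR' A B hA).mpr ⟨h1, h3⟩
    have hft : Algebra.FiniteType A B := by
      have h5 := Groth.Agent.Lead.Glue4.finiteType_of_glue hRR'.1 (IsScalarTower.toAlgHom R A B)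
        (RingHom.FiniteType.of_finitePresentation h2) (RingHom.FiniteType.of_finitePresentation h4)
      exact RingHom.finiteType_algebraMap.mp h5
    have hfp1 : Algebra.FinitePresentation (Localization.Away (algebraMap R A f))
        (Localization.Away (algebraMap R A f) ⊗[A] B) :=
      RingHom.finitePresentation_algebraMap.mp
        ((awayMap_iff RingHom.finitePresentation_respectsIso _).mp h2)
    have hfp2 : Algebra.FinitePresentation (R' ⊗[R] A) ((R' ⊗[R] A) ⊗[A] B) :=
      RingHom.finitePresentation_algebraMap.mp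
        ((map_iff RingHom.finitePresentation_respectsIso).mp h4)
    exact ⟨hflat, fp_of_glue (quotPow hRR'.1) B⟩

theorem fu' (hRR' : EtGlue.IsGlueingPair R R' f) (A B : Type u) [CommRing A] [Algebra R A]
    [CommRing B] [Algebra R B] [Algebra A B] [IsScalarTower R A B] :
    Algebra.FormallyUnramified A B ↔
      (Localization.awayMap (algebraMap A B) (algebraMap R A f)).FormallyUnramified ∧
      (Algebra.TensorProduct.map (AlgHom.id R R')
        (IsScalarTower.toAlgHom R A B)).toRingHom.FormallyUnramified := by
  constructor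
  · intro h
    exact ⟨(awayMap_iff RingHom.FormallyUnramified.respectsIso _).mpr
        (RingHom.formallyUnramified_algebraMap.mpr inferInstance),
      (map_iff RingHom.FormallyUnramified.respectsIso).mpr
        (RingHom.formallyUnramified_algebraMap.mpr inferInstance)⟩
  · rintro ⟨h1, h2⟩
    have hfu1 : Algebra.FormallyUnramified (Localization.Away (algebraMap R A f))
        (Localization.Away (algebraMap R A f) ⊗[A] B) :=
      RingHom.formallyUnramified_algebraMap.mp
        ((awayMap_iff RingHom.FormallyUnramified.respectsIso _).mp h1)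
    have hfu2 : Algebra.FormallyUnramified (R' ⊗[R] A) ((R' ⊗[R] A) ⊗[A] B) :=
      RingHom.formallyUnramified_algebraMap.mp
        ((map_iff RingHom.FormallyUnramified.respectsIso).mp h2)
    exact fu_of_glue (quotPow hRR'.1) B

theorem main24' (hRR' : EtGlue.IsGlueingPair R R' f) (A B : Type u) [CommRing A] [Algebra R A]
    [CommRing B] [Algebra R B] [Algebra A B] [IsScalarTower R A B]
    (hA : EtGlue.IsGlueable R R' f A) :
    (algebraMap A B).Etale ↔
      (Localization.awayMap (algebraMap A B) (algebraMap R A f)).Etale ∧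
      (Algebra.TensorProduct.map (AlgHom.id R R')
        (IsScalarTower.toAlgHom R A B)).toRingHom.Etale := by
  rw [RingHom.Etale.iff_flat_and_formallyUnramified, RingHom.Etale.iff_flat_and_formallyUnramified,
    RingHom.Etale.iff_flat_and_formallyUnramified, RingHom.flat_algebraMap_iff,
    RingHom.formallyUnramified_algebraMap, RingHom.finitePresentation_algebraMap]
  have h23 := main23' hRR' A B hA
  have hfu := fu' (f := f) hRR' A B
  constructor
  · rintro ⟨h1, h2, h3⟩
    obtain ⟨⟨a1, a2⟩, ⟨a3, a4⟩⟩ := h23.mp ⟨h1, h3⟩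
    obtain ⟨b1, b2⟩ := hfu.mp h2
    exact ⟨⟨a1, b1, a2⟩, ⟨a3, b2, a4⟩⟩
  · rintro ⟨⟨a1, b1, a2⟩, ⟨a3, b2, a4⟩⟩
    obtain ⟨h1, h3⟩ := h23.mpr ⟨⟨a1, a2⟩, ⟨a3, a4⟩⟩
    exact ⟨h1, hfu.mpr ⟨b1, b2⟩, h3⟩

end

theorem main23 (R : Type u) [CommRing R] (R' : Type u) [CommRing R'] [Algebra R R'] (f : R)
    (hRR' : EtGlue.IsGlueingPair R R' f) (A B : Type u) [CommRing A] [Algebra R A] [CommRing B]
    [Algebra R B]
    (hA : EtGlue.IsGlueable R R' f A) (hB : EtGlue.IsGlueable R R' f B) (φ : A →ₐ[R] B) :
    (φ.toRingHom.Flat ∧ φ.toRingHom.FinitePresentation) ↔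
      ((Localization.awayMap φ.toRingHom (algebraMap R A f)).Flat ∧
        (Localization.awayMap φ.toRingHom (algebraMap R A f)).FinitePresentation) ∧
        ((Algebra.TensorProduct.map (AlgHom.id R R') φ).toRingHom.Flat ∧
          (Algebra.TensorProduct.map (AlgHom.id R R') φ).toRingHom.FinitePresentation) := by
  letI : Algebra A B := φ.toRingHom.toAlgebra
  haveI : IsScalarTower R A B := IsScalarTower.of_algebraMap_eq fun r => (φ.commutes r).symm
  exact main23' hRR' A B hA

theorem main24 (R : Type u) [CommRing R] (R' : Type u) [CommRing R'] [Algebra R R'] (f : R)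
    (hRR' : EtGlue.IsGlueingPair R R' f) (A B : Type u) [CommRing A] [Algebra R A] [CommRing B]
    [Algebra R B]
    (hA : EtGlue.IsGlueable R R' f A) (hB : EtGlue.IsGlueable R R' f B) (φ : A →ₐ[R] B) :
    φ.toRingHom.Etale ↔ (Localization.awayMap φ.toRingHom (algebraMap R A f)).Etale ∧
      (Algebra.TensorProduct.map (AlgHom.id R R') φ).toRingHom.Etale := by
  letI : Algebra A B := φ.toRingHom.toAlgebra
  haveI : IsScalarTower R A B := IsScalarTower.of_algebraMap_eq fun r => (φ.commutes r).symm
  exact main24' hRR' A B hA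

end Groth.Agent.Helper12.GlueRing
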