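import Mathlib

/-!
# A graded algebra with finite graded pieces is generated in degree one if its
geometric fibres are (S13623)
-/

namespace Groth.Agent.Helper12.GradedGen

open TensorProduct

universe u

variable {A : Type u} [CommRing A] {B : Type u} [CommRing B] [Algebra A B]
  (𝒜 : ℕ → Submodule A B) [GradedAlgebra 𝒜]

theorem pow_le (m : ℕ) : (𝒜 1) ^ m ≤ 𝒜 m := by
  induction m with
  | zero =>
    rw [pow_zero, Submodule.one_le]
    exact SetLike.one_mem_graded 𝒜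
  | succ m ih =>
    rw [pow_succ, Submodule.mul_le]
    intro a ha b hb
    exact SetLike.mul_mem_graded (ih ha) hb

theorem pow_le_adjoin (m : ℕ) :
    (𝒜 1) ^ m ≤ Subalgebra.toSubmodule (Algebra.adjoin A (𝒜 1 : Set B)) := by
  induction m with
  | zero =>
    rw [pow_zero, Submodule.one_le]
    exact one_mem (Algebra.adjoin A (𝒜 1 : Set B))
  | succ m ih =>
    rw [pow_succ, Submodule.mul_le]
    intro a ha b hb
    exact (Algebra.adjoin A (𝒜 1 : Set B)).mul_mem (ih ha) (Algebra.subset_adjoin hb)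

/-- projection onto the degree `m` part. -/
noncomputable def proj (m : ℕ) : B →ₗ[A] 𝒜 m :=
  (GradedAlgebra.proj 𝒜 m).codRestrict (𝒜 m) (fun b => by
    rw [GradedAlgebra.proj_apply]; exact SetLike.coe_mem _)

theorem proj_of_mem {m : ℕ} {b : B} (hb : b ∈ 𝒜 m) : proj 𝒜 m b = ⟨b, hb⟩ := by
  apply Subtype.ext
  show GradedAlgebra.proj 𝒜 m b = b
  rw [GradedAlgebra.proj_apply, DirectSum.decompose_of_mem_same 𝒜 hb]

theorem proj_of_mem_ne {m d : ℕ} {b : B} (hb : b ∈ 𝒜 d) (hne : d ≠ m) : proj 𝒜 m b = 0 := by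
  apply Subtype.ext
  show GradedAlgebra.proj 𝒜 m b = 0
  rw [GradedAlgebra.proj_apply, DirectSum.decompose_of_mem_ne 𝒜 hb hne]

theorem proj_surjective (m : ℕ) : Function.Surjective (proj 𝒜 m) := by
  intro x
  exact ⟨x.1, by rw [proj_of_mem 𝒜 x.2]⟩

theorem fibre_zero (k : Type u) [Field k] [Algebra A k]
    (hk : Algebra.adjoin k ((Algebra.TensorProduct.includeRight : B →ₐ[A] k ⊗[A] B) ''
      (𝒜 1 : Set B)) = ⊤) (m : ℕ) :
    Subsingleton (k ⊗[A] ((𝒜 m) ⧸ (((𝒜 1) ^ m).comap (𝒜 m).subtype))) := by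
  classical
  set N' : Submodule A (𝒜 m) := ((𝒜 1) ^ m).comap (𝒜 m).subtype with hN'
  have hspan : Submodule.span k (Submonoid.closure
      ((Algebra.TensorProduct.includeRight : B →ₐ[A] k ⊗[A] B) '' (𝒜 1 : Set B)) :
        Set (k ⊗[A] B)) = ⊤ := by
    rw [← Algebra.adjoin_eq_span, hk, Algebra.top_toSubmodule]
  -- elements of the closure
  have hcl : ∀ z ∈ Submonoid.closure
      ((Algebra.TensorProduct.includeRight : B →ₐ[A] k ⊗[A] B) '' (𝒜 1 : Set B)),
      ∃ d : ℕ, ∃ b' ∈ (𝒜 1) ^ d, z = (1 : k) ⊗ₜ[A] b' := by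
    intro z hz
    induction hz using Submonoid.closure_induction with
    | mem x hx =>
      obtain ⟨b, hb, rfl⟩ := hx
      exact ⟨1, b, by rw [pow_one]; exact hb, rfl⟩
    | one =>
      refine ⟨0, 1, ?_, rfl⟩
      rw [pow_zero]
      exact Submodule.one_le.mp le_rfl
    | mul x y _ _ ihx ihy =>
      obtain ⟨d1, b1, hb1, rfl⟩ := ihx
      obtain ⟨d2, b2, hb2, rfl⟩ := ihy
      refine ⟨d1 + d2, b1 * b2, ?_, ?_⟩
      · rw [pow_add]
        exact Submodule.mul_mem_mul hb1 hb2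
      · rw [Algebra.TensorProduct.tmul_mul_tmul, one_mul]
  -- the map
  let F : k ⊗[A] B →ₗ[k] k ⊗[A] ((𝒜 m) ⧸ N') := (N'.mkQ ∘ₗ proj 𝒜 m).baseChange k
  have hFsurj : Function.Surjective F := by
    show Function.Surjective ((N'.mkQ ∘ₗ proj 𝒜 m).baseChange k)
    rw [LinearMap.baseChange_eq_ltensor]
    apply LinearMap.lTensor_surjective
    exact (Submodule.mkQ_surjective N').comp (proj_surjective 𝒜 m)
  have hker : LinearMap.ker F = ⊤ := by
    rw [eq_top_iff, ← hspan, Submodule.span_le]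
    intro z hz
    obtain ⟨d, b', hb', rfl⟩ := hcl z hz
    show F ((1 : k) ⊗ₜ[A] b') = 0
    show ((N'.mkQ ∘ₗ proj 𝒜 m).baseChange k) ((1 : k) ⊗ₜ[A] b') = 0
    rw [LinearMap.baseChange_tmul]
    have h0 : (N'.mkQ ∘ₗ proj 𝒜 m) b' = 0 := by
      rw [LinearMap.comp_apply]
      by_cases hd : d = m
      · subst hd
        rw [proj_of_mem 𝒜 (pow_le 𝒜 d hb'), Submodule.mkQ_apply, Submodule.Quotient.mk_eq_zero]
        exact hb'
      · rw [proj_of_mem_ne 𝒜 (pow_le 𝒜 d hb') hd, map_zero]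
    rw [h0, tmul_zero]
  refine ⟨fun x y => ?_⟩
  obtain ⟨x', rfl⟩ := hFsurj x
  obtain ⟨y', rfl⟩ := hFsurj y
  have hx : x' ∈ LinearMap.ker F := by rw [hker]; trivial
  have hy : y' ∈ LinearMap.ker F := by rw [hker]; trivial
  rw [LinearMap.mem_ker.mp hx, LinearMap.mem_ker.mp hy]

theorem main
    (A : Type u) [CommRing A] (B : Type u) [CommRing B] [Algebra A B]
    (𝒜 : ℕ → Submodule A B) [GradedAlgebra 𝒜]
    (hfin : ∀ m : ℕ, Module.Finite A (𝒜 m))
    (hgen : ∀ (k : Type u) [Field k] [IsAlgClosed k] [Algebra A k],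
      Algebra.adjoin k ((Algebra.TensorProduct.includeRight : B →ₐ[A] k ⊗[A] B) '' (𝒜 1 : Set B)) = ⊤) :
    Algebra.adjoin A (𝒜 1 : Set B) = ⊤ := by
  classical
  have hkey : ∀ m, 𝒜 m ≤ (𝒜 1) ^ m := by
    intro m
    have := hfin m
    have hsub : Subsingleton ((𝒜 m) ⧸ (((𝒜 1) ^ m).comap (𝒜 m).subtype)) := by
      rw [← Module.support_eq_empty_iff (R := A), Set.eq_empty_iff_forall_notMem]
      intro p hp
      rw [Module.mem_support_iff_nontrivial_residueField_tensorProduct] at hp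
      have h1 : Subsingleton ((AlgebraicClosure p.asIdeal.ResidueField) ⊗[A]
          ((𝒜 m) ⧸ (((𝒜 1) ^ m).comap (𝒜 m).subtype))) :=
        fibre_zero 𝒜 (AlgebraicClosure p.asIdeal.ResidueField) (hgen _) m
      have h2 : Subsingleton ((AlgebraicClosure p.asIdeal.ResidueField) ⊗[p.asIdeal.ResidueField]
          (p.asIdeal.ResidueField ⊗[A] ((𝒜 m) ⧸ (((𝒜 1) ^ m).comap (𝒜 m).subtype)))) :=
        (TensorProduct.AlgebraTensorModule.cancelBaseChange A p.asIdeal.ResidueField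
          (AlgebraicClosure p.asIdeal.ResidueField) (AlgebraicClosure p.asIdeal.ResidueField)
          ((𝒜 m) ⧸ (((𝒜 1) ^ m).comap (𝒜 m).subtype))).toEquiv.subsingleton
      have h3 : Subsingleton (p.asIdeal.ResidueField ⊗[A]
          ((𝒜 m) ⧸ (((𝒜 1) ^ m).comap (𝒜 m).subtype))) :=
        Module.FaithfullyFlat.lTensor_reflects_triviality p.asIdeal.ResidueField
          (AlgebraicClosure p.asIdeal.ResidueField) _
      exact not_subsingleton _ h3
    intro b hb
    have htop := Submodule.Quotient.subsingleton_iff.mp hsub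
    have hmem : (⟨b, hb⟩ : 𝒜 m) ∈ ((𝒜 1) ^ m).comap (𝒜 m).subtype := by
      rw [htop]; trivial
    exact hmem
  rw [eq_top_iff]
  intro b _
  rw [← DirectSum.sum_support_decompose 𝒜 b]
  refine Subalgebra.sum_mem _ (fun i _ => ?_)
  exact pow_le_adjoin 𝒜 i (hkey i (SetLike.coe_mem _))

end Groth.Agent.Helper12.GradedGen
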