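import Mathlib
import Groth.Statements.S9325

set_option autoImplicit false
universe u

namespace Groth.Agent.Helper12.H1Colon

open CAlg

theorem lift_triv {B L : Type*} [CommRing B] [CommRing L] (π : B →+* L)
    (hπ : Function.Surjective π) {c : ℕ} (F : Fin c → B) (w : Fin c → L)
    (hw : w ∈ Submodule.span L {v : Fin c → L | ∃ i j : Fin c,
      v = Pi.single i (π (F j)) - Pi.single j (π (F i))}) :
    ∃ W : Fin c → B, (∀ k, π (W k) = w k) ∧ ∑ k, W k * F k = 0 := by
  classical
  induction hw using Submodule.span_induction with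
  | mem v hv =>
    obtain ⟨i, j, rfl⟩ := hv
    refine ⟨Pi.single i (F j) - Pi.single j (F i), fun k => ?_, ?_⟩
    · simp only [Pi.sub_apply, Pi.single_apply, map_sub, apply_ite π, map_zero]
    · simp only [Pi.sub_apply, sub_mul, Finset.sum_sub_distrib, Pi.single_apply, ite_mul, zero_mul,
        Finset.sum_ite_eq', Finset.sum_ite_eq, Finset.mem_univ, if_true]
      ring
  | zero => exact ⟨0, fun k => by simp, by simp⟩
  | add v₁ v₂ _ _ h₁ h₂ =>
    obtain ⟨W₁, h₁a, h₁b⟩ := h₁
    obtain ⟨W₂, h₂a, h₂b⟩ := h₂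
    refine ⟨W₁ + W₂, fun k => by simp [h₁a, h₂a], ?_⟩
    simp only [Pi.add_apply, add_mul, Finset.sum_add_distrib, h₁b, h₂b, add_zero]
  | smul r v _ h₁ =>
    obtain ⟨W₁, h₁a, h₁b⟩ := h₁
    obtain ⟨R, rfl⟩ := hπ r
    refine ⟨R • W₁, fun k => by simp [h₁a], ?_⟩
    simp only [Pi.smul_apply, smul_eq_mul, mul_assoc, ← Finset.mul_sum, h₁b, mul_zero]

theorem glob {B L : Type*} [CommRing B] [CommRing L] (π : B →+* L) (hπ : Function.Surjective π)
    {c : ℕ} (f : Fin c → L) (hf : CAlgX.IsH1Regular f) (JB : Ideal B)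
    (hK : RingHom.ker π ≤ JB) (hJ : JB.map π = Ideal.span (Set.range f)) :
    RingHom.ker π ⊓ JB ^ 2 ≤ RingHom.ker π * JB := by
  classical
  choose F hF using fun i => hπ (f i)
  obtain rfl : f = fun i => π (F i) := funext fun i => (hF i).symm
  have hFJ : ∀ i, F i ∈ JB := by
    intro i
    have h1 : π (F i) ∈ JB.map π := by
      rw [hJ]; exact Ideal.subset_span ⟨i, rfl⟩
    obtain ⟨y, hy, hyF⟩ := (Ideal.mem_map_iff_of_surjective π hπ).mp h1
    have h2 : F i - y ∈ RingHom.ker π := by
      rw [RingHom.mem_ker, map_sub, hyF, sub_self]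
    have := JB.add_mem (hK h2) hy
    simpa using this
  have hJle : JB ≤ RingHom.ker π ⊔ Ideal.span (Set.range F) := by
    intro y hy
    have h1 : π y ∈ Ideal.span (Set.range fun i => π (F i)) := by
      rw [← hJ]; exact Ideal.mem_map_of_mem π hy
    obtain ⟨cc, hcc⟩ := (Ideal.mem_span_range_iff_exists_fun).mp h1
    choose CC hCC using fun i => hπ (cc i)
    have h2 : y - ∑ i, CC i * F i ∈ RingHom.ker π := by
      rw [RingHom.mem_ker, map_sub, map_sum, ← hcc]
      simp only [map_mul, hCC, sub_self]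
    have h3 : ∑ i, CC i * F i ∈ Ideal.span (Set.range F) :=
      Ideal.sum_mem _ fun i _ => Ideal.mul_mem_left _ _ (Ideal.subset_span ⟨i, rfl⟩)
    have := Submodule.add_mem_sup h2 h3
    simpa using this
  rintro x ⟨hxK, hxJ⟩
  have hx2 : x ∈ RingHom.ker π * JB ⊔ Ideal.span (Set.range F) := by
    have h1 : JB ^ 2 ≤ RingHom.ker π * JB ⊔ Ideal.span (Set.range F) := by
      rw [sq]
      calc JB * JB ≤ (RingHom.ker π ⊔ Ideal.span (Set.range F)) * JB := Ideal.mul_mono_left hJle
        _ = RingHom.ker π * JB ⊔ Ideal.span (Set.range F) * JB := Ideal.sup_mul _ _ _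
        _ ≤ RingHom.ker π * JB ⊔ Ideal.span (Set.range F) := sup_le_sup_left Ideal.mul_le_left _
    exact h1 hxJ
  obtain ⟨u, hu, v, hv, rfl⟩ := Submodule.mem_sup.mp hx2
  have hvK : v ∈ RingHom.ker π := by
    have hu' : u ∈ RingHom.ker π := Ideal.mul_le_left hu
    have := (RingHom.ker π).sub_mem hxK hu'
    simpa using this
  refine Ideal.add_mem _ hu ?_
  obtain ⟨a, rfl⟩ := (Ideal.mem_span_range_iff_exists_fun).mp hv
  have hsum : ∑ i, (fun i => π (a i)) i * (fun i => π (F i)) i = 0 := by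
    rw [RingHom.mem_ker, map_sum] at hvK
    simpa only [map_mul] using hvK
  obtain ⟨W, hW1, hW2⟩ := lift_triv π hπ F _ (hf _ hsum)
  have hval : ∑ i, a i * F i = ∑ i, (a i - W i) * F i := by
    simp only [sub_mul, Finset.sum_sub_distrib, hW2, sub_zero]
  rw [hval]
  refine Ideal.sum_mem _ fun i _ => Ideal.mul_mem_mul ?_ (hFJ i)
  rw [RingHom.mem_ker, map_sub, hW1, sub_self]

theorem core {A B Ā L : Type*} [CommRing A] [CommRing B] [CommRing Ā] [CommRing L]
    [Algebra A B] [Algebra Ā L]
    (q : A →+* Ā) (hq : Function.Surjective q) (M : Submonoid A)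
    [IsLocalization M B] [IsLocalization (M.map q) L]
    (I J : Ideal A) (hI : RingHom.ker q = I) (hIJ : I ≤ J) {c : ℕ} (f : Fin c → L)
    (hf : CAlgX.IsH1Regular f)
    (hspan : Ideal.span (Set.range f) = (J.map q).map (algebraMap Ā L))
    {x : A} (hxI : x ∈ I) (hxJ : x ∈ J ^ 2) : ∃ m ∈ M, m * x ∈ I * J := by
  have hπs : Function.Surjective (IsLocalization.map L q M.le_comap_map : B →+* L) :=
    IsLocalization.map_surjective_of_surjective M B L hq
  have hK : RingHom.ker (IsLocalization.map L q M.le_comap_map : B →+* L)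
      = I.map (algebraMap A B) := by
    rw [← hI]; exact IsLocalization.ker_map L q rfl
  have hcomp : (IsLocalization.map L q M.le_comap_map : B →+* L).comp (algebraMap A B)
      = (algebraMap Ā L).comp q := IsLocalization.map_comp _
  have hJm : (J.map (algebraMap A B)).map (IsLocalization.map L q M.le_comap_map : B →+* L)
      = Ideal.span (Set.range f) := by
    rw [hspan, Ideal.map_map, Ideal.map_map, hcomp]
  have key := glob _ hπs f hf (J.map (algebraMap A B))
    (by rw [hK]; exact Ideal.map_mono hIJ) hJm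
  have hx : algebraMap A B x ∈ RingHom.ker (IsLocalization.map L q M.le_comap_map : B →+* L)
      ⊓ (J.map (algebraMap A B)) ^ 2 := by
    refine ⟨?_, ?_⟩
    · rw [hK]; exact Ideal.mem_map_of_mem _ hxI
    · rw [← Ideal.map_pow]; exact Ideal.mem_map_of_mem _ hxJ
  have h3 := key hx
  rw [hK, ← Ideal.map_mul] at h3
  exact (IsLocalization.algebraMap_mem_map_algebraMap_iff M B (I * J) x).mp h3

theorem main {A : Type u} [CommRing A] (I J : Ideal A)
    (hIJ : I ≤ J)
    (h : ∀ (𝔮 : Ideal (A ⧸ I)) [𝔮.IsPrime], J.map (Ideal.Quotient.mk I) ≤ 𝔮 →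
      ∃ g : A ⧸ I, g ∉ 𝔮 ∧ ∃ (c : ℕ) (f : Fin c → Localization.Away g),
        CAlgX.IsH1Regular f ∧
          Ideal.span (Set.range f) =
            (J.map (Ideal.Quotient.mk I)).map (algebraMap (A ⧸ I) (Localization.Away g))) :
    I ⊓ J ^ 2 = I * J := by
  apply le_antisymm
  · rintro x ⟨hxI, hxJ⟩
    by_contra hxn
    let C : Ideal A :=
      { carrier := {a | a * x ∈ I * J}
        add_mem' := fun {a b} ha hb => by
          show (a + b) * x ∈ I * J
          rw [add_mul]; exact Ideal.add_mem _ ha hb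
        zero_mem' := by
          show (0 : A) * x ∈ I * J
          rw [zero_mul]; exact Ideal.zero_mem _
        smul_mem' := fun c a ha => by
          show (c • a) * x ∈ I * J
          rw [smul_eq_mul, mul_assoc]; exact Ideal.mul_mem_left _ _ ha }
    have hCmem : ∀ a, a ∈ C ↔ a * x ∈ I * J := fun a => Iff.rfl
    have hC : C ≠ ⊤ := by
      intro hC
      have : (1 : A) ∈ C := by rw [hC]; trivial
      rw [hCmem, one_mul] at this
      exact hxn this
    obtain ⟨P, hP, hCP⟩ := Ideal.exists_le_maximal C hC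
    haveI := hP.isPrime
    by_cases hJP : J ≤ P
    · have hIP : I ≤ P := hIJ.trans hJP
      haveI : (P.map (Ideal.Quotient.mk I)).IsPrime :=
        Ideal.map_isPrime_of_surjective Ideal.Quotient.mk_surjective
          (by rw [Ideal.mk_ker]; exact hIP)
      obtain ⟨g, hg, c, f, hf, hspan⟩ := h (P.map (Ideal.Quotient.mk I)) (Ideal.map_mono hJP)
      obtain ⟨g₀, rfl⟩ := Ideal.Quotient.mk_surjective g
      have hg₀ : g₀ ∉ P := fun hmem => hg (Ideal.mem_map_of_mem _ hmem)
      haveI : IsLocalization ((Submonoid.powers g₀).map (Ideal.Quotient.mk I))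
          (Localization.Away (Ideal.Quotient.mk I g₀)) := by
        rw [Submonoid.map_powers]; infer_instance
      obtain ⟨m, ⟨n, rfl⟩, hm⟩ := core (B := Localization.Away g₀) (Ideal.Quotient.mk I)
        Ideal.Quotient.mk_surjective (Submonoid.powers g₀) I J Ideal.mk_ker hIJ f hf hspan hxI hxJ
      have : g₀ ^ n ∈ P := hCP ((hCmem _).mpr hm)
      exact hg₀ (hP.isPrime.mem_of_pow_mem n this)
    · obtain ⟨j, hjJ, hjP⟩ := SetLike.not_le_iff_exists.mp hJP
      have : j ∈ C := by
        rw [hCmem, mul_comm j x]; exact Ideal.mul_mem_mul hxI hjJ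
      exact hjP (hCP this)
  · exact le_inf Ideal.mul_le_left (by rw [sq]; exact Ideal.mul_mono_left hIJ)

end Groth.Agent.Helper12.H1Colon
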