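import Mathlib
import Groth.Agent.H11.HensDecomp
import Groth.Agent.Lib.Helper12.MLProj

set_option autoImplicit false
universe u

open Polynomial IsLocalRing

namespace Groth.Agent.Helper12.HensFit

/-- commutative algebra part of the Fitting-type decomposition over a henselian local ring -/
theorem exists_idem_of_finite (R : Type u) [CommRing R] [HenselianLocalRing R] (T : Type u)
    [CommRing T] [Algebra R T] [Module.Finite R T] (a : T) :
    ∃ e v w : T, IsIdempotentElem e ∧ v * a * e = e ∧ w * (1 - e) * (1 - a) = 1 - e := by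
  classical
  obtain ⟨n, q, ε, hqp, hql, hε, hεq, huniq⟩ :=
    Groth.Agent.H11.HensEt.exists_local_decomposition R T
  obtain ⟨J, hJ⟩ : ∃ J : Finset (Fin n), J = Finset.univ.filter (fun j => a ∉ q j) := ⟨_, rfl⟩
  have hJmem : ∀ j, j ∈ J ↔ a ∉ q j := fun j => by rw [hJ]; simp
  obtain ⟨e, he⟩ : ∃ e : T, e = ∑ j ∈ J, ε j := ⟨_, rfl⟩
  have hidem : IsIdempotentElem e := he ▸ hε.toOrthogonalIdempotents.isIdempotentElem_sum
  have hee : e * e = e := hidem.eq
  haveI : Algebra.IsIntegral R T := Algebra.IsIntegral.of_finite R T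
  have hmax : ∀ 𝔫 : Ideal T, 𝔫.IsMaximal → 𝔫.LiesOver (maximalIdeal R) := by
    intro 𝔫 h𝔫
    have h1 : (𝔫.comap (algebraMap R T)).IsMaximal :=
      Ideal.isMaximal_comap_of_isIntegral_of_isMaximal 𝔫
    exact ⟨(IsLocalRing.eq_maximalIdeal h1).symm⟩
  have hεe_mem : ∀ j ∈ J, ε j * e = ε j := fun j hj =>
    he ▸ hε.toOrthogonalIdempotents.mul_sum_of_mem hj
  have hone : ∀ 𝔫 : Ideal T, 𝔫.IsMaximal → (1 : T) ∉ 𝔫 := fun 𝔫 h𝔫 h =>
    h𝔫.ne_top ((Ideal.eq_top_iff_one _).mpr h)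
  have h1 : Ideal.span ({a * e, 1 - e} : Set T) = ⊤ := by
    by_contra hne
    obtain ⟨𝔫, h𝔫, hle⟩ := Ideal.exists_le_maximal _ hne
    have hlo := hmax 𝔫 h𝔫
    have hae : a * e ∈ 𝔫 := hle (Ideal.subset_span (by simp))
    have h1e : 1 - e ∈ 𝔫 := hle (Ideal.subset_span (by simp))
    have hen : e ∉ 𝔫 := fun h => hone 𝔫 h𝔫 (by have := 𝔫.add_mem h1e h; simpa using this)
    have hex : ∃ j ∈ J, ε j ∉ 𝔫 := by
      by_contra hall
      push_neg at hall
      exact hen (he ▸ 𝔫.sum_mem hall)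
    obtain ⟨j, hjJ, hj⟩ := hex
    have hq : 𝔫 = q j := huniq j 𝔫 h𝔫.isPrime hlo hj
    have haj : a ∉ q j := (hJmem j).mp hjJ
    have ha𝔫 : a ∈ 𝔫 := (h𝔫.isPrime.mem_or_mem hae).resolve_right hen
    exact haj (hq ▸ ha𝔫)
  have h2 : Ideal.span ({(1 - e) * (1 - a), e} : Set T) = ⊤ := by
    by_contra hne
    obtain ⟨𝔫, h𝔫, hle⟩ := Ideal.exists_le_maximal _ hne
    have hlo := hmax 𝔫 h𝔫
    have h1 : (1 - e) * (1 - a) ∈ 𝔫 := hle (Ideal.subset_span (by simp))
    have hen : e ∈ 𝔫 := hle (Ideal.subset_span (by simp))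
    have h1e : 1 - e ∉ 𝔫 := fun h => hone 𝔫 h𝔫 (by have := 𝔫.add_mem h hen; simpa using this)
    have h1a : 1 - a ∈ 𝔫 := (h𝔫.isPrime.mem_or_mem h1).resolve_left h1e
    have hex : ∃ j, ε j ∉ 𝔫 := by
      by_contra hall
      push_neg at hall
      apply hone 𝔫 h𝔫
      rw [← hε.complete]
      exact 𝔫.sum_mem (fun j _ => hall j)
    obtain ⟨j, hj⟩ := hex
    have hjJ : j ∉ J := by
      intro hjJ
      apply hj
      rw [← hεe_mem j hjJ]
      exact 𝔫.mul_mem_left _ hen
    have hq : 𝔫 = q j := huniq j 𝔫 h𝔫.isPrime hlo hj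
    have haj : a ∈ q j := by
      by_contra h
      exact hjJ ((hJmem j).mpr h)
    have ha𝔫 : a ∈ 𝔫 := hq ▸ haj
    exact hone 𝔫 h𝔫 (by have := 𝔫.add_mem h1a ha𝔫; simpa using this)
  obtain ⟨v, v', hv⟩ := Ideal.mem_span_pair.mp (h1 ▸ (Submodule.mem_top : (1 : T) ∈ ⊤))
  obtain ⟨w, w', hw⟩ := Ideal.mem_span_pair.mp (h2 ▸ (Submodule.mem_top : (1 : T) ∈ ⊤))
  refine ⟨e, v, w, hidem, ?_, ?_⟩
  · linear_combination e * hv + (v' - v * a) * hee
  · linear_combination (1 - e) * hw - (w * (1 - a) - w') * hee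

/-- Fitting-type decomposition for an integral endomorphism over a henselian local ring -/
theorem exists_idem_endo (R : Type u) [CommRing R] [HenselianLocalRing R] (M : Type u)
    [AddCommGroup M] [Module R M] (α : Module.End R M) (p : R[X]) (hp : p.Monic)
    (hpα : aeval α p = 0) :
    ∃ e v w : Module.End R M, IsIdempotentElem e ∧ v * α * e = e ∧
      w * (1 - e) * (1 - α) = 1 - e := by
  haveI : Module.Finite R (AdjoinRoot p) := hp.finite_adjoinRoot
  obtain ⟨ev, hev⟩ : ∃ ev : AdjoinRoot p →ₐ[R] Module.End R M, ev (AdjoinRoot.root p) = α := by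
    refine ⟨Ideal.Quotient.liftₐ (Ideal.span {p}) (Polynomial.aeval α) ?_, ?_⟩
    · intro a ha
      obtain ⟨c, rfl⟩ := Ideal.mem_span_singleton.mp ha
      rw [map_mul, hpα, zero_mul]
    · show Ideal.Quotient.liftₐ (Ideal.span {p}) (Polynomial.aeval α) _
        (Ideal.Quotient.mk (Ideal.span {p}) X) = α
      rw [Ideal.Quotient.liftₐ_apply, Ideal.Quotient.lift_mk]
      simp
  obtain ⟨e, v, w, he, hv, hw⟩ := exists_idem_of_finite R (AdjoinRoot p) (AdjoinRoot.root p)
  refine ⟨ev e, ev v, ev w, ?_, ?_, ?_⟩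
  · show ev e * ev e = ev e
    rw [← map_mul, he.eq]
  · rw [← hev, ← map_mul, ← map_mul, hv]
  · rw [← hev, ← map_one ev, ← map_sub, ← map_sub, ← map_mul, ← map_mul, hw]

section Retract
variable {R : Type u} [CommRing R]

theorem fp_of_retract {Q N : Type*} [AddCommGroup Q] [Module R Q] [AddCommGroup N] [Module R N]
    [Module.FinitePresentation R Q] (i : N →ₗ[R] Q) (r : Q →ₗ[R] N) (h : r ∘ₗ i = LinearMap.id) :
    Module.FinitePresentation R N := by
  have hri : ∀ z, r (i z) = z := fun z => LinearMap.congr_fun h z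
  have hsurj : Function.Surjective r := fun z => ⟨i z, hri z⟩
  refine Module.finitePresentation_of_surjective r hsurj ?_
  have hker : LinearMap.ker r = LinearMap.range (LinearMap.id - i ∘ₗ r) := by
    apply le_antisymm
    · intro z hz
      refine ⟨z, ?_⟩
      rw [LinearMap.sub_apply, LinearMap.id_apply, LinearMap.comp_apply, LinearMap.mem_ker.mp hz,
        map_zero, sub_zero]
    · rintro _ ⟨z, rfl⟩
      rw [LinearMap.mem_ker, LinearMap.sub_apply, LinearMap.id_apply, LinearMap.comp_apply,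
        map_sub, hri, sub_self]
  rw [hker, LinearMap.range_eq_map]
  exact Module.Finite.fg_top.map _

variable {M Q : Type u} [AddCommGroup M] [Module R M] [AddCommGroup Q] [Module R Q]

theorem comp_pow_comp (b : M →ₗ[R] Q) (c : Q →ₗ[R] M) (k : ℕ) :
    c ∘ₗ ((b ∘ₗ c : Module.End R Q) ^ k) ∘ₗ b = ((c ∘ₗ b : Module.End R M)) ^ (k + 1) := by
  induction k with
  | zero =>
    rw [pow_zero, zero_add, pow_one, Module.End.one_eq_id, LinearMap.id_comp]
  | succ k ih =>
    rw [pow_succ (b ∘ₗ c : Module.End R Q), pow_succ ((c ∘ₗ b : Module.End R M)) (k + 1), ← ih]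
    rw [Module.End.mul_eq_comp, Module.End.mul_eq_comp]
    simp only [LinearMap.comp_assoc]

theorem aeval_comp (b : M →ₗ[R] Q) (c : Q →ₗ[R] M) (g : R[X]) :
    (c ∘ₗ b : Module.End R M) * aeval (c ∘ₗ b : Module.End R M) g =
      c ∘ₗ (aeval (b ∘ₗ c : Module.End R Q) g) ∘ₗ b := by
  induction g using Polynomial.induction_on' with
  | add g1 g2 h1 h2 =>
    rw [map_add, map_add, mul_add, h1, h2, LinearMap.add_comp, LinearMap.comp_add]
  | monomial k r =>
    rw [Polynomial.aeval_monomial, Polynomial.aeval_monomial, ← Algebra.smul_def,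
      ← Algebra.smul_def, mul_smul_comm, ← pow_succ', LinearMap.smul_comp, LinearMap.comp_smul,
      comp_pow_comp]

end Retract

/-- splitting off a finitely presented summand containing a fixed vector -/
theorem exists_fp_summand (R : Type u) [CommRing R] [HenselianLocalRing R] (M : Type u)
    [AddCommGroup M] [Module R M] (Q : Type u) [AddCommGroup Q] [Module R Q]
    [Module.FinitePresentation R Q] (b : M →ₗ[R] Q) (c : Q →ₗ[R] M) (y : M)
    (hy : c (b y) = y) :
    ∃ N C' : Submodule R M, IsCompl N C' ∧ y ∈ N ∧ Module.FinitePresentation R N := by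
  obtain ⟨α, hα⟩ : ∃ α : Module.End R M, α = c ∘ₗ b := ⟨_, rfl⟩
  obtain ⟨β, hβ⟩ : ∃ β : Module.End R Q, β = b ∘ₗ c := ⟨_, rfl⟩
  obtain ⟨p0, hp0, hp0β⟩ := Algebra.IsIntegral.isIntegral (R := R) β
  have hp0β' : aeval β p0 = 0 := hp0β
  have hpα : aeval α (X * p0) = 0 := by
    rw [map_mul, aeval_X, hα, aeval_comp, ← hβ, hp0β', LinearMap.zero_comp, LinearMap.comp_zero]
  obtain ⟨e, v, w, he, hv, hw⟩ := exists_idem_endo R M α (X * p0) (monic_X.mul hp0) hpα
  have hαy : α y = y := by rw [hα]; exact hy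
  have hey : e y = y := by
    have h1 : (1 - e) y = 0 := by
      rw [← hw]
      show w ((1 - e) ((1 - α) y)) = 0
      have : (1 - α) y = 0 := by
        show y - α y = 0
        rw [hαy, sub_self]
      rw [this, map_zero, map_zero]
    have h2 : y - e y = 0 := h1
    exact (sub_eq_zero.mp h2).symm
  refine ⟨LinearMap.range e, LinearMap.ker e, LinearMap.IsIdempotentElem.isCompl he,
    ⟨y, hey⟩, ?_⟩
  have heva : e * (v * α * e) = e := by rw [hv, he.eq]
  refine fp_of_retract (Q := Q) (b ∘ₗ (LinearMap.range e).subtype)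
    (LinearMap.codRestrict (LinearMap.range e) (e ∘ₗ (v ∘ₗ c)) (fun z => ⟨_, rfl⟩)) ?_
  apply LinearMap.ext
  rintro ⟨_, z', rfl⟩
  apply Subtype.ext
  show e (v (c (b (e z')))) = e z'
  have h3 := LinearMap.congr_fun heva z'
  rw [hα] at h3
  exact h3

/-- lattice lemma: a chain of successive splittings gives an independent family -/
theorem indep_of_chain {R : Type*} [CommRing R] {M : Type*} [AddCommGroup M] [Module R M]
    (A C N : ℕ → Submodule R M)
    (hAC : ∀ k, IsCompl (A k) (C k)) (hA : ∀ k, A (k + 1) = A k ⊔ N k)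
    (hNC : ∀ k, N k ⊔ C (k + 1) = C k) (hdis : ∀ k, Disjoint (N k) (C (k + 1))) :
    iSupIndep N := by
  have hAmono : Monotone A := monotone_nat_of_le_succ fun k => by rw [hA]; exact le_sup_left
  have hCanti : Antitone C := antitone_nat_of_succ_le fun k => by
    rw [← hNC k]; exact le_sup_right
  have hNA : ∀ j k, j < k → N j ≤ A k := by
    intro j k hjk
    have h1 : N j ≤ A (j + 1) := by rw [hA]; exact le_sup_right
    exact h1.trans (hAmono hjk)
  have hNC' : ∀ j k, k < j → N j ≤ C (k + 1) := by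
    intro j k hkj
    have h1 : N j ≤ C j := by rw [← hNC j]; exact le_sup_left
    exact h1.trans (hCanti hkj)
  intro k
  have hle : (⨆ (j) (_ : j ≠ k), N j) ≤ C (k + 1) ⊔ A k := by
    refine iSup₂_le fun j hj => ?_
    rcases lt_or_gt_of_ne hj with h | h
    · exact le_sup_of_le_right (hNA j k h)
    · exact le_sup_of_le_left (hNC' j k h)
  have hd : Disjoint (N k) (C (k + 1) ⊔ A k) :=
    (hdis k).disjoint_sup_right_of_disjoint_sup_left (by rw [hNC k]; exact (hAC k).disjoint.symm)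
  exact hd.mono_right hle

theorem exists_chain {R : Type*} [CommRing R] {M : Type*} [AddCommGroup M] [Module R M]
    (Pr : Submodule R M → Prop)
    (hstep : ∀ (A C : Submodule R M), IsCompl A C → ∀ x : M, ∃ N C' : Submodule R M,
      N ⊔ C' = C ∧ Disjoint N C' ∧ x ∈ A ⊔ N ∧ Pr N) (g : ℕ → M) :
    ∃ A C N : ℕ → Submodule R M, A 0 = ⊥ ∧ (∀ k, IsCompl (A k) (C k)) ∧
      (∀ k, A (k + 1) = A k ⊔ N k) ∧ (∀ k, N k ⊔ C (k + 1) = C k) ∧
      (∀ k, Disjoint (N k) (C (k + 1))) ∧ (∀ k, g k ∈ A (k + 1)) ∧ ∀ k, Pr (N k) := by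
  choose Nf Cf h1 h2 h3 h4 using hstep
  have hnew : ∀ (A C : Submodule R M) (hAC : IsCompl A C) (x : M),
      IsCompl (A ⊔ Nf A C hAC x) (Cf A C hAC x) := by
    intro A C hAC x
    constructor
    · exact (h2 A C hAC x).disjoint_sup_left_of_disjoint_sup_right
        (by rw [h1 A C hAC x]; exact hAC.disjoint)
    · rw [codisjoint_iff, sup_assoc, h1 A C hAC x, hAC.sup_eq_top]
  let seq : ℕ → {p : Submodule R M × Submodule R M // IsCompl p.1 p.2} := fun n =>
    Nat.rec ⟨(⊥, ⊤), isCompl_bot_top⟩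
      (fun k p => ⟨(p.1.1 ⊔ Nf p.1.1 p.1.2 p.2 (g k), Cf p.1.1 p.1.2 p.2 (g k)),
        hnew p.1.1 p.1.2 p.2 (g k)⟩) n
  refine ⟨fun k => (seq k).1.1, fun k => (seq k).1.2,
    fun k => Nf (seq k).1.1 (seq k).1.2 (seq k).2 (g k), rfl, fun k => (seq k).2, fun k => rfl,
    fun k => ?_, fun k => ?_, fun k => ?_, fun k => ?_⟩
  · exact h1 (seq k).1.1 (seq k).1.2 (seq k).2 (g k)
  · exact h2 (seq k).1.1 (seq k).1.2 (seq k).2 (g k)
  · exact h3 (seq k).1.1 (seq k).1.2 (seq k).2 (g k)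
  · exact h4 (seq k).1.1 (seq k).1.2 (seq k).2 (g k)

end Groth.Agent.Helper12.HensFit
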