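import Mathlib
import Groth.Agent.Lib.Helper12.HensFit
import Groth.Agent.S6361

set_option autoImplicit false
universe u

namespace Groth.Agent.Helper12.HensFit

variable {R : Type u} [CommRing R] [HenselianLocalRing R] {M : Type u} [AddCommGroup M] [Module R M]

theorem step
    (hML : ∀ (ι : Type u) (Qf : ι → Type u) [∀ i, AddCommGroup (Qf i)] [∀ i, Module R (Qf i)],
      Function.Injective (TensorProduct.piRightHom R R M Qf))
    (hcg : ∃ s : Set M, s.Countable ∧ Submodule.span R s = ⊤)
    (A C : Submodule R M) (hAC : IsCompl A C) (x : M) :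
    ∃ N C' : Submodule R M, N ⊔ C' = C ∧ Disjoint N C' ∧ x ∈ A ⊔ N ∧
      Module.FinitePresentation R N := by
  have hCA : IsCompl C A := hAC.symm
  have hri : (C.projectionOnto A hCA) ∘ₗ C.subtype = LinearMap.id := by ext z; simp
  have hMLC : CAlg.IsMittagLeffler R C := by
    intro ι Qf _ _
    exact Groth.Agent.Helper12.MLProj.ml_of_retract hML C.subtype _ hri ι Qf
  have hcgC : CAlg.IsCountablyGenerated R C := by
    obtain ⟨s, hs, hspan⟩ := hcg
    refine ⟨(C.projectionOnto A hCA) '' s, hs.image _, ?_⟩
    rw [← Submodule.map_span, hspan, Submodule.map_top, LinearMap.range_eq_top]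
    exact Submodule.projectionOnto_surjective hCA
  obtain ⟨y, hy⟩ : ∃ y : C, y = C.projectionOnto A hCA x := ⟨_, rfl⟩
  obtain ⟨Q, _, _, hQ, b, c, hbc⟩ :=
    Groth.Agent.S6361.result R C hMLC hcgC (P := R) (LinearMap.toSpanSingleton R C y)
  have hcby : c (b y) = y := by
    have := LinearMap.congr_fun hbc 1
    simpa using this
  obtain ⟨N', C'', hcompl, hyN', hfp⟩ := exists_fp_summand R C Q b c y hcby
  refine ⟨N'.map C.subtype, C''.map C.subtype, ?_, ?_, ?_, ?_⟩
  · rw [← Submodule.map_sup, hcompl.sup_eq_top, Submodule.map_subtype_top]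
  · rw [disjoint_iff, ← Submodule.map_inf _ C.subtype_injective, hcompl.inf_eq_bot,
      Submodule.map_bot]
  · have h1 : x - C.projection A hCA x ∈ A := Submodule.sub_projection_mem hCA x
    have h2 : C.projection A hCA x = C.subtype y := by rw [hy]; rfl
    have h3 : x = (x - C.projection A hCA x) + C.subtype y := by rw [← h2]; abel
    rw [h3]
    exact Submodule.add_mem _ (Submodule.mem_sup_left h1)
      (Submodule.mem_sup_right (Submodule.mem_map_of_mem hyN'))
  · exact Module.FinitePresentation.of_equiv (R := R) (M := N') (N := ↥(N'.map C.subtype))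
      (Submodule.equivMapOfInjective C.subtype C.subtype_injective N')

end Groth.Agent.Helper12.HensFit
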