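import Mathlib

namespace Groth.Agent.Helper12

open Polynomial

/-- If `B` is an integral `A`-algebra and `I` lies in the Jacobson radical of `A`, then `IB` lies in
the Jacobson radical of `B`. -/
theorem map_le_jacobson_of_isIntegral (A B : Type*) [CommRing A] [CommRing B] [Algebra A B]
    [Algebra.IsIntegral A B] (I : Ideal A) (hI : I ≤ Ideal.jacobson ⊥) :
    I.map (algebraMap A B) ≤ Ideal.jacobson ⊥ := by
  rw [Ideal.map_le_iff_le_comap]
  intro x hx
  rw [Ideal.mem_comap, Ideal.jacobson, Ideal.mem_sInf]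
  rintro J ⟨-, hJ⟩
  have hmax : (J.comap (algebraMap A B)).IsMaximal :=
    Ideal.isMaximal_comap_of_isIntegral_of_isMaximal (R := A) J
  have h1 : x ∈ Ideal.jacobson (⊥ : Ideal A) := hI hx
  rw [Ideal.jacobson, Ideal.mem_sInf] at h1
  exact h1 ⟨bot_le, hmax⟩

/-- In a local ring, coprimality of a monic polynomial with another polynomial can be checked in the
residue field. -/
theorem isCoprime_of_monic_of_isCoprime_map_residue (A : Type*) [CommRing A] [IsLocalRing A]
    (Q R : Polynomial A) (hQ : Q.Monic)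
    (h : IsCoprime (Polynomial.map (IsLocalRing.residue A) Q)
      (Polynomial.map (IsLocalRing.residue A) R)) :
    IsCoprime Q R := by
  obtain ⟨u, v, huv⟩ := h
  obtain ⟨U, rfl⟩ := Polynomial.map_surjective _ (IsLocalRing.residue_surjective (R := A)) u
  obtain ⟨V, rfl⟩ := Polynomial.map_surjective _ (IsLocalRing.residue_surjective (R := A)) v
  -- `W = U Q + V R - 1` has coefficients in the maximal ideal
  have hW : U * Q + V * R - 1 ∈ Ideal.map C (IsLocalRing.maximalIdeal A) := by
    have hker : U * Q + V * R - 1 ∈ RingHom.ker (mapRingHom (IsLocalRing.residue A)) := by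
      rw [RingHom.mem_ker]
      simp only [coe_mapRingHom, Polynomial.map_sub, Polynomial.map_add, Polynomial.map_mul,
        Polynomial.map_one]
      rw [huv, sub_self]
    rwa [Polynomial.ker_mapRingHom, IsLocalRing.ker_residue] at hker
  haveI : Module.Finite A (AdjoinRoot Q) := hQ.finite_adjoinRoot
  haveI : Algebra.IsIntegral A (AdjoinRoot Q) := Algebra.IsIntegral.of_finite A (AdjoinRoot Q)
  have hjac : (IsLocalRing.maximalIdeal A).map (algebraMap A (AdjoinRoot Q)) ≤ Ideal.jacobson ⊥ :=
    map_le_jacobson_of_isIntegral A (AdjoinRoot Q) _ (IsLocalRing.maximalIdeal_le_jacobson ⊥)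
  have hw : AdjoinRoot.mk Q (U * Q + V * R - 1) ∈ Ideal.jacobson (⊥ : Ideal (AdjoinRoot Q)) := by
    apply hjac
    have : Ideal.map (algebraMap A (AdjoinRoot Q)) (IsLocalRing.maximalIdeal A) =
        Ideal.map (AdjoinRoot.mk Q) (Ideal.map C (IsLocalRing.maximalIdeal A)) := by
      rw [Ideal.map_map]; rfl
    rw [this]
    exact Ideal.mem_map_of_mem _ hW
  have hunit : IsUnit (AdjoinRoot.mk Q (V * R)) := by
    have := (Ideal.mem_jacobson_bot.mp hw) 1
    have h2 : AdjoinRoot.mk Q (U * Q + V * R - 1) * 1 + 1 = AdjoinRoot.mk Q (V * R) := by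
      simp [AdjoinRoot.mk_self]
    rwa [h2] at this
  obtain ⟨⟨a, b, hab, hba⟩, ha⟩ := hunit
  simp only at ha
  subst ha
  obtain ⟨b', rfl⟩ := AdjoinRoot.mk_surjective b
  have h3 : AdjoinRoot.mk Q (V * R * b' - 1) = 0 := by
    rw [map_sub, map_mul, hab, map_one, sub_self]
  rw [AdjoinRoot.mk_eq_zero] at h3
  obtain ⟨c, hc⟩ := h3
  refine ⟨-c, V * b', ?_⟩
  linear_combination hc

end Groth.Agent.Helper12

namespace Groth.Agent.Helper12

/-- Two idempotents of a commutative ring whose difference lies in the Jacobson radical are equal. -/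
theorem idempotent_eq_of_sub_mem_jacobson {B : Type*} [CommRing B] {e f : B}
    (he : IsIdempotentElem e) (hf : IsIdempotentElem f)
    (h : e - f ∈ Ideal.jacobson (⊥ : Ideal B)) : e = f := by
  have hcube : (e - f) * (1 - (e - f) ^ 2) = 0 := by
    have he' : e * e = e := he
    have hf' : f * f = f := hf
    have he3 : e ^ 3 = e := by rw [pow_succ, pow_two, he', he']
    have hf3 : f ^ 3 = f := by rw [pow_succ, pow_two, hf', hf']
    have he2 : e ^ 2 = e := by rw [pow_two, he']
    have hf2 : f ^ 2 = f := by rw [pow_two, hf']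
    linear_combination (-1 : B) * he3 + hf3 + (3 * f) * he2 - (3 * e) * hf2
  have hunit : IsUnit (1 - (e - f) ^ 2) := by
    have := (Ideal.mem_jacobson_bot.mp h) (-(e - f))
    have h2 : (e - f) * -(e - f) + 1 = 1 - (e - f) ^ 2 := by ring
    rwa [h2] at this
  have := (hunit.mul_left_eq_zero).mp hcube
  exact sub_eq_zero.mp this

end Groth.Agent.Helper12
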