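import Mathlib

/-!
# Homogeneous primes of a ℤ-graded ring with a homogeneous unit of positive degree
-/

namespace Groth.Agent.Helper12.HomogSpec

universe u

open DirectSum

variable {R S : Type u} [CommRing R] [CommRing S] [Algebra R S] (𝒜 : ℤ → Submodule R S)
  [GradedAlgebra 𝒜]

theorem inv_mem (f g : S) (d : ℤ) (hf : f ∈ 𝒜 d) (hfg : f * g = 1) : g ∈ 𝒜 (-d) := by
  have hone : (1 : S) ∈ 𝒜 (d + -d) := by
    rw [add_neg_cancel]
    exact SetLike.GradedOne.one_mem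
  have h1 : ((decompose 𝒜 (f * g) (d + -d) : 𝒜 (d + -d)) : S) =
      f * (decompose 𝒜 g (-d) : 𝒜 (-d)) :=
    coe_decompose_mul_add_of_left_mem 𝒜 hf
  rw [hfg, decompose_of_mem_same 𝒜 hone] at h1
  have h2 : g = ((decompose 𝒜 g (-d) : 𝒜 (-d)) : S) := by
    calc g = g * 1 := (mul_one g).symm
      _ = g * (f * (decompose 𝒜 g (-d) : 𝒜 (-d))) := by rw [← h1]
      _ = (f * g) * (decompose 𝒜 g (-d) : 𝒜 (-d)) := by ring
      _ = _ := by rw [hfg, one_mul]
  rw [h2]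
  exact SetLike.coe_mem _

theorem zpow_mem (u : Sˣ) (d : ℤ) (hu : (u : S) ∈ 𝒜 d) (n : ℤ) :
    ((u ^ n : Sˣ) : S) ∈ 𝒜 (n * d) := by
  have hinv : ((u⁻¹ : Sˣ) : S) ∈ 𝒜 (-d) := inv_mem 𝒜 _ _ d hu u.mul_inv
  induction n using Int.induction_on with
  | zero =>
    rw [zpow_zero, Units.val_one, zero_mul]
    exact SetLike.GradedOne.one_mem
  | succ k ih =>
    rw [zpow_add_one, Units.val_mul]
    have := SetLike.mul_mem_graded ih hu
    convert this using 2
    ring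
  | pred k ih =>
    rw [zpow_sub_one, Units.val_mul]
    have := SetLike.mul_mem_graded ih hinv
    convert this using 2
    ring

theorem key_mem (u : Sˣ) (d : ℤ) (hd : 0 < d) (hu : (u : S) ∈ 𝒜 d) {x : S} {i : ℤ}
    (hx : x ∈ 𝒜 i) : x ^ d.toNat * ((u ^ (-i) : Sˣ) : S) ∈ 𝒜 0 := by
  have h1 : x ^ d.toNat ∈ 𝒜 (d.toNat • i) := SetLike.pow_mem_graded _ hx
  have h2 := zpow_mem 𝒜 u d hu (-i)
  have h3 := SetLike.mul_mem_graded h1 h2
  have h4 : d.toNat • i + -i * d = 0 := by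
    rw [nsmul_eq_mul, Int.toNat_of_nonneg hd.le]
    ring
  rwa [h4] at h3

theorem key_mem_iff (u : Sˣ) (d : ℤ) (hd : 0 < d) (p : Ideal S) [hp : p.IsPrime] (x : S)
    (i : ℤ) : x ^ d.toNat * ((u ^ (-i) : Sˣ) : S) ∈ p ↔ x ∈ p := by
  have hn : d.toNat ≠ 0 := by omega
  constructor
  · intro h
    rcases hp.mem_or_mem h with h | h
    · exact hp.mem_of_pow_mem _ h
    · exact absurd (p.eq_top_of_isUnit_mem h (Units.isUnit _)) hp.ne_top
  · intro h
    exact Ideal.mul_mem_right _ _ (Ideal.pow_mem_of_mem _ h _ (Nat.pos_of_ne_zero hn))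

/-- The degree-zero element attached to a homogeneous element. -/
def keyElt (u : Sˣ) (d : ℤ) (hd : 0 < d) (hu : (u : S) ∈ 𝒜 d) (x : S) (i : ℤ)
    (hx : x ∈ 𝒜 i) : SetLike.GradeZero.subring 𝒜 :=
  ⟨x ^ d.toNat * ((u ^ (-i) : Sˣ) : S), key_mem 𝒜 u d hd hu hx⟩

/-- The degree zero projection. -/
def π₀ : S →+ SetLike.GradeZero.subring 𝒜 where
  toFun z := ⟨(decompose 𝒜 z 0 : S), SetLike.coe_mem _⟩
  map_zero' := Subtype.ext (by simp)
  map_add' a b := Subtype.ext (by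
    show ((decompose 𝒜 (a + b) 0 : 𝒜 0) : S) =
      ((decompose 𝒜 a 0 : 𝒜 0) : S) + ((decompose 𝒜 b 0 : 𝒜 0) : S)
    rw [decompose_add, DirectSum.add_apply, Submodule.coe_add])

theorem π₀_mul_coe (s : S) (w : SetLike.GradeZero.subring 𝒜) :
    π₀ 𝒜 (s * (w : S)) = π₀ 𝒜 s * w := by
  apply Subtype.ext
  show ((decompose 𝒜 (s * (w : S)) 0 : 𝒜 0) : S) = ((decompose 𝒜 s 0 : 𝒜 0) : S) * (w : S)
  exact coe_decompose_mul_of_right_mem_zero 𝒜 w.2

theorem π₀_coe (w : SetLike.GradeZero.subring 𝒜) : π₀ 𝒜 (w : S) = w := by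
  apply Subtype.ext
  show ((decompose 𝒜 (w : S) 0 : 𝒜 0) : S) = (w : S)
  exact decompose_of_mem_same 𝒜 w.2

theorem map_inter (P : Ideal (SetLike.GradeZero.subring 𝒜)) (x : S)
    (hx : x ∈ P.map (SetLike.GradeZero.subring 𝒜).subtype) : ∀ s : S, π₀ 𝒜 (s * x) ∈ P := by
  refine Submodule.span_induction (p := fun x _ => ∀ s : S, π₀ 𝒜 (s * x) ∈ P) ?_ ?_ ?_ ?_ hx
  · rintro _ ⟨w, hw, rfl⟩ s
    show π₀ 𝒜 (s * (w : S)) ∈ P
    rw [π₀_mul_coe]
    exact Ideal.mul_mem_left _ _ hw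
  · intro s
    rw [mul_zero, map_zero]
    exact P.zero_mem
  · intro x y _ _ hx hy s
    rw [mul_add, map_add]
    exact P.add_mem (hx s) (hy s)
  · intro t x _ hx s
    have := hx (s * t)
    rwa [mul_assoc] at this

theorem main (f : S) (d : ℤ) (hd : 0 < d) (hf : f ∈ 𝒜 d) (hu : IsUnit f) :
    IsHomeomorph (fun p : {p : PrimeSpectrum S // p.asIdeal.IsHomogeneous 𝒜} =>
      PrimeSpectrum.comap (SetLike.GradeZero.subring 𝒜).subtype p.1) := by
  classical
  obtain ⟨u, rfl⟩ := hu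
  have hle : ∀ p q : {p : PrimeSpectrum S // p.asIdeal.IsHomogeneous 𝒜},
      (∀ w : SetLike.GradeZero.subring 𝒜, (w : S) ∈ p.1.asIdeal → (w : S) ∈ q.1.asIdeal) →
      p.1.asIdeal ≤ q.1.asIdeal := by
    intro p q h x hx
    rw [← DirectSum.sum_support_decompose 𝒜 x]
    refine Ideal.sum_mem _ (fun i _ => ?_)
    have hxi : ((decompose 𝒜 x i : 𝒜 i) : S) ∈ p.1.asIdeal := p.2 i hx
    have hmem : ((decompose 𝒜 x i : 𝒜 i) : S) ∈ 𝒜 i := SetLike.coe_mem _
    have h1 := (key_mem_iff u d hd p.1.asIdeal _ i).mpr hxi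
    have h2 := h (keyElt 𝒜 u d hd hf _ i hmem) h1
    exact (key_mem_iff u d hd q.1.asIdeal _ i).mp h2
  have hinj : Function.Injective (fun p : {p : PrimeSpectrum S // p.asIdeal.IsHomogeneous 𝒜} =>
      PrimeSpectrum.comap (SetLike.GradeZero.subring 𝒜).subtype p.1) := by
    intro p q hpq
    have hpq' : ∀ w : SetLike.GradeZero.subring 𝒜,
        (w : S) ∈ p.1.asIdeal ↔ (w : S) ∈ q.1.asIdeal := by
      intro w
      have := congrArg (fun P : PrimeSpectrum (SetLike.GradeZero.subring 𝒜) => w ∈ P.asIdeal) hpq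
      exact Iff.of_eq this
    apply Subtype.ext
    apply PrimeSpectrum.ext
    exact le_antisymm (hle p q (fun w => (hpq' w).mp)) (hle q p (fun w => (hpq' w).mpr))
  have hsurj : Function.Surjective
      (fun p : {p : PrimeSpectrum S // p.asIdeal.IsHomogeneous 𝒜} =>
      PrimeSpectrum.comap (SetLike.GradeZero.subring 𝒜).subtype p.1) := by
    intro P
    let I : Ideal S := P.asIdeal.map (SetLike.GradeZero.subring 𝒜).subtype
    let M : Submonoid S := P.asIdeal.primeCompl.map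
      ((SetLike.GradeZero.subring 𝒜).subtype : SetLike.GradeZero.subring 𝒜 →* S)
    have hdisj : Disjoint (I : Set S) (M : Set S) := by
      rw [Set.disjoint_left]
      rintro x hxI ⟨w, hw, rfl⟩
      apply hw
      have h3 : π₀ 𝒜 (1 * (w : S)) ∈ P.asIdeal := map_inter 𝒜 P.asIdeal _ hxI 1
      rwa [one_mul, π₀_coe] at h3
    obtain ⟨p, hp, hIp, hpM⟩ := Ideal.exists_le_prime_disjoint I M hdisj
    have hcore : ((p.homogeneousCore 𝒜).toIdeal).IsPrime := hp.homogeneousCore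
    refine ⟨⟨⟨(p.homogeneousCore 𝒜).toIdeal, hcore⟩, (p.homogeneousCore 𝒜).isHomogeneous⟩, ?_⟩
    apply PrimeSpectrum.ext
    apply Ideal.ext
    intro w
    show (w : S) ∈ (p.homogeneousCore 𝒜).toIdeal ↔ w ∈ P.asIdeal
    constructor
    · intro hw
      have hwp : (w : S) ∈ p := Ideal.toIdeal_homogeneousCore_le 𝒜 p hw
      by_contra hwP
      exact Set.disjoint_left.mp hpM hwp ⟨w, hwP, rfl⟩
    · intro hw
      have hwp : (w : S) ∈ p := hIp (Ideal.mem_map_of_mem _ hw)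
      exact Ideal.mem_homogeneousCore_of_homogeneous_of_mem ⟨0, w.2⟩ hwp
  refine ⟨(PrimeSpectrum.continuous_comap _).comp continuous_subtype_val, ?_, hinj, hsurj⟩
  have hB := (PrimeSpectrum.isTopologicalBasis_basic_opens (R := S)).isInducing
    (⟨rfl⟩ : Topology.IsInducing (Subtype.val :
      {p : PrimeSpectrum S // p.asIdeal.IsHomogeneous 𝒜} → PrimeSpectrum S))
  rw [hB.isOpenMap_iff]
  rintro _ ⟨_, ⟨g, rfl⟩, rfl⟩
  have himg : (fun p : {p : PrimeSpectrum S // p.asIdeal.IsHomogeneous 𝒜} =>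
      PrimeSpectrum.comap (SetLike.GradeZero.subring 𝒜).subtype p.1) ''
      (Subtype.val ⁻¹' (PrimeSpectrum.basicOpen g : Set (PrimeSpectrum S))) =
      ⋃ i : ℤ, (PrimeSpectrum.basicOpen
        (keyElt 𝒜 u d hd hf ((decompose 𝒜 g i : 𝒜 i) : S) i (SetLike.coe_mem _)) :
          Set (PrimeSpectrum (SetLike.GradeZero.subring 𝒜))) := by
    ext P
    constructor
    · rintro ⟨p, hgp, rfl⟩
      have hgp' : g ∉ p.1.asIdeal := hgp
      by_contra hcon
      apply hgp'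
      rw [← DirectSum.sum_support_decompose 𝒜 g]
      refine Ideal.sum_mem _ (fun i _ => ?_)
      by_contra hi
      apply hcon
      refine Set.mem_iUnion.mpr ⟨i, ?_⟩
      show keyElt 𝒜 u d hd hf ((decompose 𝒜 g i : 𝒜 i) : S) i (SetLike.coe_mem _) ∉
        (PrimeSpectrum.comap (SetLike.GradeZero.subring 𝒜).subtype p.1).asIdeal
      intro hk
      exact hi ((key_mem_iff u d hd p.1.asIdeal _ i).mp hk)
    · intro hP
      obtain ⟨i, hi⟩ := Set.mem_iUnion.mp hP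
      obtain ⟨p, rfl⟩ := hsurj P
      refine ⟨p, ?_, rfl⟩
      show g ∉ p.1.asIdeal
      intro hg
      apply hi
      show ((keyElt 𝒜 u d hd hf ((decompose 𝒜 g i : 𝒜 i) : S) i (SetLike.coe_mem _) :
        SetLike.GradeZero.subring 𝒜) : S) ∈ p.1.asIdeal
      exact (key_mem_iff u d hd p.1.asIdeal _ i).mpr (p.2 i hg)
  rw [himg]
  exact isOpen_iUnion (fun i => (PrimeSpectrum.basicOpen _).isOpen)

end Groth.Agent.Helper12.HomogSpec
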