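import Mathlib

set_option autoImplicit false
universe u

namespace Groth.Agent.Helper12.InvCharPoly

open Polynomial

theorem eval_mem {A : Type u} [CommRing A] (J : Ideal A) {m : ℕ} (j : Fin m → A)
    (hj : ∀ i, j i ∈ J) (p : MvPolynomial (Fin m) A) (hp : MvPolynomial.constantCoeff p = 0) :
    MvPolynomial.eval j p ∈ J := by
  classical
  rw [MvPolynomial.eval_eq']
  refine Ideal.sum_mem _ fun d _ => ?_
  by_cases hd : d = 0
  · subst hd
    rw [MvPolynomial.constantCoeff_eq] at hp
    rw [hp, zero_mul]
    exact J.zero_mem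
  · obtain ⟨i, hi⟩ : ∃ i, d i ≠ 0 := by
      by_contra hcon
      push_neg at hcon
      exact hd (Finsupp.ext hcon)
    refine Ideal.mul_mem_left _ _ ?_
    exact Ideal.mem_of_dvd J (Finset.dvd_prod_of_mem (fun i => j i ^ d i) (Finset.mem_univ i))
      (Ideal.pow_mem_of_mem J (hj i) _ (Nat.pos_of_ne_zero hi))

variable {A R G : Type u} [CommRing A] [CommRing R] [Algebra A R] [Group G] [Fintype G]
  [MulSemiringAction G R] [SMulCommClass G A R]

/-- the generic conjugate -/
noncomputable def Xs {m : ℕ} (r : Fin m → R) (σ : G) : MvPolynomial (Fin m) R :=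
  ∑ i, MvPolynomial.C (σ • r i) * MvPolynomial.X i

noncomputable def Q {m : ℕ} (r : Fin m → R) : Polynomial (MvPolynomial (Fin m) R) :=
  ∏ σ : G, (X - C (Xs r σ))

omit [Fintype G] [Algebra A R] [SMulCommClass G A R] in
theorem map_Xs {m : ℕ} (r : Fin m → R) (τ σ : G) :
    MvPolynomial.map (MulSemiringAction.toRingHom G R τ) (Xs r σ) = Xs r (τ * σ) := by
  simp only [Xs, map_sum, map_mul, MvPolynomial.map_C, MvPolynomial.map_X,
    MulSemiringAction.toRingHom_apply, mul_smul]

omit [Algebra A R] [SMulCommClass G A R] in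
theorem map_Q {m : ℕ} (r : Fin m → R) (τ : G) :
    Polynomial.map (MvPolynomial.map (MulSemiringAction.toRingHom G R τ)) (Q (G := G) r) = Q (G := G) r := by
  simp only [Q, Polynomial.map_prod, Polynomial.map_sub, Polynomial.map_X, Polynomial.map_C, map_Xs]
  exact Fintype.prod_equiv (Equiv.mulLeft τ) _ _ (fun σ => rfl)

omit [Algebra A R] [SMulCommClass G A R] in
theorem Q_monic {m : ℕ} (r : Fin m → R) : (Q (G := G) r).Monic :=
  Polynomial.monic_prod_of_monic _ _ fun σ _ => Polynomial.monic_X_sub_C _

omit [Algebra A R] [SMulCommClass G A R] in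
theorem Q_natDegree [Nontrivial R] {m : ℕ} (r : Fin m → R) :
    (Q (G := G) r).natDegree = Fintype.card G := by
  rw [Q, Polynomial.natDegree_prod_of_monic _ _ fun σ _ => Polynomial.monic_X_sub_C _]
  simp

omit [Algebra A R] [SMulCommClass G A R] in
theorem constantCoeff_coeff_Q {m : ℕ} (r : Fin m → R) (k : ℕ) (hk : k < Fintype.card G) :
    MvPolynomial.constantCoeff ((Q (G := G) r).coeff k) = 0 := by
  have h1 : Polynomial.map (MvPolynomial.constantCoeff (R := R) (σ := Fin m)) (Q (G := G) r)
      = X ^ Fintype.card G := by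
    have h0 : ∀ σ : G, MvPolynomial.constantCoeff (Xs r σ) = 0 := by
      intro σ
      simp [Xs]
    simp only [Q, Polynomial.map_prod, Polynomial.map_sub, Polynomial.map_X, Polynomial.map_C, h0,
      map_zero, sub_zero, Finset.prod_const, Finset.card_univ]
  have h2 := congrArg (fun q => Polynomial.coeff q k) h1
  simp only [Polynomial.coeff_map, Polynomial.coeff_X_pow] at h2
  rw [h2, if_neg hk.ne]

omit [SMulCommClass G A R] in
theorem coeff_Q_mem_range [Algebra.IsInvariant A R G] {m : ℕ} (r : Fin m → R) (k : ℕ) :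
    (Q (G := G) r).coeff k ∈ Set.range (MvPolynomial.map (σ := Fin m) (algebraMap A R)) := by
  rw [MvPolynomial.mem_range_map_iff_coeffs_subset]
  intro c hc
  rw [Finset.mem_coe, MvPolynomial.mem_coeffs_iff] at hc
  obtain ⟨d, _, rfl⟩ := hc
  obtain ⟨a, ha⟩ := Algebra.IsInvariant.isInvariant (A := A) (G := G)
    (MvPolynomial.coeff d ((Q (G := G) r).coeff k)) (by
      intro τ
      have h1 := map_Q (G := G) r τ
      have h2 := congrArg (fun q => MvPolynomial.coeff d (Polynomial.coeff q k)) h1
      simp only [Polynomial.coeff_map, MvPolynomial.coeff_map,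
        MulSemiringAction.toRingHom_apply] at h2
      exact h2)
  exact ⟨a, ha⟩

theorem main [Algebra.IsInvariant A R G] (J : Ideal A) (x : R)
    (hx : x ∈ Ideal.map (algebraMap A R) J) :
    ∃ P : Polynomial A, P.Monic ∧ P.natDegree ≤ Fintype.card G ∧
      (∀ i : ℕ, i < Fintype.card G → P.coeff i ∈ J) ∧
      Polynomial.map (algebraMap A R) P = ∏ σ : G, (Polynomial.X - Polynomial.C (σ • x)) := by
  classical
  have hx' : x ∈ Submodule.span R ((algebraMap A R) '' (J : Set A)) := hx
  rw [Submodule.mem_span_set'] at hx'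
  obtain ⟨m, r, g, hsum⟩ := hx'
  have hg : ∀ i, ∃ a : A, a ∈ J ∧ algebraMap A R a = (g i : R) := fun i => (g i).2
  choose j hjJ hjg using hg
  set n := Fintype.card G with hn
  -- lifts of the coefficients
  have hlift : ∀ k : ℕ, ∃ c : MvPolynomial (Fin m) A, k < n →
      (MvPolynomial.map (algebraMap A R) c = (Q (G := G) r).coeff k ∧
        MvPolynomial.constantCoeff c = 0) := by
    intro k
    by_cases hk : k < n
    · obtain ⟨c', hc'⟩ := coeff_Q_mem_range (A := A) (G := G) r k
      refine ⟨c' - MvPolynomial.C (MvPolynomial.constantCoeff c'), fun _ => ⟨?_, ?_⟩⟩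
      · have h0 := constantCoeff_coeff_Q (G := G) r k hk
        rw [← hc', MvPolynomial.constantCoeff_map] at h0
        rw [map_sub, MvPolynomial.map_C, h0, map_zero, sub_zero, hc']
      · simp
    · exact ⟨0, fun h => absurd h hk⟩
  choose c0 hc0 using hlift
  set Q₀ : Polynomial (MvPolynomial (Fin m) A) :=
    X ^ n + ∑ k ∈ Finset.range n, C (c0 k) * X ^ k with hQ₀
  have hdeg : ∀ {S : Type u} [CommRing S] (a : ℕ → S),
      (∑ k ∈ Finset.range n, C (a k) * X ^ k : Polynomial S).degree < n := by
    intro S _ a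
    refine lt_of_le_of_lt (Polynomial.degree_sum_le _ _)
      ((Finset.sup_lt_iff (WithBot.bot_lt_coe n)).mpr ?_)
    intro k hk
    refine (Polynomial.degree_C_mul_X_pow_le k (a k)).trans_lt ?_
    exact WithBot.coe_lt_coe.mpr (Finset.mem_range.mp hk)
  set P : Polynomial A := Polynomial.map (MvPolynomial.eval j) Q₀ with hP
  have hPeq : P = X ^ n + ∑ k ∈ Finset.range n, C (MvPolynomial.eval j (c0 k)) * X ^ k := by
    rw [hP, hQ₀]
    simp only [Polynomial.map_add, Polynomial.map_pow, Polynomial.map_X, Polynomial.map_sum,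
      Polynomial.map_mul, Polynomial.map_C]
  refine ⟨P, ?_, ?_, ?_, ?_⟩
  · rw [hPeq]
    exact Polynomial.monic_X_pow_add (hdeg _)
  · rw [hPeq]
    refine Polynomial.natDegree_add_le_of_degree_le (Polynomial.natDegree_X_pow_le n) ?_
    exact Polynomial.natDegree_le_of_degree_le (hdeg _).le
  · intro i hi
    rw [hPeq]
    simp only [Polynomial.coeff_add, Polynomial.coeff_X_pow, Polynomial.finsetSum_coeff,
      Polynomial.coeff_C_mul, if_neg hi.ne, zero_add]
    rw [Finset.sum_eq_single i]
    · simp only [if_true, mul_one]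
      exact eval_mem J j hjJ _ (hc0 i hi).2
    · intro b _ hb
      rw [if_neg (Ne.symm hb), mul_zero]
    · intro h
      exact absurd (Finset.mem_range.mpr hi) h
  · rcases subsingleton_or_nontrivial R with hR | hR
    · exact Subsingleton.elim _ _
    have hQ₀map : Polynomial.map (MvPolynomial.map (algebraMap A R)) Q₀ = Q (G := G) r := by
      have h1 := (Q_monic (G := G) r).as_sum
      rw [Q_natDegree] at h1
      rw [h1, hQ₀]
      simp only [Polynomial.map_add, Polynomial.map_pow, Polynomial.map_X, Polynomial.map_sum,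
        Polynomial.map_mul, Polynomial.map_C]
      congr 1
      refine Finset.sum_congr rfl fun k hk => ?_
      rw [(hc0 k (Finset.mem_range.mp hk)).1]
    have hcomp : (algebraMap A R).comp (MvPolynomial.eval j) =
        (MvPolynomial.eval (fun i => algebraMap A R (j i))).comp
          (MvPolynomial.map (algebraMap A R)) := by
      apply MvPolynomial.ringHom_ext
      · intro a; simp
      · intro i; simp
    rw [hP, Polynomial.map_map, hcomp, ← Polynomial.map_map, hQ₀map]
    simp only [Q, Polynomial.map_prod, Polynomial.map_sub, Polynomial.map_X, Polynomial.map_C]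
    refine Finset.prod_congr rfl fun σ _ => ?_
    congr 2
    simp only [Xs, map_sum, map_mul, MvPolynomial.eval_C, MvPolynomial.eval_X]
    rw [← hsum, Finset.smul_sum]
    refine Finset.sum_congr rfl fun i _ => ?_
    rw [smul_eq_mul, smul_mul', ← hjg i, smul_algebraMap, mul_comm]

end Groth.Agent.Helper12.InvCharPoly
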