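import Mathlib

/-! Invertible modules: a single element generating the stalks at finitely many primes. -/

namespace Groth.Agent.Helper12.InvGen

theorem span_eq_top_iff {R N : Type*} [CommRing R] [AddCommGroup N] [Module R N]
    (θ : N ≃ₗ[R] R) (x : N) :
    Submodule.span R {x} = ⊤ ↔ IsUnit (θ x) := by
  constructor
  · intro h
    have h1 : θ.symm 1 ∈ Submodule.span R {x} := by rw [h]; trivial
    obtain ⟨c, hc⟩ := Submodule.mem_span_singleton.mp h1
    have h2 : c * θ x = 1 := by
      have := congrArg θ hc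
      rw [map_smul, LinearEquiv.apply_symm_apply, smul_eq_mul] at this
      exact this
    exact isUnit_iff_exists_inv.mpr ⟨c, by rw [mul_comm]; exact h2⟩
  · rintro ⟨u, hu⟩
    rw [eq_top_iff]
    intro y _
    refine Submodule.mem_span_singleton.mpr ⟨θ y * ↑u⁻¹, θ.injective ?_⟩
    rw [map_smul, smul_eq_mul, ← hu, mul_assoc, Units.inv_mul, mul_one]

theorem unit_add {R : Type*} [CommRing R] [IsLocalRing R] {x y : R} (hx : IsUnit x)
    (hy : ¬ IsUnit y) : IsUnit (x + y) := by
  by_contra h
  have h1 : x + y ∈ IsLocalRing.maximalIdeal R :=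
    (IsLocalRing.mem_maximalIdeal _).mpr (mem_nonunits_iff.mpr h)
  have h2 : y ∈ IsLocalRing.maximalIdeal R :=
    (IsLocalRing.mem_maximalIdeal _).mpr (mem_nonunits_iff.mpr hy)
  have h3 : x ∈ IsLocalRing.maximalIdeal R := by
    have := Ideal.sub_mem _ h1 h2
    simpa using this
  exact mem_nonunits_iff.mp ((IsLocalRing.mem_maximalIdeal _).mp h3) hx

variable {A : Type*} [CommRing A] {M : Type*} [AddCommGroup M] [Module A M]
  [Module.Invertible A M]

theorem exists_equiv (q : Ideal A) [q.IsPrime] :
    Nonempty (LocalizedModule q.primeCompl M ≃ₗ[Localization.AtPrime q]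
      Localization.AtPrime q) := by
  haveI : Module.Invertible (Localization.AtPrime q) (LocalizedModule q.primeCompl M) :=
    inferInstance
  haveI : Module.Free (Localization.AtPrime q) (LocalizedModule q.primeCompl M) :=
    Module.free_of_flat_of_isLocalRing
  exact Module.Invertible.free_iff_linearEquiv.mp inferInstance

/-- `s` generates the stalk of `M` at `q`. -/
def Good (s : M) (q : PrimeSpectrum A) : Prop :=
  Submodule.span (Localization.AtPrime q.asIdeal)
    {LocalizedModule.mkLinearMap q.asIdeal.primeCompl M s} = ⊤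

theorem chi_add (q : PrimeSpectrum A)
    (θ : LocalizedModule q.asIdeal.primeCompl M ≃ₗ[Localization.AtPrime q.asIdeal]
      Localization.AtPrime q.asIdeal) (s t : M) (a : A) :
    θ (LocalizedModule.mkLinearMap q.asIdeal.primeCompl M (s + a • t)) =
      θ (LocalizedModule.mkLinearMap q.asIdeal.primeCompl M s) +
        algebraMap A (Localization.AtPrime q.asIdeal) a *
          θ (LocalizedModule.mkLinearMap q.asIdeal.primeCompl M t) := by
  rw [map_add, map_smul, map_add,
    ← algebraMap_smul (Localization.AtPrime q.asIdeal) a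
      (LocalizedModule.mkLinearMap q.asIdeal.primeCompl M t), map_smul, smul_eq_mul]

theorem exists_good (q : PrimeSpectrum A) : ∃ t : M, Good t q := by
  obtain ⟨θ⟩ := exists_equiv (M := M) q.asIdeal
  obtain ⟨⟨m, u⟩, h⟩ := IsLocalizedModule.surj q.asIdeal.primeCompl
    (LocalizedModule.mkLinearMap q.asIdeal.primeCompl M) (θ.symm 1)
  refine ⟨m, (span_eq_top_iff θ _).mpr ?_⟩
  have h' : θ (LocalizedModule.mkLinearMap q.asIdeal.primeCompl M m) =
      algebraMap A (Localization.AtPrime q.asIdeal) (u : A) := by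
    simp only at h
    rw [← h, Submonoid.smul_def,
      ← algebraMap_smul (Localization.AtPrime q.asIdeal) (u : A) (θ.symm 1), map_smul,
      LinearEquiv.apply_symm_apply, smul_eq_mul, mul_one]
  rw [h']
  exact IsLocalization.map_units (Localization.AtPrime q.asIdeal) u

theorem good_add_of_good {q : PrimeSpectrum A} {s : M} (t : M) {a : A} (hs : Good s q)
    (ha : a ∈ q.asIdeal) : Good (s + a • t) q := by
  obtain ⟨θ⟩ := exists_equiv (M := M) q.asIdeal
  have h1 := (span_eq_top_iff θ _).mp hs
  refine (span_eq_top_iff θ _).mpr ?_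
  rw [chi_add]
  refine unit_add h1 ?_
  intro hu
  have h2 : IsUnit (algebraMap A (Localization.AtPrime q.asIdeal) a) := isUnit_of_mul_isUnit_left hu
  exact ((IsLocalization.AtPrime.isUnit_to_map_iff (Localization.AtPrime q.asIdeal)
    q.asIdeal a).mp h2) ha

theorem good_add_of_not_good {q : PrimeSpectrum A} {s t : M} {a : A} (hs : ¬ Good s q)
    (ht : Good t q) (ha : a ∉ q.asIdeal) : Good (s + a • t) q := by
  obtain ⟨θ⟩ := exists_equiv (M := M) q.asIdeal
  have h1 : ¬ IsUnit (θ (LocalizedModule.mkLinearMap q.asIdeal.primeCompl M s)) :=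
    fun h => hs ((span_eq_top_iff θ _).mpr h)
  have h2 := (span_eq_top_iff θ _).mp ht
  refine (span_eq_top_iff θ _).mpr ?_
  rw [chi_add, add_comm]
  refine unit_add ?_ h1
  exact IsUnit.mul ((IsLocalization.AtPrime.isUnit_to_map_iff (Localization.AtPrime q.asIdeal)
    q.asIdeal a).mpr ha) h2

theorem exists_good_finset : ∀ (n : ℕ) (T : Finset (PrimeSpectrum A)), T.card = n →
    ∃ s : M, ∀ q ∈ T, Good s q := by
  classical
  intro n
  induction n with
  | zero =>
    intro T hT
    refine ⟨0, fun q hq => ?_⟩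
    rw [Finset.card_eq_zero.mp hT] at hq
    simp at hq
  | succ n ih =>
    intro T hT
    have hne : T.Nonempty := by rw [← Finset.card_pos]; omega
    obtain ⟨q, hqT, hmin⟩ := Finset.exists_minimal hne
    obtain ⟨s, hs⟩ := ih (T.erase q) (by rw [Finset.card_erase_of_mem hqT, hT]; rfl)
    by_cases hsq : Good s q
    · refine ⟨s, fun q' hq' => ?_⟩
      by_cases h : q' = q
      · rw [h]; exact hsq
      · exact hs q' (Finset.mem_erase.mpr ⟨h, hq'⟩)
    · obtain ⟨t, ht⟩ := exists_good (M := M) q
      have hJ : ¬ (∏ p' ∈ T.erase q, p'.asIdeal) ≤ q.asIdeal := by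
        intro hle
        obtain ⟨p', hp', hle'⟩ := (Ideal.IsPrime.prod_le q.isPrime).mp hle
        have hp'ne : p' ≠ q := (Finset.mem_erase.mp hp').1
        have hp'T : p' ∈ T := (Finset.mem_erase.mp hp').2
        have h1 : p' ≤ q := (PrimeSpectrum.asIdeal_le_asIdeal p' q).mp hle'
        exact hp'ne (le_antisymm h1 (hmin hp'T h1))
      obtain ⟨a, haJ, haq⟩ := SetLike.not_le_iff_exists.mp hJ
      refine ⟨s + a • t, fun q' hq' => ?_⟩
      by_cases h : q' = q
      · rw [h]; exact good_add_of_not_good hsq ht haq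
      · have hq'e : q' ∈ T.erase q := Finset.mem_erase.mpr ⟨h, hq'⟩
        have ha' : a ∈ q'.asIdeal := by
          have h1 : (∏ p' ∈ T.erase q, p'.asIdeal) ≤
              (T.erase q).inf (fun p' => p'.asIdeal) := Ideal.prod_le_inf
          exact (Finset.inf_le hq'e : (T.erase q).inf (fun p' => p'.asIdeal) ≤ q'.asIdeal)
            (h1 haJ)
        exact good_add_of_good t (hs q' hq'e) ha'

theorem main (ι : Type*) [Finite ι] (p : ι → PrimeSpectrum A) :
    ∃ s : M, ∀ i : ι, Submodule.span (Localization.AtPrime (p i).asIdeal)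
      {LocalizedModule.mkLinearMap (p i).asIdeal.primeCompl M s} = ⊤ := by
  classical
  haveI := Fintype.ofFinite ι
  obtain ⟨s, hs⟩ := exists_good_finset (M := M) _ (Finset.univ.image p) rfl
  exact ⟨s, fun i => hs (p i) (Finset.mem_image_of_mem p (Finset.mem_univ i))⟩

end Groth.Agent.Helper12.InvGen
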