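import Mathlib

set_option autoImplicit false
universe u v

namespace Groth.Agent.Helper12.RedProj

open TensorProduct

variable {R : Type u} [CommRing R] {M : Type v} [AddCommGroup M] [Module R M]

/-- the fibre is spanned by pure tensors `1 ⊗ y` -/
theorem span_one_tmul (K : Type u) [Field K] [Algebra R K] :
    Submodule.span K (Set.range fun y : M => (1 : K) ⊗ₜ[R] y) = ⊤ := by
  rw [eq_top_iff]
  rintro z -
  induction z using TensorProduct.induction_on with
  | zero => exact Submodule.zero_mem _
  | tmul a y =>
    have : a ⊗ₜ[R] y = a • ((1 : K) ⊗ₜ[R] y) := by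
      rw [TensorProduct.smul_tmul', smul_eq_mul, mul_one]
    rw [this]
    exact Submodule.smul_mem _ _ (Submodule.subset_span ⟨y, rfl⟩)
  | add z₁ z₂ h₁ h₂ => exact Submodule.add_mem _ h₁ h₂

theorem one_tmul_smul (K : Type u) [Field K] [Algebra R K] (r : R) (y : M) :
    (1 : K) ⊗ₜ[R] (r • y) = algebraMap R K r • ((1 : K) ⊗ₜ[R] y) := by
  rw [TensorProduct.tmul_smul, algebraMap_smul]

theorem coeff_mem_of_rel (q : Ideal R) [q.IsPrime] (f : R) (hf : f ∉ q) {n : ℕ} (m : Fin n → M)
    (hgen : ∀ y : M, f • y ∈ Submodule.span R (Set.range m))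
    (hrank : Module.finrank q.ResidueField (q.ResidueField ⊗[R] M) = n)
    (b : Fin n → R) (hb : ∑ i, b i • m i = 0) (i : Fin n) : b i ∈ q := by
  classical
  let w : Fin n → q.ResidueField ⊗[R] M := fun i => (1 : q.ResidueField) ⊗ₜ[R] m i
  have hspan : ⊤ ≤ Submodule.span q.ResidueField (Set.range w) := by
    rw [← span_one_tmul (R := R) (M := M) q.ResidueField, Submodule.span_le]
    rintro _ ⟨y, rfl⟩
    have h1 : (1 : q.ResidueField) ⊗ₜ[R] (f • y) ∈ Submodule.span q.ResidueField (Set.range w) := by
      have h2 : Submodule.span R (Set.range m) ≤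
          ((Submodule.span q.ResidueField (Set.range w)).restrictScalars R).comap
            (TensorProduct.mk R q.ResidueField M 1) := by
        rw [Submodule.span_le]
        rintro _ ⟨i, rfl⟩
        exact Submodule.subset_span ⟨i, rfl⟩
      exact h2 (hgen y)
    have hf' : algebraMap R q.ResidueField f ≠ 0 := by
      rw [Ne, Ideal.algebraMap_residueField_eq_zero]; exact hf
    rw [one_tmul_smul] at h1
    have := Submodule.smul_mem _ (algebraMap R q.ResidueField f)⁻¹ h1
    rwa [smul_smul, inv_mul_cancel₀ hf', one_smul] at this
  have hli : LinearIndependent q.ResidueField w :=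
    linearIndependent_of_top_le_span_of_card_eq_finrank hspan (by rw [Fintype.card_fin, hrank])
  have hrel : ∑ i, algebraMap R q.ResidueField (b i) • w i = 0 := by
    have : ∑ i, algebraMap R q.ResidueField (b i) • w i =
        (1 : q.ResidueField) ⊗ₜ[R] (∑ i, b i • m i) := by
      rw [TensorProduct.tmul_sum]
      refine Finset.sum_congr rfl fun i _ => ?_
      rw [one_tmul_smul]
    rw [this, hb, TensorProduct.tmul_zero]
  have := Fintype.linearIndependent_iff.mp hli _ hrel i
  exact Ideal.algebraMap_residueField_eq_zero.mp this

theorem mul_eq_zero_of_rel [IsReduced R] (f : R) {n : ℕ} (m : Fin n → M)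
    (hgen : ∀ y : M, f • y ∈ Submodule.span R (Set.range m))
    (hrank : ∀ (q : Ideal R) [q.IsPrime], f ∉ q →
      Module.finrank q.ResidueField (q.ResidueField ⊗[R] M) = n)
    (b : Fin n → R) (hb : ∑ i, b i • m i = 0) (i : Fin n) : f * b i = 0 := by
  apply IsNilpotent.eq_zero
  rw [nilpotent_iff_mem_prime]
  intro q hq
  by_cases hf : f ∈ q
  · exact q.mul_mem_right _ hf
  · exact q.mul_mem_left _ (coeff_mem_of_rel q f hf m hgen (hrank q hf) b hb i)

theorem free_away [IsReduced R] (f : R) {n : ℕ} (m : Fin n → M)
    (hgen : ∀ y : M, f • y ∈ Submodule.span R (Set.range m))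
    (hrank : ∀ (q : Ideal R) [q.IsPrime], f ∉ q →
      Module.finrank q.ResidueField (q.ResidueField ⊗[R] M) = n) :
    Module.Free (Localization.Away f) (LocalizedModule.Away f M) := by
  classical
  let ι : M →ₗ[R] LocalizedModule.Away f M := LocalizedModule.mkLinearMap (Submonoid.powers f) M
  let v : Fin n → LocalizedModule.Away f M := fun i => ι (m i)
  have hfu : IsUnit (algebraMap R (Localization.Away f) f) :=
    IsLocalization.map_units (Localization.Away f) (⟨f, Submonoid.mem_powers f⟩ : Submonoid.powers f)
  have hli : LinearIndependent (Localization.Away f) v := by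
    rw [Fintype.linearIndependent_iff]
    intro g hg i
    obtain ⟨c, hc⟩ := IsLocalization.exist_integer_multiples_of_finite (Submonoid.powers f) g
    choose a ha using hc
    have h1 : ι (∑ i, a i • m i) = 0 := by
      rw [map_sum]
      have : ∀ i, ι (a i • m i) = (c : R) • (g i • v i) := by
        intro i
        rw [map_smul, ← algebraMap_smul (Localization.Away f) (a i) (ι (m i)), ha i, smul_assoc]
      simp_rw [this]
      rw [← Finset.smul_sum, hg, smul_zero]
    obtain ⟨t, ht⟩ := (IsLocalizedModule.eq_zero_iff (Submonoid.powers f) ι).mp h1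
    have h2 : ∑ i, ((t : R) * a i) • m i = 0 := by
      rw [← ht, Submonoid.smul_def, Finset.smul_sum]
      refine Finset.sum_congr rfl fun i _ => ?_
      rw [mul_smul]
    have h3 := mul_eq_zero_of_rel f m hgen hrank _ h2 i
    have h4 : algebraMap R (Localization.Away f) (f * (t : R) * (c : R)) * g i = 0 := by
      have h5 : algebraMap R (Localization.Away f) (f * (t : R) * (c : R)) * g i =
          algebraMap R (Localization.Away f) (f * ((t : R) * a i)) := by
        have h6 := ha i
        rw [Algebra.smul_def] at h6
        rw [map_mul, map_mul, map_mul, map_mul, h6]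
        ring
      rw [h5, h3, map_zero]
    have hu : IsUnit (algebraMap R (Localization.Away f) (f * (t : R) * (c : R))) := by
      rw [map_mul, map_mul]
      exact (hfu.mul (IsLocalization.map_units _ t)).mul (IsLocalization.map_units _ c)
    exact (hu.mul_right_eq_zero).mp h4
  have hsp : ⊤ ≤ Submodule.span (Localization.Away f) (Set.range v) := by
    rintro z -
    induction z using LocalizedModule.induction_on with
    | h y s =>
      have h1 : ι (f • y) ∈ Submodule.span (Localization.Away f) (Set.range v) := by
        have h2 : Submodule.span R (Set.range m) ≤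
            ((Submodule.span (Localization.Away f) (Set.range v)).restrictScalars R).comap ι := by
          rw [Submodule.span_le]
          rintro _ ⟨i, rfl⟩
          exact Submodule.subset_span ⟨i, rfl⟩
        exact h2 (hgen y)
      have h3 : LocalizedModule.mk y s =
          (Localization.mk 1 ((⟨f, Submonoid.mem_powers f⟩ : Submonoid.powers f) * s) :
            Localization.Away f) • ι (f • y) := by
        rw [LocalizedModule.mkLinearMap_apply, LocalizedModule.mk_smul_mk, one_smul, mul_one]
        exact (LocalizedModule.mk_cancel_common_left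
          (⟨f, Submonoid.mem_powers f⟩ : Submonoid.powers f) s y).symm
      rw [h3]
      exact Submodule.smul_mem _ _ h1
  exact Module.Free.of_basis (Module.Basis.mk hli hsp)

theorem exists_local_data [Module.Finite R M]
    (hφ : IsLocallyConstant (fun p : PrimeSpectrum R =>
      Module.finrank p.asIdeal.ResidueField (p.asIdeal.ResidueField ⊗[R] M)))
    (P : Ideal R) [hP : P.IsPrime] :
    ∃ f : R, f ∉ P ∧ ∃ (n : ℕ) (m : Fin n → M),
      (∀ y : M, f • y ∈ Submodule.span R (Set.range m)) ∧
      ∀ (q : Ideal R) [q.IsPrime], f ∉ q →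
        Module.finrank q.ResidueField (q.ResidueField ⊗[R] M) = n := by
  classical
  have hstop : Submodule.span P.ResidueField
      (Set.range fun y : M => (1 : P.ResidueField) ⊗ₜ[R] y) = ⊤ := span_one_tmul P.ResidueField
  obtain ⟨w, hws, hwspan, hwli⟩ := Submodule.exists_fun_fin_finrank_span_eq P.ResidueField
    (Set.range fun y : M => (1 : P.ResidueField) ⊗ₜ[R] y)
  have hnP : Module.finrank P.ResidueField (Submodule.span P.ResidueField
      (Set.range fun y : M => (1 : P.ResidueField) ⊗ₜ[R] y)) =
      Module.finrank P.ResidueField (P.ResidueField ⊗[R] M) := by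
    rw [hstop, finrank_top]
  choose m hm using hws
  have hsub : Subsingleton (P.ResidueField ⊗[R] (M ⧸ Submodule.span R (Set.range m))) := by
    let g := ((Submodule.span R (Set.range m)).mkQ).baseChange P.ResidueField
    have hgs : Function.Surjective g := by
      have : (g : P.ResidueField ⊗[R] M → P.ResidueField ⊗[R] (M ⧸ Submodule.span R (Set.range m)))
          = ((Submodule.span R (Set.range m)).mkQ).lTensor P.ResidueField := by
        ext; rfl
      rw [this]
      exact LinearMap.lTensor_surjective P.ResidueField (Submodule.mkQ_surjective _)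
    have hg0 : g = 0 := by
      have : Submodule.span P.ResidueField (Set.range w) ≤ LinearMap.ker g := by
        rw [Submodule.span_le]
        rintro _ ⟨i, rfl⟩
        rw [SetLike.mem_coe, LinearMap.mem_ker, ← hm i, LinearMap.baseChange_tmul]
        have : (Submodule.span R (Set.range m)).mkQ (m i) = 0 :=
          (Submodule.Quotient.mk_eq_zero _).mpr (Submodule.subset_span ⟨i, rfl⟩)
        rw [this, tmul_zero]
      have h' : ⊤ ≤ LinearMap.ker g := le_trans (le_of_eq (hstop.symm.trans hwspan.symm)) this
      rw [top_le_iff, LinearMap.ker_eq_top] at h'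
      exact h'
    refine ⟨fun a b => ?_⟩
    obtain ⟨a', rfl⟩ := hgs a
    obtain ⟨b', rfl⟩ := hgs b
    rw [hg0]; rfl
  have hnot : (⟨P, hP⟩ : PrimeSpectrum R) ∉
      Module.support R (M ⧸ Submodule.span R (Set.range m)) := by
    rw [Module.mem_support_iff_nontrivial_residueField_tensorProduct]
    exact not_nontrivial_iff_subsingleton.mpr hsub
  rw [Module.mem_support_iff_of_finite] at hnot
  obtain ⟨f₁, hf₁ann, hf₁P⟩ := SetLike.not_le_iff_exists.mp hnot
  have hopen := hφ.isOpen_fiber (Module.finrank P.ResidueField (P.ResidueField ⊗[R] M))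
  have hmem : (⟨P, hP⟩ : PrimeSpectrum R) ∈ {x : PrimeSpectrum R |
      Module.finrank x.asIdeal.ResidueField (x.asIdeal.ResidueField ⊗[R] M) =
        Module.finrank P.ResidueField (P.ResidueField ⊗[R] M)} := rfl
  obtain ⟨V, ⟨f₀, rfl⟩, hPV, hVU⟩ :=
    PrimeSpectrum.isTopologicalBasis_basic_opens.exists_subset_of_mem_open hmem hopen
  have hf₀P : f₀ ∉ P := hPV
  refine ⟨f₀ * f₁, ?_, _, m, ?_, ?_⟩
  · intro h
    rcases hP.mem_or_mem h with h | h
    · exact hf₀P h
    · exact hf₁P h
  · intro y
    rw [mul_smul]
    refine Submodule.smul_mem _ _ ?_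
    have := Module.mem_annihilator.mp hf₁ann ((Submodule.span R (Set.range m)).mkQ y)
    rw [← map_smul, Submodule.mkQ_apply, Submodule.Quotient.mk_eq_zero] at this
    exact this
  · intro q hq hfq
    have hq0 : f₀ ∉ q := fun h => hfq (q.mul_mem_right _ h)
    have := hVU (show (⟨q, hq⟩ : PrimeSpectrum R) ∈
      (PrimeSpectrum.basicOpen f₀ : Set (PrimeSpectrum R)) from hq0)
    rw [hnP]
    exact this

theorem main [IsReduced R] :
    (Module.Finite R M ∧ Module.Projective R M) ↔
    (Module.Finite R M ∧ IsLocallyConstant (fun p : PrimeSpectrum R =>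
      Module.finrank p.asIdeal.ResidueField (p.asIdeal.ResidueField ⊗[R] M))) := by
  constructor
  · rintro ⟨hfin, hproj⟩
    refine ⟨hfin, ?_⟩
    haveI : Module.FinitePresentation R M := Module.finitePresentation_of_projective R M
    have h := Module.isLocallyConstant_rankAtStalk (R := R) (M := M)
    have : (fun p : PrimeSpectrum R =>
        Module.finrank p.asIdeal.ResidueField (p.asIdeal.ResidueField ⊗[R] M)) =
        Module.rankAtStalk M := by
      funext p
      exact (Module.rankAtStalk_eq p).symm
    rw [this]
    exact h
  · rintro ⟨hfin, hφ⟩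
    refine ⟨hfin, ?_⟩
    let s : Set R := {f | Module.Free (Localization.Away f) (LocalizedModule.Away f M)}
    have hs : Ideal.span s = ⊤ := by
      by_contra hne
      obtain ⟨P, hPmax, hle⟩ := Ideal.exists_le_maximal _ hne
      haveI := hPmax.isPrime
      obtain ⟨f, hfP, n, m, hgen, hrank⟩ := exists_local_data hφ P
      have : f ∈ s := free_away f m hgen hrank
      exact hfP (hle (Ideal.subset_span this))
    haveI : Module.FinitePresentation R M := by
      refine Module.FinitePresentation.of_localizationSpan s hs fun g => ?_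
      haveI : Module.Free (Localization.Away g.1) (LocalizedModule.Away g.1 M) := g.2
      exact Module.finitePresentation_of_projective _ _
    haveI : Module.Flat R M := by
      refine Module.flat_of_localized_span R M s hs fun g => ?_
      haveI : Module.Free (Localization.Away g.1) (LocalizedModule.Away g.1 M) := g.2
      exact Module.Flat.trans R (Localization.Away g.1) _
    exact Module.Flat.projective_of_finitePresentation

end Groth.Agent.Helper12.RedProj
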