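import Mathlib
import Groth.Agent.Lib.Helper12.FibreRank
import Groth.Agent.Lib.Helper12.RedProj

/-!
# Locally constant kernel rank over a reduced ring
-/

namespace Groth.Agent.Helper12.KerProj

universe u v
open TensorProduct

theorem main (A : Type u) [CommRing A]
    [IsNoetherianRing A] [IsReduced A] (M : Type v) (F : Type v) [AddCommGroup M] [Module A M]
    [Module.Finite A M] [AddCommGroup F] [Module A F] [Module.Finite A F] [Module.Free A F]
    (δ : M →ₗ[A] F)
    (h : IsLocallyConstant (fun x : PrimeSpectrum A =>
      Module.finrank x.asIdeal.ResidueField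
        (LinearMap.ker (δ.baseChange x.asIdeal.ResidueField)))) :
    Module.Projective A M ∧ Module.Projective A (LinearMap.ker δ) ∧
      Module.Projective A (F ⧸ LinearMap.range δ) ∧
      ∀ (N : Type v) [AddCommGroup N] [Module A N],
        Function.Injective (LinearMap.rTensor N (LinearMap.ker δ).subtype) ∧
        Function.Exact (LinearMap.rTensor N (LinearMap.ker δ).subtype)
          (LinearMap.rTensor N δ) := by
  classical
  -- both fibre ranks are locally constant
  have hboth : ∀ x : PrimeSpectrum A, ∀ᶠ q in nhds x,
      Module.finrank q.asIdeal.ResidueField (q.asIdeal.ResidueField ⊗[A] M) =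
        Module.finrank x.asIdeal.ResidueField (x.asIdeal.ResidueField ⊗[A] M) ∧
      Module.finrank q.asIdeal.ResidueField
          (q.asIdeal.ResidueField ⊗[A] (F ⧸ LinearMap.range δ)) =
        Module.finrank x.asIdeal.ResidueField
          (x.asIdeal.ResidueField ⊗[A] (F ⧸ LinearMap.range δ)) := by
    intro x
    filter_upwards [FibreRank.eventually_le (M := M) x,
      FibreRank.eventually_le (M := F ⧸ LinearMap.range δ) x,
      (IsLocallyConstant.iff_eventually_eq _).mp h x] with q h1 h2 h3
    have kx := FibreRank.ker_identity x.asIdeal.ResidueField δ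
    have kq := FibreRank.ker_identity q.asIdeal.ResidueField δ
    have h3' : Module.finrank q.asIdeal.ResidueField
        (LinearMap.ker (δ.baseChange q.asIdeal.ResidueField)) =
        Module.finrank x.asIdeal.ResidueField
        (LinearMap.ker (δ.baseChange x.asIdeal.ResidueField)) := h3
    omega
  have hM : IsLocallyConstant (fun p : PrimeSpectrum A =>
      Module.finrank p.asIdeal.ResidueField (p.asIdeal.ResidueField ⊗[A] M)) := by
    rw [IsLocallyConstant.iff_eventually_eq]
    intro x
    exact (hboth x).mono (fun q hq => hq.1)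
  have hC : IsLocallyConstant (fun p : PrimeSpectrum A =>
      Module.finrank p.asIdeal.ResidueField
        (p.asIdeal.ResidueField ⊗[A] (F ⧸ LinearMap.range δ))) := by
    rw [IsLocallyConstant.iff_eventually_eq]
    intro x
    exact (hboth x).mono (fun q hq => hq.2)
  haveI hMproj : Module.Projective A M :=
    ((RedProj.main (R := A) (M := M)).mpr ⟨inferInstance, hM⟩).2
  haveI hCproj : Module.Projective A (F ⧸ LinearMap.range δ) :=
    ((RedProj.main (R := A) (M := F ⧸ LinearMap.range δ)).mpr ⟨inferInstance, hC⟩).2
  -- section of F → C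
  obtain ⟨σ, hσ⟩ := Module.projective_lifting_property (LinearMap.range δ).mkQ
    (LinearMap.id : (F ⧸ LinearMap.range δ) →ₗ[A] (F ⧸ LinearMap.range δ))
    (Submodule.mkQ_surjective _)
  -- retraction π : F → range δ
  have hπmem : ∀ x : F, x - σ ((LinearMap.range δ).mkQ x) ∈ LinearMap.range δ := by
    intro x
    rw [← Submodule.Quotient.mk_eq_zero, Submodule.Quotient.mk_sub, sub_eq_zero]
    have := LinearMap.congr_fun hσ ((LinearMap.range δ).mkQ x)
    exact this.symm
  let π : F →ₗ[A] LinearMap.range δ :=
    LinearMap.codRestrict (LinearMap.range δ)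
      (LinearMap.id - σ.comp (LinearMap.range δ).mkQ) hπmem
  have hπ : π.comp (LinearMap.range δ).subtype = LinearMap.id := by
    ext ⟨y, hy⟩
    show y - σ ((LinearMap.range δ).mkQ y) = y
    have : (LinearMap.range δ).mkQ y = 0 := (Submodule.Quotient.mk_eq_zero _).mpr hy
    rw [this, map_zero, sub_zero]
  haveI hRproj : Module.Projective A (LinearMap.range δ) :=
    Module.Projective.of_split (LinearMap.range δ).subtype π hπ
  -- section of M → range δ
  obtain ⟨τ, hτ⟩ := Module.projective_lifting_property δ.rangeRestrict
    (LinearMap.id : LinearMap.range δ →ₗ[A] LinearMap.range δ) δ.surjective_rangeRestrict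
  have hρmem : ∀ x : M, x - τ (δ.rangeRestrict x) ∈ LinearMap.ker δ := by
    intro x
    rw [LinearMap.mem_ker, map_sub, sub_eq_zero]
    have := LinearMap.congr_fun hτ (δ.rangeRestrict x)
    have h2 := congrArg Subtype.val this
    exact h2.symm
  let ρ : M →ₗ[A] LinearMap.ker δ :=
    LinearMap.codRestrict (LinearMap.ker δ) (LinearMap.id - τ.comp δ.rangeRestrict) hρmem
  have hρ : ρ.comp (LinearMap.ker δ).subtype = LinearMap.id := by
    ext ⟨y, hy⟩
    show y - τ (δ.rangeRestrict y) = y
    have : δ.rangeRestrict y = 0 := Subtype.ext (LinearMap.mem_ker.mp hy)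
    rw [this, map_zero, sub_zero]
  have hKproj : Module.Projective A (LinearMap.ker δ) :=
    Module.Projective.of_split (LinearMap.ker δ).subtype ρ hρ
  refine ⟨hMproj, hKproj, hCproj, ?_⟩
  intro N _ _
  have hinj1 : Function.Injective (LinearMap.rTensor N (LinearMap.ker δ).subtype) := by
    have hleft : Function.LeftInverse (LinearMap.rTensor N ρ)
        (LinearMap.rTensor N (LinearMap.ker δ).subtype) := by
      intro z
      rw [← LinearMap.comp_apply, ← LinearMap.rTensor_comp, hρ, LinearMap.rTensor_id,
        LinearMap.id_apply]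
    exact hleft.injective
  have hinj2 : Function.Injective (LinearMap.rTensor N (LinearMap.range δ).subtype) := by
    have hleft : Function.LeftInverse (LinearMap.rTensor N π)
        (LinearMap.rTensor N (LinearMap.range δ).subtype) := by
      intro z
      rw [← LinearMap.comp_apply, ← LinearMap.rTensor_comp, hπ, LinearMap.rTensor_id,
        LinearMap.id_apply]
    exact hleft.injective
  refine ⟨hinj1, ?_⟩
  have hex0 : Function.Exact (LinearMap.ker δ).subtype δ.rangeRestrict := by
    intro x
    constructor
    · intro hx
      have hx' : δ x = 0 := congrArg Subtype.val hx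
      exact ⟨⟨x, hx'⟩, rfl⟩
    · rintro ⟨y, rfl⟩
      exact Subtype.ext y.2
  have hex1 : Function.Exact (LinearMap.rTensor N (LinearMap.ker δ).subtype)
      (LinearMap.rTensor N δ.rangeRestrict) :=
    rTensor_exact N hex0 δ.surjective_rangeRestrict
  have hcomp : δ = (LinearMap.range δ).subtype.comp δ.rangeRestrict := by
    ext x
    rfl
  intro z
  rw [← hex1 z]
  constructor
  · intro hz
    apply hinj2
    rw [map_zero, ← LinearMap.comp_apply, ← LinearMap.rTensor_comp, ← hcomp]
    exact hz
  · intro hz
    have : LinearMap.rTensor N δ z =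
        LinearMap.rTensor N (LinearMap.range δ).subtype (LinearMap.rTensor N δ.rangeRestrict z) := by
      rw [← LinearMap.comp_apply, ← LinearMap.rTensor_comp, ← hcomp]
    rw [this, hz, map_zero]

end Groth.Agent.Helper12.KerProj
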