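import Mathlib

set_option autoImplicit false

namespace Groth.Agent.Helper12.KerTensor

open TensorProduct Function

universe u v

section generic

variable {A : Type*} [CommRing A] {Ap : Type*} [CommRing Ap] [Algebra A Ap]
  {k : Type*} [AddCommGroup k] [Module A k] [Module Ap k] [IsScalarTower A Ap k]
  {X Y : Type*} [AddCommGroup X] [Module A X] [AddCommGroup Y] [Module A Y]

lemma sq (u : X →ₗ[A] Y) (z : k ⊗[Ap] (Ap ⊗[A] X)) :
    (AlgebraTensorModule.cancelBaseChange A Ap Ap k Y)
        (LinearMap.lTensor k (u.baseChange Ap) z) =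
      LinearMap.lTensor k u ((AlgebraTensorModule.cancelBaseChange A Ap Ap k X) z) := by
  induction z using TensorProduct.induction_on with
  | zero => simp
  | tmul c w =>
    induction w using TensorProduct.induction_on with
    | zero => simp
    | tmul a x =>
      rw [LinearMap.lTensor_tmul, LinearMap.baseChange_tmul,
        AlgebraTensorModule.cancelBaseChange_tmul, AlgebraTensorModule.cancelBaseChange_tmul,
        LinearMap.lTensor_tmul]
    | add w1 w2 h1 h2 => rw [tmul_add, map_add, map_add, map_add, map_add, h1, h2]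
  | add z1 z2 h1 h2 => rw [map_add, map_add, map_add, map_add, h1, h2]

lemma inj_iff (u : X →ₗ[A] Y) :
    Injective (LinearMap.lTensor k (u.baseChange Ap)) ↔ Injective (LinearMap.lTensor k u) := by
  have h : ⇑(AlgebraTensorModule.cancelBaseChange A Ap Ap k Y) ∘
      ⇑(LinearMap.lTensor k (u.baseChange Ap)) =
      ⇑(LinearMap.lTensor k u) ∘ ⇑(AlgebraTensorModule.cancelBaseChange A Ap Ap k X) :=
    funext (sq u)
  rw [← Function.Injective.of_comp_iff
    (AlgebraTensorModule.cancelBaseChange A Ap Ap k Y).injective, h,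
    Function.Injective.of_comp_iff' _
      (AlgebraTensorModule.cancelBaseChange A Ap Ap k X).bijective]

end generic

section

variable {R : Type*} [CommRing R] {X Y Z W : Type*} [AddCommGroup X] [Module R X]
  [AddCommGroup Y] [Module R Y] [AddCommGroup Z] [Module R Z] [AddCommGroup W] [Module R W]

lemma exact_comp_iff {f : X →ₗ[R] Y} {g1 : Y →ₗ[R] Z} (g2 : Z →ₗ[R] W)
    (h : Exact f g1) (hs : Surjective g1) : Exact f (g2 ∘ₗ g1) ↔ Injective g2 := by
  constructor
  · intro he
    rw [injective_iff_map_eq_zero]
    intro z hz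
    obtain ⟨y, rfl⟩ := hs z
    obtain ⟨x, rfl⟩ := (he y).mp hz
    exact h.apply_apply_eq_zero x
  · intro hi y
    constructor
    · intro hy
      have : g1 y = 0 := hi (by rw [map_zero]; exact hy)
      exact (h y).mp this
    · intro hy
      have : g1 y = 0 := (h y).mpr hy
      show g2 (g1 y) = 0
      rw [this, map_zero]

lemma inj_of_retr (f : X →ₗ[R] Y) (r : Y →ₗ[R] X) (h : r ∘ₗ f = LinearMap.id)
    (k : Type*) [AddCommGroup k] [Module R k] : Injective (LinearMap.lTensor k f) := by
  have : r.lTensor k ∘ₗ f.lTensor k = .id := by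
    rw [← LinearMap.lTensor_comp, h, LinearMap.lTensor_id]
  exact Function.HasLeftInverse.injective ⟨_, LinearMap.congr_fun this⟩

end

theorem core {A : Type u} [CommRing A] [IsNoetherianRing A] {Ap : Type u} [CommRing Ap]
    [Algebra A Ap] [IsLocalRing Ap] [Module.Flat A Ap]
    [Algebra A (IsLocalRing.ResidueField Ap)] [IsScalarTower A Ap (IsLocalRing.ResidueField Ap)]
    {M F : Type v} [AddCommGroup M] [Module A M] [Module.Finite A M]
    [AddCommGroup F] [Module A F] [Module.Finite A F] [Module.Free A F] (δ : M →ₗ[A] F) :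
    (Exact (LinearMap.lTensor (IsLocalRing.ResidueField Ap) (LinearMap.ker δ).subtype)
        (LinearMap.lTensor (IsLocalRing.ResidueField Ap) δ) ↔
      Module.Free Ap (Ap ⊗[A] (F ⧸ LinearMap.range δ))) ∧
    (Module.Free Ap (Ap ⊗[A] (F ⧸ LinearMap.range δ)) →
      Injective (LinearMap.lTensor (IsLocalRing.ResidueField Ap) (LinearMap.ker δ).subtype) ∧
      Module.Free Ap (Ap ⊗[A] (LinearMap.range δ))) := by
  have hδ : (LinearMap.range δ).subtype ∘ₗ δ.rangeRestrict = δ := by
    ext x; rfl
  have hexKM : Exact (LinearMap.ker δ).subtype δ.rangeRestrict := by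
    rw [LinearMap.exact_iff, LinearMap.ker_rangeRestrict, Submodule.range_subtype]
  have hsurjδ' : Surjective δ.rangeRestrict := LinearMap.surjective_rangeRestrict δ
  have step1 : Exact (LinearMap.lTensor (IsLocalRing.ResidueField Ap) (LinearMap.ker δ).subtype)
      (LinearMap.lTensor (IsLocalRing.ResidueField Ap) δ) ↔
      Injective (LinearMap.lTensor (IsLocalRing.ResidueField Ap) (LinearMap.range δ).subtype) := by
    conv_lhs => rw [← hδ, LinearMap.lTensor_comp]
    exact exact_comp_iff _ (lTensor_exact _ hexKM hsurjδ') (LinearMap.lTensor_surjective _ hsurjδ')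
  have step2 := (inj_iff (A := A) (Ap := Ap) (k := IsLocalRing.ResidueField Ap)
    (LinearMap.range δ).subtype)
  have hexBF : Exact ((LinearMap.range δ).subtype.baseChange Ap)
      ((LinearMap.range δ).mkQ.baseChange Ap) :=
    Module.Flat.lTensor_exact Ap (LinearMap.exact_subtype_mkQ (LinearMap.range δ))
  have hinjj : Injective ((LinearMap.range δ).subtype.baseChange Ap) :=
    Module.Flat.lTensor_preserves_injective_linearMap _ (LinearMap.range δ).injective_subtype
  have hsurjπ : Surjective ((LinearMap.range δ).mkQ.baseChange Ap) :=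
    LinearMap.lTensor_surjective Ap (Submodule.mkQ_surjective (LinearMap.range δ))
  have step3 : Injective (LinearMap.lTensor (IsLocalRing.ResidueField Ap)
      ((LinearMap.range δ).subtype.baseChange Ap)) →
      Module.Free Ap (Ap ⊗[A] (F ⧸ LinearMap.range δ)) := fun h =>
    Module.free_of_lTensor_residueField_injective ((LinearMap.range δ).subtype.baseChange Ap)
      ((LinearMap.range δ).mkQ.baseChange Ap) hsurjπ hexBF h
  have step4 : Module.Free Ap (Ap ⊗[A] (F ⧸ LinearMap.range δ)) →
      ∃ r, r ∘ₗ ((LinearMap.range δ).subtype.baseChange Ap) = LinearMap.id := fun hfree => by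
    haveI := hfree
    have := (Exact.split_tfae hexBF hinjj hsurjπ).out 0 1
    exact this.mp (Module.projective_lifting_property _ _ hsurjπ)
  refine ⟨⟨fun h => step3 (step2.mpr (step1.mp h)), fun hfree => ?_⟩, fun hfree => ?_⟩
  · obtain ⟨r, hr⟩ := step4 hfree
    exact step1.mpr (step2.mp (inj_of_retr _ r hr _))
  · obtain ⟨r, hr⟩ := step4 hfree
    haveI hproj : Module.Projective Ap (Ap ⊗[A] (LinearMap.range δ)) :=
      Module.Projective.of_split _ _ hr
    have hexKM' : Exact ((LinearMap.ker δ).subtype.baseChange Ap)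
        (δ.rangeRestrict.baseChange Ap) :=
      Module.Flat.lTensor_exact Ap hexKM
    have hinjK : Injective ((LinearMap.ker δ).subtype.baseChange Ap) :=
      Module.Flat.lTensor_preserves_injective_linearMap _ (LinearMap.ker δ).injective_subtype
    have hsurjδ'' : Surjective (δ.rangeRestrict.baseChange Ap) :=
      LinearMap.lTensor_surjective Ap hsurjδ'
    obtain ⟨r', hr'⟩ := ((Exact.split_tfae hexKM' hinjK hsurjδ'').out 0 1).mp
      (Module.projective_lifting_property _ _ hsurjδ'')
    refine ⟨(inj_iff (A := A) (Ap := Ap) (k := IsLocalRing.ResidueField Ap)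
      (LinearMap.ker δ).subtype).mp (inj_of_retr _ r' hr' _), ?_⟩
    exact Module.free_of_flat_of_isLocalRing

theorem main (A : Type u) [CommRing A] [IsNoetherianRing A]
    (M : Type v) (F : Type v) [AddCommGroup M] [Module A M] [Module.Finite A M]
    [AddCommGroup F] [Module A F] [Module.Finite A F] [Module.Free A F]
    (δ : M →ₗ[A] F) (p : Ideal A) [p.IsPrime] :
    [ Function.Exact (LinearMap.lTensor p.ResidueField (LinearMap.ker δ).subtype)
        (LinearMap.lTensor p.ResidueField δ),
      Function.Exact (LinearMap.lTensor p.ResidueField (LinearMap.ker δ).subtype)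
        (LinearMap.lTensor p.ResidueField δ) ∧
        Function.Injective (LinearMap.lTensor p.ResidueField (LinearMap.ker δ).subtype),
      Module.Free (Localization.AtPrime p)
        (LocalizedModule p.primeCompl (F ⧸ LinearMap.range δ)) ].TFAE ∧
    (Function.Exact (LinearMap.lTensor p.ResidueField (LinearMap.ker δ).subtype)
        (LinearMap.lTensor p.ResidueField δ) →
      Module.Free (Localization.AtPrime p)
        (LocalizedModule p.primeCompl (LinearMap.range δ))) := by
  obtain ⟨h13, h3⟩ := core (Ap := Localization.AtPrime p) δ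
  have e1 : (Localization.AtPrime p) ⊗[A] (F ⧸ LinearMap.range δ) ≃ₗ[Localization.AtPrime p]
      LocalizedModule p.primeCompl (F ⧸ LinearMap.range δ) :=
    (IsLocalizedModule.isBaseChange p.primeCompl (Localization.AtPrime p)
      (LocalizedModule.mkLinearMap p.primeCompl (F ⧸ LinearMap.range δ))).equiv
  have e2 : (Localization.AtPrime p) ⊗[A] (LinearMap.range δ) ≃ₗ[Localization.AtPrime p]
      LocalizedModule p.primeCompl (LinearMap.range δ) :=
    (IsLocalizedModule.isBaseChange p.primeCompl (Localization.AtPrime p)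
      (LocalizedModule.mkLinearMap p.primeCompl (LinearMap.range δ))).equiv
  have h13' : Function.Exact (LinearMap.lTensor p.ResidueField (LinearMap.ker δ).subtype)
        (LinearMap.lTensor p.ResidueField δ) ↔ Module.Free (Localization.AtPrime p)
        (LocalizedModule p.primeCompl (F ⧸ LinearMap.range δ)) :=
    h13.trans ⟨fun h => by haveI := h; exact Module.Free.of_equiv e1,
      fun h => by haveI := h; exact Module.Free.of_equiv e1.symm⟩
  refine ⟨?_, fun h1 => ?_⟩
  · tfae_have 1 → 2 := fun h => ⟨h, (h3 (h13.mp h)).1⟩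
    tfae_have 2 → 1 := fun h => h.1
    tfae_have 1 ↔ 3 := h13'
    tfae_finish
  · haveI := (h3 (h13.mp h1)).2
    exact Module.Free.of_equiv e2

end Groth.Agent.Helper12.KerTensor
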