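import Mathlib
import Groth.Prelude.Def_Found

/-!
# N-1 descends from the Laurent polynomial ring `R[X, 1/X]` to `R`
-/

namespace Groth.Agent.Helper12.LaurentN1

open Polynomial

universe u

theorem aux (R : Type u) [CommRing R] [IsDomain R] [IsNoetherianRing R]
    (S : Type u) [CommRing S] [IsDomain S] [Algebra (Polynomial R) S]
    [IsLocalization.Away (Polynomial.X : Polynomial R) S]
    (K : Type u) [Field K] [Algebra R K] [IsFractionRing R K]
    (L : Type u) [Field L] [Algebra S L] [IsFractionRing S L]
    (h : Module.Finite S (integralClosure S L)) : Module.Finite R (integralClosure R K) := by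
  classical
  -- ι : R → S
  let ι : R →+* S := (algebraMap R[X] S).comp Polynomial.C
  -- ε : S → R, evaluation at X = 1
  have hunit : IsUnit ((Polynomial.evalRingHom (1:R)) (Polynomial.X : R[X])) := by
    simp
  let ε : S →+* R := IsLocalization.Away.lift (Polynomial.X : R[X]) hunit
  have hε : ∀ r : R, ε (ι r) = r := by
    intro r
    show IsLocalization.Away.lift (Polynomial.X : R[X]) hunit (algebraMap R[X] S (Polynomial.C r)) = r
    rw [IsLocalization.Away.lift_eq]
    simp
  have hSL : Function.Injective (algebraMap S L) := IsFractionRing.injective S L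
  have hXinj : Function.Injective (algebraMap R[X] S) := by
    apply IsLocalization.injective S (M := Submonoid.powers (X : R[X]))
    exact powers_le_nonZeroDivisors_of_noZeroDivisors X_ne_zero
  have hι : Function.Injective ι := hXinj.comp Polynomial.C_injective
  have hinj : Function.Injective ((algebraMap S L).comp ι) := hSL.comp hι
  let φ : K →+* L := IsFractionRing.lift hinj
  have hφ : ∀ r : R, φ (algebraMap R K r) = algebraMap S L (ι r) :=
    fun r => IsFractionRing.lift_algebraMap hinj r
  have hint : ∀ x : K, IsIntegral R x → IsIntegral S (φ x) := by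
    rintro x ⟨p, hp, hpx⟩
    refine ⟨p.map ι, hp.map ι, ?_⟩
    rw [Polynomial.eval₂_map]
    have hcomp : (algebraMap S L).comp ι = φ.comp (algebraMap R K) := by
      ext r
      simp [hφ]
    rw [hcomp, ← Polynomial.hom_eval₂, hpx, map_zero]
  -- Noetherianity
  haveI : IsNoetherianRing S :=
    IsLocalization.isNoetherianRing (Submonoid.powers (X : R[X])) S inferInstance
  haveI : IsNoetherian S (integralClosure S L) := isNoetherian_of_isNoetherianRing_of_finite S _
  haveI hN' : IsNoetherian S (Subalgebra.toSubmodule (integralClosure S L)) :=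
    isNoetherian_of_linearEquiv (Subalgebra.toSubmoduleEquiv (integralClosure S L)).symm
  -- the span
  have hNle : Submodule.span S (φ '' (integralClosure R K : Set K)) ≤
      Subalgebra.toSubmodule (integralClosure S L) := by
    rw [Submodule.span_le]
    rintro _ ⟨x, hx, rfl⟩
    exact hint x hx
  have hfg : (Submodule.span S (φ '' (integralClosure R K : Set K))).FG :=
    (isNoetherian_submodule.mp hN') _ hNle
  obtain ⟨s', hs', hspan⟩ := (Submodule.fg_span_iff_fg_span_finset_subset _).mp hfg
  have hpre : ∀ y ∈ s', ∃ x : K, x ∈ integralClosure R K ∧ φ x = y := by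
    intro y hy
    obtain ⟨x, hx, hxy⟩ := hs' hy
    exact ⟨x, hx, hxy⟩
  choose! g hg using hpre
  -- the finite generation
  have hFG : (Subalgebra.toSubmodule (integralClosure R K)).FG := by
    refine ⟨s'.image g, le_antisymm ?_ ?_⟩
    · rw [Submodule.span_le]
      intro z hz
      rw [Finset.coe_image] at hz
      obtain ⟨y, hy, rfl⟩ := hz
      exact (hg y hy).1
    · intro x hx
      have hx' : x ∈ integralClosure R K := hx
      have hmem : φ x ∈ Submodule.span S (s' : Set L) := by
        rw [← hspan]
        exact Submodule.subset_span ⟨x, hx', rfl⟩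
      obtain ⟨f, -, hf⟩ := Submodule.mem_span_finset.mp hmem
      obtain ⟨d, hd⟩ := IsLocalization.exist_integer_multiples_of_finset (nonZeroDivisors R)
        (insert x (s'.image g))
      obtain ⟨a, ha⟩ := hd x (Finset.mem_insert_self _ _)
      have hb' : ∀ y ∈ s', ∃ b : R, algebraMap R K b = (d : R) • g y := by
        intro y hy
        exact hd (g y) (Finset.mem_insert_of_mem (Finset.mem_image_of_mem g hy))
      choose! b hb using hb'
      have hd0 : algebraMap R K (d : R) ≠ 0 :=
        (map_ne_zero_iff _ (IsFractionRing.injective R K)).mpr (nonZeroDivisors.ne_zero d.2)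
      -- the key identity in S
      have key : ι a = ∑ y ∈ s', f y * ι (b y) := by
        apply hSL
        rw [← hφ, ha, Algebra.smul_def, map_mul, hφ, ← hf, Finset.mul_sum, map_sum]
        refine Finset.sum_congr rfl (fun y hy => ?_)
        rw [map_mul, ← hφ (b y), hb y hy, Algebra.smul_def (d : R) (g y), map_mul, hφ,
          (hg y hy).2, Algebra.smul_def]
        ring
      have key2 : a = ∑ y ∈ s', ε (f y) * b y := by
        have := congrArg ε key
        rw [hε, map_sum] at this
        rw [this]
        refine Finset.sum_congr rfl (fun y _ => ?_)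
        rw [map_mul, hε]
      have key3 : x = ∑ y ∈ s', ε (f y) • g y := by
        apply mul_left_cancel₀ hd0
        rw [← Algebra.smul_def, ← ha, key2, map_sum, Finset.mul_sum]
        refine Finset.sum_congr rfl (fun y hy => ?_)
        rw [map_mul, hb y hy, Algebra.smul_def, Algebra.smul_def]
        ring
      rw [key3]
      refine Submodule.sum_mem _ (fun y hy => Submodule.smul_mem _ _ (Submodule.subset_span ?_))
      exact Finset.mem_coe.mpr (Finset.mem_image_of_mem g hy)
  haveI : Module.Finite R (Subalgebra.toSubmodule (integralClosure R K)) :=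
    Module.Finite.iff_fg.mpr hFG
  exact Module.Finite.equiv (Subalgebra.toSubmoduleEquiv (integralClosure R K))

theorem main (R : Type u) [CommRing R] [IsDomain R] [IsNoetherianRing R]
    (S : Type u) [CommRing S] [IsDomain S] [Algebra (Polynomial R) S]
    [IsLocalization.Away (Polynomial.X : Polynomial R) S] (h : CAlg.IsN1 S) : CAlg.IsN1 R :=
  aux R S (FractionRing R) (FractionRing S) h

end Groth.Agent.Helper12.LaurentN1
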