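import Mathlib
import Groth.Prelude.Def_EtMil
import Groth.Agent.S2019
import Groth.Agent.S14952
import Groth.Agent.S14953
import Groth.Agent.S14954
import Groth.Agent.S6916

set_option autoImplicit false
universe u
open TensorProduct

namespace Groth.Agent.Helper12.Milnor12

section

variable (B' B A' A : Type u) [CommRing B'] [CommRing B] [CommRing A'] [CommRing A]
    [Algebra B' B] [Algebra B' A'] [Algebra B A] [Algebra A' A] [Algebra B' A]
    [IsScalarTower B' B A] [IsScalarTower B' A' A]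

section glue

variable {N M' : Type u} [AddCommGroup N] [Module B N] [Module B' N] [IsScalarTower B' B N]
    [AddCommGroup M'] [Module A' M'] [Module B' M'] [IsScalarTower B' A' M']

/-- `B ⊗ (N ×_φ M') ≃ N` (from S2019). -/
noncomputable def e1 (hsq : EtMil.IsFibreSquare B' B A' A) (φ : A ⊗[B] N ≃ₗ[A] A ⊗[A'] M') :
    B ⊗[B'] ↥(EtMil.glue B' φ) ≃ₗ[B] N :=
  LinearEquiv.ofBijective _ (Groth.Agent.S2019.result B' B A' A hsq N M' φ).1

/-- `A' ⊗ (N ×_φ M') ≃ M'` (from S2019). -/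
noncomputable def e2 (hsq : EtMil.IsFibreSquare B' B A' A) (φ : A ⊗[B] N ≃ₗ[A] A ⊗[A'] M') :
    A' ⊗[B'] ↥(EtMil.glue B' φ) ≃ₗ[A'] M' :=
  LinearEquiv.ofBijective _ (Groth.Agent.S2019.result B' B A' A hsq N M' φ).2

theorem flat_glue (hsq : EtMil.IsFibreSquare B' B A' A) (φ : A ⊗[B] N ≃ₗ[A] A ⊗[A'] M')
    (h1 : Module.Flat B N) (h2 : Module.Flat A' M') : Module.Flat B' ↥(EtMil.glue B' φ) := by
  haveI : Module.Flat B (B ⊗[B'] ↥(EtMil.glue B' φ)) :=
    Module.Flat.of_linearEquiv (e1 B' B A' A hsq φ)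
  haveI : Module.Flat A' (A' ⊗[B'] ↥(EtMil.glue B' φ)) :=
    Module.Flat.of_linearEquiv (e2 B' B A' A hsq φ)
  exact Groth.Agent.S14952.result B' B A' A hsq _

theorem finite_glue (hsq : EtMil.IsFibreSquare B' B A' A) (φ : A ⊗[B] N ≃ₗ[A] A ⊗[A'] M')
    (h1 : Module.Finite B N) (h2 : Module.Finite A' M') :
    Module.Finite B' ↥(EtMil.glue B' φ) := by
  haveI : Module.Finite B (B ⊗[B'] ↥(EtMil.glue B' φ)) :=
    Module.Finite.equiv (e1 B' B A' A hsq φ).symm
  haveI : Module.Finite A' (A' ⊗[B'] ↥(EtMil.glue B' φ)) :=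
    Module.Finite.equiv (e2 B' B A' A hsq φ).symm
  exact Groth.Agent.S14953.result B' B A' A hsq _

theorem projective_glue (hsq : EtMil.IsFibreSquare B' B A' A)
    (φ : A ⊗[B] N ≃ₗ[A] A ⊗[A'] M')
    (h1 : Module.Finite B N) (h2 : Module.Projective B N) (h3 : Module.Finite A' M')
    (h4 : Module.Projective A' M') : Module.Projective B' ↥(EtMil.glue B' φ) := by
  haveI : Module.Flat B (B ⊗[B'] ↥(EtMil.glue B' φ)) :=
    Module.Flat.of_linearEquiv (e1 B' B A' A hsq φ)
  haveI : Module.Flat A' (A' ⊗[B'] ↥(EtMil.glue B' φ)) :=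
    Module.Flat.of_linearEquiv (e2 B' B A' A hsq φ)
  haveI : Module.FinitePresentation B N := Module.finitePresentation_of_projective B N
  haveI : Module.FinitePresentation A' M' := Module.finitePresentation_of_projective A' M'
  haveI : Module.FinitePresentation B (B ⊗[B'] ↥(EtMil.glue B' φ)) :=
    Module.FinitePresentation.of_equiv (e1 B' B A' A hsq φ).symm
  haveI : Module.FinitePresentation A' (A' ⊗[B'] ↥(EtMil.glue B' φ)) :=
    Module.FinitePresentation.of_equiv (e2 B' B A' A hsq φ).symm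
  haveI : Module.Flat B' ↥(EtMil.glue B' φ) := Groth.Agent.S14952.result B' B A' A hsq _
  haveI : Module.FinitePresentation B' ↥(EtMil.glue B' φ) :=
    Groth.Agent.S14954.result B' B A' A hsq _
  exact Module.Flat.projective_of_finitePresentation

end glue

theorem inj_of_flat (hsq : EtMil.IsFibreSquare B' B A' A) (L' : Type u) [AddCommGroup L']
    [Module B' L'] [Module.Flat B' L'] (l : L')
    (h1 : ((1 : B) ⊗ₜ[B'] l : B ⊗[B'] L') = 0) (h2 : ((1 : A') ⊗ₜ[B'] l : A' ⊗[B'] L') = 0) :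
    l = 0 := by
  have hBsurj : Function.Surjective (Algebra.linearMap B' B) := by
    intro b
    obtain ⟨a', ha'⟩ := hsq.1 (algebraMap B A b)
    obtain ⟨b', ⟨hb1, -⟩, -⟩ := hsq.2 b a' ha'.symm
    exact ⟨b', hb1⟩
  have hex : Function.Exact ((RingHom.ker (algebraMap B' B)).subtype :
      ↥(RingHom.ker (algebraMap B' B)) →ₗ[B'] B') (Algebra.linearMap B' B) := by
    intro y
    constructor
    · intro h
      exact ⟨⟨y, RingHom.mem_ker.mpr h⟩, rfl⟩
    · rintro ⟨x, rfl⟩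
      have hx2 : (x : B') ∈ RingHom.ker (algebraMap B' B) := x.2
      have hx3 : algebraMap B' B (x : B') = 0 := (RingHom.mem_ker (f := algebraMap B' B)).mp hx2
      exact hx3
  have hex2 := rTensor_exact L' hex hBsurj
  have h3 : (Algebra.linearMap B' B).rTensor L' ((1 : B') ⊗ₜ[B'] l) = 0 := by
    rw [LinearMap.rTensor_tmul, Algebra.linearMap_apply, map_one]; exact h1
  obtain ⟨ξ, hξ⟩ := (hex2 _).mp h3
  have hκ : Function.Injective ((Algebra.linearMap B' A').comp
      ((RingHom.ker (algebraMap B' B)).subtype :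
        ↥(RingHom.ker (algebraMap B' B)) →ₗ[B'] B')) := by
    intro j₁ j₂ hj
    have hj1 : algebraMap B' B (j₁ : B') = algebraMap B' B (j₂ : B') := by
      rw [RingHom.mem_ker.mp j₁.2, RingHom.mem_ker.mp j₂.2]
    have hj2 : algebraMap B' A' (j₁ : B') = algebraMap B' A' (j₂ : B') := hj
    obtain ⟨b', -, huniq⟩ := hsq.2 (algebraMap B' B (j₂ : B')) (algebraMap B' A' (j₂ : B'))
      (by rw [← IsScalarTower.algebraMap_apply, ← IsScalarTower.algebraMap_apply])
    have e1 := huniq (j₁ : B') ⟨hj1, hj2⟩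
    have e2 := huniq (j₂ : B') ⟨rfl, rfl⟩
    exact Subtype.ext (e1.trans e2.symm)
  have hκL := Module.Flat.rTensor_preserves_injective_linearMap (M := L') _ hκ
  have h4 : ((Algebra.linearMap B' A').comp
      ((RingHom.ker (algebraMap B' B)).subtype :
        ↥(RingHom.ker (algebraMap B' B)) →ₗ[B'] B')).rTensor L' ξ = 0 := by
    rw [LinearMap.rTensor_comp, LinearMap.comp_apply, hξ, LinearMap.rTensor_tmul,
      Algebra.linearMap_apply, map_one]
    exact h2
  have h5 : ξ = 0 := hκL (h4.trans (map_zero _).symm)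
  rw [h5, map_zero] at hξ
  have h6 := congrArg (TensorProduct.lid B' L') hξ
  rw [map_zero, TensorProduct.lid_tmul, one_smul] at h6
  exact h6.symm

theorem main20 (hsq : EtMil.IsFibreSquare B' B A' A) :
    (∀ (N M' : Type u) [AddCommGroup N] [Module B N] [Module B' N] [IsScalarTower B' B N]
    [AddCommGroup M'] [Module A' M'] [Module B' M'] [IsScalarTower B' A' M']
    (φ : A ⊗[B] N ≃ₗ[A] A ⊗[A'] M'), Module.Flat B N → Module.Flat A' M' →
      Module.Flat B' ↥(EtMil.glue B' φ)) ∧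
    (∀ (L' : Type u) [AddCommGroup L'] [Module B' L'], Module.Flat B' L' →
      Function.Injective (fun l : L' => (((1 : B) ⊗ₜ[B'] l : B ⊗[B'] L'),
        ((1 : A') ⊗ₜ[B'] l : A' ⊗[B'] L'))) ∧
      ∀ (x : B ⊗[B'] L') (y : A' ⊗[B'] L'),
        (IsScalarTower.toAlgHom B' B A).toLinearMap.rTensor L' x =
          (IsScalarTower.toAlgHom B' A' A).toLinearMap.rTensor L' y →
          ∃ l : L', (1 : B) ⊗ₜ[B'] l = x ∧ (1 : A') ⊗ₜ[B'] l = y) := by
  refine ⟨?_, ?_⟩
  · intro N M' _ _ _ _ _ _ _ _ φ h1 h2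
    exact flat_glue B' B A' A hsq φ h1 h2
  · intro L' _ _ hL
    haveI := hL
    refine ⟨?_, fun x y hxy => Groth.Agent.S6916.result B' B A' A hsq L' x y hxy⟩
    intro l₁ l₂ h
    have h' : (((1 : B) ⊗ₜ[B'] l₁ : B ⊗[B'] L'), ((1 : A') ⊗ₜ[B'] l₁ : A' ⊗[B'] L')) =
        (((1 : B) ⊗ₜ[B'] l₂ : B ⊗[B'] L'), ((1 : A') ⊗ₜ[B'] l₂ : A' ⊗[B'] L')) := h
    obtain ⟨e1, e2⟩ := Prod.mk.inj h'
    have := inj_of_flat B' B A' A hsq L' (l₁ - l₂)
      (by rw [TensorProduct.tmul_sub, e1, sub_self])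
      (by rw [TensorProduct.tmul_sub, e2, sub_self])
    exact sub_eq_zero.mp this

theorem main21 (hsq : EtMil.IsFibreSquare B' B A' A)
    (N M' : Type u) [AddCommGroup N] [Module B N] [Module B' N] [IsScalarTower B' B N]
    [AddCommGroup M'] [Module A' M'] [Module B' M'] [IsScalarTower B' A' M']
    (φ : A ⊗[B] N ≃ₗ[A] A ⊗[A'] M') :
    (Module.Finite B N → Module.Finite A' M' → Module.Finite B' ↥(EtMil.glue B' φ)) ∧
    (Module.Finite B N → Module.Projective B N → Module.Finite A' M' → Module.Projective A' M' →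
      Module.Finite B' ↥(EtMil.glue B' φ) ∧ Module.Projective B' ↥(EtMil.glue B' φ)) :=
  ⟨fun h1 h2 => finite_glue B' B A' A hsq φ h1 h2,
    fun h1 h2 h3 h4 => ⟨finite_glue B' B A' A hsq φ h1 h3,
      projective_glue B' B A' A hsq φ h1 h2 h3 h4⟩⟩

end

end Groth.Agent.Helper12.Milnor12
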