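import Mathlib
import Groth.Prelude.Def_EtMil
import Groth.Agent.S12081

set_option autoImplicit false
universe u
open TensorProduct

namespace Groth.Agent.Helper12.MilnorRel

/-- For a surjective `R → S`, the kernel of `M → S ⊗ M` is `(ker) • M`. -/
theorem mem_smul_top_of_tmul_eq_zero {R S : Type u} [CommRing R] [CommRing S] [Algebra R S]
    (hs : Function.Surjective (algebraMap R S)) {M : Type u} [AddCommGroup M] [Module R M] (m : M)
    (h : ((1 : S) ⊗ₜ[R] m : S ⊗[R] M) = 0) :
    m ∈ (RingHom.ker (algebraMap R S)) • (⊤ : Submodule R M) := by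
  have hs' : Function.Surjective (Algebra.linearMap R S) := hs
  have hex : Function.Exact ((RingHom.ker (algebraMap R S)).subtype :
      ↥(RingHom.ker (algebraMap R S)) →ₗ[R] R) (Algebra.linearMap R S) := by
    intro y
    constructor
    · intro h
      exact ⟨⟨y, RingHom.mem_ker.mpr h⟩, rfl⟩
    · rintro ⟨x, rfl⟩
      have hx2 : (x : R) ∈ RingHom.ker (algebraMap R S) := x.2
      have hx3 : algebraMap R S (x : R) = 0 := (RingHom.mem_ker (f := algebraMap R S)).mp hx2
      exact hx3
  have hex2 := rTensor_exact M hex hs'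
  have h3 : (Algebra.linearMap R S).rTensor M ((1 : R) ⊗ₜ[R] m) = 0 := by
    rw [LinearMap.rTensor_tmul, Algebra.linearMap_apply, map_one]; exact h
  obtain ⟨ξ, hξ⟩ := (hex2 _).mp h3
  have key : ∀ ξ : ↥(RingHom.ker (algebraMap R S)) ⊗[R] M,
      TensorProduct.lid R M ((RingHom.ker (algebraMap R S)).subtype.rTensor M ξ) ∈
        (RingHom.ker (algebraMap R S)) • (⊤ : Submodule R M) := by
    intro ξ
    induction ξ using TensorProduct.induction_on with
    | zero => simp
    | tmul e μ =>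
      rw [LinearMap.rTensor_tmul, TensorProduct.lid_tmul]
      exact Submodule.smul_mem_smul e.2 trivial
    | add a b ha hb => rw [map_add, map_add]; exact Submodule.add_mem _ ha hb
  have h4 := key ξ
  rw [hξ, TensorProduct.lid_tmul, one_smul] at h4
  exact h4

section core

variable {D' D C' C : Type u} [CommRing D'] [CommRing D] [CommRing C'] [CommRing C]
  [Algebra D' D] [Algebra D' C'] [Algebra D C] [Algebra C' C] [Algebra D' C]
  [IsScalarTower D' D C] [IsScalarTower D' C' C]

theorem finite_glue_core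
    (h1 : Function.Surjective (algebraMap D' D)) (h2 : Function.Surjective (algebraMap C' C))
    (h3 : ∀ e ∈ RingHom.ker (algebraMap C' C),
      ∃ d' ∈ RingHom.ker (algebraMap D' D), algebraMap D' C' d' = e)
    {N M' : Type u} [AddCommGroup N] [Module D N] [Module D' N] [IsScalarTower D' D N]
    [AddCommGroup M'] [Module C' M'] [Module D' M'] [IsScalarTower D' C' M']
    (φ : C ⊗[D] N ≃ₗ[C] C ⊗[C'] M') [Module.Finite D N] [Module.Finite C' M'] :
    Module.Finite D' ↥(EtMil.glue D' φ) := by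
  classical
  obtain ⟨r, y, hy⟩ := Module.Finite.exists_fin (R := D) (M := N)
  obtain ⟨s, x, hx⟩ := Module.Finite.exists_fin (R := C') (M := M')
  have hmem : ∀ p : N × M', p ∈ EtMil.glue D' φ ↔
      φ ((1 : C) ⊗ₜ[D] p.1) = (1 : C) ⊗ₜ[C'] p.2 := fun p => Iff.rfl
  -- `1 ⊗ (c' • m) = algebraMap c' • (1 ⊗ m)`
  have hsm : ∀ (c' : C') (m : M'), ((1 : C) ⊗ₜ[C'] (c' • m) : C ⊗[C'] M') =
      algebraMap C' C c' • ((1 : C) ⊗ₜ[C'] m) := by
    intro c' m
    rw [← TensorProduct.smul_tmul, Algebra.smul_def, mul_one, TensorProduct.smul_tmul',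
      smul_eq_mul, mul_one]
  have hone : ∀ z : C ⊗[C'] M', ∃ m' : M', (1 : C) ⊗ₜ[C'] m' = z := by
    intro z
    induction z using TensorProduct.induction_on with
    | zero => exact ⟨0, TensorProduct.tmul_zero _ _⟩
    | tmul c m =>
      obtain ⟨c', rfl⟩ := h2 c
      refine ⟨c' • m, ?_⟩
      rw [hsm, TensorProduct.smul_tmul', smul_eq_mul, mul_one]
    | add a b ha hb =>
      obtain ⟨m1, rfl⟩ := ha
      obtain ⟨m2, rfl⟩ := hb
      exact ⟨m1 + m2, TensorProduct.tmul_add _ _ _⟩
  choose mk hmk using fun k => hone (φ ((1 : C) ⊗ₜ[D] y k))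
  have hrep : ∀ z : C ⊗[D] N, ∃ c : Fin r → C, z = ∑ k, c k ⊗ₜ[D] y k := by
    intro z
    induction z using TensorProduct.induction_on with
    | zero => exact ⟨0, by simp⟩
    | tmul c n =>
      have hn : n ∈ Submodule.span D (Set.range y) := by rw [hy]; trivial
      obtain ⟨d, rfl⟩ := (Submodule.mem_span_range_iff_exists_fun D).mp hn
      refine ⟨fun k => c * algebraMap D C (d k), ?_⟩
      rw [TensorProduct.tmul_sum]
      refine Finset.sum_congr rfl fun k _ => ?_
      rw [← TensorProduct.smul_tmul, Algebra.smul_def, mul_comm]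
    | add a b ha hb =>
      obtain ⟨c1, rfl⟩ := ha
      obtain ⟨c2, rfl⟩ := hb
      exact ⟨c1 + c2, by simp [TensorProduct.add_tmul, Finset.sum_add_distrib]⟩
  choose cc hcc using fun j => hrep (φ.symm ((1 : C) ⊗ₜ[C'] x j))
  choose cc' hcc' using fun j k => h2 (cc j k)
  -- the elements z_j
  have hz : ∀ j, ((1 : C) ⊗ₜ[C'] (x j - ∑ k, cc' j k • mk k) : C ⊗[C'] M') = 0 := by
    intro j
    have e1 : ((1 : C) ⊗ₜ[C'] x j : C ⊗[C'] M') = ∑ k, cc j k • ((1 : C) ⊗ₜ[C'] mk k) := by
      have h5 := congrArg φ (hcc j)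
      rw [LinearEquiv.apply_symm_apply, map_sum] at h5
      rw [h5]
      refine Finset.sum_congr rfl fun k _ => ?_
      have e2 : (cc j k ⊗ₜ[D] y k : C ⊗[D] N) = cc j k • ((1 : C) ⊗ₜ[D] y k) := by
        rw [TensorProduct.smul_tmul', smul_eq_mul, mul_one]
      rw [e2, map_smul, hmk]
    rw [TensorProduct.tmul_sub, TensorProduct.tmul_sum, e1, sub_eq_zero]
    refine Finset.sum_congr rfl fun k _ => ?_
    rw [hsm, hcc']
  -- generators
  let G : Set (N × M') := Set.range (fun k => (y k, mk k)) ∪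
    Set.range (fun j => ((0 : N), x j - ∑ k, cc' j k • mk k))
  have hGfin : G.Finite := (Set.finite_range _).union (Set.finite_range _)
  have hGle : Submodule.span D' G ≤ EtMil.glue D' φ := by
    rw [Submodule.span_le]
    rintro p (⟨k, rfl⟩ | ⟨j, rfl⟩)
    · exact (hmem _).mpr (hmk k).symm
    · refine (hmem _).mpr ?_
      show φ ((1 : C) ⊗ₜ[D] (0 : N)) = _
      rw [TensorProduct.tmul_zero, map_zero]
      exact (hz j).symm
  -- Step A
  have hA1 : ∀ e ∈ RingHom.ker (algebraMap C' C), ∀ k,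
      ((0 : N), e • mk k) ∈ Submodule.span D' G := by
    intro e he k
    obtain ⟨δ, hδ, rfl⟩ := h3 e he
    have e1 : δ • ((y k, mk k) : N × M') = ((0 : N), algebraMap D' C' δ • mk k) := by
      rw [Prod.smul_mk, ← algebraMap_smul D δ (y k), RingHom.mem_ker.mp hδ, zero_smul,
        ← algebraMap_smul C' δ (mk k)]
    rw [← e1]
    exact Submodule.smul_mem _ δ (Submodule.subset_span (Or.inl ⟨k, rfl⟩))
  have hA2 : ∀ e ∈ RingHom.ker (algebraMap C' C), ∀ j,
      ((0 : N), e • (x j - ∑ k, cc' j k • mk k)) ∈ Submodule.span D' G := by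
    intro e he j
    obtain ⟨δ, hδ, rfl⟩ := h3 e he
    have e1 : δ • (((0 : N), x j - ∑ k, cc' j k • mk k) : N × M') =
        ((0 : N), algebraMap D' C' δ • (x j - ∑ k, cc' j k • mk k)) := by
      rw [Prod.smul_mk, smul_zero, ← algebraMap_smul C' δ (x j - ∑ k, cc' j k • mk k)]
    rw [← e1]
    exact Submodule.smul_mem _ δ (Submodule.subset_span (Or.inr ⟨j, rfl⟩))
  -- the `D'`-submodule `Q = {m | (0, m) ∈ L₀}`
  have hinr : ∀ m : M', ((0 : N), m) = LinearMap.inr D' N M' m := fun m => rfl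
  -- Step B
  have hB : ∀ e ∈ RingHom.ker (algebraMap C' C), ∀ μ : M',
      e • μ ∈ (Submodule.span D' G).comap (LinearMap.inr D' N M') := by
    intro e he μ
    have hμ : μ ∈ Submodule.span C' (Set.range x) := by rw [hx]; trivial
    obtain ⟨γ, rfl⟩ := (Submodule.mem_span_range_iff_exists_fun C').mp hμ
    have hxz : ∀ j, x j = (x j - ∑ k, cc' j k • mk k) + ∑ k, cc' j k • mk k :=
      fun j => (sub_add_cancel _ _).symm
    have e1 : e • ∑ j, γ j • x j = ∑ j, ((e * γ j) • (x j - ∑ k, cc' j k • mk k) +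
        ∑ k, (e * γ j * cc' j k) • mk k) := by
      rw [Finset.smul_sum]
      refine Finset.sum_congr rfl fun j _ => ?_
      rw [smul_smul]
      conv_lhs => rw [hxz j]
      rw [smul_add, Finset.smul_sum]
      congr 1
      refine Finset.sum_congr rfl fun k _ => ?_
      rw [smul_smul]
    rw [e1]
    refine Submodule.sum_mem _ fun j _ => Submodule.add_mem _ ?_ (Submodule.sum_mem _ fun k _ => ?_)
    · rw [Submodule.mem_comap, ← hinr]
      exact hA2 _ (Ideal.mul_mem_right _ _ he) j
    · rw [Submodule.mem_comap, ← hinr]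
      exact hA1 _ (Ideal.mul_mem_right _ _ (Ideal.mul_mem_right _ _ he)) k
  -- Step C
  have hC : ∀ m'' ∈ (RingHom.ker (algebraMap C' C)) • (⊤ : Submodule C' M'),
      ((0 : N), m'') ∈ Submodule.span D' G := by
    intro m'' hm''
    rw [hinr, ← Submodule.mem_comap]
    refine Submodule.smul_induction_on hm'' (fun e he μ _ => hB e he μ)
      (fun a b ha hb => Submodule.add_mem _ ha hb)
  -- Step D
  have hle : EtMil.glue D' φ ≤ Submodule.span D' G := by
    intro p hp
    have hn : p.1 ∈ Submodule.span D (Set.range y) := by rw [hy]; trivial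
    obtain ⟨d, hd⟩ := (Submodule.mem_span_range_iff_exists_fun D).mp hn
    choose d' hd' using fun k => h1 (d k)
    have hsum : ∑ k, d' k • ((y k, mk k) : N × M') ∈ Submodule.span D' G :=
      Submodule.sum_mem _ fun k _ => Submodule.smul_mem _ _ (Submodule.subset_span (Or.inl ⟨k, rfl⟩))
    have hq : p - ∑ k, d' k • ((y k, mk k) : N × M') ∈ EtMil.glue D' φ :=
      Submodule.sub_mem _ hp (hGle hsum)
    have hq1 : (p - ∑ k, d' k • ((y k, mk k) : N × M')).1 = 0 := by
      rw [Prod.fst_sub, Prod.fst_sum, ← hd, sub_eq_zero]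
      refine Finset.sum_congr rfl fun k _ => ?_
      rw [Prod.smul_fst, ← hd' k, algebraMap_smul]
    have hq2 : ((1 : C) ⊗ₜ[C'] (p - ∑ k, d' k • ((y k, mk k) : N × M')).2 : C ⊗[C'] M') = 0 := by
      have h6 := (hmem _).mp hq
      rw [hq1, TensorProduct.tmul_zero, map_zero] at h6
      exact h6.symm
    have hq3 := hC _ (mem_smul_top_of_tmul_eq_zero h2 _ hq2)
    have hq4 : p - ∑ k, d' k • ((y k, mk k) : N × M') =
        ((0 : N), (p - ∑ k, d' k • ((y k, mk k) : N × M')).2) := Prod.ext hq1 rfl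
    rw [← hq4] at hq3
    have := Submodule.add_mem _ hq3 hsum
    rwa [sub_add_cancel] at this
  have hEq : EtMil.glue D' φ = Submodule.span D' G := le_antisymm hle hGle
  rw [Module.Finite.iff_fg, hEq]
  exact Submodule.fg_def.mpr ⟨G, hGfin, rfl⟩

end core

end Groth.Agent.Helper12.MilnorRel
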