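import Mathlib
import Groth.Prelude.Def_EtMil
import Groth.Agent.S12081
import Groth.Agent.Lib.Helper12.MilnorRel

set_option autoImplicit false
universe u
open TensorProduct

namespace Groth.Agent.Helper12.MilnorRel

theorem main (B' B A' A : Type u) [CommRing B'] [CommRing B] [CommRing A'] [CommRing A]
    [Algebra B' B] [Algebra B' A'] [Algebra B A] [Algebra A' A] [Algebra B' A] [IsScalarTower B' B A] [IsScalarTower B' A' A]
    (hsq : EtMil.IsFibreSquare B' B A' A)
    (D' D C' C : Type u) [CommRing D'] [CommRing D] [CommRing C'] [CommRing C]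
    [Algebra B' D'] [Algebra B D] [Algebra A' C'] [Algebra A C]
    [Algebra D' D] [Algebra B' D] [IsScalarTower B' B D] [IsScalarTower B' D' D] [Algebra.IsPushout B' B D' D]
    [Algebra D' C'] [Algebra B' C'] [IsScalarTower B' A' C'] [IsScalarTower B' D' C'] [Algebra.IsPushout B' A' D' C']
    [Algebra D' C] [Algebra B' C] [IsScalarTower B' A C] [IsScalarTower B' D' C] [Algebra.IsPushout B' A D' C]
    [Algebra D C] [IsScalarTower D' D C] [Algebra B C] [IsScalarTower B A C] [IsScalarTower B D C]
    [Algebra C' C] [IsScalarTower D' C' C] [Algebra A' C] [IsScalarTower A' A C] [IsScalarTower A' C' C]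
    {N M' : Type u} [AddCommGroup N] [Module D N] [Module D' N] [IsScalarTower D' D N]
    [AddCommGroup M'] [Module C' M'] [Module D' M'] [IsScalarTower D' C' M'] (φ : C ⊗[D] N ≃ₗ[C] C ⊗[C'] M')
    [Module.Finite D N] [Module.Finite C' M'] : Module.Finite D' ↥(EtMil.glue D' φ) := by
  have hBs : Function.Surjective (algebraMap B' B) := by
    intro b
    obtain ⟨a', ha'⟩ := hsq.1 (algebraMap B A b)
    obtain ⟨b', ⟨hb1, -⟩, -⟩ := hsq.2 b a' ha'.symm
    exact ⟨b', hb1⟩
  have h1 : Function.Surjective (algebraMap D' D) := by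
    intro d
    have hbc : IsBaseChange B (IsScalarTower.toAlgHom B' D' D).toLinearMap :=
      Algebra.IsPushout.out
    refine hbc.inductionOn d (fun d => ∃ d', algebraMap D' D d' = d) ⟨0, map_zero _⟩
      (fun m => ⟨m, rfl⟩) ?_ ?_
    · rintro b d ⟨d', rfl⟩
      obtain ⟨b', rfl⟩ := hBs b
      refine ⟨algebraMap B' D' b' * d', ?_⟩
      rw [map_mul, Algebra.smul_def, ← IsScalarTower.algebraMap_apply B' D' D,
        ← IsScalarTower.algebraMap_apply B' B D]
    · rintro d₁ d₂ ⟨a, rfl⟩ ⟨b, rfl⟩
      exact ⟨a + b, map_add _ _ _⟩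
  have h2 : Function.Surjective (algebraMap C' C) := by
    intro c
    have hbc : IsBaseChange A (IsScalarTower.toAlgHom B' D' C).toLinearMap :=
      Algebra.IsPushout.out
    refine hbc.inductionOn c (fun c => ∃ c', algebraMap C' C c' = c) ⟨0, map_zero _⟩
      (fun m => ⟨algebraMap D' C' m, (IsScalarTower.algebraMap_apply D' C' C m).symm⟩) ?_ ?_
    · rintro a c ⟨c', rfl⟩
      obtain ⟨a', rfl⟩ := hsq.1 a
      refine ⟨algebraMap A' C' a' * c', ?_⟩
      rw [map_mul, Algebra.smul_def, ← IsScalarTower.algebraMap_apply A' C' C,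
        ← IsScalarTower.algebraMap_apply A' A C]
    · rintro c₁ c₂ ⟨a, rfl⟩ ⟨b, rfl⟩
      exact ⟨a + b, map_add _ _ _⟩
  haveI : IsScalarTower B' C' C := IsScalarTower.of_algebraMap_eq fun x => by
    rw [IsScalarTower.algebraMap_apply B' D' C, IsScalarTower.algebraMap_apply D' C' C,
      ← IsScalarTower.algebraMap_apply B' D' C']
  haveI hpo : Algebra.IsPushout A' A C' C :=
    (Algebra.IsPushout.comp_iff B' A' D' C').mp inferInstance
  have h3 : ∀ e ∈ RingHom.ker (algebraMap C' C),
      ∃ d' ∈ RingHom.ker (algebraMap D' D), algebraMap D' C' d' = e := by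
    intro e he
    have h1e : ((1 : A) ⊗ₜ[A'] e : A ⊗[A'] C') = 0 := by
      apply (Algebra.IsPushout.equiv A' A C' C).injective
      rw [Algebra.IsPushout.equiv_tmul, map_zero, map_one, one_mul]
      exact RingHom.mem_ker.mp he
    have h2e := mem_smul_top_of_tmul_eq_zero hsq.1 e h1e
    rw [Ideal.smul_top_eq_map] at h2e
    have h3e : e ∈ ((RingHom.ker (algebraMap A' A)).map (algebraMap A' C') : Set C') := h2e
    rw [← Groth.Agent.S12081.result B' B A' A hsq D' C'] at h3e
    obtain ⟨d', hd', rfl⟩ := h3e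
    refine ⟨d', ?_, rfl⟩
    have hle : (RingHom.ker (algebraMap B' B)).map (algebraMap B' D') ≤
        RingHom.ker (algebraMap D' D) := by
      rw [Ideal.map_le_iff_le_comap]
      intro b' hb'
      rw [Ideal.mem_comap, RingHom.mem_ker, ← IsScalarTower.algebraMap_apply B' D' D,
        IsScalarTower.algebraMap_apply B' B D, RingHom.mem_ker.mp hb', map_zero]
    exact hle hd'
  exact finite_glue_core h1 h2 h3 φ

end Groth.Agent.Helper12.MilnorRel
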