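import Mathlib

/-!
# `B_n → C_r` is bijective for `B = A[u]` (S5076)
-/

set_option autoImplicit false
universe u

namespace Groth.Agent.Helper12.MonoLocal

section Abstract

variable {B C : Type u} [CommRing B] [CommRing C] [Algebra B C] [Module.Finite B C]
  (r : Ideal C) [r.IsPrime] (n : Ideal B) [n.IsPrime] (hn : n = r.comap (algebraMap B C))

omit [r.IsPrime] in
theorem exists_mul_eq
    (huniq : ∀ q : Ideal C, q.IsPrime → q.comap (algebraMap B C) = n → q = r)
    (c : C) (hc : c ∉ r) : ∃ c' : C, ∃ s : B, s ∉ n ∧ c * c' = algebraMap B C s := by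
  by_contra hcon
  push_neg at hcon
  haveI : Algebra.IsIntegral B C := Algebra.IsIntegral.of_finite B C
  have hle : (Ideal.span {c}).comap (algebraMap B C) ≤ n := by
    intro s hs
    rw [Ideal.mem_comap, Ideal.mem_span_singleton'] at hs
    obtain ⟨c', hc'⟩ := hs
    by_contra hsn
    exact hcon c' s hsn (by rw [mul_comm]; exact hc')
  obtain ⟨Q, hQ, hQp, hQn⟩ := Ideal.exists_ideal_over_prime_of_isIntegral n (Ideal.span {c}) hle
  have hQr := huniq Q hQp hQn
  rw [hQr] at hQ
  exact hc (hQ (Ideal.mem_span_singleton_self c))

include hn in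
theorem injective_localRingHom (hinj : Function.Injective (algebraMap B C))
    (huniq : ∀ q : Ideal C, q.IsPrime → q.comap (algebraMap B C) = n → q = r) :
    Function.Injective (Localization.localRingHom n r (algebraMap B C) hn) := by
  rw [injective_iff_map_eq_zero]
  intro x hx
  obtain ⟨⟨b, s⟩, rfl⟩ := IsLocalization.mk'_surjective n.primeCompl x
  rw [Localization.localRingHom_mk', IsLocalization.mk'_eq_zero_iff] at hx
  obtain ⟨⟨c, hc⟩, hcb⟩ := hx
  have hcb' : c * algebraMap B C b = 0 := hcb
  obtain ⟨c', s', hs', hcs⟩ := exists_mul_eq r n huniq c hc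
  rw [IsLocalization.mk'_eq_zero_iff]
  refine ⟨⟨s', hs'⟩, ?_⟩
  apply hinj
  show algebraMap B C (s' * b) = algebraMap B C 0
  rw [map_mul, map_zero, ← hcs]
  calc c * c' * algebraMap B C b = c' * (c * algebraMap B C b) := by ring
    _ = 0 := by rw [hcb', mul_zero]

include hn in
theorem surjective_localRingHom
    (huniq : ∀ q : Ideal C, q.IsPrime → q.comap (algebraMap B C) = n → q = r)
    (hnak : ∀ x : Localization.AtPrime r, ∃ y : Localization.AtPrime n,
      x - Localization.localRingHom n r (algebraMap B C) hn y ∈
        (IsLocalRing.maximalIdeal (Localization.AtPrime n)).map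
          (Localization.localRingHom n r (algebraMap B C) hn)) :
    Function.Surjective (Localization.localRingHom n r (algebraMap B C) hn) := by
  classical
  set ρ := Localization.localRingHom n r (algebraMap B C) hn with hρ
  letI : Algebra (Localization.AtPrime n) (Localization.AtPrime r) := ρ.toAlgebra
  have hfg : (⊤ : Submodule (Localization.AtPrime n) (Localization.AtPrime r)).FG := by
    obtain ⟨gens, hgens⟩ := (Module.finite_def.mp (inferInstance : Module.Finite B C))
    refine ⟨gens.image (algebraMap C (Localization.AtPrime r)), ?_⟩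
    rw [eq_top_iff]
    rintro x -
    obtain ⟨⟨c, t⟩, rfl⟩ := IsLocalization.mk'_surjective r.primeCompl x
    obtain ⟨t', s, hs, hts⟩ := exists_mul_eq r n huniq t.1 t.2
    have hct : c * t' ∈ Submodule.span B (gens : Set C) := by rw [hgens]; trivial
    obtain ⟨g, -, hg⟩ := Submodule.mem_span_finset.mp hct
    have hunit : (IsLocalization.mk' (Localization.AtPrime n) (1 : B) (⟨s, hs⟩ : n.primeCompl)) *
        algebraMap B (Localization.AtPrime n) s = 1 := by
      have h1 := IsLocalization.mk'_spec (Localization.AtPrime n) (1 : B) (⟨s, hs⟩ : n.primeCompl)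
      rw [map_one] at h1
      exact h1
    have hsx : (algebraMap B (Localization.AtPrime n) s) •
        (IsLocalization.mk' (Localization.AtPrime r) c t) =
        algebraMap C (Localization.AtPrime r) (c * t') := by
      rw [Algebra.smul_def]
      show ρ (algebraMap B (Localization.AtPrime n) s) * _ = _
      rw [hρ, Localization.localRingHom_to_map, ← hts, map_mul, map_mul]
      have h1 := IsLocalization.mk'_spec (Localization.AtPrime r) c t
      calc algebraMap C (Localization.AtPrime r) ↑t * algebraMap C (Localization.AtPrime r) t' *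
            IsLocalization.mk' (Localization.AtPrime r) c t
          = algebraMap C (Localization.AtPrime r) t' *
            (IsLocalization.mk' (Localization.AtPrime r) c t *
              algebraMap C (Localization.AtPrime r) ↑t) := by ring
        _ = algebraMap C (Localization.AtPrime r) t' * algebraMap C (Localization.AtPrime r) c := by
            rw [h1]
        _ = _ := mul_comm _ _
    have hmem : (algebraMap B (Localization.AtPrime n) s) •
        (IsLocalization.mk' (Localization.AtPrime r) c t) ∈
        Submodule.span (Localization.AtPrime n)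
          ((gens.image (algebraMap C (Localization.AtPrime r)) : Finset _) :
            Set (Localization.AtPrime r)) := by
      rw [hsx, ← hg, map_sum]
      refine Submodule.sum_mem _ (fun y hy => ?_)
      have hy2 : algebraMap C (Localization.AtPrime r) (g y • y) =
          (algebraMap B (Localization.AtPrime n) (g y)) •
            algebraMap C (Localization.AtPrime r) y := by
        rw [Algebra.smul_def (g y) y, map_mul, Algebra.smul_def]
        show _ = ρ (algebraMap B (Localization.AtPrime n) (g y)) *
          algebraMap C (Localization.AtPrime r) y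
        rw [hρ, Localization.localRingHom_to_map]
      rw [hy2]
      exact Submodule.smul_mem _ _
        (Submodule.subset_span (Finset.mem_coe.mpr (Finset.mem_image_of_mem _ hy)))
    have h2 := Submodule.smul_mem _
      (IsLocalization.mk' (Localization.AtPrime n) (1 : B) (⟨s, hs⟩ : n.primeCompl)) hmem
    rwa [smul_smul, hunit, one_smul] at h2
  have hle : (⊤ : Submodule (Localization.AtPrime n) (Localization.AtPrime r)) ≤
      LinearMap.range (Algebra.linearMap (Localization.AtPrime n) (Localization.AtPrime r)) ⊔
        (IsLocalRing.maximalIdeal (Localization.AtPrime n)) • ⊤ := by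
    rintro x -
    obtain ⟨y, hy⟩ := hnak x
    rw [Submodule.mem_sup]
    refine ⟨ρ y, ⟨y, rfl⟩, x - ρ y, ?_, by ring⟩
    rw [Ideal.smul_top_eq_map]
    exact hy
  have hfinal := Submodule.le_of_le_smul_of_le_jacobson_bot hfg
    (le_of_eq (IsLocalRing.jacobson_eq_maximalIdeal ⊥ bot_ne_top).symm) hle
  intro x
  obtain ⟨y, hy⟩ := hfinal (Submodule.mem_top : x ∈ ⊤)
  exact ⟨y, hy⟩

end Abstract

theorem main (A C : Type u) [CommRing A] [IsLocalRing A]
    [CommRing C] [Algebra A C] [Module.Finite A C] (r : Ideal C) [r.IsMaximal] (u : C)
    (hu₁ : ∀ r' : Ideal C, r'.IsMaximal → r' ≠ r → u ∈ r') (hu₂ : u ∉ r)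
    (hu₃ : Subalgebra.toSubmodule (Algebra.adjoin A {algebraMap C (Localization.AtPrime r) u}) ⊔
        Submodule.restrictScalars A (Ideal.map (algebraMap A (Localization.AtPrime r))
          (IsLocalRing.maximalIdeal A)) = ⊤) :
    Function.Bijective (Localization.localRingHom
      (Ideal.comap (Algebra.adjoin A ({u} : Set C)).val.toRingHom r) r
      (Algebra.adjoin A ({u} : Set C)).val.toRingHom rfl) := by
  haveI : Module.Finite (Algebra.adjoin A ({u} : Set C)) C :=
    Module.Finite.of_restrictScalars_finite A (Algebra.adjoin A ({u} : Set C)) C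
  haveI : Algebra.IsIntegral A C := Algebra.IsIntegral.of_finite A C
  have hrA : r.comap (algebraMap A C) = IsLocalRing.maximalIdeal A :=
    IsLocalRing.eq_maximalIdeal (Ideal.isMaximal_comap_of_isIntegral_of_isMaximal r)
  have huniq : ∀ q : Ideal C, q.IsPrime →
      q.comap (algebraMap (Algebra.adjoin A ({u} : Set C)) C) =
        r.comap (algebraMap (Algebra.adjoin A ({u} : Set C)) C) → q = r := by
    intro q hq hqn
    by_contra hne
    have hqA : q.comap (algebraMap A C) = r.comap (algebraMap A C) := by
      ext a
      have h1 : a ∈ q.comap (algebraMap A C) ↔ algebraMap A (Algebra.adjoin A ({u} : Set C)) a ∈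
          q.comap (algebraMap (Algebra.adjoin A ({u} : Set C)) C) := Iff.rfl
      have h2 : a ∈ r.comap (algebraMap A C) ↔ algebraMap A (Algebra.adjoin A ({u} : Set C)) a ∈
          r.comap (algebraMap (Algebra.adjoin A ({u} : Set C)) C) := Iff.rfl
      rw [h1, h2, hqn]
    have hqmax : q.IsMaximal := by
      apply Ideal.isMaximal_of_isIntegral_of_isMaximal_comap (R := A) q
      rw [hqA, hrA]
      exact IsLocalRing.maximalIdeal.isMaximal A
    have huq : u ∈ q := hu₁ q hqmax hne
    have hmem : (⟨u, Algebra.subset_adjoin rfl⟩ : Algebra.adjoin A ({u} : Set C)) ∈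
        q.comap (algebraMap (Algebra.adjoin A ({u} : Set C)) C) := huq
    rw [hqn] at hmem
    exact hu₂ hmem
  have key : Function.Bijective (Localization.localRingHom
      (Ideal.comap (algebraMap (Algebra.adjoin A ({u} : Set C)) C) r) r
      (algebraMap (Algebra.adjoin A ({u} : Set C)) C) rfl) := by
    refine ⟨injective_localRingHom r _ rfl Subtype.val_injective huniq,
      surjective_localRingHom r _ rfl huniq ?_⟩
    intro x
    have hx : x ∈ Subalgebra.toSubmodule
        (Algebra.adjoin A {algebraMap C (Localization.AtPrime r) u}) ⊔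
        Submodule.restrictScalars A (Ideal.map (algebraMap A (Localization.AtPrime r))
          (IsLocalRing.maximalIdeal A)) := by rw [hu₃]; trivial
    obtain ⟨y', hy', z, hz, rfl⟩ := Submodule.mem_sup.mp hx
    have hy'' : y' ∈ Algebra.adjoin A {algebraMap C (Localization.AtPrime r) u} := hy'
    rw [Algebra.adjoin_singleton_eq_range_aeval] at hy''
    obtain ⟨P, rfl⟩ := hy''
    have hPu : Polynomial.aeval u P ∈ Algebra.adjoin A ({u} : Set C) := by
      rw [Algebra.adjoin_singleton_eq_range_aeval]; exact ⟨P, rfl⟩
    refine ⟨algebraMap (Algebra.adjoin A ({u} : Set C)) (Localization.AtPrime _)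
      ⟨Polynomial.aeval u P, hPu⟩, ?_⟩
    rw [Localization.localRingHom_to_map]
    have h1 : (Polynomial.aeval (algebraMap C (Localization.AtPrime r) u)) P =
        algebraMap C (Localization.AtPrime r) (Polynomial.aeval u P) :=
      Polynomial.aeval_algebraMap_apply _ u P
    have e : (Polynomial.aeval (algebraMap C (Localization.AtPrime r) u)).toRingHom P + z -
        algebraMap C (Localization.AtPrime r)
          (algebraMap (Algebra.adjoin A ({u} : Set C)) C ⟨Polynomial.aeval u P, hPu⟩) = z := by
      show (Polynomial.aeval (algebraMap C (Localization.AtPrime r) u)) P + z -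
        algebraMap C (Localization.AtPrime r) (Polynomial.aeval u P) = z
      rw [h1]; ring
    rw [e]
    have hz' : z ∈ Ideal.map (algebraMap A (Localization.AtPrime r))
        (IsLocalRing.maximalIdeal A) := hz
    refine (Ideal.map_le_iff_le_comap.mpr ?_) hz'
    intro a ha
    rw [Ideal.mem_comap]
    have hmem : algebraMap A (Algebra.adjoin A ({u} : Set C)) a ∈
        r.comap (algebraMap (Algebra.adjoin A ({u} : Set C)) C) := by
      show algebraMap A C a ∈ r
      rw [← Ideal.mem_comap, hrA]; exact ha
    have h3 : algebraMap A (Localization.AtPrime r) a =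
        Localization.localRingHom
          (Ideal.comap (algebraMap (Algebra.adjoin A ({u} : Set C)) C) r) r
          (algebraMap (Algebra.adjoin A ({u} : Set C)) C) rfl
          (algebraMap (Algebra.adjoin A ({u} : Set C)) (Localization.AtPrime _)
            (algebraMap A (Algebra.adjoin A ({u} : Set C)) a)) := by
      rw [Localization.localRingHom_to_map]
      show _ = algebraMap C _ (algebraMap A C a)
      exact IsScalarTower.algebraMap_apply A C _ a
    rw [h3]
    apply Ideal.mem_map_of_mem
    exact (IsLocalization.AtPrime.to_map_mem_maximal_iff _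
      (r.comap (algebraMap (Algebra.adjoin A ({u} : Set C)) C)) _).mpr hmem
  exact key

end Groth.Agent.Helper12.MonoLocal
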