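import Mathlib

universe u v

namespace Groth.Agent.Helper12.MovLead

open Polynomial

theorem prod_top {R : Type*} [CommRing R] {ι : Type*} (s : Finset ι) (P : ι → R[X]) (a : ι → ℕ)
    (h : ∀ i ∈ s, (P i).natDegree ≤ a i) :
    (∏ i ∈ s, P i).natDegree ≤ ∑ i ∈ s, a i ∧
      (∏ i ∈ s, P i).coeff (∑ i ∈ s, a i) = ∏ i ∈ s, (P i).coeff (a i) := by
  classical
  induction s using Finset.induction_on with
  | empty => simp
  | insert i s hi ih =>
    have h1 := h i (Finset.mem_insert_self i s)
    obtain ⟨ih1, ih2⟩ := ih (fun j hj => h j (Finset.mem_insert_of_mem hj))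
    rw [Finset.prod_insert hi, Finset.sum_insert hi, Finset.prod_insert hi]
    refine ⟨natDegree_mul_le_of_le h1 ih1, ?_⟩
    rw [coeff_mul_add_eq_of_natDegree_le h1 ih1, ih2]

variable {k : Type u} [Field k] {K : Type v} [Field K] [Algebra k K] {r : ℕ}

/-- the substitution `x_i ↦ x_i + g_i t^N` -/
noncomputable def sub (g : Fin r → K) (N : ℕ) :
    MvPolynomial (Fin r) k →ₐ[k] (MvPolynomial (Fin r) K)[X] :=
  MvPolynomial.aeval (fun i : Fin r => C (MvPolynomial.X i) + C (MvPolynomial.C (g i)) * X ^ N)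

def wt (α : Fin r →₀ ℕ) : ℕ := ∑ i, α i

noncomputable def top (d : ℕ) (p : MvPolynomial (Fin r) k) : MvPolynomial (Fin r) k :=
  ∑ α ∈ p.support.filter (fun α => wt α = d), MvPolynomial.monomial α (p.coeff α)

theorem u_deg (g : Fin r → K) (N : ℕ) (i : Fin r) :
    (C (MvPolynomial.X i) + C (MvPolynomial.C (g i)) * X ^ N :
      (MvPolynomial (Fin r) K)[X]).natDegree ≤ N := by
  refine (natDegree_add_le _ _).trans (max_le ?_ ?_)
  · rw [natDegree_C]; exact Nat.zero_le _
  · exact natDegree_C_mul_X_pow_le _ _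

theorem u_coeff (g : Fin r → K) (N : ℕ) (hN : 1 ≤ N) (i : Fin r) :
    (C (MvPolynomial.X i) + C (MvPolynomial.C (g i)) * X ^ N :
      (MvPolynomial (Fin r) K)[X]).coeff N = MvPolynomial.C (g i) := by
  rw [coeff_add, coeff_C_mul, coeff_X_pow, if_pos rfl, mul_one, coeff_C, if_neg (by omega),
    zero_add]

theorem mono_top (g : Fin r → K) (N : ℕ) (hN : 1 ≤ N) (α : Fin r →₀ ℕ) (c : k) :
    (sub g N (MvPolynomial.monomial α c)).natDegree ≤ N * wt α ∧
    (sub g N (MvPolynomial.monomial α c)).coeff (N * wt α) =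
      MvPolynomial.C (MvPolynomial.aeval g (MvPolynomial.monomial α c)) := by
  have e1 : sub g N (MvPolynomial.monomial α c) =
      C (MvPolynomial.C (algebraMap k K c)) *
        ∏ i : Fin r, (C (MvPolynomial.X i) + C (MvPolynomial.C (g i)) * X ^ N) ^ (α i) := by
    unfold sub
    rw [MvPolynomial.aeval_monomial, Finsupp.prod_fintype _ _ (fun i => pow_zero _),
      Polynomial.algebraMap_apply, MvPolynomial.algebraMap_apply]
  have e2 : MvPolynomial.aeval g (MvPolynomial.monomial α c) =
      algebraMap k K c * ∏ i : Fin r, g i ^ (α i) := by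
    rw [MvPolynomial.aeval_monomial, Finsupp.prod_fintype _ _ (fun i => pow_zero _)]
  obtain ⟨h1, h2⟩ := prod_top Finset.univ
    (fun i : Fin r => (C (MvPolynomial.X i) + C (MvPolynomial.C (g i)) * X ^ N :
      (MvPolynomial (Fin r) K)[X]) ^ (α i)) (fun i => α i * N)
    (fun i _ => natDegree_pow_le_of_le (α i) (u_deg g N i))
  have e3 : ∑ i : Fin r, α i * N = N * wt α := by
    unfold wt
    rw [Finset.mul_sum]
    exact Finset.sum_congr rfl (fun i _ => mul_comm _ _)
  rw [e3] at h1 h2
  rw [e1, e2]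
  refine ⟨(natDegree_C_mul_le _ _).trans h1, ?_⟩
  rw [coeff_C_mul, h2]
  simp only [coeff_pow_of_natDegree_le (u_deg g N _), u_coeff g N hN]
  rw [map_mul, map_prod]
  simp only [map_pow]

theorem gen_top (g : Fin r → K) (N : ℕ) (hN : 1 ≤ N) (p : MvPolynomial (Fin r) k) (d : ℕ)
    (hd : ∀ α ∈ p.support, wt α ≤ d) :
    (sub g N p).natDegree ≤ N * d ∧
    (sub g N p).coeff (N * d) = MvPolynomial.C (MvPolynomial.aeval g (top d p)) := by
  classical
  have hp : sub g N p = ∑ α ∈ p.support, sub g N (MvPolynomial.monomial α (p.coeff α)) := by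
    have := congrArg (sub g N) (MvPolynomial.support_sum_monomial_coeff p).symm
    rwa [map_sum] at this
  rw [hp]
  constructor
  · refine natDegree_sum_le_of_forall_le _ _ (fun α hα => ?_)
    exact (mono_top g N hN α _).1.trans (Nat.mul_le_mul_left N (hd α hα))
  · rw [finsetSum_coeff]
    unfold top
    rw [map_sum, map_sum, Finset.sum_filter]
    refine Finset.sum_congr rfl (fun α hα => ?_)
    split_ifs with h
    · rw [← h]; exact (mono_top g N hN α _).2
    · have hlt : wt α < d := lt_of_le_of_ne (hd α hα) h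
      exact coeff_eq_zero_of_natDegree_lt (lt_of_le_of_lt (mono_top g N hN α _).1
        ((Nat.mul_lt_mul_left (by omega : 0 < N)).mpr hlt))

theorem wt_le_totalDegree (p : MvPolynomial (Fin r) k) (α : Fin r →₀ ℕ) (hα : α ∈ p.support) :
    wt α ≤ p.totalDegree := by
  have := MvPolynomial.le_totalDegree hα
  rwa [Finsupp.sum_fintype _ _ (fun _ => rfl)] at this

theorem top_ne_zero (p : MvPolynomial (Fin r) k) (hp : p ≠ 0) : top p.totalDegree p ≠ 0 := by
  classical
  have hne : p.support.Nonempty := by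
    rw [Finset.nonempty_iff_ne_empty, Ne, MvPolynomial.support_eq_empty]; exact hp
  obtain ⟨α, hα, hsup⟩ := Finset.exists_mem_eq_sup p.support hne (fun s => s.sum fun _ e => e)
  have hwt : wt α = p.totalDegree := by
    unfold wt MvPolynomial.totalDegree
    rw [hsup, Finsupp.sum_fintype _ _ (fun _ => rfl)]
  intro h0
  have h1 := congrArg (MvPolynomial.coeff α) h0
  unfold top at h1
  rw [MvPolynomial.coeff_sum, MvPolynomial.coeff_zero] at h1
  simp only [MvPolynomial.coeff_monomial] at h1
  rw [Finset.sum_ite_eq', if_pos (Finset.mem_filter.mpr ⟨hα, hwt⟩)] at h1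
  exact (MvPolynomial.mem_support_iff.mp hα) h1

theorem main' {k : Type u} [Field k] (r m : ℕ) (f : (MvPolynomial (Fin r) k)[X]) (hf : f ≠ 0) :
    ∃ h : MvPolynomial (Fin r) k, h ≠ 0 ∧ ∃ s₀ : ℕ, ∀ s : ℕ, s₀ ≤ s →
      ∀ (K : Type v) [Field K] [Algebra k K] (g : Fin r → K), MvPolynomial.aeval g h ≠ 0 →
        ∃ c : K, c ≠ 0 ∧
          (eval₂ (MvPolynomial.aeval (fun i : Fin r => C (MvPolynomial.X i) +
            C (MvPolynomial.C (g i)) * X ^ (s * (m + 1))) :
              MvPolynomial (Fin r) k →ₐ[k] (MvPolynomial (Fin r) K)[X]).toRingHom X f).leadingCoeff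
            = MvPolynomial.C c ∧ (1 ≤ f.natDegree → 1 ≤
          (eval₂ (MvPolynomial.aeval (fun i : Fin r => C (MvPolynomial.X i) +
            C (MvPolynomial.C (g i)) * X ^ (s * (m + 1))) :
              MvPolynomial (Fin r) k →ₐ[k] (MvPolynomial (Fin r) K)[X]).toRingHom X f).natDegree) := by
  classical
  have hsupp : f.support.Nonempty := by rwa [Polynomial.support_nonempty]
  obtain ⟨j₁, hj₁, hj₁max⟩ :=
    Finset.exists_max_image f.support (fun j => (f.coeff j).totalDegree) hsupp
  obtain ⟨D, hD⟩ : ∃ D, D = (f.coeff j₁).totalDegree := ⟨_, rfl⟩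
  have hfilt : (f.support.filter (fun j => (f.coeff j).totalDegree = D)).Nonempty :=
    ⟨j₁, Finset.mem_filter.mpr ⟨hj₁, hD.symm⟩⟩
  obtain ⟨js, hjs, hjsmax⟩ := Finset.exists_max_image _ (fun j => j) hfilt
  rw [Finset.mem_filter] at hjs
  obtain ⟨hjs1, hjs2⟩ := hjs
  have hfjs : f.coeff js ≠ 0 := Polynomial.mem_support_iff.mp hjs1
  refine ⟨top D (f.coeff js), ?_, f.natDegree + 1, ?_⟩
  · rw [← hjs2]; exact top_ne_zero _ hfjs
  · intro s hs K _ _ g hg
    obtain ⟨N, hNdef⟩ : ∃ N, N = s * (m + 1) := ⟨_, rfl⟩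
    have hNs : s ≤ N := by rw [hNdef]; exact Nat.le_mul_of_pos_right s (Nat.succ_pos m)
    have hN : f.natDegree < N := by omega
    have hN1 : 1 ≤ N := by omega
    rw [← hNdef]
    refine ⟨MvPolynomial.aeval g (top D (f.coeff js)), hg, ?_⟩
    show (eval₂ (sub g N).toRingHom X f).leadingCoeff = _ ∧
      (1 ≤ f.natDegree → 1 ≤ (eval₂ (sub g N).toRingHom X f).natDegree)
    rw [eval₂_eq_sum_range]
    -- per-term estimates
    have hterm : ∀ j ∈ Finset.range (f.natDegree + 1),
        ((sub g N).toRingHom (f.coeff j) * X ^ j).natDegree ≤ N * D + js ∧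
        ((sub g N).toRingHom (f.coeff j) * X ^ j).coeff (N * D + js) =
          if j = js then MvPolynomial.C (MvPolynomial.aeval g (top D (f.coeff js))) else 0 := by
      intro j hj
      have hjN : j < N := by
        have := Finset.mem_range.mp hj
        omega
      by_cases hfj : f.coeff j = 0
      · have hne : j ≠ js := fun h => hfjs (h ▸ hfj)
        rw [hfj, map_zero, zero_mul, if_neg hne]
        simp
      · have hjsupp : j ∈ f.support := Polynomial.mem_support_iff.mpr hfj
        have hdj : (f.coeff j).totalDegree ≤ D := hD ▸ hj₁max j hjsupp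
        obtain ⟨g1, g2⟩ := gen_top g N hN1 (f.coeff j) (f.coeff j).totalDegree
          (fun α hα => wt_le_totalDegree _ α hα)
        have hdeg : ((sub g N).toRingHom (f.coeff j) * X ^ j).natDegree ≤
            N * (f.coeff j).totalDegree + j :=
          natDegree_mul_le_of_le g1 (natDegree_X_pow_le j)
        rcases lt_or_eq_of_le hdj with hlt | heq
        · have h3 : N * (f.coeff j).totalDegree + j < N * D := by
            have : N * ((f.coeff j).totalDegree + 1) ≤ N * D := Nat.mul_le_mul_left N hlt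
            rw [Nat.mul_succ] at this
            omega
          have hne : j ≠ js := fun h => by
            rw [h, hjs2] at hlt; exact lt_irrefl _ hlt
          refine ⟨by omega, ?_⟩
          rw [if_neg hne]
          exact coeff_eq_zero_of_natDegree_lt (by omega)
        · have hjle : j ≤ js := hjsmax j (Finset.mem_filter.mpr ⟨hjsupp, heq⟩)
          rw [heq] at hdeg g1 g2
          refine ⟨by omega, ?_⟩
          rcases lt_or_eq_of_le hjle with hlt | rfl
          · rw [if_neg (ne_of_lt hlt)]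
            exact coeff_eq_zero_of_natDegree_lt (by omega)
          · rw [if_pos rfl, coeff_mul_X_pow]
            exact g2
    have hdegle : (∑ j ∈ Finset.range (f.natDegree + 1),
        (sub g N).toRingHom (f.coeff j) * X ^ j).natDegree ≤ N * D + js :=
      natDegree_sum_le_of_forall_le _ _ (fun j hj => (hterm j hj).1)
    have hcoeff : (∑ j ∈ Finset.range (f.natDegree + 1),
        (sub g N).toRingHom (f.coeff j) * X ^ j).coeff (N * D + js) =
        MvPolynomial.C (MvPolynomial.aeval g (top D (f.coeff js))) := by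
      rw [finsetSum_coeff, Finset.sum_congr rfl (fun j hj => (hterm j hj).2),
        Finset.sum_ite_eq', if_pos]
      rw [Finset.mem_range]
      have := Polynomial.le_natDegree_of_mem_supp js hjs1
      omega
    have hne0 : MvPolynomial.C (MvPolynomial.aeval g (top D (f.coeff js))) ≠
        (0 : MvPolynomial (Fin r) K) := by
      intro h0
      exact hg (MvPolynomial.C_injective (Fin r) K (by rw [h0, map_zero]))
    have hnat := natDegree_eq_of_le_of_coeff_ne_zero hdegle (by rw [hcoeff]; exact hne0)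
    refine ⟨by rw [leadingCoeff, hnat, hcoeff], fun h1 => ?_⟩
    rw [hnat]
    rcases Nat.eq_zero_or_pos D with hD0 | hDpos
    · have hmem : f.natDegree ∈ f.support.filter (fun j => (f.coeff j).totalDegree = D) := by
        have hs := Polynomial.natDegree_mem_support_of_nonzero hf
        refine Finset.mem_filter.mpr ⟨hs, ?_⟩
        have := hj₁max f.natDegree hs
        omega
      have := hjsmax _ hmem
      omega
    · have : N * 1 ≤ N * D := Nat.mul_le_mul_left N hDpos
      omega

theorem main {k : Type u} [Field k] (r m : ℕ) (f : (MvPolynomial (Fin r) k)[X]) (hf : f ≠ 0) :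
    ∃ h : MvPolynomial (Fin r) k, h ≠ 0 ∧ ∃ s₀ : ℕ, ∀ s : ℕ, s₀ ≤ s →
      ∀ (K : Type v) [Field K] [Algebra k K] (g : Fin r → K), MvPolynomial.aeval g h ≠ 0 →
        ∃ c : K, c ≠ 0 ∧
          (eval₂ (MvPolynomial.aeval (fun i : Fin r => C (MvPolynomial.X i) +
            C (MvPolynomial.C (g i)) * X ^ (s * (m + 1))) :
              MvPolynomial (Fin r) k →ₐ[k] (MvPolynomial (Fin r) K)[X]).toRingHom X f).leadingCoeff
            = MvPolynomial.C c := by
  obtain ⟨h, hh, s₀, H⟩ := main'.{u, v} r m f hf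
  refine ⟨h, hh, s₀, fun s hs K _ _ g hg => ?_⟩
  obtain ⟨c, hc, h1, _⟩ := H s hs K g hg
  exact ⟨c, hc, h1⟩

/-- finiteness and injectivity for the translated hypersurface -/
theorem main2 {k : Type u} [Field k] (r m : ℕ) (f : (MvPolynomial (Fin r) k)[X])
    (hirr : Irreducible f) (h0 : IsUnit (f.coeff 0)) :
    ∃ h : MvPolynomial (Fin r) k, h ≠ 0 ∧ ∃ s₀ : ℕ, ∀ s : ℕ, s₀ ≤ s →
      ∀ (K : Type v) [Field K] [Algebra k K] (g : Fin r → K), MvPolynomial.aeval g h ≠ 0 →
        ∀ F : (MvPolynomial (Fin r) K)[X],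
          F = eval₂ (MvPolynomial.aeval (fun i : Fin r => C (MvPolynomial.X i) +
            C (MvPolynomial.C (g i)) * X ^ (s * (m + 1))) :
              MvPolynomial (Fin r) k →ₐ[k] (MvPolynomial (Fin r) K)[X]).toRingHom X f →
          Module.Finite (MvPolynomial (Fin r) K) ((MvPolynomial (Fin r) K)[X] ⧸ Ideal.span {F}) ∧
          Function.Injective ((Ideal.Quotient.mk (Ideal.span {F})).comp
            (algebraMap (MvPolynomial (Fin r) K) (MvPolynomial (Fin r) K)[X])) := by
  have hf : f ≠ 0 := hirr.ne_zero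
  have hdeg : 1 ≤ f.natDegree := by
    by_contra hlt
    have h00 : f.natDegree = 0 := by omega
    have hfC : f = C (f.coeff 0) := Polynomial.eq_C_of_natDegree_eq_zero h00
    apply hirr.not_isUnit
    rw [hfC]
    exact h0.map C
  obtain ⟨h, hh, s₀, H⟩ := main'.{u, v} r m f hf
  refine ⟨h, hh, s₀, fun s hs K _ _ g hg F hF => ?_⟩
  obtain ⟨c, hc, h1, h2⟩ := H s hs K g hg
  rw [← hF] at h1 h2
  have h2' := h2 hdeg
  constructor
  · have hmonic : (C (MvPolynomial.C c⁻¹) * F).Monic := by
      apply monic_C_mul_of_mul_leadingCoeff_eq_one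
      rw [h1, ← map_mul, inv_mul_cancel₀ hc, map_one]
    have hunit : IsUnit (C (MvPolynomial.C c⁻¹) : (MvPolynomial (Fin r) K)[X]) :=
      ((IsUnit.mk0 _ (inv_ne_zero hc)).map MvPolynomial.C).map C
    have hspan : Ideal.span {C (MvPolynomial.C c⁻¹) * F} = Ideal.span {F} :=
      Ideal.span_singleton_mul_left_unit hunit F
    rw [← hspan]
    exact hmonic.finite_quotient
  · have hd : F.degree ≠ 0 := by
      intro h0'
      have : F.natDegree = 0 := Polynomial.natDegree_eq_zero_iff_degree_le_zero.mpr (le_of_eq h0')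
      omega
    exact AdjoinRoot.of.injective_of_degree_ne_zero hd

end Groth.Agent.Helper12.MovLead
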