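import Mathlib
import Groth.Prelude.Def_Found

/-!
# N-2 and Nagata rings pass to localizations
-/

namespace Groth.Agent.Helper12.NagataLoc

universe u

attribute [local instance] FractionRing.liftAlgebra

/-- N-2 passes to localizations. -/
theorem isN2_of_isLocalization (D : Type u) [CommRing D] [IsDomain D] (E : Type u) [CommRing E]
    [IsDomain E] [Algebra D E] (M : Submonoid D) [IsLocalization M E] (h : CAlg.IsN2 D) :
    CAlg.IsN2 E := by
  intro L _ _ _ _ hfin
  have h0 : (0:D) ∉ M := by
    intro h0
    have := IsLocalization.map_units E (⟨0, h0⟩ : M)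
    simp at this
  have hM : M ≤ nonZeroDivisors D :=
    fun x hx => mem_nonZeroDivisors_of_ne_zero (fun h => h0 (h ▸ hx))
  have hDE : Function.Injective (algebraMap D E) := IsLocalization.injective E hM
  have hEL : Function.Injective (algebraMap E L) := by
    rw [IsScalarTower.algebraMap_eq E (FractionRing E) L]
    exact (algebraMap (FractionRing E) L).injective.comp
      (IsFractionRing.injective E (FractionRing E))
  letI algDL : Algebra D L := ((algebraMap E L).comp (algebraMap D E)).toAlgebra
  haveI : IsScalarTower D E L := IsScalarTower.of_algebraMap_eq (fun _ => rfl)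
  haveI : IsScalarTower D E (FractionRing E) := inferInstance
  haveI : IsScalarTower D (FractionRing E) L := by
    refine IsScalarTower.of_algebraMap_eq (fun x => ?_)
    rw [IsScalarTower.algebraMap_apply D E (FractionRing E)]
    exact IsScalarTower.algebraMap_apply E (FractionRing E) L _
  haveI : FaithfulSMul D (FractionRing E) := by
    rw [faithfulSMul_iff_algebraMap_injective]
    rw [IsScalarTower.algebraMap_eq D E (FractionRing E)]
    exact (IsFractionRing.injective E (FractionRing E)).comp hDE
  haveI : FaithfulSMul D L := by
    rw [faithfulSMul_iff_algebraMap_injective]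
    exact hEL.comp hDE
  -- Frac E is a fraction field of D
  have h3 : IsLocalization ((nonZeroDivisors E).comap (algebraMap D E)) (FractionRing E) :=
    IsLocalization.localization_localization_isLocalization_of_has_all_units M
      (nonZeroDivisors E) (FractionRing E) (fun x hx => hx.mem_nonZeroDivisors)
  have h4 : (nonZeroDivisors E).comap (algebraMap D E) = nonZeroDivisors D := by
    ext x
    rw [Submonoid.mem_comap, mem_nonZeroDivisors_iff_ne_zero, mem_nonZeroDivisors_iff_ne_zero,
      Ne, Ne, map_eq_zero_iff _ hDE]
  rw [h4] at h3
  haveI : IsFractionRing D (FractionRing E) := h3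
  haveI : IsScalarTower (FractionRing D) (FractionRing E) L := inferInstance
  have hsurj : Function.Surjective (algebraMap (FractionRing D) (FractionRing E)) := by
    intro z
    obtain ⟨a, b, hb, rfl⟩ := IsFractionRing.div_surjective (A := D) (K := FractionRing E) z
    refine ⟨algebraMap D (FractionRing D) a / algebraMap D (FractionRing D) b, ?_⟩
    rw [map_div₀, ← IsScalarTower.algebraMap_apply, ← IsScalarTower.algebraMap_apply]
  haveI : Module.Finite (FractionRing D) (FractionRing E) :=
    Module.Finite.of_surjective (Algebra.linearMap (FractionRing D) (FractionRing E)) hsurj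
  haveI : Module.Finite (FractionRing E) L := hfin
  have hfinDL : Module.Finite (FractionRing D) L := Module.Finite.trans (FractionRing E) L
  have hfinD : Module.Finite D (integralClosure D L) := h L hfinDL
  have hFG : (Subalgebra.toSubmodule (integralClosure D L)).FG := by
    haveI := hfinD
    exact Module.Finite.iff_fg.mp
      (Module.Finite.equiv (Subalgebra.toSubmoduleEquiv (integralClosure D L)).symm)
  obtain ⟨T, hT⟩ := hFG
  have hFG' : (Subalgebra.toSubmodule (integralClosure E L)).FG := by
    refine ⟨T, le_antisymm ?_ ?_⟩
    · rw [Submodule.span_le]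
      intro t ht
      have ht' : t ∈ Subalgebra.toSubmodule (integralClosure D L) :=
        hT ▸ Submodule.subset_span ht
      have ht'' : IsIntegral D t := ht'
      exact ht''.tower_top
    · intro x hx
      have hx1 : IsIntegral E x := hx
      obtain ⟨m, hm⟩ := IsIntegral.exists_multiple_integral_of_isLocalization M x hx1
      have hmem : (m • x : L) ∈ Submodule.span D (T : Set L) := by
        rw [hT]
        exact hm
      have hmem' : (m • x : L) ∈ Submodule.span E (T : Set L) :=
        Submodule.span_le_restrictScalars D E _ hmem
      have hx' : x = (IsLocalization.mk' E (1:D) m) • (m • x) := by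
        rw [Submonoid.smul_def, algebra_compatible_smul E (m:D) x, smul_smul,
          IsLocalization.mk'_spec, map_one, one_smul]
      rw [hx']
      exact Submodule.smul_mem _ _ hmem'
  haveI : Module.Finite E (Subalgebra.toSubmodule (integralClosure E L)) :=
    Module.Finite.iff_fg.mpr hFG'
  exact Module.Finite.equiv (Subalgebra.toSubmoduleEquiv (integralClosure E L))

theorem main (A : Type u) [CommRing A] (hA : CAlg.IsNagata A) (S : Submonoid A) :
    CAlg.IsNagata (Localization S) := by
  obtain ⟨hN, hP⟩ := hA
  refine ⟨IsLocalization.isNoetherianRing S _ hN, ?_⟩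
  intro q hq
  obtain ⟨p, hp, hpp⟩ : ∃ p : Ideal A, q = p.map (algebraMap A (Localization S)) ∧ p.IsPrime :=
    ⟨q.comap (algebraMap A (Localization S)), (IsLocalization.map_comap S _ q).symm,
      Ideal.comap_isPrime _ _⟩
  subst hp
  haveI := hpp
  exact isN2_of_isLocalization (A ⧸ p)
    (Localization S ⧸ p.map (algebraMap A (Localization S)))
    (Algebra.algebraMapSubmonoid (A ⧸ p) S) (hP p)

end Groth.Agent.Helper12.NagataLoc
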