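import Mathlib

set_option autoImplicit false

namespace Groth.Agent.Helper12.NormPoly

open Polynomial TensorProduct

universe u

variable (R G : Type u) [CommRing R] [Group G] [Fintype G] [MulSemiringAction G R]

local notation "R0" => FixedPoints.subring R G

/-- inclusion of the invariant ring -/
def incl : R0 →+* R := algebraMap R0 R

/-- action of σ as ring hom -/
def sg (σ : G) : R →+* R := MulSemiringAction.toRingHom G R σ

lemma incl_apply (x : R0) : incl R G x = (x : R) := rfl

lemma sg_apply (σ : G) (x : R) : sg R G σ x = σ • x := rfl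

lemma incl_injective : Function.Injective (incl R G) := Subtype.val_injective

lemma sg_comp_incl (σ : G) : (sg R G σ).comp (incl R G) = incl R G :=
  RingHom.ext fun x => (show ∀ σ : G, σ • (x : R) = x from x.2) σ

lemma sg_comp_sg (τ σ : G) : (sg R G τ).comp (sg R G σ) = sg R G (τ * σ) :=
  RingHom.ext fun x => (mul_smul τ σ x).symm

lemma descent {κ : Type*} (Ψ : Polynomial (MvPolynomial κ R))
    (h : ∀ σ : G, Polynomial.map (MvPolynomial.map (sg R G σ)) Ψ = Ψ) :
    ∃ Ψ0 : Polynomial (MvPolynomial κ R0),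
      Polynomial.map (MvPolynomial.map (incl R G)) Ψ0 = Ψ := by
  have hmem : Ψ ∈ (Polynomial.mapRingHom (MvPolynomial.map (σ := κ) (incl R G))).rangeS := by
    rw [Polynomial.mem_map_rangeS]
    intro n
    have h2 : Ψ.coeff n ∈ Set.range (MvPolynomial.map (σ := κ) (incl R G)) := by
      rw [MvPolynomial.mem_range_map_iff_coeffs_subset]
      intro r hr
      rw [Finset.mem_coe, MvPolynomial.mem_coeffs_iff] at hr
      obtain ⟨m, -, rfl⟩ := hr
      have hfix : ∀ σ : G, σ • (Ψ.coeff n).coeff m = (Ψ.coeff n).coeff m := by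
        intro σ
        have h1 := congrArg
          (fun q : Polynomial (MvPolynomial κ R) => (q.coeff n).coeff m) (h σ)
        simp only [Polynomial.coeff_map, MvPolynomial.coeff_map] at h1
        exact h1
      exact ⟨⟨(Ψ.coeff n).coeff m, hfix⟩, rfl⟩
    obtain ⟨q, hq⟩ := h2
    exact RingHom.mem_rangeS.mpr ⟨q, hq⟩
  obtain ⟨Ψ0, h0⟩ := RingHom.mem_rangeS.mp hmem
  exact ⟨Ψ0, h0⟩

lemma generic {J : Type*} (S : Finset (J × R)) :
    ∃ Ψ0 : Polynomial (MvPolynomial (J × R) R0),
      Polynomial.map (MvPolynomial.map (incl R G)) Ψ0 =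
        ∏ σ : G, (X - C (∑ x ∈ S, MvPolynomial.C (σ • x.2) * MvPolynomial.X x)) := by
  apply descent
  intro τ
  have hL : ∀ σ : G, MvPolynomial.map (sg R G τ)
      (∑ x ∈ S, MvPolynomial.C (σ • x.2) * MvPolynomial.X x) =
      ∑ x ∈ S, MvPolynomial.C ((τ * σ) • x.2) * (MvPolynomial.X x : MvPolynomial (J × R) R) := by
    intro σ
    simp only [map_sum, map_mul, MvPolynomial.map_C, MvPolynomial.map_X, sg_apply, mul_smul]
  rw [Polynomial.map_prod]
  simp only [Polynomial.map_sub, Polynomial.map_X, Polynomial.map_C, hL]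
  exact Fintype.prod_equiv (Equiv.mulLeft τ) _ _ (fun σ => rfl)

lemma ker_rep {K0 : Type*} [CommRing K0] {P A Q : Type*} [AddCommGroup P] [Module K0 P]
    [AddCommGroup A] [Module K0 A] [AddCommGroup Q] [Module K0 Q]
    (g : P →ₗ[K0] A) (hg : Function.Surjective g) (p : P) (q : Q) (h : g p ⊗ₜ[K0] q = 0) :
    ∃ S : Finset (↥(LinearMap.ker g) × Q), p ⊗ₜ[K0] q = ∑ x ∈ S, (x.1 : P) ⊗ₜ[K0] x.2 := by
  have hex := rTensor_exact Q (LinearMap.exact_subtype_ker_map g) hg
  have h1 : (LinearMap.rTensor Q g) (p ⊗ₜ[K0] q) = 0 := by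
    rw [LinearMap.rTensor_tmul, h]
  obtain ⟨y, hy⟩ := (hex _).mp h1
  obtain ⟨S, hS⟩ := TensorProduct.exists_finset y
  refine ⟨S, ?_⟩
  rw [← hy, hS, map_sum]
  rfl

variable (A : Type u) [CommRing A] [Algebra (FixedPoints.subring R G) A]

noncomputable def piA : MvPolynomial A R0 →ₐ[R0] A :=
  MvPolynomial.aeval (fun a : A => a)

noncomputable def pi0 : MvPolynomial A R0 →+* A := (piA R G A).toRingHom

lemma pi0_C (r : R0) : pi0 R G A (MvPolynomial.C r) = algebraMap R0 A r := by
  simp [pi0, piA]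

lemma pi0_X (a : A) : pi0 R G A (MvPolynomial.X a) = a := by
  simp [pi0, piA]

noncomputable def Pi1 : MvPolynomial A R →+* A ⊗[R0] R :=
  MvPolynomial.eval₂Hom
    (Algebra.TensorProduct.includeRight : R →ₐ[R0] A ⊗[R0] R).toRingHom
    (fun a : A => a ⊗ₜ[R0] (1 : R))

lemma Pi1_C (r : R) : Pi1 R G A (MvPolynomial.C r) = (1 : A) ⊗ₜ[R0] r := by
  simp [Pi1]

lemma Pi1_X (a : A) : Pi1 R G A (MvPolynomial.X a) = a ⊗ₜ[R0] (1 : R) := by
  simp [Pi1]

lemma Pi1_surj : Function.Surjective (Pi1 R G A) := by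
  intro t
  induction t using TensorProduct.induction_on with
  | zero => exact ⟨0, map_zero _⟩
  | tmul a r =>
    refine ⟨MvPolynomial.C r * MvPolynomial.X a, ?_⟩
    rw [map_mul, Pi1_C, Pi1_X, Algebra.TensorProduct.tmul_mul_tmul, one_mul, mul_one]
  | add x y hx hy =>
    obtain ⟨p, rfl⟩ := hx
    obtain ⟨q, rfl⟩ := hy
    exact ⟨p + q, map_add _ _ _⟩

noncomputable def tsg (σ : G) : A ⊗[R0] R →ₐ[R0] A ⊗[R0] R :=
  Algebra.TensorProduct.map (AlgHom.id R0 A) (MulSemiringAction.toAlgHom R0 R σ)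

lemma tsg_tmul (σ : G) (a : A) (r : R) :
    tsg R G A σ (a ⊗ₜ[R0] r) = a ⊗ₜ[R0] (σ • r) := by
  simp [tsg]

lemma Pi1_map_sg (σ : G) (p : MvPolynomial A R) :
    Pi1 R G A (MvPolynomial.map (sg R G σ) p) = tsg R G A σ (Pi1 R G A p) := by
  induction p using MvPolynomial.induction_on with
  | C r => rw [MvPolynomial.map_C, Pi1_C, Pi1_C, tsg_tmul, sg_apply]
  | add p q hp hq => simp only [map_add, hp, hq]
  | mul_X p a hp =>
    simp only [map_mul, hp, MvPolynomial.map_X, Pi1_X, tsg_tmul, smul_one]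

lemma Pi1_map_incl (p : MvPolynomial A R0) :
    Pi1 R G A (MvPolynomial.map (incl R G) p) =
      algebraMap A (A ⊗[R0] R) (pi0 R G A p) := by
  induction p using MvPolynomial.induction_on with
  | C r =>
    rw [MvPolynomial.map_C, Pi1_C, pi0_C, Algebra.TensorProduct.algebraMap_apply,
      Algebra.algebraMap_self, RingHom.id_apply, Algebra.algebraMap_eq_smul_one,
      TensorProduct.smul_tmul]
    congr 1
    rw [incl_apply, Subring.smul_def, smul_eq_mul, mul_one]
  | add p q hp hq => simp only [map_add, hp, hq]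
  | mul_X p a hp =>
    simp only [map_mul, hp, MvPolynomial.map_X, Pi1_X, pi0_X,
      Algebra.TensorProduct.algebraMap_apply, Algebra.algebraMap_self, RingHom.id_apply]

theorem part1 (b : A ⊗[R0] R) (hb : ∀ σ : G, tsg R G A σ b = b) :
    ∃ P : Polynomial A, P.Monic ∧
      Polynomial.map (algebraMap A (A ⊗[R0] R)) P = (X - C b) ^ Fintype.card G := by
  obtain ⟨b', rfl⟩ := Pi1_surj R G A b
  have hQinv : ∀ τ : G, Polynomial.map (MvPolynomial.map (sg R G τ))
      (∏ σ : G, (X - C (MvPolynomial.map (sg R G σ) b'))) =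
      ∏ σ : G, (X - C (MvPolynomial.map (sg R G σ) b')) := by
    intro τ
    rw [Polynomial.map_prod]
    simp only [Polynomial.map_sub, Polynomial.map_X, Polynomial.map_C, MvPolynomial.map_map,
      sg_comp_sg]
    exact Fintype.prod_equiv (Equiv.mulLeft τ) _ _ (fun σ => rfl)
  obtain ⟨Q0, hQ0⟩ := descent R G _ hQinv
  have hQmonic : (∏ σ : G, (X - C (MvPolynomial.map (sg R G σ) b'))).Monic :=
    Polynomial.monic_prod_of_monic _ _ (fun σ _ => Polynomial.monic_X_sub_C _)
  have hincl_inj : Function.Injective (MvPolynomial.map (σ := A) (incl R G)) :=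
    MvPolynomial.map_injective _ (incl_injective R G)
  have hQ0monic : Q0.Monic := Polynomial.monic_of_injective hincl_inj (hQ0 ▸ hQmonic)
  refine ⟨Polynomial.map (pi0 R G A) Q0, hQ0monic.map _, ?_⟩
  have hcomp : (algebraMap A (A ⊗[R0] R)).comp (pi0 R G A) =
      (Pi1 R G A).comp (MvPolynomial.map (incl R G)) :=
    RingHom.ext fun p => (Pi1_map_incl R G A p).symm
  rw [Polynomial.map_map, hcomp, ← Polynomial.map_map, hQ0, Polynomial.map_prod]
  have hfac : ∀ σ : G, Pi1 R G A (MvPolynomial.map (sg R G σ) b') = Pi1 R G A b' :=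
    fun σ => by rw [Pi1_map_sg, hb σ]
  simp only [Polynomial.map_sub, Polynomial.map_X, Polynomial.map_C, hfac, Finset.prod_const,
    Finset.card_univ]

lemma part2_core (a : A) (J : Submodule R0 (MvPolynomial A R0))
    (hJ : ∀ j ∈ J, pi0 R G A j = 0) (S : Finset (J × R))
    (hXa : (MvPolynomial.X a : MvPolynomial A R) =
      ∑ x ∈ S, MvPolynomial.map (incl R G) (x.1 : MvPolynomial A R0) * MvPolynomial.C x.2) :
    (X - C a : Polynomial A) ^ Fintype.card G = X ^ Fintype.card G := by
  obtain ⟨Ψ0, hΨ0⟩ := generic R G (J := J) S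
  let θ1 : MvPolynomial (J × R) R →+* MvPolynomial A R :=
    MvPolynomial.eval₂Hom MvPolynomial.C
      (fun x => MvPolynomial.map (incl R G) (x.1 : MvPolynomial A R0))
  let θ0 : MvPolynomial (J × R) R0 →+* MvPolynomial A R0 :=
    MvPolynomial.eval₂Hom MvPolynomial.C (fun x => (x.1 : MvPolynomial A R0))
  have hθ : θ1.comp (MvPolynomial.map (incl R G)) = (MvPolynomial.map (incl R G)).comp θ0 := by
    apply MvPolynomial.ringHom_ext
    · intro r; simp [θ1, θ0]
    · intro x; simp [θ1, θ0]
  have hfac : ∀ σ : G, θ1 (∑ x ∈ S, MvPolynomial.C (σ • x.2) * MvPolynomial.X x) =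
      MvPolynomial.X a := by
    intro σ
    calc θ1 (∑ x ∈ S, MvPolynomial.C (σ • x.2) * MvPolynomial.X x)
        = ∑ x ∈ S, MvPolynomial.C (σ • x.2) *
            MvPolynomial.map (incl R G) (x.1 : MvPolynomial A R0) := by
          simp [θ1]
      _ = MvPolynomial.map (sg R G σ) (∑ x ∈ S,
            MvPolynomial.map (incl R G) (x.1 : MvPolynomial A R0) * MvPolynomial.C x.2) := by
          rw [map_sum]
          refine Finset.sum_congr rfl fun x _ => ?_
          rw [map_mul, MvPolynomial.map_map, sg_comp_incl, MvPolynomial.map_C, sg_apply,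
            mul_comm]
      _ = MvPolynomial.X a := by rw [← hXa, MvPolynomial.map_X]
  have hΨ1 : Polynomial.map θ1
      (∏ σ : G, (X - C (∑ x ∈ S, MvPolynomial.C (σ • x.2) * MvPolynomial.X x))) =
      (X - C (MvPolynomial.X a)) ^ Fintype.card G := by
    rw [Polynomial.map_prod]
    simp only [Polynomial.map_sub, Polynomial.map_X, Polynomial.map_C, hfac, Finset.prod_const,
      Finset.card_univ]
  have hinj : Function.Injective (Polynomial.map (MvPolynomial.map (σ := A) (incl R G))) :=
    Polynomial.map_injective _ (MvPolynomial.map_injective _ (incl_injective R G))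
  have h2 : Polynomial.map θ0 Ψ0 = (X - C (MvPolynomial.X a)) ^ Fintype.card G := by
    apply hinj
    rw [Polynomial.map_map, ← hθ, ← Polynomial.map_map, hΨ0, hΨ1]
    simp [Polynomial.map_pow]
  have hc : (pi0 R G A).comp θ0 = (algebraMap R0 A).comp MvPolynomial.constantCoeff := by
    apply MvPolynomial.ringHom_ext
    · intro r; simp [θ0, pi0_C]
    · intro x
      simp only [θ0, RingHom.comp_apply, MvPolynomial.eval₂Hom_X', MvPolynomial.constantCoeff_X,
        map_zero]
      exact hJ x.1 x.1.2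
  have h3 : Polynomial.map (MvPolynomial.constantCoeff) Ψ0 = X ^ Fintype.card G := by
    apply Polynomial.map_injective _ (incl_injective R G)
    rw [Polynomial.map_map, ← MvPolynomial.constantCoeff_comp_map, ← Polynomial.map_map, hΨ0,
      Polynomial.map_prod]
    have hz : ∀ σ : G, Polynomial.map MvPolynomial.constantCoeff
        (X - C (∑ x ∈ S, MvPolynomial.C (σ • x.2) *
          (MvPolynomial.X x : MvPolynomial (J × R) R))) = (X : Polynomial R) := by
      intro σ
      rw [Polynomial.map_sub, Polynomial.map_X, Polynomial.map_C, map_sum]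
      simp
    simp only [hz, Finset.prod_const, Finset.card_univ, Polynomial.map_pow, Polynomial.map_X]
  have h4 := congrArg (Polynomial.map (pi0 R G A)) h2
  rw [Polynomial.map_map, hc, ← Polynomial.map_map, h3] at h4
  simpa [Polynomial.map_pow, pi0_X] using h4.symm

theorem part2 (a : A) (ha : algebraMap A (A ⊗[R0] R) a = 0) :
    (X - C a : Polynomial A) ^ Fintype.card G = X ^ Fintype.card G := by
  classical
  have hgsurj : Function.Surjective (piA R G A).toLinearMap :=
    fun a => ⟨MvPolynomial.X a, by simp [piA]⟩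
  have ha' : a ⊗ₜ[R0] (1 : R) = 0 := by
    rw [Algebra.TensorProduct.algebraMap_apply, Algebra.algebraMap_self, RingHom.id_apply] at ha
    exact ha
  have hXa0 : (piA R G A).toLinearMap (MvPolynomial.X a) = a := by simp [piA]
  obtain ⟨S, hS⟩ := ker_rep (piA R G A).toLinearMap hgsurj (MvPolynomial.X a) (1 : R)
    (by rw [hXa0]; exact ha')
  let f1 : MvPolynomial A R0 →ₐ[R0] MvPolynomial A R :=
    MvPolynomial.mapAlgHom (Algebra.ofId R0 R)
  let f2 : R →ₐ[R0] MvPolynomial A R := IsScalarTower.toAlgHom R0 R (MvPolynomial A R)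
  let φ : MvPolynomial A R0 ⊗[R0] R →ₐ[R0] MvPolynomial A R :=
    Algebra.TensorProduct.productMap f1 f2
  have hφ : ∀ (p : MvPolynomial A R0) (r : R),
      φ (p ⊗ₜ r) = MvPolynomial.map (incl R G) p * MvPolynomial.C r := by
    intro p r
    simp only [φ, Algebra.TensorProduct.productMap_apply_tmul]
    rfl
  have e1 := congrArg φ hS
  rw [map_sum, hφ, MvPolynomial.map_X, MvPolynomial.C_1, mul_one] at e1
  refine part2_core R G A a (LinearMap.ker (piA R G A).toLinearMap) ?_ S ?_
  · intro j hj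
    exact LinearMap.mem_ker.mp hj
  · rw [e1]
    exact Finset.sum_congr rfl fun x _ => hφ _ _

theorem main (R G A : Type u) [CommRing R] [Group G] [Fintype G]
    [MulSemiringAction G R] [CommRing A] [Algebra (FixedPoints.subring R G) A] :
    (∀ b : TensorProduct (FixedPoints.subring R G) A R,
      (∀ σ : G, Algebra.TensorProduct.map (AlgHom.id (FixedPoints.subring R G) A)
        (MulSemiringAction.toAlgHom (FixedPoints.subring R G) R σ) b = b) →
      ∃ P : Polynomial A, P.Monic ∧
        Polynomial.map (algebraMap A (TensorProduct (FixedPoints.subring R G) A R)) P =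
          (Polynomial.X - Polynomial.C b) ^ Fintype.card G) ∧
    (∀ a : A, algebraMap A (TensorProduct (FixedPoints.subring R G) A R) a = 0 →
      ∀ i : ℕ, i < Fintype.card G →
        ((Polynomial.X - Polynomial.C a) ^ Fintype.card G).coeff i = 0) := by
  refine ⟨fun b hb => part1 R G A b hb, fun a ha i hi => ?_⟩
  rw [part2 R G A a ha, Polynomial.coeff_X_pow, if_neg (ne_of_lt hi)]

end Groth.Agent.Helper12.NormPoly
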