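import Mathlib

set_option autoImplicit false

namespace Groth.Agent.Helper12

variable {D : Type*} [CommRing D] [IsDomain D]

/-- invertibility of an integral ideal, expressed inside the ring. -/
def IdInv (I : Ideal D) : Prop := ∃ (J : Ideal D) (x : D), x ≠ 0 ∧ I * J = Ideal.span {x}

theorem IdInv.cancel {I K K' : Ideal D} (h : IdInv I) (hk : I * K = I * K') : K = K' := by
  obtain ⟨J, x, hx, hJ⟩ := h
  have : Ideal.span {x} * K = Ideal.span {x} * K' := by
    rw [← hJ, mul_comm I J, mul_assoc, hk, ← mul_assoc]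
  exact (Ideal.span_singleton_mul_right_inj hx).mp this

theorem IdInv.mul {I K : Ideal D} (hI : IdInv I) (hK : IdInv K) : IdInv (I * K) := by
  obtain ⟨J, x, hx, hJ⟩ := hI
  obtain ⟨J', y, hy, hJ'⟩ := hK
  refine ⟨J * J', x * y, mul_ne_zero hx hy, ?_⟩
  rw [mul_mul_mul_comm, hJ, hJ', Ideal.span_singleton_mul_span_singleton]

theorem IdInv.of_mul {I K : Ideal D} (h : IdInv (I * K)) : IdInv I := by
  obtain ⟨J, x, hx, hJ⟩ := h
  exact ⟨K * J, x, hx, by rw [← mul_assoc, hJ]⟩

theorem idInv_span_singleton {x : D} (hx : x ≠ 0) : IdInv (Ideal.span {x}) :=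
  ⟨⊤, x, hx, by rw [Ideal.mul_top]⟩

theorem idInv_one : IdInv (1 : Ideal D) := by
  rw [Ideal.one_eq_top, ← Ideal.span_singleton_one]
  exact idInv_span_singleton one_ne_zero

theorem IdInv.multiset_prod {s : Multiset (Ideal D)} (h : ∀ I ∈ s, IdInv I) : IdInv s.prod := by
  induction s using Multiset.induction_on with
  | empty => rw [Multiset.prod_zero]; exact idInv_one
  | cons a s ih =>
    rw [Multiset.prod_cons]
    exact (h a (Multiset.mem_cons_self a s)).mul (ih fun I hI => h I (Multiset.mem_cons_of_mem hI))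

theorem IdInv.of_mem_multiset {s : Multiset (Ideal D)} (h : IdInv s.prod) {I : Ideal D}
    (hI : I ∈ s) : IdInv I := by
  obtain ⟨t, rfl⟩ := Multiset.exists_cons_of_mem hI
  rw [Multiset.prod_cons] at h
  exact h.of_mul

theorem multiset_prod_le_of_mem {s : Multiset (Ideal D)} {I : Ideal D} (hI : I ∈ s) :
    s.prod ≤ I := by
  obtain ⟨t, rfl⟩ := Multiset.exists_cons_of_mem hI
  rw [Multiset.prod_cons]
  exact Ideal.mul_le_left (I := I) (J := t.prod)

/-- uniqueness of factorization into invertible primes -/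
theorem prime_fact_unique : ∀ (n : ℕ) (s t : Multiset (Ideal D)), Multiset.card s = n →
    (∀ P ∈ s, P.IsPrime ∧ IdInv P) → (∀ P ∈ t, P.IsPrime ∧ IdInv P) → s.prod = t.prod → s = t := by
  classical
  intro n
  induction n with
  | zero =>
    intro s t hs _ ht hprod
    rw [Multiset.card_eq_zero] at hs
    subst hs
    by_contra hne
    obtain ⟨P, hP⟩ := Multiset.exists_mem_of_ne_zero (Ne.symm hne)
    have h1 := multiset_prod_le_of_mem hP
    rw [← hprod, Multiset.prod_zero, Ideal.one_eq_top, top_le_iff] at h1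
    exact (ht P hP).1.ne_top h1
  | succ n ih =>
    intro s t hs hsP htP hprod
    have hsne : s ≠ 0 := by
      intro h0; rw [h0, Multiset.card_zero] at hs; omega
    obtain ⟨P0, hP0⟩ := Multiset.exists_mem_of_ne_zero hsne
    have hne : (s + t).toFinset.Nonempty :=
      ⟨P0, by rw [Multiset.mem_toFinset]; exact Multiset.mem_add.mpr (Or.inl hP0)⟩
    obtain ⟨m, hm, hmin⟩ := Finset.exists_minimal hne
    rw [Multiset.mem_toFinset, Multiset.mem_add] at hm
    have hmin' : ∀ Q, (Q ∈ s ∨ Q ∈ t) → Q ≤ m → Q = m := by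
      intro Q hQ hQm
      have : Q ∈ (s + t).toFinset := by
        rw [Multiset.mem_toFinset]; exact Multiset.mem_add.mpr hQ
      exact le_antisymm hQm (hmin this hQm)
    have hms : m ∈ s := by
      rcases hm with hm | hm
      · exact hm
      · have h1 : s.prod ≤ m := hprod ▸ multiset_prod_le_of_mem hm
        obtain ⟨Q, hQ, hQm⟩ := ((htP m hm).1.multiset_prod_le).mp h1
        rw [← hmin' Q (Or.inl hQ) hQm]; exact hQ
    have hmt : m ∈ t := by
      have h1 : t.prod ≤ m := hprod ▸ multiset_prod_le_of_mem hms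
      obtain ⟨Q, hQ, hQm⟩ := ((hsP m hms).1.multiset_prod_le).mp h1
      rw [← hmin' Q (Or.inr hQ) hQm]; exact hQ
    obtain ⟨s', rfl⟩ := Multiset.exists_cons_of_mem hms
    obtain ⟨t', rfl⟩ := Multiset.exists_cons_of_mem hmt
    rw [Multiset.prod_cons, Multiset.prod_cons] at hprod
    have h2 := (hsP m hms).2.cancel hprod
    rw [Multiset.card_cons] at hs
    have h3 := ih s' t' (by omega) (fun P hP => hsP P (Multiset.mem_cons_of_mem hP))
      (fun P hP => htP P (Multiset.mem_cons_of_mem hP)) h2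
    rw [h3]


/-- the square of `P + (a)` is `P + (a²)` when every ideal factors into primes. -/
theorem sup_span_sq_of_fact
    (hfact : ∀ I : Ideal D, I ≠ ⊥ → ∃ s : Multiset (Ideal D), (∀ p ∈ s, p.IsPrime) ∧ s.prod = I)
    (P : Ideal D) [hP : P.IsPrime] (a : D) (ha : a ∉ P) :
    (P ⊔ Ideal.span {a}) * (P ⊔ Ideal.span {a}) = P ⊔ Ideal.span {a ^ 2} := by
  classical
  have hane : a ≠ 0 := fun h => ha (h ▸ P.zero_mem)
  have hπ : Function.Surjective (Ideal.Quotient.mk P) := Ideal.Quotient.mk_surjective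
  have hker : RingHom.ker (Ideal.Quotient.mk P) = P := Ideal.mk_ker
  have hbar : Ideal.Quotient.mk P a ≠ 0 := fun h => ha (Ideal.Quotient.eq_zero_iff_mem.mp h)
  have hbar2 : Ideal.Quotient.mk P a ^ 2 ≠ 0 := pow_ne_zero 2 hbar
  have hne1 : P ⊔ Ideal.span {a} ≠ ⊥ := by
    intro h
    have : Ideal.span {a} ≤ ⊥ := h ▸ le_sup_right
    exact hane (Ideal.span_singleton_eq_bot.mp (le_bot_iff.mp this))
  have hne2 : P ⊔ Ideal.span {a ^ 2} ≠ ⊥ := by
    intro h
    have : Ideal.span {a ^ 2} ≤ ⊥ := h ▸ le_sup_right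
    exact pow_ne_zero 2 hane (Ideal.span_singleton_eq_bot.mp (le_bot_iff.mp this))
  obtain ⟨s, hsP, hs⟩ := hfact _ hne1
  obtain ⟨t, htP, ht⟩ := hfact _ hne2
  -- members contain P
  have hsle : ∀ Q ∈ s, P ≤ Q := fun Q hQ =>
    le_trans (le_sup_left.trans hs.ge) (multiset_prod_le_of_mem hQ)
  have htle : ∀ Q ∈ t, P ≤ Q := fun Q hQ =>
    le_trans (le_sup_left.trans ht.ge) (multiset_prod_le_of_mem hQ)
  have hmap1 : Ideal.map (Ideal.Quotient.mk P) (P ⊔ Ideal.span {a}) =
      Ideal.span {Ideal.Quotient.mk P a} := by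
    rw [Ideal.map_sup, Ideal.map_quotient_self, bot_sup_eq, Ideal.map_span, Set.image_singleton]
  have hmap2 : Ideal.map (Ideal.Quotient.mk P) (P ⊔ Ideal.span {a ^ 2}) =
      Ideal.span {Ideal.Quotient.mk P a ^ 2} := by
    rw [Ideal.map_sup, Ideal.map_quotient_self, bot_sup_eq, Ideal.map_span, Set.image_singleton,
      map_pow]
  have hS : (s.map (Ideal.map (Ideal.Quotient.mk P))).prod = Ideal.span {Ideal.Quotient.mk P a} := by
    rw [← hmap1, ← hs]
    exact (map_multiset_prod (Ideal.mapHom (Ideal.Quotient.mk P)) s).symm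
  have hT : (t.map (Ideal.map (Ideal.Quotient.mk P))).prod =
      Ideal.span {Ideal.Quotient.mk P a ^ 2} := by
    rw [← hmap2, ← ht]
    exact (map_multiset_prod (Ideal.mapHom (Ideal.Quotient.mk P)) t).symm
  have hprimeS : ∀ Q ∈ s.map (Ideal.map (Ideal.Quotient.mk P)), Q.IsPrime ∧ IdInv Q := by
    intro Q hQ
    refine ⟨?_, (hS ▸ idInv_span_singleton hbar : IdInv _).of_mem_multiset hQ⟩
    obtain ⟨Q', hQ', rfl⟩ := Multiset.mem_map.mp hQ
    haveI := hsP Q' hQ'
    exact Ideal.map_isPrime_of_surjective hπ (hker.le.trans (hsle Q' hQ'))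
  have hprimeT : ∀ Q ∈ t.map (Ideal.map (Ideal.Quotient.mk P)), Q.IsPrime ∧ IdInv Q := by
    intro Q hQ
    refine ⟨?_, (hT ▸ idInv_span_singleton hbar2 : IdInv _).of_mem_multiset hQ⟩
    obtain ⟨Q', hQ', rfl⟩ := Multiset.mem_map.mp hQ
    haveI := htP Q' hQ'
    exact Ideal.map_isPrime_of_surjective hπ (hker.le.trans (htle Q' hQ'))
  have hprimeSS : ∀ Q ∈ s.map (Ideal.map (Ideal.Quotient.mk P)) +
      s.map (Ideal.map (Ideal.Quotient.mk P)), Q.IsPrime ∧ IdInv Q := by
    intro Q hQ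
    rcases Multiset.mem_add.mp hQ with h | h <;> exact hprimeS Q h
  have hprod : (s.map (Ideal.map (Ideal.Quotient.mk P)) +
      s.map (Ideal.map (Ideal.Quotient.mk P))).prod =
      (t.map (Ideal.map (Ideal.Quotient.mk P))).prod := by
    rw [Multiset.prod_add, hS, hT, Ideal.span_singleton_mul_span_singleton, sq]
  have heq := prime_fact_unique _ _ _ rfl hprimeSS hprimeT hprod
  have hcomap : ∀ (u : Multiset (Ideal D)), (∀ Q ∈ u, P ≤ Q) →
      (u.map (Ideal.map (Ideal.Quotient.mk P))).map (Ideal.comap (Ideal.Quotient.mk P)) = u := by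
    intro u hu
    rw [Multiset.map_map]
    conv_rhs => rw [← Multiset.map_id u]
    apply Multiset.map_congr rfl
    intro Q hQ
    show Ideal.comap _ (Ideal.map _ Q) = Q
    rw [Ideal.comap_map_of_surjective _ hπ, ← RingHom.ker_eq_comap_bot, hker]
    exact sup_eq_left.mpr (hu Q hQ)
  have heq2 := congrArg (Multiset.map (Ideal.comap (Ideal.Quotient.mk P))) heq
  rw [Multiset.map_add, hcomap s hsle, hcomap t htle] at heq2
  rw [← ht, ← heq2, Multiset.prod_add, hs]

theorem isMaximal_of_idInv_prime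
    (hfact : ∀ I : Ideal D, I ≠ ⊥ → ∃ s : Multiset (Ideal D), (∀ p ∈ s, p.IsPrime) ∧ s.prod = I)
    (P : Ideal D) [hP : P.IsPrime] (hinv : IdInv P) : P.IsMaximal := by
  rw [Ideal.isMaximal_iff]
  refine ⟨fun h => hP.ne_top ((Ideal.eq_top_iff_one _).mpr h), fun J a hPJ ha haJ => ?_⟩
  have hsq := sup_span_sq_of_fact hfact P a ha
  have h1 : P ≤ P * P ⊔ Ideal.span {a} := by
    calc P ≤ P ⊔ Ideal.span {a ^ 2} := le_sup_left
      _ = (P ⊔ Ideal.span {a}) * (P ⊔ Ideal.span {a}) := hsq.symm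
      _ ≤ P * P ⊔ Ideal.span {a} := by
        rw [Ideal.sup_mul, Ideal.mul_sup, Ideal.mul_sup]
        refine sup_le (sup_le le_sup_left (le_sup_of_le_right Ideal.mul_le_right))
          (le_sup_of_le_right (sup_le Ideal.mul_le_left Ideal.mul_le_right))
  have h2 : P ≤ P * (P ⊔ Ideal.span {a}) := by
    intro x hx
    obtain ⟨y, hy, z, hz, rfl⟩ := Submodule.mem_sup.mp (h1 hx)
    obtain ⟨r, rfl⟩ := Ideal.mem_span_singleton'.mp hz
    have hyP : y ∈ P := Ideal.mul_le_left hy
    have hra : r * a ∈ P := by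
      have := P.sub_mem hx hyP
      simpa using this
    have hr : r ∈ P := (hP.mem_or_mem hra).resolve_right ha
    refine Ideal.add_mem _ (Ideal.mul_mono_right le_sup_left hy) ?_
    exact Ideal.mul_mem_mul hr (Ideal.mem_sup_right (Ideal.mem_span_singleton_self a))
  have h3 : P * (P ⊔ Ideal.span {a}) = P * ⊤ := by
    rw [Ideal.mul_top]
    exact le_antisymm Ideal.mul_le_left h2
  have h4 := hinv.cancel h3
  have h5 : P ⊔ Ideal.span {a} ≤ J := sup_le hPJ ((Ideal.span_singleton_le_iff_mem _).mpr haJ)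
  rw [h4, top_le_iff] at h5
  exact (Ideal.eq_top_iff_one _).mp h5


theorem idInv_of_prime_of_fact
    (hfact : ∀ I : Ideal D, I ≠ ⊥ → ∃ s : Multiset (Ideal D), (∀ p ∈ s, p.IsPrime) ∧ s.prod = I)
    (P : Ideal D) [hP : P.IsPrime] (hne : P ≠ ⊥) : IdInv P := by
  obtain ⟨b, hbP, hb⟩ := Submodule.exists_mem_ne_zero_of_ne_bot hne
  have hne1 : Ideal.span {b} ≠ ⊥ := fun h => hb (Ideal.span_singleton_eq_bot.mp h)
  obtain ⟨s, hsP, hs⟩ := hfact _ hne1
  have hle : s.prod ≤ P := hs ▸ (Ideal.span_singleton_le_iff_mem _).mpr hbP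
  obtain ⟨Q, hQ, hQP⟩ := (hP.multiset_prod_le).mp hle
  have hQinv : IdInv Q := (hs ▸ idInv_span_singleton hb : IdInv s.prod).of_mem_multiset hQ
  haveI := hsP Q hQ
  have hQmax := isMaximal_of_idInv_prime hfact Q hQinv
  have := hQmax.eq_of_le hP.ne_top hQP
  rw [← this]; exact hQinv

theorem idInv_of_fact
    (hfact : ∀ I : Ideal D, I ≠ ⊥ → ∃ s : Multiset (Ideal D), (∀ p ∈ s, p.IsPrime) ∧ s.prod = I)
    (I : Ideal D) (hne : I ≠ ⊥) : IdInv I := by
  obtain ⟨s, hsP, hs⟩ := hfact I hne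
  rw [← hs]
  apply IdInv.multiset_prod
  intro Q hQ
  haveI := hsP Q hQ
  apply idInv_of_prime_of_fact hfact Q
  rintro rfl
  apply hne
  rw [← hs]
  exact le_bot_iff.mp (multiset_prod_le_of_mem hQ)

open FractionalIdeal nonZeroDivisors in
theorem isDedekindDomain_of_fact
    (hfact : ∀ I : Ideal D, I ≠ ⊥ → ∃ s : Multiset (Ideal D), (∀ p ∈ s, p.IsPrime) ∧ s.prod = I) :
    IsDedekindDomain D := by
  rw [isDedekindDomain_iff_mul_inv_cancel (K := FractionRing D)]
  intro I hI
  obtain ⟨a, J, ha, hJ⟩ := exists_eq_spanSingleton_mul (K := FractionRing D) I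
  have hJne : J ≠ ⊥ := by
    rintro rfl
    apply hI
    rw [hJ]
    simp
  obtain ⟨J', x, hx, hJJ'⟩ := idInv_of_fact hfact J hJne
  have hane : algebraMap D (FractionRing D) a ≠ 0 :=
    mt ((injective_iff_map_eq_zero (algebraMap D _)).mp (IsFractionRing.injective D _) _) ha
  have hxne : algebraMap D (FractionRing D) x ≠ 0 :=
    mt ((injective_iff_map_eq_zero (algebraMap D _)).mp (IsFractionRing.injective D _) _) hx
  rw [mul_inv_cancel_iff]
  refine ⟨spanSingleton D⁰ (algebraMap D (FractionRing D) a) *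
    (spanSingleton D⁰ (algebraMap D (FractionRing D) x)⁻¹ * (J' : FractionalIdeal D⁰ _)), ?_⟩
  have h1 : (J : FractionalIdeal D⁰ (FractionRing D)) * (J' : FractionalIdeal D⁰ _) =
      spanSingleton D⁰ (algebraMap D (FractionRing D) x) := by
    rw [← coeIdeal_mul, hJJ', coeIdeal_span_singleton]
  calc I * (spanSingleton D⁰ (algebraMap D (FractionRing D) a) *
        (spanSingleton D⁰ (algebraMap D (FractionRing D) x)⁻¹ * (J' : FractionalIdeal D⁰ _)))
      = (spanSingleton D⁰ (algebraMap D (FractionRing D) a)⁻¹ *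
          spanSingleton D⁰ (algebraMap D (FractionRing D) a)) *
        (spanSingleton D⁰ (algebraMap D (FractionRing D) x)⁻¹ *
          ((J : FractionalIdeal D⁰ (FractionRing D)) * (J' : FractionalIdeal D⁰ _))) := by
        rw [hJ]; ring
    _ = 1 := by
        rw [h1, spanSingleton_mul_spanSingleton, spanSingleton_mul_spanSingleton,
          inv_mul_cancel₀ hane, inv_mul_cancel₀ hxne, spanSingleton_one, one_mul]

end Groth.Agent.Helper12
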