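import Mathlib

/-!
# Base change of a surjection from a projective module is bijective iff an ideal dies (S1227)
-/

set_option autoImplicit false
universe u

namespace Groth.Agent.Helper12.ProjBC

open TensorProduct

theorem main {A : Type u} [CommRing A] {M N : Type u} [AddCommGroup M] [Module A M]
    [Module.Projective A M] [AddCommGroup N] [Module A N] (u : M →ₗ[A] N)
    (hu : Function.Surjective u) :
    ∃ I : Ideal A, ∀ (B : Type u) [CommRing B] [Algebra A B],
      Function.Bijective (u.baseChange B) ↔ I.map (algebraMap A B) = ⊥ := by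
  obtain ⟨s, hs⟩ := Module.projective_def'.mp (inferInstance : Module.Projective A M)
  refine ⟨Ideal.span {a | ∃ k ∈ LinearMap.ker u, ∃ x : M, a = s k x}, ?_⟩
  intro B _ _
  have hsurj : Function.Surjective (u.baseChange B) := by
    rw [LinearMap.baseChange_eq_ltensor]
    exact LinearMap.lTensor_surjective _ hu
  have hexp : ∀ m : M, ((s m).sum fun x a => a • x) = m := by
    intro m
    have h := LinearMap.congr_fun hs m
    simp only [LinearMap.comp_apply, LinearMap.id_apply, Finsupp.linearCombination_apply, id] at h
    exact h
  constructor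
  · intro hbij
    rw [Ideal.map_eq_bot_iff_le_ker, Ideal.span_le]
    rintro a ⟨k, hk, x, rfl⟩
    have h1 : (1 : B) ⊗ₜ[A] k = 0 := by
      apply hbij.1
      rw [LinearMap.baseChange_tmul, LinearMap.mem_ker.mp hk, tmul_zero, map_zero]
    have h2 := congrArg ((Finsupp.lapply x ∘ₗ s : M →ₗ[A] A).baseChange B) h1
    rw [LinearMap.baseChange_tmul, map_zero] at h2
    have h3 := congrArg (Algebra.TensorProduct.rid A B B) h2
    rw [Algebra.TensorProduct.rid_tmul, map_zero] at h3
    simp only [LinearMap.comp_apply, Finsupp.lapply_apply] at h3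
    show algebraMap A B (s k x) = 0
    rw [Algebra.algebraMap_eq_smul_one]
    exact h3
  · intro hI
    refine ⟨?_, hsurj⟩
    have ha0 : ∀ (k : LinearMap.ker u) (x : M), algebraMap A B (s (k : M) x) = 0 := by
      intro k x
      have hmem : s (k : M) x ∈ Ideal.span {a | ∃ k ∈ LinearMap.ker u, ∃ x : M, a = s k x} :=
        Ideal.subset_span ⟨(k : M), k.2, x, rfl⟩
      have h := Ideal.mem_map_of_mem (algebraMap A B) hmem
      rw [hI] at h
      exact h
    have hall : ∀ w : B ⊗[A] (LinearMap.ker u),
        LinearMap.lTensor B (LinearMap.ker u).subtype w = 0 := by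
      intro w
      induction w using TensorProduct.induction_on with
      | zero => rw [map_zero]
      | tmul b k =>
        rw [LinearMap.lTensor_tmul, Submodule.subtype_apply]
        conv_lhs => rw [← hexp (k : M)]
        rw [Finsupp.sum, tmul_sum]
        refine Finset.sum_eq_zero fun x _ => ?_
        rw [← smul_tmul, Algebra.smul_def, ha0 k x, zero_mul, zero_tmul]
      | add w1 w2 h1 h2 => rw [map_add, h1, h2, add_zero]
    rw [injective_iff_map_eq_zero]
    intro z hz
    have hex : Function.Exact (LinearMap.lTensor B (LinearMap.ker u).subtype)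
        (LinearMap.lTensor B u) :=
      lTensor_exact B (LinearMap.exact_subtype_ker_map u) hu
    have hz' : LinearMap.lTensor B u z = 0 := by
      rw [← LinearMap.baseChange_eq_ltensor]
      exact hz
    obtain ⟨w, rfl⟩ := (hex z).mp hz'
    exact hall w

end Groth.Agent.Helper12.ProjBC
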