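import Mathlib
import Groth.Agent.H29.RegParam

/-!
# A DVR dominating a regular local ring with purely transcendental residue field (helper12)

For a regular local ring `A` with regular system of parameters `x 0, …, x n` we consider
`A(T) = A[T_1..T_n]_{mA[T]}` and `D = A(T) / (x 0 * T_i - x i)`, a DVR with residue field
`k(T_1..T_n)`, which embeds into `Frac A` via `T_i ↦ x i / x 0`.
-/

set_option autoImplicit false
set_option linter.style.haveILetI false
set_option linter.unusedSectionVars false
universe u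

namespace Groth.Agent.Helper12.RegDVR

open IsLocalRing MvPolynomial

noncomputable section

/-- A faithfully flat algebra has at least the Krull dimension of the base (helper11's proof). -/
theorem ringKrullDim_le_of_faithfullyFlat (R S : Type*) [CommRing R] [CommRing S] [Algebra R S]
    [Module.FaithfullyFlat R S] : ringKrullDim R ≤ ringKrullDim S := by
  unfold ringKrullDim
  show (⨆ (p : LTSeries (PrimeSpectrum R)), (p.length : WithBot ℕ∞)) ≤ _
  refine iSup_le fun l => ?_
  obtain ⟨P, hP⟩ := PrimeSpectrum.comap_surjective_of_faithfullyFlat (A := R) (B := S) l.last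
  haveI : P.asIdeal.LiesOver l.last.asIdeal := ⟨by rw [← hP]; rfl⟩
  obtain ⟨L, hL, -, -⟩ := Ideal.exists_ltSeries_of_hasGoingDown l P.asIdeal
  rw [← hL]
  exact Order.LTSeries.length_le_krullDim L

/-- Simultaneous clearing of denominators. -/
theorem exists_clear {A K D : Type*} [CommRing A] [Field K] [Algebra A K] [CommRing D]
    {σ : Type*} (δ : MvPolynomial σ A →+* D) (x₀ : A) (ξ : σ → A)
    (hx₀ : algebraMap A K x₀ ≠ 0)
    (hδ : ∀ i, δ (C x₀) * δ (X i) = δ (C (ξ i))) (F : MvPolynomial σ A) :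
    ∃ (N : ℕ) (a : A),
      algebraMap A K x₀ ^ N * aeval (fun i => algebraMap A K (ξ i) / algebraMap A K x₀) F =
        algebraMap A K a ∧ δ (C x₀) ^ N * δ F = δ (C a) := by
  induction F using MvPolynomial.induction_on with
  | C a => exact ⟨0, a, by simp, by simp⟩
  | add F G hF hG =>
    obtain ⟨N1, a1, h1, h1'⟩ := hF
    obtain ⟨N2, a2, h2, h2'⟩ := hG
    refine ⟨N1 + N2, x₀ ^ N2 * a1 + x₀ ^ N1 * a2, ?_, ?_⟩
    · simp only [map_add, map_mul, map_pow]
      linear_combination (algebraMap A K x₀ ^ N2) * h1 + (algebraMap A K x₀ ^ N1) * h2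
    · simp only [map_add, map_mul, map_pow]
      linear_combination (δ (C x₀) ^ N2) * h1' + (δ (C x₀) ^ N1) * h2'
  | mul_X F i hF =>
    obtain ⟨N, a, h, h'⟩ := hF
    refine ⟨N + 1, a * ξ i, ?_, ?_⟩
    · have hx : algebraMap A K x₀ * (algebraMap A K (ξ i) / algebraMap A K x₀) =
          algebraMap A K (ξ i) := by field_simp
      simp only [map_mul, aeval_X]
      linear_combination (algebraMap A K (ξ i)) * h +
        (algebraMap A K x₀ ^ N *
          aeval (fun i => algebraMap A K (ξ i) / algebraMap A K x₀) F) * hx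
    · simp only [map_mul]
      linear_combination (δ (C (ξ i))) * h' + (δ (C x₀) ^ N * δ F) * hδ i

/-- Residue field purely transcendental from elementwise data. -/
theorem residue_pure {A V : Type u} [CommRing A] [IsLocalRing A] [CommRing V] [IsLocalRing V]
    [Algebra A V] (φ : ResidueField A →+* ResidueField V)
    (hφ : ∀ a, φ (residue A a) = residue V (algebraMap A V a))
    {n : ℕ} (t : Fin n → V)
    (R1 : ∀ F : MvPolynomial (Fin n) A, aeval t F ∈ maximalIdeal V →
      ∀ m, F.coeff m ∈ maximalIdeal A)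
    (R2 : ∀ z : V, ∃ F G : MvPolynomial (Fin n) A, aeval t G ∉ maximalIdeal V ∧
      z * aeval t G = aeval t F) :
    letI := φ.toAlgebra
    AlgebraicIndependent (ResidueField A) (fun i => residue V (t i)) ∧
      IntermediateField.adjoin (ResidueField A) (Set.range fun i => residue V (t i)) = ⊤ := by
  letI := φ.toAlgebra
  have key : ∀ F : MvPolynomial (Fin n) A,
      aeval (fun i => residue V (t i)) (MvPolynomial.map (residue A) F) =
        residue V (aeval t F) := by
    intro F
    have h : ((aeval (fun i => residue V (t i)) :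
          MvPolynomial (Fin n) (ResidueField A) →ₐ[ResidueField A] ResidueField V) :
          MvPolynomial (Fin n) (ResidueField A) →+* ResidueField V).comp
          (MvPolynomial.map (residue A)) =
        (residue V).comp ((aeval t : MvPolynomial (Fin n) A →ₐ[A] V) :
          MvPolynomial (Fin n) A →+* V) := by
      apply MvPolynomial.ringHom_ext
      · intro a
        simp only [RingHom.comp_apply, map_C, RingHom.coe_coe, aeval_C]
        rw [RingHom.algebraMap_toAlgebra, hφ]
      · intro i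
        simp only [RingHom.comp_apply, map_X, RingHom.coe_coe, aeval_X]
    exact RingHom.congr_fun h F
  constructor
  · rw [algebraicIndependent_iff]
    intro P hP
    obtain ⟨F, rfl⟩ := MvPolynomial.map_surjective (residue A) residue_surjective P
    rw [key, residue_eq_zero_iff] at hP
    have hc := R1 F hP
    ext m
    rw [coeff_map, coeff_zero, residue_eq_zero_iff]
    exact hc m
  · rw [eq_top_iff]
    intro y _
    obtain ⟨z, rfl⟩ := residue_surjective y
    obtain ⟨F, G, hG, hz⟩ := R2 z
    have hG' : residue V (aeval t G) ≠ 0 := by rwa [Ne, residue_eq_zero_iff]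
    have hmem : ∀ Q : MvPolynomial (Fin n) A, residue V (aeval t Q) ∈
        IntermediateField.adjoin (ResidueField A) (Set.range fun i => residue V (t i)) := by
      intro Q
      rw [← key]
      apply IntermediateField.algebra_adjoin_le_adjoin
      rw [Algebra.adjoin_range_eq_range_aeval]
      exact ⟨_, rfl⟩
    have hy : residue V z = residue V (aeval t F) / residue V (aeval t G) := by
      rw [eq_div_iff hG', ← map_mul, hz]
    rw [hy]
    exact div_mem (hmem F) (hmem G)

section Model

variable (A : Type u) [CommRing A] [IsLocalRing A] (n : ℕ) (x : Fin (n + 1) → A)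

/-- `𝔫 = m A[T]`. -/
def nn : Ideal (MvPolynomial (Fin n) A) := Ideal.map C (maximalIdeal A)

theorem mem_nn_iff {F : MvPolynomial (Fin n) A} :
    F ∈ nn A n ↔ ∀ m, F.coeff m ∈ maximalIdeal A := MvPolynomial.mem_map_C_iff

instance nn_isPrime : (nn A n).IsPrime := by
  have h : nn A n = RingHom.ker (MvPolynomial.map (residue A) :
      MvPolynomial (Fin n) A →+* MvPolynomial (Fin n) (ResidueField A)) := by
    rw [MvPolynomial.ker_map, ker_residue, nn]
  rw [h]
  exact RingHom.ker_isPrime _

/-- `A(T)`. -/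
abbrev Loc : Type u := Localization.AtPrime (nn A n)

/-- `x 0 * T_i - x (i+1)`. -/
def yel (i : Fin n) : MvPolynomial (Fin n) A := C (x 0) * X i - C (x i.succ)

/-- the ideal generated by the `yel`. -/
def JJ : Ideal (Loc A n) :=
  Ideal.span (Set.range fun i => algebraMap (MvPolynomial (Fin n) A) (Loc A n) (yel A n x i))

/-- the model DVR. -/
abbrev DD : Type u := Loc A n ⧸ JJ A n x

theorem algebraMap_mem_maximalIdeal_loc {a : A} (ha : a ∈ maximalIdeal A) :
    algebraMap A (Loc A n) a ∈ maximalIdeal (Loc A n) := by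
  rw [IsScalarTower.algebraMap_apply A (MvPolynomial (Fin n) A) (Loc A n),
    MvPolynomial.algebraMap_eq]
  exact (IsLocalization.AtPrime.to_map_mem_maximal_iff (Loc A n) (nn A n) (C a)).mpr
    (Ideal.mem_map_of_mem C ha)

theorem dim_le_loc : ringKrullDim A ≤ ringKrullDim (Loc A n) := by
  haveI : Module.Flat A (Loc A n) := Module.Flat.trans A (MvPolynomial (Fin n) A) (Loc A n)
  haveI : IsLocalHom (algebraMap A (Loc A n)) := ⟨fun a ha => by
    by_contra hna
    exact (mem_nonunits_iff.mp ((mem_maximalIdeal _).mp (algebraMap_mem_maximalIdeal_loc A n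
      ((mem_maximalIdeal a).mpr (mem_nonunits_iff.mpr hna))))) ha⟩
  haveI : Module.FaithfullyFlat A (Loc A n) := Module.FaithfullyFlat.of_flat_of_isLocalHom
  exact ringKrullDim_le_of_faithfullyFlat A (Loc A n)

theorem maximalIdeal_loc (hx : Ideal.span (Set.range x) = maximalIdeal A) :
    maximalIdeal (Loc A n) = Ideal.span (Set.range fun i => algebraMap A (Loc A n) (x i)) := by
  have h1 : nn A n = Ideal.span (Set.range fun i => (C (x i) : MvPolynomial (Fin n) A)) := by
    rw [nn, ← hx, Ideal.map_span, ← Set.range_comp]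
    rfl
  rw [← Localization.AtPrime.map_eq_maximalIdeal]
  have h2 : Ideal.map (algebraMap (MvPolynomial (Fin n) A) (Loc A n)) (nn A n) =
      Ideal.map (algebraMap (MvPolynomial (Fin n) A) (Loc A n))
        (Ideal.span (Set.range fun i => (C (x i) : MvPolynomial (Fin n) A))) := congrArg _ h1
  rw [h2, Ideal.map_span, ← Set.range_comp]
  have h3 : (⇑(algebraMap (MvPolynomial (Fin n) A) (Loc A n)) ∘
      fun i => (C (x i) : MvPolynomial (Fin n) A)) = fun i => algebraMap A (Loc A n) (x i) := by
    funext i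
    show algebraMap _ (Loc A n) (C (x i)) = algebraMap A (Loc A n) (x i)
    rw [IsScalarTower.algebraMap_apply A (MvPolynomial (Fin n) A) (Loc A n),
      MvPolynomial.algebraMap_eq]
  rw [h3]

local notation "𝒫" => MvPolynomial (Fin n) A
local notation "𝒟" => DD A n x

theorem model [IsNoetherianRing A] (hx : Ideal.span (Set.range x) = maximalIdeal A)
    (hdim : ringKrullDim A = ((n + 1 : ℕ) : WithBot ℕ∞)) :
    ∃ (D : Type u) (_ : CommRing D) (_ : Algebra A D) (_ : IsLocalRing D)
      (_ : IsNoetherianRing D) (δ : MvPolynomial (Fin n) A →ₐ[A] D),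
      maximalIdeal D = Ideal.span (Set.range fun i => algebraMap A D (x i)) ∧
      (1 : WithBot ℕ∞) ≤ ringKrullDim D ∧
      (∀ i, algebraMap A D (x 0) * δ (X i) = algebraMap A D (x i.succ)) ∧
      (∀ F : 𝒫, F ∉ nn A n → IsUnit (δ F)) ∧
      (∀ z : D, ∃ F G : 𝒫, G ∉ nn A n ∧ z * δ G = δ F) ∧
      (∀ (K : Type u) [Field K] [Algebra A K] (ψ : MvPolynomial (Fin n) A →ₐ[A] K),
        (∀ G : 𝒫, G ∉ nn A n → ψ G ≠ 0) → (∀ i, ψ (yel A n x i) = 0) →
        ∃ Φ : D →ₐ[A] K, ∀ F, Φ (δ F) = ψ F) := by
  classical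
  have hx0 : ∀ i, x i ∈ maximalIdeal A := fun i =>
    hx ▸ (Ideal.subset_span ⟨i, rfl⟩ : x i ∈ Ideal.span (Set.range x))
  have hyel : ∀ i, yel A n x i ∈ nn A n := fun i =>
    Ideal.sub_mem _ (Ideal.mul_mem_right _ _ (Ideal.mem_map_of_mem C (hx0 0)))
      (Ideal.mem_map_of_mem C (hx0 _))
  have hymem : ∀ i, algebraMap 𝒫 (Loc A n) (yel A n x i) ∈ maximalIdeal (Loc A n) :=
    fun i => (IsLocalization.AtPrime.to_map_mem_maximal_iff (Loc A n) (nn A n) _).mpr (hyel i)
  let y : Fin n → maximalIdeal (Loc A n) := fun i => ⟨_, hymem i⟩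
  have hJ : JJ A n x = Ideal.span (Set.range fun i => (y i : Loc A n)) := rfl
  have hne : JJ A n x ≠ ⊤ := by
    rw [hJ]; exact Groth.Agent.H29.span_range_ne_top (Loc A n) y
  haveI hloc : IsLocalRing 𝒟 :=
    Groth.Agent.H29.isLocalRing_quotient_of_ne_top (Loc A n) _ hne
  have hC : ∀ a, algebraMap 𝒫 𝒟 (C a) = algebraMap A 𝒟 a := fun a => by
    rw [IsScalarTower.algebraMap_apply A 𝒫 𝒟, MvPolynomial.algebraMap_eq]
  have hrel : ∀ i, algebraMap A 𝒟 (x 0) * algebraMap 𝒫 𝒟 (X i) = algebraMap A 𝒟 (x i.succ) := by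
    intro i
    have h0 : algebraMap 𝒫 𝒟 (yel A n x i) = 0 := by
      rw [← Ideal.Quotient.mk_algebraMap, Ideal.Quotient.eq_zero_iff_mem]
      exact Ideal.subset_span ⟨i, rfl⟩
    rw [yel, map_sub, map_mul, sub_eq_zero] at h0
    rw [← hC, ← hC]
    exact h0
  refine ⟨𝒟, inferInstance, inferInstance, hloc, inferInstance,
    IsScalarTower.toAlgHom A 𝒫 𝒟, ?_, ?_, hrel, ?_, ?_, ?_⟩
  · have hspan : Ideal.map (Ideal.Quotient.mk (JJ A n x)) (maximalIdeal (Loc A n)) =
        Ideal.span (Set.range fun i => algebraMap A 𝒟 (x i)) := by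
      rw [maximalIdeal_loc A n x hx, Ideal.map_span, ← Set.range_comp]
      rfl
    rw [← Groth.Agent.H29.map_mk_maximalIdeal (Loc A n) (JJ A n x), hspan]
  · have h1 : ringKrullDim (Loc A n) ≤ ringKrullDim 𝒟 + (n : WithBot ℕ∞) :=
      Groth.Agent.H29.ringKrullDim_le_quotient_span_range_add (Loc A n) y
    have h2 := dim_le_loc A n
    rw [hdim] at h2
    have h3 : ((1 : ℕ) : WithBot ℕ∞) + (n : WithBot ℕ∞) ≤ ringKrullDim 𝒟 + (n : WithBot ℕ∞) := by
      refine le_trans ?_ (h2.trans h1)
      rw [← Nat.cast_add, add_comm]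
    have h4 := Groth.Agent.H29.withBot_le_of_add_natCast_le n h3
    rwa [Nat.cast_one] at h4
  · intro F hF
    have h1 : IsUnit (algebraMap 𝒫 (Loc A n) F) :=
      IsLocalization.map_units (Loc A n) (⟨F, hF⟩ : (nn A n).primeCompl)
    have h2 := h1.map (Ideal.Quotient.mk (JJ A n x))
    rwa [Ideal.Quotient.mk_algebraMap] at h2
  · intro z
    obtain ⟨a', rfl⟩ := Ideal.Quotient.mk_surjective z
    obtain ⟨⟨F, G⟩, h⟩ := IsLocalization.surj (nn A n).primeCompl a'
    refine ⟨F, G.1, G.2, ?_⟩
    show _ * algebraMap 𝒫 𝒟 _ = algebraMap 𝒫 𝒟 _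
    rw [← Ideal.Quotient.mk_algebraMap, ← Ideal.Quotient.mk_algebraMap, ← map_mul]
    exact congrArg _ h
  · intro K _ _ ψ hψ hy
    have hunit' : ∀ y : (nn A n).primeCompl, IsUnit ((ψ : 𝒫 →+* K) y) :=
      fun y => (hψ y.1 y.2).isUnit
    let Ψ : Loc A n →+* K := IsLocalization.lift hunit'
    have hΨ : ∀ F, Ψ (algebraMap 𝒫 (Loc A n) F) = ψ F :=
      fun F => IsLocalization.lift_eq hunit' F
    have hJker : ∀ a ∈ JJ A n x, Ψ a = 0 := by
      intro a ha
      have hle : JJ A n x ≤ RingHom.ker Ψ := by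
        rw [JJ, Ideal.span_le]
        rintro _ ⟨i, rfl⟩
        show Ψ _ = 0
        rw [hΨ]; exact hy i
      exact hle ha
    let Φ₀ : 𝒟 →+* K := Ideal.Quotient.lift (JJ A n x) Ψ hJker
    have hΦδ : ∀ F, Φ₀ (algebraMap 𝒫 𝒟 F) = ψ F := by
      intro F
      rw [← Ideal.Quotient.mk_algebraMap]
      exact hΨ F
    refine ⟨{ Φ₀ with commutes' := fun a => ?_ }, fun F => hΦδ F⟩
    show Φ₀ (algebraMap A 𝒟 a) = algebraMap A K a
    rw [← hC, hΦδ, ← MvPolynomial.algebraMap_eq, AlgHom.commutes]

theorem main_aux [IsNoetherianRing A] [IsDomain A]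
    (hx : Ideal.span (Set.range x) = maximalIdeal A)
    (hdim : ringKrullDim A = ((n + 1 : ℕ) : WithBot ℕ∞)) :
    ∃ (V : Subalgebra A (FractionRing A)) (_ : IsDomain V) (_ : IsDiscreteValuationRing V),
      IsFractionRing V (FractionRing A) ∧
      (IsLocalRing.maximalIdeal V).comap (algebraMap A V) = IsLocalRing.maximalIdeal A ∧
      ∃ (φ : IsLocalRing.ResidueField A →+* IsLocalRing.ResidueField V),
        φ.comp (IsLocalRing.residue A) = (IsLocalRing.residue V).comp (algebraMap A V) ∧
        letI := φ.toAlgebra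
        ∃ (ι : Type u) (t : ι → IsLocalRing.ResidueField V),
          AlgebraicIndependent (IsLocalRing.ResidueField A) t ∧
          IntermediateField.adjoin (IsLocalRing.ResidueField A) (Set.range t) = ⊤ := by
  classical
  obtain ⟨D, _, _, _, _, δ, hspanD, hdimD, hrel, hunitD, hsurjD, huniv⟩ := model A n x hx hdim
  have hmD : maximalIdeal D = Ideal.span {algebraMap A D (x 0)} := by
    rw [hspanD]
    apply le_antisymm
    · rw [Ideal.span_le]
      rintro _ ⟨i, rfl⟩
      refine Fin.cases ?_ (fun j => ?_) i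
      · exact Ideal.subset_span rfl
      · show algebraMap A D (x j.succ) ∈ _
        rw [← hrel j]
        exact Ideal.mul_mem_right _ _ (Ideal.subset_span rfl)
    · rw [Ideal.span_le, Set.singleton_subset_iff]
      exact Ideal.subset_span ⟨0, rfl⟩
  -- `D` is a regular local ring of dimension one
  haveI hDreg : IsRegularLocalRing D := by
    apply IsRegularLocalRing.of_spanFinrank_maximalIdeal_le
    rw [hmD]
    refine le_trans ?_ hdimD
    have := Groth.Agent.H29.spanFinrank_span_singleton_le_one D (algebraMap A D (x 0))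
    exact_mod_cast this
  haveI : IsDomain D := Groth.Agent.H29.isDomain_of_isRegularLocalRing D
  have hDnf : ¬ IsField D := by
    intro h
    have h0 := ringKrullDim_eq_zero_of_isField h
    rw [h0] at hdimD
    exact absurd hdimD (not_le.mpr zero_lt_one)
  have hpr : (maximalIdeal D).IsPrincipal := ⟨⟨_, hmD⟩⟩
  haveI hDVR : IsDiscreteValuationRing D :=
    ((IsDiscreteValuationRing.TFAE D hDnf).out 0 4).mpr hpr
  obtain ⟨π, hπ⟩ : ∃ π : D, π = algebraMap A D (x 0) := ⟨_, rfl⟩
  rw [← hπ] at hmD hrel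
  have hπ0 : π ≠ 0 := by
    intro h
    apply hDnf
    rw [isField_iff_maximalIdeal_eq, hmD, h]
    exact Ideal.span_singleton_eq_bot.mpr rfl
  have hx00 : x 0 ≠ 0 := by
    intro h; apply hπ0; rw [hπ, h, map_zero]
  have hirr : Irreducible π := (IsDiscreteValuationRing.irreducible_iff_uniformizer π).mpr hmD
  have hK0 : algebraMap A (FractionRing A) (x 0) ≠ 0 := by
    rw [Ne, map_eq_zero_iff _ (IsFractionRing.injective A (FractionRing A))]; exact hx00
  have hδC : ∀ a, δ (C a) = algebraMap A D a := fun a => by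
    rw [← MvPolynomial.algebraMap_eq, AlgHom.commutes]
  have hδrel : ∀ i, (δ : 𝒫 →+* D) (C (x 0)) * (δ : 𝒫 →+* D) (X i) =
      (δ : 𝒫 →+* D) (C (x i.succ)) := fun i => by
    show δ _ * δ _ = δ _
    rw [hδC, hδC, ← hπ]; exact hrel i
  have hclear := exists_clear (K := FractionRing A) (δ : 𝒫 →+* D) (x 0) (fun i => x i.succ)
    hK0 hδrel
  obtain ⟨ψ, hψdef⟩ : ∃ ψ : 𝒫 →ₐ[A] FractionRing A, ψ = aeval (fun i =>
      algebraMap A (FractionRing A) (x i.succ) / algebraMap A (FractionRing A) (x 0)) :=
    ⟨_, rfl⟩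
  have hψunit : ∀ G : 𝒫, G ∉ nn A n → ψ G ≠ 0 := by
    intro G hG h0
    obtain ⟨N, a, h1, h2⟩ := hclear G
    rw [← hψdef, h0, mul_zero] at h1
    have ha : a = 0 := by
      apply IsFractionRing.injective A (FractionRing A); rw [← h1, map_zero]
    change δ (C (x 0)) ^ N * δ G = δ (C a) at h2
    rw [ha, map_zero, map_zero, (hunitD G hG).mul_left_eq_zero, hδC, ← hπ] at h2
    exact hπ0 (eq_zero_of_pow_eq_zero h2)
  have hψy : ∀ i, ψ (yel A n x i) = 0 := by
    intro i
    rw [hψdef, yel, map_sub, map_mul, aeval_C, aeval_C, aeval_X]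
    field_simp
    ring
  obtain ⟨Φ, hΦ⟩ := huniv (FractionRing A) ψ hψunit hψy
  have hΦπ : Φ π = algebraMap A (FractionRing A) (x 0) := by
    rw [hπ]; exact Φ.commutes _
  have hΦinj : Function.Injective Φ := by
    rw [injective_iff_map_eq_zero]
    intro z hz
    by_contra hz0
    obtain ⟨k, u, rfl⟩ := IsDiscreteValuationRing.eq_unit_mul_pow_irreducible hz0 hirr
    rw [map_mul, map_pow, hΦπ] at hz
    have hu : IsUnit (Φ (u : D)) := u.isUnit.map Φ
    rcases mul_eq_zero.mp hz with h | h
    · exact hu.ne_zero h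
    · exact hK0 (eq_zero_of_pow_eq_zero h)
  -- the valuation ring
  obtain ⟨V, hV⟩ : ∃ V : Subalgebra A (FractionRing A), V = Φ.range := ⟨_, rfl⟩
  obtain ⟨e⟩ : Nonempty (D ≃ₐ[A] V) := ⟨hV ▸ AlgEquiv.ofInjective Φ hΦinj⟩
  haveI hVdvr : IsDiscreteValuationRing V := IsDiscreteValuationRing.RingEquivClass.isDiscreteValuationRing e
  have hlocD : ∀ a ∈ maximalIdeal A, algebraMap A D a ∈ maximalIdeal D := by
    intro a ha
    rw [hmD]
    rw [← hx] at ha
    refine Submodule.span_induction ?_ ?_ ?_ ?_ ha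
    · rintro _ ⟨i, rfl⟩
      refine Fin.cases ?_ (fun j => ?_) i
      · rw [← hπ]; exact Ideal.subset_span rfl
      · rw [← hrel j]; exact Ideal.mul_mem_right _ _ (Ideal.subset_span rfl)
    · rw [map_zero]; exact Ideal.zero_mem _
    · intro a b _ _ ha hb; rw [map_add]; exact Ideal.add_mem _ ha hb
    · intro c a _ ha; rw [smul_eq_mul, map_mul]; exact Ideal.mul_mem_left _ _ ha
  have hmV : ∀ z : D, e z ∈ maximalIdeal V ↔ z ∈ maximalIdeal D := by
    intro z
    rw [mem_maximalIdeal, mem_maximalIdeal, mem_nonunits_iff, mem_nonunits_iff,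
      isUnit_map_iff e z]
  have hlocV : ∀ a ∈ maximalIdeal A, algebraMap A V a ∈ maximalIdeal V := by
    intro a ha
    rw [← e.commutes a, hmV]
    exact hlocD a ha
  refine ⟨V, inferInstance, hVdvr, ?_, ?_, ?_⟩
  · haveI : FaithfulSMul V (FractionRing A) :=
      (faithfulSMul_iff_algebraMap_injective V (FractionRing A)).mpr Subtype.val_injective
    apply IsFractionRing.of_field
    intro z
    obtain ⟨a, b, _, rfl⟩ := IsFractionRing.div_surjective A z
    exact ⟨algebraMap A V a, algebraMap A V b, rfl⟩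
  · apply le_antisymm
    · exact IsLocalRing.le_maximalIdeal (Ideal.comap_ne_top _ (maximalIdeal.isMaximal V).ne_top)
    · intro a ha
      rw [Ideal.mem_comap]
      exact hlocV a ha
  · have hker : ∀ a ∈ maximalIdeal A, ((residue V).comp (algebraMap A V)) a = 0 := by
      intro a ha
      rw [RingHom.comp_apply, residue_eq_zero_iff]
      exact hlocV a ha
    obtain ⟨φ, hφ⟩ : ∃ φ : ResidueField A →+* ResidueField V,
        ∀ a, φ (residue A a) = residue V (algebraMap A V a) :=
      ⟨Ideal.Quotient.lift (maximalIdeal A) ((residue V).comp (algebraMap A V)) hker,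
        fun a => rfl⟩
    refine ⟨φ, RingHom.ext hφ, ?_⟩
    letI := φ.toAlgebra
    obtain ⟨tV, htV⟩ : ∃ tV : Fin n → V, tV = fun i => e (δ (X i)) := ⟨_, rfl⟩
    have haevalD : ∀ F : 𝒫, aeval (fun i => δ (X i)) F = δ F := by
      intro F
      have h1 : δ = aeval (fun i => δ (X i)) := aeval_unique δ
      exact (AlgHom.congr_fun h1 F).symm
    have haevalV : ∀ F : 𝒫, aeval tV F = e (δ F) := by
      intro F
      rw [← haevalD, htV]
      exact (MvPolynomial.comp_aeval_apply (fun i => δ (X i)) (e : D →ₐ[A] V) F).symm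
    have R1 : ∀ F : 𝒫, aeval tV F ∈ maximalIdeal V → ∀ m, F.coeff m ∈ maximalIdeal A := by
      intro F hF
      rw [haevalV, hmV] at hF
      by_contra hcon
      have hFn : F ∉ nn A n := fun h => hcon ((mem_nn_iff A n).mp h)
      exact (mem_nonunits_iff.mp ((mem_maximalIdeal _).mp hF)) (hunitD F hFn)
    have R2 : ∀ z : V, ∃ F G : 𝒫, aeval tV G ∉ maximalIdeal V ∧
        z * aeval tV G = aeval tV F := by
      intro z
      obtain ⟨F, G, hG, h⟩ := hsurjD (e.symm z)
      refine ⟨F, G, ?_, ?_⟩
      · rw [haevalV, hmV]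
        intro hmem
        exact (mem_nonunits_iff.mp ((mem_maximalIdeal _).mp hmem)) (hunitD G hG)
      · rw [haevalV, haevalV]
        have h' := congrArg e h
        rw [map_mul, AlgEquiv.apply_symm_apply] at h'
        exact h'
    have hres := residue_pure φ hφ tV R1 R2
    refine ⟨ULift.{u} (Fin n), fun i => residue V (tV i.down), ?_, ?_⟩
    · exact hres.1.comp ULift.down ULift.down_injective
    · have hr : Set.range (fun i : ULift.{u} (Fin n) => residue V (tV i.down)) =
          Set.range (fun i => residue V (tV i)) :=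
        ULift.down_surjective.range_comp (fun i => residue V (tV i))
      rw [hr]; exact hres.2

end Model

/-- Main theorem. -/
theorem main (A : Type u) [CommRing A] [hA : IsRegularLocalRing A] (hnf : ¬ IsField A) :
    ∃ (V : Subalgebra A (FractionRing A)) (_ : IsDomain V) (_ : IsDiscreteValuationRing V),
      IsFractionRing V (FractionRing A) ∧
      (IsLocalRing.maximalIdeal V).comap (algebraMap A V) = IsLocalRing.maximalIdeal A ∧
      ∃ (φ : IsLocalRing.ResidueField A →+* IsLocalRing.ResidueField V),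
        φ.comp (IsLocalRing.residue A) = (IsLocalRing.residue V).comp (algebraMap A V) ∧
        letI := φ.toAlgebra
        ∃ (ι : Type u) (t : ι → IsLocalRing.ResidueField V),
          AlgebraicIndependent (IsLocalRing.ResidueField A) t ∧
          IntermediateField.adjoin (IsLocalRing.ResidueField A) (Set.range t) = ⊤ := by
  classical
  haveI : IsDomain A := Groth.Agent.H29.isDomain_of_isRegularLocalRing A
  obtain ⟨T, hTcard, hTspan⟩ := Submodule.FG.exists_span_finset_card_eq_spanFinrank
    (IsNoetherian.noetherian (maximalIdeal A))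
  have hreg := hA.spanFinrank_maximalIdeal
  have hmne : maximalIdeal A ≠ ⊥ := fun h => hnf (isField_iff_maximalIdeal_eq.mpr h)
  have hpos : (maximalIdeal A).spanFinrank ≠ 0 := by
    intro h0
    apply hmne
    rw [← hTspan]
    have : T = ∅ := Finset.card_eq_zero.mp (hTcard.trans h0)
    rw [this]; simp
  obtain ⟨n, hn⟩ := Nat.exists_eq_succ_of_ne_zero hpos
  have hTn : T.card = n + 1 := hTcard.trans hn
  obtain ⟨eT⟩ : Nonempty (Fin (n + 1) ≃ T) := ⟨(T.equivFinOfCardEq hTn).symm⟩
  have hx : Ideal.span (Set.range fun i => (eT i : A)) = maximalIdeal A := by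
    rw [← hTspan]
    show Submodule.span A (Set.range fun i => (eT i : A)) = Submodule.span A (T : Set A)
    congr 1
    ext a
    constructor
    · rintro ⟨i, rfl⟩; exact (eT i).2
    · intro ha; exact ⟨eT.symm ⟨a, ha⟩, by simp⟩
  have hdim : ringKrullDim A = ((n + 1 : ℕ) : WithBot ℕ∞) := by rw [← hreg, hn]
  exact main_aux A n (fun i => (eT i : A)) hx hdim

end

end Groth.Agent.Helper12.RegDVR
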