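import Mathlib
import Groth.Agent.S9285

/-!
Rings in which every proper finitely generated ideal has a nonzero annihilator:
injective maps between finite projective modules split.
-/

namespace Groth.Agent.Helper12

universe u

/-- `N` has the retraction property: every injective map from `N` into a finite projective module
splits. -/
def HasRetr (R : Type u) [CommRing R] (N : Type u) [AddCommGroup N] [Module R N] : Prop :=
  ∀ (M : Type u) [AddCommGroup M] [Module R M] [Module.Finite R M] [Module.Projective R M]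
    (u : N →ₗ[R] M), Function.Injective u → ∃ v : M →ₗ[R] N, v.comp u = LinearMap.id

variable {R : Type u} [CommRing R]

lemma hasRetr_self (hP : ∀ I : Ideal R, I.FG → I ≠ ⊤ → I.annihilator ≠ ⊥) : HasRetr R R := by
  intro M _ _ _ _ u hu
  obtain ⟨n, f, g, -, hg, hfg⟩ := Module.Finite.exists_comp_eq_id_of_projective R M
  have hinj : Function.Injective (g.comp u) := by
    rw [LinearMap.coe_comp]
    exact hg.comp hu
  obtain ⟨v₀, hv₀⟩ := (Groth.Agent.S9285.result R).mp hP n (g.comp u) hinj
  exact ⟨v₀.comp g, by rw [LinearMap.comp_assoc]; exact hv₀⟩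

lemma HasRetr.prod {N₁ N₂ : Type u} [AddCommGroup N₁] [Module R N₁] [AddCommGroup N₂] [Module R N₂]
    (h₁ : HasRetr R N₁) (h₂ : HasRetr R N₂) : HasRetr R (N₁ × N₂) := by
  intro M _ _ _ _ u hu
  have hu₁inj : Function.Injective (u.comp (LinearMap.inl R N₁ N₂)) := by
    rw [LinearMap.coe_comp]
    exact hu.comp LinearMap.inl_injective
  obtain ⟨v₁, hv₁⟩ := h₁ M (u.comp (LinearMap.inl R N₁ N₂)) hu₁inj
  have hv₁' : ∀ x, v₁ (u (x, 0)) = x := fun x => LinearMap.congr_fun hv₁ x
  have hsplit : ∀ x y, u (x, y) = u (x, 0) + u (0, y) := by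
    intro x y
    rw [← map_add, Prod.mk_add_mk, add_zero, zero_add]
  -- the map `w y = u (0,y) - u (v₁ (u (0,y)), 0)` is injective
  let w : N₂ →ₗ[R] M :=
    (LinearMap.id - (u.comp (LinearMap.inl R N₁ N₂)).comp v₁).comp (u.comp (LinearMap.inr R N₁ N₂))
  have hw : ∀ y, w y = u (0, y) - u (v₁ (u (0, y)), 0) := fun y => rfl
  have hwinj : Function.Injective w := by
    rw [injective_iff_map_eq_zero]
    intro y hy
    have h0 : u (-(v₁ (u (0, y))), y) = 0 := by
      rw [hsplit, ← hy, hw]
      have : u (-(v₁ (u (0, y))), 0) = - u (v₁ (u (0, y)), 0) := by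
        rw [← map_neg u, Prod.neg_mk, neg_zero]
      rw [this]
      abel
    have h1 := hu (h0.trans (map_zero u).symm)
    exact (Prod.ext_iff.mp h1).2
  obtain ⟨r, hr⟩ := h₂ M w hwinj
  have hr' : ∀ y, r (w y) = y := fun y => LinearMap.congr_fun hr y
  -- `q m = m - u (v₁ m, 0)`
  let q : M →ₗ[R] M := LinearMap.id - (u.comp (LinearMap.inl R N₁ N₂)).comp v₁
  have hq : ∀ m, q m = m - u (v₁ m, 0) := fun m => rfl
  have hqw : ∀ x y, q (u (x, y)) = w y := by
    intro x y
    rw [hq, hw, hsplit x y, map_add, hv₁']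
    have : u (x + v₁ (u (0, y)), 0) = u (x, 0) + u (v₁ (u (0, y)), 0) := by
      rw [← map_add, Prod.mk_add_mk, add_zero]
    rw [this]
    abel
  refine ⟨LinearMap.prod (v₁ - (v₁.comp (u.comp (LinearMap.inr R N₁ N₂))).comp (r.comp q))
    (r.comp q), ?_⟩
  refine LinearMap.ext fun z => ?_
  obtain ⟨x, y⟩ := z
  have h2 : r (q (u (x, y))) = y := by rw [hqw, hr']
  refine Prod.ext ?_ ?_
  · change v₁ (u (x, y)) - v₁ (u (0, r (q (u (x, y))))) = x
    rw [h2, hsplit x y, map_add, hv₁']
    abel
  · exact h2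

lemma HasRetr.of_split {N N' : Type u} [AddCommGroup N] [Module R N] [AddCommGroup N'] [Module R N']
    [Module.Finite R N] [Module.Projective R N] (h : HasRetr R N)
    (i : N' →ₗ[R] N) (s : N →ₗ[R] N') (H : s.comp i = LinearMap.id) : HasRetr R N' := by
  intro M _ _ _ _ u' hu'
  have Hs : ∀ x, s (i x) = x := fun x => LinearMap.congr_fun H x
  let U : N →ₗ[R] M × N := LinearMap.prod (u'.comp s) (LinearMap.id - i.comp s)
  have hU : ∀ n, U n = (u' (s n), n - i (s n)) := fun n => rfl
  have hUinj : Function.Injective U := by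
    rw [injective_iff_map_eq_zero]
    intro n hn
    rw [hU] at hn
    have h1 : u' (s n) = 0 := congrArg Prod.fst hn
    have h2 : n - i (s n) = 0 := congrArg Prod.snd hn
    have h3 : s n = 0 := hu' (h1.trans (map_zero u').symm)
    rw [h3, map_zero, sub_zero] at h2
    exact h2
  obtain ⟨V, hV⟩ := h (M × N) U hUinj
  have hV' : ∀ n, V (U n) = n := fun n => LinearMap.congr_fun hV n
  refine ⟨s.comp (V.comp (LinearMap.inl R M N)), ?_⟩
  refine LinearMap.ext fun n' => ?_
  have hUi : U (i n') = (u' n', 0) := by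
    rw [hU, Hs, sub_self]
  simp only [LinearMap.comp_apply, LinearMap.id_apply, LinearMap.inl_apply]
  rw [← hUi, hV', Hs]

lemma hasRetr_fin (hP : ∀ I : Ideal R, I.FG → I ≠ ⊤ → I.annihilator ≠ ⊥) :
    ∀ a : ℕ, HasRetr R (Fin a → R)
  | 0 => by
    intro M _ _ _ _ u hu
    exact ⟨0, LinearMap.ext fun x => Subsingleton.elim _ _⟩
  | a + 1 => by
    have h := (hasRetr_self hP).prod (hasRetr_fin hP a)
    exact h.of_split ((Fin.consLinearEquiv R (fun _ : Fin (a + 1) => R)).symm : _ →ₗ[R] _)
      ((Fin.consLinearEquiv R (fun _ : Fin (a + 1) => R)) : _ →ₗ[R] _)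
      (LinearMap.ext fun x =>
        (Fin.consLinearEquiv R (fun _ : Fin (a + 1) => R)).apply_symm_apply x)

lemma hasRetr_of_finite_projective (hP : ∀ I : Ideal R, I.FG → I ≠ ⊤ → I.annihilator ≠ ⊥)
    (N : Type u) [AddCommGroup N] [Module R N] [Module.Finite R N] [Module.Projective R N] :
    HasRetr R N := by
  obtain ⟨n, f, g, -, -, hfg⟩ := Module.Finite.exists_comp_eq_id_of_projective R N
  exact (hasRetr_fin hP n).of_split g f hfg

/-- The cokernel of a split injection into a projective module is projective. -/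
lemma projective_coker_of_retraction {N M : Type u} [AddCommGroup N] [Module R N]
    [AddCommGroup M] [Module R M] [Module.Projective R M] (u : N →ₗ[R] M) (v : M →ₗ[R] N)
    (hv : v.comp u = LinearMap.id) : Module.Projective R (M ⧸ LinearMap.range u) := by
  have hv' : ∀ n, v (u n) = n := fun n => LinearMap.congr_fun hv n
  let i : (M ⧸ LinearMap.range u) →ₗ[R] M :=
    (LinearMap.range u).liftQ (LinearMap.id - u.comp v) (by
      rintro _ ⟨n, rfl⟩
      simp [hv'])
  refine Module.Projective.of_split i (LinearMap.range u).mkQ ?_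
  refine Submodule.linearMap_qext _ (LinearMap.ext fun m => ?_)
  simp only [LinearMap.comp_apply, Submodule.mkQ_apply, LinearMap.id_apply, i,
    Submodule.liftQ_apply, LinearMap.sub_apply]
  rw [Submodule.Quotient.mk_sub, sub_eq_self, Submodule.Quotient.mk_eq_zero]
  exact ⟨v m, rfl⟩

end Groth.Agent.Helper12
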