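import Mathlib

/-!
# The ring `A[X_P]/(P(X_P))` : surjective on spectra, algebraically closed residue fields (S16572)
-/

set_option autoImplicit false
universe u

namespace Groth.Agent.Helper12.RootCover

variable (A : Type u) [CommRing A]

/-- index type: monic polynomials of positive degree -/
abbrev Idx := {P : Polynomial A // P.Monic ∧ 0 < P.natDegree}

/-- the ideal of relations -/
noncomputable abbrev J : Ideal (MvPolynomial (Idx A) A) :=
  Ideal.span (Set.range fun P : Idx A => Polynomial.aeval (MvPolynomial.X (R := A) P) P.1)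

/-- the ring -/
abbrev T := MvPolynomial (Idx A) A ⧸ J A

/-- the tautological root -/
noncomputable def x (P : Idx A) : T A := Ideal.Quotient.mk (J A) (MvPolynomial.X P)

theorem aeval_x (P : Idx A) : Polynomial.aeval (x A P) P.1 = 0 := by
  have h := Polynomial.aeval_algHom_apply (Ideal.Quotient.mkₐ A (J A))
    (MvPolynomial.X (R := A) P) P.1
  show Polynomial.aeval (Ideal.Quotient.mkₐ A (J A) (MvPolynomial.X P)) P.1 = 0
  rw [h]
  exact Ideal.Quotient.eq_zero_iff_mem.mpr (Ideal.subset_span ⟨P, rfl⟩)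

theorem isIntegral_x (P : Idx A) : IsIntegral A (x A P) :=
  ⟨P.1, P.2.1, by rw [← Polynomial.aeval_def]; exact aeval_x A P⟩

theorem isIntegral_mk (f : MvPolynomial (Idx A) A) :
    IsIntegral A (Ideal.Quotient.mk (J A) f) := by
  refine MvPolynomial.induction_on
    (motive := fun f => IsIntegral A (Ideal.Quotient.mk (J A) f)) f (fun a => ?_) (fun p q hp hq => ?_) (fun p n hp => ?_)
  · show IsIntegral A (algebraMap A (T A) a)
    exact isIntegral_algebraMap
  · rw [map_add]; exact hp.add hq
  · rw [map_mul]; exact hp.mul (isIntegral_x A n)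

theorem isIntegral_T (t : T A) : IsIntegral A t := by
  obtain ⟨f, rfl⟩ := Ideal.Quotient.mk_surjective t
  exact isIntegral_mk A f

theorem surj : Function.Surjective (PrimeSpectrum.comap (algebraMap A (T A))) := by
  intro p
  classical
  have hroot : ∀ P : Idx A, ∃ z : AlgebraicClosure p.asIdeal.ResidueField,
      Polynomial.aeval z P.1 = 0 := by
    intro P
    have hdeg : 0 < (P.1.map (algebraMap A (AlgebraicClosure p.asIdeal.ResidueField))).degree := by
      rw [← Polynomial.natDegree_pos_iff_degree_pos, P.2.1.natDegree_map]; exact P.2.2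
    obtain ⟨z, hz⟩ := IsAlgClosed.exists_root _ hdeg.ne'
    refine ⟨z, ?_⟩
    rw [Polynomial.aeval_def, Polynomial.eval₂_eq_eval_map]; exact hz
  choose ρ hρ using hroot
  have hJ : ∀ a ∈ J A, (MvPolynomial.aeval ρ : MvPolynomial (Idx A) A →ₐ[A]
      AlgebraicClosure p.asIdeal.ResidueField) a = 0 := by
    intro a ha
    have hle : J A ≤ RingHom.ker (MvPolynomial.aeval ρ : MvPolynomial (Idx A) A →ₐ[A]
        AlgebraicClosure p.asIdeal.ResidueField).toRingHom := by
      rw [Ideal.span_le]
      rintro _ ⟨P, rfl⟩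
      show (MvPolynomial.aeval ρ : MvPolynomial (Idx A) A →ₐ[A]
        AlgebraicClosure p.asIdeal.ResidueField)
          (Polynomial.aeval (MvPolynomial.X (R := A) P) P.1) = 0
      rw [← Polynomial.aeval_algHom_apply, MvPolynomial.aeval_X]
      exact hρ P
    exact hle ha
  refine ⟨⟨RingHom.ker (Ideal.Quotient.liftₐ (J A) (MvPolynomial.aeval ρ) hJ).toRingHom,
    RingHom.ker_isPrime _⟩, ?_⟩
  apply PrimeSpectrum.ext
  ext a
  show algebraMap A (T A) a ∈
    RingHom.ker (Ideal.Quotient.liftₐ (J A) (MvPolynomial.aeval ρ) hJ).toRingHom ↔ a ∈ p.asIdeal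
  rw [RingHom.mem_ker]
  show (Ideal.Quotient.liftₐ (J A) (MvPolynomial.aeval ρ) hJ) (algebraMap A (T A) a) = 0 ↔ _
  rw [AlgHom.commutes, IsScalarTower.algebraMap_apply A p.asIdeal.ResidueField
    (AlgebraicClosure p.asIdeal.ResidueField),
    map_eq_zero_iff _ (algebraMap p.asIdeal.ResidueField
      (AlgebraicClosure p.asIdeal.ResidueField)).injective,
    Ideal.algebraMap_residueField_eq_zero]

section Part2

variable (Q : Ideal (T A)) [Q.IsPrime]

/-- the contraction -/
noncomputable abbrev pQ : Ideal A := Q.comap (algebraMap A (T A))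

/-- the residue field map -/
noncomputable abbrev φ : (pQ A Q).ResidueField →+* Q.ResidueField :=
  Ideal.ResidueField.map (pQ A Q) Q (algebraMap A (T A)) rfl

theorem φ_comp : (φ A Q).comp (algebraMap A (pQ A Q).ResidueField) =
    (algebraMap (T A) Q.ResidueField).comp (algebraMap A (T A)) := by
  ext a
  simp only [RingHom.comp_apply]
  exact Ideal.ResidueField.map_algebraMap _ _ _ _ a

theorem isIntegralElem_algebraMap (t : T A) :
    (φ A Q).IsIntegralElem (algebraMap (T A) Q.ResidueField t) := by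
  obtain ⟨P, hP, hPt⟩ := isIntegral_T A t
  refine ⟨P.map (algebraMap A (pQ A Q).ResidueField), hP.map _, ?_⟩
  rw [Polynomial.eval₂_map, φ_comp, ← Polynomial.hom_eval₂, hPt, map_zero]

theorem isIntegral_φ : (φ A Q).IsIntegral := by
  intro z
  letI : Algebra (pQ A Q).ResidueField Q.ResidueField := (φ A Q).toAlgebra
  show IsIntegral (pQ A Q).ResidueField z
  obtain ⟨a, b, hb, rfl⟩ := IsFractionRing.div_surjective (A := T A ⧸ Q) (K := Q.ResidueField) z
  obtain ⟨ta, rfl⟩ := Ideal.Quotient.mk_surjective a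
  obtain ⟨tb, rfl⟩ := Ideal.Quotient.mk_surjective b
  show IsIntegral (pQ A Q).ResidueField
    (algebraMap (T A) Q.ResidueField ta / algebraMap (T A) Q.ResidueField tb)
  have ha : IsIntegral (pQ A Q).ResidueField (algebraMap (T A) Q.ResidueField ta) :=
    isIntegralElem_algebraMap A Q ta
  have hb' : IsIntegral (pQ A Q).ResidueField (algebraMap (T A) Q.ResidueField tb) :=
    isIntegralElem_algebraMap A Q tb
  rw [div_eq_mul_inv]
  exact ha.mul (hb'.isAlgebraic.inv).isIntegral

theorem isAlgClosed : IsAlgClosed Q.ResidueField := by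
  letI : Algebra (pQ A Q).ResidueField Q.ResidueField := (φ A Q).toAlgebra
  haveI : Algebra.IsAlgebraic (pQ A Q).ResidueField Q.ResidueField := ⟨fun z => by
    have hz : IsIntegral (pQ A Q).ResidueField z := isIntegral_φ A Q z
    exact hz.isAlgebraic⟩
  have key : ∀ f : Polynomial (pQ A Q).ResidueField, f.Monic → Irreducible f →
      ∃ z : Q.ResidueField, Polynomial.aeval z f = 0 := by
    intro f hf hirr
    obtain ⟨c, hlift⟩ : ∃ c : nonZeroDivisors (A ⧸ pQ A Q),
        f.scaleRoots (algebraMap (A ⧸ pQ A Q) (pQ A Q).ResidueField c) ∈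
          Polynomial.lifts (algebraMap (A ⧸ pQ A Q) (pQ A Q).ResidueField) :=
      ⟨_, IsLocalization.scaleRoots_commonDenom_mem_lifts (nonZeroDivisors (A ⧸ pQ A Q)) f
        (by rw [hf.leadingCoeff]; exact ⟨1, map_one _⟩)⟩
    obtain ⟨σ, hσ⟩ : ∃ σ, σ = algebraMap (A ⧸ pQ A Q) (pQ A Q).ResidueField c := ⟨_, rfl⟩
    rw [← hσ] at hlift
    have hmon : (f.scaleRoots σ).Monic := (Polynomial.monic_scaleRoots_iff σ).mpr hf
    obtain ⟨G₀, hG₀, hG₀deg, hG₀mon⟩ := Polynomial.lifts_and_natDegree_eq_and_monic hlift hmon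
    obtain ⟨G', hG'⟩ := Polynomial.map_surjective (Ideal.Quotient.mk (pQ A Q))
      Ideal.Quotient.mk_surjective G₀
    obtain ⟨G, hG, hGdeg, hGmon⟩ := Polynomial.lifts_and_natDegree_eq_and_monic
      ((Polynomial.mem_lifts _).mpr ⟨G', hG'⟩) hG₀mon
    have hGpos : 0 < G.natDegree := by
      rw [hGdeg, hG₀deg, Polynomial.natDegree_scaleRoots]; exact hirr.natDegree_pos
    obtain ⟨PG, hPG⟩ : ∃ PG : Idx A, PG.1 = G := ⟨⟨G, hGmon, hGpos⟩, rfl⟩
    have hgG : f.scaleRoots σ = G.map (algebraMap A (pQ A Q).ResidueField) := by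
      rw [← hG₀, ← hG, Polynomial.map_map]
      congr 1
    have hx0 : Polynomial.aeval (x A PG) G = 0 := by
      have h := aeval_x A PG
      rwa [hPG] at h
    have hξ0 : Polynomial.eval₂ (φ A Q) (algebraMap (T A) Q.ResidueField (x A PG))
        (f.scaleRoots σ) = 0 := by
      rw [hgG, Polynomial.eval₂_map, φ_comp, ← Polynomial.hom_eval₂, ← Polynomial.aeval_def,
        hx0, map_zero]
    have hσ0 : σ ≠ 0 := by
      rw [hσ]
      exact (map_ne_zero_iff _ (IsFractionRing.injective (A ⧸ pQ A Q)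
        (pQ A Q).ResidueField)).mpr (nonZeroDivisors.ne_zero c.2)
    have hφσ : φ A Q σ ≠ 0 := (map_ne_zero_iff _ (φ A Q).injective).mpr hσ0
    refine ⟨algebraMap (T A) Q.ResidueField (x A PG) / φ A Q σ, ?_⟩
    have h := Polynomial.scaleRoots_eval₂_mul (p := f) (φ A Q)
      (algebraMap (T A) Q.ResidueField (x A PG) / φ A Q σ) σ
    have e : φ A Q σ * (algebraMap (T A) Q.ResidueField (x A PG) / φ A Q σ) =
        algebraMap (T A) Q.ResidueField (x A PG) := by field_simp
    rw [e, hξ0] at h
    have h2 := (mul_eq_zero.mp h.symm).resolve_left (pow_ne_zero _ hφσ)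
    rw [Polynomial.aeval_def]
    exact h2
  exact (IsAlgClosure.of_exists_root key).isAlgClosed

end Part2

theorem main (A : Type u) [CommRing A] :
    Function.Surjective (PrimeSpectrum.comap (algebraMap A (MvPolynomial {P : Polynomial A // P.Monic ∧ 0 < P.natDegree} A ⧸
      Ideal.span (Set.range fun P : {P : Polynomial A // P.Monic ∧ 0 < P.natDegree} =>
        Polynomial.aeval (MvPolynomial.X (R := A) P) P.1)))) ∧
    ∀ (Q : Ideal (MvPolynomial {P : Polynomial A // P.Monic ∧ 0 < P.natDegree} A ⧸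
      Ideal.span (Set.range fun P : {P : Polynomial A // P.Monic ∧ 0 < P.natDegree} =>
        Polynomial.aeval (MvPolynomial.X (R := A) P) P.1))) [Q.IsPrime],
      IsAlgClosed Q.ResidueField ∧
      (Ideal.ResidueField.map (Q.comap (algebraMap A (MvPolynomial {P : Polynomial A // P.Monic ∧ 0 < P.natDegree} A ⧸
      Ideal.span (Set.range fun P : {P : Polynomial A // P.Monic ∧ 0 < P.natDegree} =>
        Polynomial.aeval (MvPolynomial.X (R := A) P) P.1)))) Q (algebraMap A (MvPolynomial {P : Polynomial A // P.Monic ∧ 0 < P.natDegree} A ⧸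
      Ideal.span (Set.range fun P : {P : Polynomial A // P.Monic ∧ 0 < P.natDegree} =>
        Polynomial.aeval (MvPolynomial.X (R := A) P) P.1))) rfl).IsIntegral :=
  ⟨surj A, fun Q _ => ⟨isAlgClosed A Q, isIntegral_φ A Q⟩⟩

end Groth.Agent.Helper12.RootCover
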