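import Mathlib

/-!
Polynomial paths in `SL_n` over a field: every element of `SL_n(K)` is joined to `1` by a path in
`SL_n(K[y])`.
-/

open Matrix Matrix.SpecialLinearGroup Polynomial

namespace Groth.Agent.Helper12

variable {K : Type*} [Field K] {ι : Type*} [Fintype ι] [DecidableEq ι]

lemma diag2n_decompose {i j : ι} (hij : i ≠ j) (a : K) (ha : a ≠ 0) :
    diag2n hij a ha = transvection hij a * transvection hij.symm (-a⁻¹) * transvection hij a *
      transvection hij (-1) * transvection hij.symm 1 * transvection hij (-1) := by
  have hji : j ≠ i := hij.symm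
  ext k l
  simp only [Matrix.SpecialLinearGroup.coe_mul, Matrix.SpecialLinearGroup.transvection_coe,
    Matrix.SpecialLinearGroup.diag2n_coe]
  simp only [mul_add, add_mul, mul_one, one_mul, single_mul_single_same,
    single_mul_single_of_ne _ _ _ _ hij, single_mul_single_of_ne _ _ _ _ hij.symm,
    Matrix.add_apply, Matrix.zero_apply, single_apply, one_apply, diagonal_apply]
  simp only [zero_mul, Matrix.zero_apply, add_zero, zero_add]
  by_cases hki : k = i
  · subst hki
    by_cases hlk : l = k
    · subst hlk
      simp [hij, hji]
      field_simp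
      ring
    · by_cases hlj : l = j
      · subst hlj
        simp [hij, hji, hlk, Ne.symm hlk]
        field_simp
        ring
      · simp [hij, hji, hlk, hlj, Ne.symm hlk, Ne.symm hlj]
  · by_cases hkj : k = j
    · subst hkj
      by_cases hli : l = i
      · subst hli
        simp [hij, hji]
        field_simp
        ring
      · by_cases hlk : l = k
        · subst hlk
          simp [hij, hji]
          field_simp
          ring
        · simp [hij, hji, hli, hlk, Ne.symm hli, Ne.symm hlk]
    · simp [hki, hkj, Ne.symm hki, Ne.symm hkj]

/-- `A` is joined to `1` by a polynomial path in `SL`. -/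
def HasPolyPath (A : SpecialLinearGroup ι K) : Prop :=
  ∃ M : SpecialLinearGroup ι K[X],
    SpecialLinearGroup.map (evalRingHom (0 : K)) M = 1 ∧
    SpecialLinearGroup.map (evalRingHom (1 : K)) M = A

lemma map_transvection {R S : Type*} [CommRing R] [CommRing S] (f : R →+* S) {i j : ι}
    (hij : i ≠ j) (b : R) :
    SpecialLinearGroup.map f (transvection hij b) = transvection hij (f b) := by
  apply Subtype.ext
  ext k l
  simp [transvection_coe, single_apply, one_apply, apply_ite f]

lemma hasPolyPath_transvection {i j : ι} (hij : i ≠ j) (a : K) :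
    HasPolyPath (transvection hij a) := by
  refine ⟨transvection hij (C a * X), ?_, ?_⟩
  · rw [map_transvection]
    simp [transvection_coeff_zero]
  · rw [map_transvection]
    simp

lemma HasPolyPath.mul {A B : SpecialLinearGroup ι K} (hA : HasPolyPath A) (hB : HasPolyPath B) :
    HasPolyPath (A * B) := by
  obtain ⟨M, hM0, hM1⟩ := hA
  obtain ⟨N, hN0, hN1⟩ := hB
  exact ⟨M * N, by rw [map_mul, hM0, hN0, one_mul], by rw [map_mul, hM1, hN1]⟩

theorem hasPolyPath [Nontrivial ι] (A : SpecialLinearGroup ι K) : HasPolyPath A := by
  refine diagonal_transvection_induction' HasPolyPath A (fun i j hij c hc => ?_)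
    (fun i j hij a => hasPolyPath_transvection hij a) (fun A B hA hB => hA.mul hB)
  rw [diag2n_decompose hij c hc]
  refine HasPolyPath.mul (HasPolyPath.mul (HasPolyPath.mul (HasPolyPath.mul (HasPolyPath.mul ?_ ?_)
    ?_) ?_) ?_) ?_
  all_goals exact hasPolyPath_transvection _ _

end Groth.Agent.Helper12
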