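import Mathlib

/-!
# A basis of a finite projective module near a finite set of primes
-/

namespace Groth.Agent.Helper12.SemiLocBasis

universe u
open TensorProduct

theorem rank_eq_of_basis_away (A : Type u) [CommRing A] (M : Type u) [AddCommGroup M] [Module A M]
    [Module.Finite A M] [Module.Flat A M] (n : ℕ) (p : PrimeSpectrum A) (g : A)
    (hg : g ∉ p.asIdeal)
    (b : Module.Basis (Fin n) (Localization.Away g) (LocalizedModule (Submonoid.powers g) M)) :
    Module.rankAtStalk M p = n := by
  have hdisj : Disjoint (Submonoid.powers g : Set A) (p.asIdeal : Set A) := by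
    rw [Set.disjoint_left]
    rintro _ ⟨k, rfl⟩ hk
    exact hg (p.isPrime.mem_of_pow_mem k hk)
  have hp' : (p.asIdeal.map (algebraMap A (Localization.Away g))).IsPrime :=
    IsLocalization.isPrime_of_isPrime_disjoint (Submonoid.powers g) _ _ p.isPrime hdisj
  have hcomap : (p.asIdeal.map (algebraMap A (Localization.Away g))).comap
      (algebraMap A (Localization.Away g)) = p.asIdeal :=
    IsLocalization.under_map_of_isPrime_disjoint (Submonoid.powers g) _ p.isPrime hdisj
  haveI : Nontrivial (Localization.Away g) :=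
    ⟨⟨0, 1, fun h => hp'.ne_top ((Ideal.eq_top_iff_one _).mpr (h ▸ Ideal.zero_mem _))⟩⟩
  haveI : Module.Free (Localization.Away g) (LocalizedModule (Submonoid.powers g) M) :=
    Module.Free.of_basis b
  have h1 := Module.rankAtStalk_isBaseChange
    (IsLocalizedModule.isBaseChange (Submonoid.powers g) (Localization.Away g)
      (LocalizedModule.mkLinearMap (Submonoid.powers g) M)) ⟨_, hp'⟩
  have h2 : Module.rankAtStalk (LocalizedModule (Submonoid.powers g) M)
      (⟨_, hp'⟩ : PrimeSpectrum (Localization.Away g)) =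
      Module.finrank (Localization.Away g) (LocalizedModule (Submonoid.powers g) M) := by
    rw [Module.rankAtStalk_eq_finrank_of_free]
    rfl
  have h3 : Module.finrank (Localization.Away g) (LocalizedModule (Submonoid.powers g) M) = n := by
    rw [Module.finrank_eq_card_basis b, Fintype.card_fin]
  have h4 : PrimeSpectrum.comap (algebraMap A (Localization.Away g)) ⟨_, hp'⟩ = p :=
    PrimeSpectrum.ext hcomap
  rw [h4] at h1
  rw [← h1, h2, h3]

theorem semilocal_key (A : Type u) [CommRing A] (P : Finset (PrimeSpectrum A))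
    (S : Submonoid A) (hmemS : ∀ x : A, x ∈ S ↔ ∀ p ∈ P, x ∉ p.asIdeal)
    (𝔫 : Ideal (Localization S)) (h𝔫 : 𝔫.IsMaximal) :
    ∃ p ∈ P, 𝔫.comap (algebraMap A (Localization S)) = p.asIdeal := by
  classical
  have hqdisj : Disjoint (S : Set A) (𝔫.comap (algebraMap A (Localization S)) : Set A) :=
    ((IsLocalization.isPrime_iff_isPrime_disjoint S (Localization S) 𝔫).mp h𝔫.isPrime).2
  have hsub : ((𝔫.comap (algebraMap A (Localization S)) : Ideal A) : Set A) ⊆
      ⋃ p ∈ (P : Set (PrimeSpectrum A)), (p.asIdeal : Set A) := by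
    intro x hx
    by_contra hcon
    have : x ∈ S := (hmemS x).mpr (fun p hp hxp => hcon (Set.mem_biUnion hp hxp))
    exact Set.disjoint_left.mp hqdisj this hx
  rcases P.eq_empty_or_nonempty with hPe | ⟨p₀, hp₀⟩
  · exfalso
    have h0 := hsub (Ideal.zero_mem _)
    rw [hPe] at h0
    simp at h0
  · obtain ⟨p, hpP, hqp⟩ := (Ideal.subset_union_prime (s := P) (f := fun p => p.asIdeal) p₀ p₀
      (fun p _ _ _ => p.isPrime)).mp hsub
    refine ⟨p, hpP, ?_⟩
    have hpdisj : Disjoint (S : Set A) (p.asIdeal : Set A) := by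
      rw [Set.disjoint_left]
      intro x hx hxp
      exact (hmemS x).mp hx p hpP hxp
    have hp' : (p.asIdeal.map (algebraMap A (Localization S))).IsPrime :=
      IsLocalization.isPrime_of_isPrime_disjoint S _ _ p.isPrime hpdisj
    have e1 : Ideal.map (algebraMap A (Localization S))
        (Ideal.comap (algebraMap A (Localization S)) 𝔫) = 𝔫 :=
      IsLocalization.map_under S (Localization S) 𝔫
    have hle : 𝔫 ≤ p.asIdeal.map (algebraMap A (Localization S)) := by
      rw [← e1]
      exact Ideal.map_mono hqp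
    have heq : 𝔫 = p.asIdeal.map (algebraMap A (Localization S)) :=
      h𝔫.eq_of_le hp'.ne_top hle
    rw [heq]
    exact IsLocalization.under_map_of_isPrime_disjoint S _ p.isPrime hpdisj

theorem finite_maximalSpectrum (A : Type u) [CommRing A] (P : Finset (PrimeSpectrum A))
    (S : Submonoid A) (hmemS : ∀ x : A, x ∈ S ↔ ∀ p ∈ P, x ∉ p.asIdeal) :
    Finite (MaximalSpectrum (Localization S)) := by
  classical
  have key := fun 𝔫 : MaximalSpectrum (Localization S) =>
    semilocal_key A P S hmemS 𝔫.asIdeal 𝔫.isMaximal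
  choose f hfP hf using key
  let F : MaximalSpectrum (Localization S) → {p // p ∈ P} :=
    fun 𝔫 => ⟨f 𝔫, hfP 𝔫⟩
  refine Finite.of_injective F ?_
  intro 𝔫 𝔫' h
  have h' : f 𝔫 = f 𝔫' := congrArg Subtype.val h
  apply MaximalSpectrum.ext
  have e1 : Ideal.map (algebraMap A (Localization S))
      (Ideal.comap (algebraMap A (Localization S)) 𝔫.asIdeal) = 𝔫.asIdeal :=
    IsLocalization.map_under S (Localization S) 𝔫.asIdeal
  have e2 : Ideal.map (algebraMap A (Localization S))
      (Ideal.comap (algebraMap A (Localization S)) 𝔫'.asIdeal) = 𝔫'.asIdeal :=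
    IsLocalization.map_under S (Localization S) 𝔫'.asIdeal
  rw [← e1, ← e2, hf, hf, h']

theorem finrank_quot_eq_rankAtStalk (R : Type u) [CommRing R] (N : Type u) [AddCommGroup N]
    [Module R N] [Module.Finite R N] [Module.Flat R N] (𝔪 : Ideal R) [h𝔪 : 𝔪.IsMaximal] :
    Module.finrank (R ⧸ 𝔪) ((R ⧸ 𝔪) ⊗[R] N) = Module.rankAtStalk N ⟨𝔪, h𝔪.isPrime⟩ := by
  have e : 𝔪.ResidueField ⊗[R ⧸ 𝔪] ((R ⧸ 𝔪) ⊗[R] N) ≃ₗ[𝔪.ResidueField] 𝔪.ResidueField ⊗[R] N :=
    AlgebraTensorModule.cancelBaseChange R (R ⧸ 𝔪) 𝔪.ResidueField 𝔪.ResidueField N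
  have h1 := e.finrank_eq
  have h2 := (Module.rankAtStalk_eq (M := N) ⟨𝔪, h𝔪.isPrime⟩)
  letI := Ideal.Quotient.field 𝔪
  have h3 : Module.finrank 𝔪.ResidueField (𝔪.ResidueField ⊗[R ⧸ 𝔪] ((R ⧸ 𝔪) ⊗[R] N)) =
      Module.finrank (R ⧸ 𝔪) ((R ⧸ 𝔪) ⊗[R] N) := Module.finrank_baseChange
  rw [h2, ← h3, h1]

theorem main (A : Type u) [CommRing A] (M : Type u) [AddCommGroup M] [Module A M]
    [Module.Finite A M] [Module.Projective A M] (n : ℕ) (P : Finset (PrimeSpectrum A))
    (hP : ∀ p ∈ P, ∃ g : A, g ∉ p.asIdeal ∧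
      Nonempty (Module.Basis (Fin n) (Localization.Away g)
        (LocalizedModule (Submonoid.powers g) M))) :
    ∃ (s : Fin n → M) (U : Set (PrimeSpectrum A)), IsOpen U ∧ (∀ p ∈ P, p ∈ U) ∧
      ∀ q ∈ U,
        LinearIndependent (Localization.AtPrime q.asIdeal)
            (fun j => LocalizedModule.mkLinearMap q.asIdeal.primeCompl M (s j)) ∧
          Submodule.span (Localization.AtPrime q.asIdeal)
            (Set.range fun j => LocalizedModule.mkLinearMap q.asIdeal.primeCompl M (s j)) = ⊤ := by
  classical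
  have hrankP : ∀ p ∈ P, Module.rankAtStalk M p = n := by
    intro p hp
    obtain ⟨g, hg, ⟨b⟩⟩ := hP p hp
    exact rank_eq_of_basis_away A M n p g hg b
  haveI : Module.FinitePresentation A M := Module.finitePresentation_of_projective A M
  obtain ⟨S, hmemS⟩ : ∃ S : Submonoid A, ∀ x : A, x ∈ S ↔ ∀ p ∈ P, x ∉ p.asIdeal := by
    refine ⟨⨅ p ∈ P, p.asIdeal.primeCompl, fun x => ?_⟩
    simp only [Submonoid.mem_iInf]
    rfl
  haveI : Finite (MaximalSpectrum (Localization S)) := finite_maximalSpectrum A P S hmemS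
  have hrk : ∀ 𝔫 : MaximalSpectrum (Localization S),
      Module.finrank (Localization S ⧸ 𝔫.1)
        ((Localization S ⧸ 𝔫.1) ⊗[Localization S] (LocalizedModule S M)) = n := by
    intro 𝔫
    haveI := 𝔫.isMaximal
    rw [finrank_quot_eq_rankAtStalk]
    obtain ⟨p, hpP, hp⟩ := semilocal_key A P S hmemS 𝔫.asIdeal 𝔫.isMaximal
    have h1 := Module.rankAtStalk_isBaseChange
      (IsLocalizedModule.isBaseChange S (Localization S) (LocalizedModule.mkLinearMap S M))
      ⟨𝔫.asIdeal, 𝔫.isMaximal.isPrime⟩
    rw [h1]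
    have h2 : PrimeSpectrum.comap (algebraMap A (Localization S))
        ⟨𝔫.asIdeal, 𝔫.isMaximal.isPrime⟩ = p := PrimeSpectrum.ext hp
    rw [h2]
    exact hrankP p hpP
  obtain ⟨b'⟩ := Module.nonempty_basis_of_flat_of_finrank_eq (Localization S)
    (LocalizedModule S M) n hrk
  let f : (Fin n →₀ A) →ₗ[A] (Fin n →₀ Localization S) :=
    Finsupp.mapRange.linearMap (Algebra.linearMap A (Localization S))
  let g : M →ₗ[A] LocalizedModule S M := LocalizedModule.mkLinearMap S M
  obtain ⟨φ, -, -, hφ⟩ := Module.exists_localizedMap_surjective_of_surjective S f g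
    (ϕ := (b'.repr.symm.toLinearMap.restrictScalars A)) b'.repr.symm.surjective
  -- star
  have hstar : ∀ m : M, ∃ w ∈ S, w • m ∈ LinearMap.range φ := by
    intro m
    obtain ⟨y, hy⟩ := hφ (g m)
    obtain ⟨⟨x', t⟩, hx't⟩ := IsLocalizedModule.surj S f y
    have ht : (t : A) • y = f x' := hx't
    have h1 : g ((t : A) • m) = g (φ x') := by
      rw [map_smul, ← hy, ← map_smul, ht, IsLocalizedModule.map_apply]
    obtain ⟨u, hu⟩ := IsLocalizedModule.exists_of_eq (S := S) (f := g) h1
    refine ⟨(u : A) * (t : A), S.mul_mem u.2 t.2, (u : A) • x', ?_⟩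
    rw [map_smul, mul_smul]
    exact hu.symm
  obtain ⟨σ, hσ⟩ := (inferInstance : Module.Finite A M).fg_top
  choose wf hwfS hwf using hstar
  let w := ∏ x ∈ σ, wf x
  have hwS : w ∈ S := S.prod_mem (fun x _ => hwfS x)
  have hw : ∀ m : M, w • m ∈ LinearMap.range φ := by
    intro m
    have hm : m ∈ Submodule.span A (σ : Set M) := hσ ▸ Submodule.mem_top
    refine Submodule.span_induction (p := fun m _ => w • m ∈ LinearMap.range φ) ?_ ?_ ?_ ?_ hm
    · intro x hx
      show (∏ x ∈ σ, wf x) • x ∈ LinearMap.range φ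
      rw [← Finset.prod_erase_mul σ wf hx, mul_smul]
      exact Submodule.smul_mem _ _ (hwf x)
    · rw [smul_zero]
      exact zero_mem _
    · intro a b _ _ ha hb
      rw [smul_add]
      exact add_mem ha hb
    · intro a x _ hx
      rw [smul_comm]
      exact Submodule.smul_mem _ _ hx
  let s : Fin n → M := fun j => φ (Finsupp.single j 1)
  have hφs : φ = Finsupp.linearCombination A s := by
    apply Finsupp.lhom_ext
    intro j a
    rw [Finsupp.linearCombination_single]
    show φ (Finsupp.single j a) = a • φ (Finsupp.single j 1)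
    rw [← map_smul, Finsupp.smul_single, smul_eq_mul, mul_one]
  refine ⟨s, (PrimeSpectrum.basicOpen w : Set (PrimeSpectrum A)) ∩
    (Module.rankAtStalk M ⁻¹' {n}), ?_, ?_, ?_⟩
  · exact (PrimeSpectrum.basicOpen w).isOpen.inter
      ((Module.isLocallyConstant_rankAtStalk (R := A) (M := M)).isOpen_fiber n)
  · intro p hp
    exact ⟨(hmemS w).mp hwS p hp, hrankP p hp⟩
  · rintro q ⟨hwq, hrq⟩
    have hwq' : w ∈ q.asIdeal.primeCompl := hwq
    have hrq' : Module.finrank (Localization.AtPrime q.asIdeal)
        (LocalizedModule q.asIdeal.primeCompl M) = n := hrq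
    have hsurj : Function.Surjective (Finsupp.linearCombination (Localization.AtPrime q.asIdeal)
        (fun j => LocalizedModule.mkLinearMap q.asIdeal.primeCompl M (s j))) := by
      rw [← LinearMap.range_eq_top, Finsupp.range_linearCombination, eq_top_iff]
      rintro x -
      induction x using LocalizedModule.induction_on with
      | h m t =>
        obtain ⟨c, hc⟩ := hw m
        have hmem : LocalizedModule.mkLinearMap q.asIdeal.primeCompl M (w • m) ∈
            Submodule.span (Localization.AtPrime q.asIdeal)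
              (Set.range fun j => LocalizedModule.mkLinearMap q.asIdeal.primeCompl M (s j)) := by
          rw [← hc, hφs, Finsupp.linearCombination_apply, Finsupp.sum, map_sum]
          refine Submodule.sum_mem _ (fun j _ => ?_)
          rw [map_smul, ← algebraMap_smul (Localization.AtPrime q.asIdeal) (c j)]
          exact Submodule.smul_mem _ _ (Submodule.subset_span ⟨j, rfl⟩)
        have hunit : IsUnit (algebraMap A (Localization.AtPrime q.asIdeal) (w * t)) :=
          IsLocalization.map_units _
            (⟨w * t, q.asIdeal.primeCompl.mul_mem hwq' t.2⟩ : q.asIdeal.primeCompl)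
        obtain ⟨u, hu⟩ := hunit
        have hkey : (u : Localization.AtPrime q.asIdeal) • LocalizedModule.mk m t =
            LocalizedModule.mkLinearMap q.asIdeal.primeCompl M (w • m) := by
          rw [hu, algebraMap_smul, LocalizedModule.mkLinearMap_apply, LocalizedModule.smul'_mk,
            LocalizedModule.mk_eq]
          refine ⟨1, ?_⟩
          simp only [one_smul, mul_smul, Submonoid.smul_def]
          rw [smul_comm]
        have hx : LocalizedModule.mk m t = (↑u⁻¹ : Localization.AtPrime q.asIdeal) •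
            ((u : Localization.AtPrime q.asIdeal) • LocalizedModule.mk m t) := by
          rw [smul_smul, Units.inv_mul, one_smul]
        rw [hx, hkey]
        exact Submodule.smul_mem _ _ hmem
    haveI : Module.Free (Localization.AtPrime q.asIdeal)
        (LocalizedModule q.asIdeal.primeCompl M) := Module.free_of_flat_of_isLocalRing
    have hfr : Module.finrank (Localization.AtPrime q.asIdeal)
        (Fin n →₀ Localization.AtPrime q.asIdeal) ≤
        Module.finrank (Localization.AtPrime q.asIdeal)
          (LocalizedModule q.asIdeal.primeCompl M) := by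
      rw [hrq', Module.finrank_finsupp_self, Fintype.card_fin]
    have hbij := OrzechProperty.bijective_of_surjective_of_finrank_le _ hsurj hfr
    refine ⟨hbij.1, ?_⟩
    rw [← Finsupp.range_linearCombination]
    exact LinearMap.range_eq_top.mpr hsurj

end Groth.Agent.Helper12.SemiLocBasis
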