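import Mathlib
import Groth.Agent.Lib.Helper12.ComplEquiv

/-!
# Completion of a smooth algebra along a section

If `R → S` is smooth with a retraction `σ : S → R`, `I = ker σ` and `I/I²` is free of rank `d`, then the
`I`-adic completion of `S` is `R[[X_1..X_d]]`.
-/

set_option autoImplicit false

universe u

open MvPolynomial

namespace Groth.Agent.Helper12.SmoothSection

section general

variable {R : Type*} [CommRing R] {S : Type*} [CommRing S] [Algebra R S] {d : ℕ}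

/-- Injectivity modulo powers. -/
theorem mem_pow_of_aeval_mem (𝔛 : Ideal (MvPolynomial (Fin d) R))
    (h𝔛 : 𝔛 = Ideal.span (Set.range X))
    (I : Ideal S) (x : Fin d → S) (N : ℕ)
    (ψ : S →ₐ[R] MvPolynomial (Fin d) R ⧸ 𝔛 ^ N)
    (ha : ∀ i, ψ (x i) - Ideal.Quotient.mk _ (X i) ∈ (𝔛 ^ 2).map (Ideal.Quotient.mk (𝔛 ^ N)))
    (hb : ∀ s ∈ I, ψ s ∈ 𝔛.map (Ideal.Quotient.mk (𝔛 ^ N)))
    (n : ℕ) (hn : n ≤ N) (f : MvPolynomial (Fin d) R)
    (hf : aeval x f ∈ I ^ n) : f ∈ 𝔛 ^ n := by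
  classical
  obtain ⟨q, hq⟩ : ∃ q : MvPolynomial (Fin d) R →+* MvPolynomial (Fin d) R ⧸ 𝔛 ^ N,
    q = Ideal.Quotient.mk (𝔛 ^ N) := ⟨_, rfl⟩
  have hqsurj : Function.Surjective q := by rw [hq]; exact Ideal.Quotient.mk_surjective
  obtain ⟨Xb, hXb⟩ : ∃ Xb : Ideal (MvPolynomial (Fin d) R ⧸ 𝔛 ^ N), Xb = 𝔛.map q := ⟨_, rfl⟩
  have hmapq : ∀ m, (𝔛 ^ m).map q = Xb ^ m := fun m => by rw [hXb, Ideal.map_pow]
  have ha' : ∀ i, ψ (x i) - q (X i) ∈ Xb ^ 2 := fun i => by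
    rw [← hmapq 2, hq]; exact ha i
  have hb' : ∀ s ∈ I, ψ s ∈ Xb := fun s hs => by rw [hXb, hq]; exact hb s hs
  have hqmem : ∀ p ∈ 𝔛, q p ∈ Xb := fun p hp => by rw [hXb]; exact Ideal.mem_map_of_mem q hp
  have hqX : ∀ i, q (X i) ∈ Xb := fun i => hqmem _ (h𝔛.ge (Ideal.subset_span ⟨i, rfl⟩))
  have hψx : ∀ i, ψ (x i) ∈ Xb := fun i => by
    have h2 : Xb ^ 2 ≤ Xb := Ideal.pow_le_self two_ne_zero
    have h3 : ψ (x i) = (ψ (x i) - q (X i)) + q (X i) := by ring
    rw [h3]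
    exact Ideal.add_mem _ (h2 (ha' i)) (hqX i)
  obtain ⟨τ, hτ⟩ : ∃ τ : MvPolynomial (Fin d) R →ₐ[R] MvPolynomial (Fin d) R ⧸ 𝔛 ^ N,
    τ = ψ.comp (aeval x) := ⟨_, rfl⟩
  have hτapp : ∀ p, τ p = ψ (aeval x p) := fun p => by rw [hτ]; rfl
  have hτX : ∀ i, τ (X i) = ψ (x i) := fun i => by rw [hτapp, aeval_X]
  have hτC : ∀ r, τ (C r) = q (C r) := fun r => by
    have h1 : (C r : MvPolynomial (Fin d) R) = algebraMap R _ r := rfl
    rw [h1, AlgHom.commutes, hq, Ideal.Quotient.mk_algebraMap]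
  have hτmap : 𝔛.map τ.toRingHom ≤ Xb := by
    refine Ideal.map_le_iff_le_comap.mpr (h𝔛.le.trans ?_)
    rw [Ideal.span_le]
    rintro _ ⟨i, rfl⟩
    show τ (X i) ∈ Xb
    rw [hτX]; exact hψx i
  have hA : ∀ m, ∀ p ∈ 𝔛 ^ m, τ p ∈ Xb ^ m := by
    intro m p hp
    have h1 : τ.toRingHom p ∈ (𝔛 ^ m).map τ.toRingHom := Ideal.mem_map_of_mem _ hp
    rw [Ideal.map_pow] at h1
    exact Ideal.pow_right_mono hτmap m h1
  have hadd : ∀ y z, τ (y + z) - q (y + z) = (τ y - q y) + (τ z - q z) := by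
    intro y z; rw [map_add, map_add]; ring
  have hD : ∀ a b, τ (a * b) - q (a * b) = τ a * (τ b - q b) + (τ a - q a) * q b := by
    intro a b; rw [map_mul, map_mul]; ring
  have hB0 : ∀ p, τ p - q p ∈ Xb := by
    intro p
    induction p using MvPolynomial.induction_on with
    | C r => rw [hτC, sub_self]; exact Ideal.zero_mem _
    | add p p' hp hp' => rw [hadd]; exact Ideal.add_mem _ hp hp'
    | mul_X p i hp =>
      rw [map_mul, map_mul]
      exact Ideal.sub_mem _ (Ideal.mul_mem_left _ _ (by rw [hτX]; exact hψx i))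
        (Ideal.mul_mem_left _ _ (hqX i))
  have hB1 : ∀ b ∈ 𝔛, τ b - q b ∈ Xb ^ 2 := by
    intro b hb
    have hb2 : b ∈ Ideal.span (Set.range (X : Fin d → MvPolynomial (Fin d) R)) := h𝔛.le hb
    refine Submodule.span_induction (p := fun b _ => τ b - q b ∈ Xb ^ 2) ?_ ?_ ?_ ?_ hb2
    · rintro _ ⟨i, rfl⟩
      rw [hτX]; exact ha' i
    · rw [map_zero, map_zero, sub_zero]; exact Ideal.zero_mem _
    · intro y z _ _ hy hz
      rw [hadd]; exact Ideal.add_mem _ hy hz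
    · intro g y hy ih
      rw [smul_eq_mul, hD]
      refine Ideal.add_mem _ (Ideal.mul_mem_left _ _ ih) ?_
      exact (pow_two Xb).ge (Ideal.mul_mem_mul (hB0 g) (hqmem y (h𝔛.ge hy)))
  have hB : ∀ m, ∀ p ∈ 𝔛 ^ m, τ p - q p ∈ Xb ^ (m + 1) := by
    intro m
    induction m with
    | zero => intro p _; exact (pow_one Xb).ge (hB0 p)
    | succ m ih =>
      intro p hp
      rw [pow_succ] at hp
      refine Submodule.mul_induction_on hp ?_ ?_
      · intro a ha b hb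
        rw [hD]
        refine Ideal.add_mem _ ?_ ?_
        · exact (pow_add Xb m 2).ge (Ideal.mul_mem_mul (hA m a ha) (hB1 b hb))
        · exact (pow_succ Xb (m + 1)).ge (Ideal.mul_mem_mul (ih a ha) (hqmem b hb))
      · intro y z hy hz
        rw [hadd]; exact Ideal.add_mem _ hy hz
  have hC : ∀ s ∈ I ^ n, ψ s ∈ Xb ^ n := by
    intro s hs
    have hle : I.map ψ.toRingHom ≤ Xb := by
      rw [Ideal.map_le_iff_le_comap]; intro s hs; exact hb' s hs
    have h1 : ψ.toRingHom s ∈ (I ^ n).map ψ.toRingHom := Ideal.mem_map_of_mem _ hs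
    rw [Ideal.map_pow] at h1
    exact Ideal.pow_right_mono hle n h1
  have key : ∀ m, m ≤ n → f ∈ 𝔛 ^ m := by
    intro m
    induction m with
    | zero => intro _; rw [pow_zero, Ideal.one_eq_top]; trivial
    | succ m ih =>
      intro hm
      have hfm := ih (Nat.le_of_succ_le hm)
      have h1 := hB m f hfm
      have h2 : τ f ∈ Xb ^ (m + 1) := by
        rw [hτapp]; exact Ideal.pow_le_pow_right hm (hC _ hf)
      have h3 : q f ∈ Xb ^ (m + 1) := by
        have h4 : q f = τ f - (τ f - q f) := by ring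
        rw [h4]; exact Ideal.sub_mem _ h2 h1
      rw [← hmapq, Ideal.mem_map_iff_of_surjective q hqsurj] at h3
      obtain ⟨g, hg, hgf⟩ := h3
      have h4 : f - g ∈ 𝔛 ^ N := by
        apply Ideal.Quotient.eq.mp
        rw [← hq]; exact hgf.symm
      have h5 : f - g ∈ 𝔛 ^ (m + 1) := Ideal.pow_le_pow_right (hm.trans hn) h4
      have h6 : f = (f - g) + g := by ring
      rw [h6]; exact Ideal.add_mem _ h5 hg
  exact key n le_rfl

/-- Surjectivity modulo powers. -/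
theorem exists_aeval_sub_mem (σ : S →ₐ[R] R) (I : Ideal S)
    (hσ : ∀ s, s - algebraMap R S (σ s) ∈ I)
    (x : Fin d → S) (hxI : ∀ i, x i ∈ I) (hdec : I ≤ Ideal.span (Set.range x) ⊔ I ^ 2) :
    (∀ n, (Ideal.span (Set.range (X : Fin d → MvPolynomial (Fin d) R))) ^ n ≤
      (I ^ n).comap (aeval x : MvPolynomial (Fin d) R →ₐ[R] S)) ∧
    ∀ n s, ∃ f : MvPolynomial (Fin d) R, s - aeval x f ∈ I ^ n := by
  classical
  obtain ⟨A, hA⟩ : ∃ A : Ideal S, A = Ideal.span (Set.range x) := ⟨_, rfl⟩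
  rw [← hA] at hdec
  have hAI : A ≤ I := by rw [hA, Ideal.span_le]; rintro _ ⟨i, rfl⟩; exact hxI i
  obtain ⟨𝔛, h𝔛⟩ : ∃ 𝔛 : Ideal (MvPolynomial (Fin d) R), 𝔛 = Ideal.span (Set.range X) :=
    ⟨_, rfl⟩
  rw [← h𝔛]
  obtain ⟨θ, hθ⟩ : ∃ θ : MvPolynomial (Fin d) R →ₐ[R] S, θ = aeval x := ⟨_, rfl⟩
  rw [← hθ]
  have hθX : ∀ i, θ (X i) = x i := fun i => by rw [hθ, aeval_X]
  have hmap : 𝔛.map θ.toRingHom = A := by
    rw [h𝔛, hA, Ideal.map_span]
    congr 1
    ext y; constructor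
    · rintro ⟨_, ⟨i, rfl⟩, rfl⟩; exact ⟨i, (hθX i).symm⟩
    · rintro ⟨i, rfl⟩; exact ⟨X i, ⟨i, rfl⟩, hθX i⟩
  have hmapn : ∀ n, (𝔛 ^ n).map θ.toRingHom = A ^ n := fun n => by rw [Ideal.map_pow, hmap]
  have hθmem : ∀ n, ∀ g ∈ 𝔛 ^ n, θ g ∈ I ^ n := by
    intro n g hg
    have h1 : θ.toRingHom g ∈ (𝔛 ^ n).map θ.toRingHom := Ideal.mem_map_of_mem _ hg
    rw [hmapn] at h1
    exact Ideal.pow_right_mono hAI n h1
  have hQ : ∀ n, I ^ n ≤ A ^ n ⊔ I ^ (n + 1) := by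
    intro n
    induction n with
    | zero => rw [pow_zero, pow_zero]; exact le_sup_left
    | succ n ih =>
      calc I ^ (n + 1) = I ^ n * I := pow_succ I n
        _ ≤ (A ^ n ⊔ I ^ (n + 1)) * (A ⊔ I ^ 2) := Ideal.mul_mono ih hdec
        _ ≤ A ^ (n + 1) ⊔ I ^ (n + 1 + 1) := by
          rw [Ideal.sup_mul, Ideal.mul_sup, Ideal.mul_sup]
          refine sup_le (sup_le ?_ ?_) (sup_le ?_ ?_)
          · rw [← pow_succ]; exact le_sup_left
          · refine le_trans (Ideal.mul_mono (Ideal.pow_right_mono hAI n) le_rfl) ?_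
            rw [← pow_add]; exact le_sup_right
          · refine le_trans (Ideal.mul_mono le_rfl hAI) ?_
            rw [← pow_succ]; exact le_sup_right
          · rw [← pow_add]
            exact le_trans (Ideal.pow_le_pow_right (by omega)) le_sup_right
  have hG : ∀ n, ∀ a ∈ A ^ n, ∃ g ∈ 𝔛 ^ n, a - θ g ∈ I ^ (n + 1) := by
    intro n a ha
    rw [← hmapn n] at ha
    refine Submodule.span_induction (p := fun a _ => ∃ g ∈ 𝔛 ^ n, a - θ g ∈ I ^ (n + 1))
      ?_ ?_ ?_ ?_ ha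
    · rintro _ ⟨p, hp, rfl⟩
      refine ⟨p, hp, ?_⟩
      have h1 : θ.toRingHom p = θ p := rfl
      rw [h1, sub_self]; exact Ideal.zero_mem _
    · exact ⟨0, Ideal.zero_mem _, by rw [map_zero, sub_self]; exact Ideal.zero_mem _⟩
    · rintro a b _ _ ⟨p, hp, hpa⟩ ⟨p', hp', hpb⟩
      refine ⟨p + p', Ideal.add_mem _ hp hp', ?_⟩
      have h1 : a + b - θ (p + p') = (a - θ p) + (b - θ p') := by rw [map_add]; ring
      rw [h1]; exact Ideal.add_mem _ hpa hpb
    · rintro s a _ ⟨p, hp, hpa⟩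
      refine ⟨C (σ s) * p, Ideal.mul_mem_left _ _ hp, ?_⟩
      have h0 : θ (C (σ s)) = algebraMap R S (σ s) := by rw [hθ, aeval_C]
      have h1 : s • a - θ (C (σ s) * p) =
          s * (a - θ p) + (s - algebraMap R S (σ s)) * θ p := by
        rw [map_mul, smul_eq_mul, h0]; ring
      rw [h1]
      refine Ideal.add_mem _ (Ideal.mul_mem_left _ _ hpa) ?_
      rw [pow_succ']
      exact Ideal.mul_mem_mul (hσ s) (hθmem n p hp)
  refine ⟨fun n g hg => hθmem n g hg, ?_⟩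
  intro n
  induction n with
  | zero => intro s; exact ⟨0, by rw [pow_zero, Ideal.one_eq_top]; trivial⟩
  | succ n ih =>
    intro s
    obtain ⟨f, hf⟩ := ih s
    have h1 := hQ n hf
    rw [Submodule.mem_sup] at h1
    obtain ⟨a, ha, b, hb, hab⟩ := h1
    obtain ⟨g, _, hg⟩ := hG n a ha
    refine ⟨f + g, ?_⟩
    have h2 : s - θ (f + g) = (a - θ g) + b := by
      rw [map_add, ← sub_sub, ← hab]; ring
    rw [h2]; exact Ideal.add_mem _ hg hb

end general

section main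

variable {R S : Type u} [CommRing R] [CommRing S] [Algebra R S]

theorem main [Algebra.Smooth R S] (σ : S →ₐ[R] R) (d : ℕ)
    (e : (RingHom.ker σ.toRingHom).Cotangent ≃ₗ[R] (Fin d → R)) :
    Nonempty (AdicCompletion (RingHom.ker σ.toRingHom) S ≃ₐ[R] MvPowerSeries (Fin d) R) := by
  classical
  generalize hI : RingHom.ker σ.toRingHom = I at e ⊢
  have hσ : ∀ s, s - algebraMap R S (σ s) ∈ I := by
    intro s
    rw [← hI, RingHom.mem_ker]
    simp
  have hIσ : ∀ s ∈ I, σ s = 0 := by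
    intro s hs
    rw [← hI] at hs
    exact RingHom.mem_ker.mp hs
  have hx : ∀ i, ∃ y : I, e (I.toCotangent y) = Pi.single i 1 := fun i => by
    obtain ⟨y, hy⟩ := Ideal.toCotangent_surjective I (e.symm (Pi.single i 1))
    exact ⟨y, by rw [hy, LinearEquiv.apply_symm_apply]⟩
  choose x hx using hx
  obtain ⟨δ, hδ⟩ : ∃ δ : S → (Fin d → R),
      ∀ s, δ s = e (I.toCotangent ⟨s - algebraMap R S (σ s), hσ s⟩) := ⟨_, fun _ => rfl⟩
  have hδadd : ∀ s t, δ (s + t) = δ s + δ t := by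
    intro s t
    have h1 : (⟨s + t - algebraMap R S (σ (s + t)), hσ _⟩ : I) =
        ⟨s - algebraMap R S (σ s), hσ s⟩ + ⟨t - algebraMap R S (σ t), hσ t⟩ := by
      apply Subtype.ext
      simp only [map_add, Submodule.coe_add]
      ring
    rw [hδ, hδ, hδ, h1, map_add, map_add]
  have hδsmul : ∀ (r : R) s, δ (r • s) = r • δ s := by
    intro r s
    have h1 : (⟨r • s - algebraMap R S (σ (r • s)), hσ _⟩ : I) =
        r • ⟨s - algebraMap R S (σ s), hσ s⟩ := by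
      apply Subtype.ext
      simp only [map_mul, Submodule.coe_smul_of_tower, Algebra.smul_def, AlgHom.commutes,
        Algebra.algebraMap_self, RingHom.id_apply]
      ring
    rw [hδ, hδ, h1, LinearMap.map_smul_of_tower, map_smul]
  have hδmul : ∀ s t, δ (s * t) = σ s • δ t + σ t • δ s := by
    intro s t
    have key : I.toCotangent ⟨s * t - algebraMap R S (σ (s * t)), hσ _⟩ =
        I.toCotangent (σ s • (⟨t - algebraMap R S (σ t), hσ t⟩ : I) +
          σ t • (⟨s - algebraMap R S (σ s), hσ s⟩ : I)) := by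
      rw [Ideal.toCotangent_eq]
      have h1 : ((⟨s * t - algebraMap R S (σ (s * t)), hσ _⟩ : I) : S) -
          ((σ s • (⟨t - algebraMap R S (σ t), hσ t⟩ : I) +
          σ t • (⟨s - algebraMap R S (σ s), hσ s⟩ : I) : I) : S) =
          (s - algebraMap R S (σ s)) * (t - algebraMap R S (σ t)) := by
        simp only [map_mul, Submodule.coe_add, Submodule.coe_smul_of_tower, Algebra.smul_def]
        ring
      rw [h1]
      exact (pow_two I).ge (Ideal.mul_mem_mul (hσ s) (hσ t))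
    rw [hδ, key, map_add, LinearMap.map_smul_of_tower, LinearMap.map_smul_of_tower, map_add,
      map_smul, map_smul, ← hδ, ← hδ]
  have hδalg : ∀ r, δ (algebraMap R S r) = 0 := by
    intro r
    have h1 : (⟨algebraMap R S r - algebraMap R S (σ (algebraMap R S r)), hσ _⟩ : I) = 0 := by
      apply Subtype.ext
      simp
    rw [hδ, h1, map_zero, map_zero]
  have hδx : ∀ i, δ (x i) = Pi.single i 1 := by
    intro i
    have h1 : (⟨(x i : S) - algebraMap R S (σ (x i)), hσ _⟩ : I) = x i := by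
      apply Subtype.ext
      simp [hIσ _ (x i).2]
    rw [hδ, h1, hx]
  obtain ⟨𝔛, h𝔛⟩ : ∃ 𝔛 : Ideal (MvPolynomial (Fin d) R), 𝔛 = Ideal.span (Set.range X) :=
    ⟨_, rfl⟩
  obtain ⟨lin, hlin⟩ : ∃ lin : (Fin d → R) → MvPolynomial (Fin d) R,
      ∀ a, lin a = ∑ i, C (a i) * X i := ⟨_, fun _ => rfl⟩
  have hlinmem : ∀ a, lin a ∈ 𝔛 := fun a => by
    rw [hlin]
    exact Ideal.sum_mem _ (fun i _ => Ideal.mul_mem_left _ _
      (h𝔛.ge (Ideal.subset_span ⟨i, rfl⟩)))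
  have hlinadd : ∀ a b, lin (a + b) = lin a + lin b := fun a b => by
    simp only [hlin, Pi.add_apply, map_add, add_mul, Finset.sum_add_distrib]
  have hlinsmul : ∀ (r : R) a, lin (r • a) = C r * lin a := fun r a => by
    simp only [hlin, Pi.smul_apply, smul_eq_mul, map_mul, Finset.mul_sum, mul_assoc]
  have hlinzero : lin 0 = 0 := by
    rw [hlin]; simp
  have hlinsingle : ∀ i, lin (Pi.single i 1) = X i := fun i => by
    rw [hlin, Finset.sum_eq_single i]
    · simp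
    · intro j _ hj; simp [hj]
    · intro h; exact absurd (Finset.mem_univ i) h
  obtain ⟨poly, hpoly⟩ : ∃ poly : S → MvPolynomial (Fin d) R,
      ∀ s, poly s = C (σ s) + lin (δ s) := ⟨_, fun _ => rfl⟩
  have hpolyadd : ∀ s t, poly (s + t) = poly s + poly t := by
    intro s t
    rw [hpoly, hpoly, hpoly, map_add, map_add, hδadd, hlinadd]; ring
  have hpolysmul : ∀ (r : R) s, poly (r • s) = C r * poly s := by
    intro r s
    rw [hpoly, hpoly, map_smul, hδsmul, hlinsmul, smul_eq_mul, map_mul]; ring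
  have hpolymul : ∀ s t, poly (s * t) = poly s * poly t - lin (δ s) * lin (δ t) := by
    intro s t
    rw [hpoly, hpoly, hpoly, hδmul, hlinadd, hlinsmul, hlinsmul, map_mul, map_mul]
    ring
  have hpolyone : poly 1 = 1 := by
    have h1 : δ 1 = 0 := by rw [← map_one (algebraMap R S)]; exact hδalg 1
    rw [hpoly, map_one, h1, hlinzero, add_zero, map_one]
  have hpolyx : ∀ i, poly (x i) = X i := by
    intro i
    rw [hpoly, hIσ _ (x i).2, map_zero, zero_add, hδx, hlinsingle]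
  have hpolyI : ∀ s ∈ I, poly s ∈ 𝔛 := by
    intro s hs
    rw [hpoly, hIσ s hs, map_zero, zero_add]; exact hlinmem _
  let ψ₂ : S →ₐ[R] (MvPolynomial (Fin d) R ⧸ 𝔛 ^ 2) :=
    AlgHom.ofLinearMap
      { toFun := fun s => Ideal.Quotient.mk (𝔛 ^ 2) (poly s)
        map_add' := fun s t => by rw [hpolyadd, map_add]
        map_smul' := fun r s => by
          rw [hpolysmul, map_mul, RingHom.id_apply, Algebra.smul_def]
          rfl }
      (by
        show Ideal.Quotient.mk (𝔛 ^ 2) (poly 1) = 1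
        rw [hpolyone, map_one])
      (by
        intro s t
        show Ideal.Quotient.mk (𝔛 ^ 2) (poly (s * t)) =
          Ideal.Quotient.mk (𝔛 ^ 2) (poly s) * Ideal.Quotient.mk (𝔛 ^ 2) (poly t)
        rw [hpolymul, map_sub, map_mul,
          Ideal.Quotient.eq_zero_iff_mem.mpr
            ((pow_two 𝔛).ge (Ideal.mul_mem_mul (hlinmem (δ s)) (hlinmem (δ t)))), sub_zero])
  have hψ₂ : ∀ s, ψ₂ s = Ideal.Quotient.mk (𝔛 ^ 2) (poly s) := fun s => rfl
  have hψN : ∀ N, 2 ≤ N → ∃ ψ : S →ₐ[R] MvPolynomial (Fin d) R ⧸ 𝔛 ^ N,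
      (∀ i, ψ (x i) - Ideal.Quotient.mk _ (X i) ∈
        (𝔛 ^ 2).map (Ideal.Quotient.mk (𝔛 ^ N))) ∧
      (∀ s ∈ I, ψ s ∈ 𝔛.map (Ideal.Quotient.mk (𝔛 ^ N))) := by
    intro N hN
    have hle : 𝔛 ^ N ≤ 𝔛 ^ 2 := Ideal.pow_le_pow_right hN
    obtain ⟨gf, hgf⟩ : ∃ gf : (MvPolynomial (Fin d) R ⧸ 𝔛 ^ N) →ₐ[R]
        (MvPolynomial (Fin d) R ⧸ 𝔛 ^ 2),
        ∀ p, gf (Ideal.Quotient.mk _ p) = Ideal.Quotient.mk _ p :=
      ⟨Ideal.Quotient.factorₐ R hle, fun p => rfl⟩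
    have hsurj : Function.Surjective gf := by
      intro y
      obtain ⟨p, rfl⟩ := Ideal.Quotient.mk_surjective y
      exact ⟨Ideal.Quotient.mk _ p, hgf p⟩
    have hker : ∀ y, gf y = 0 → y ∈ (𝔛 ^ 2).map (Ideal.Quotient.mk (𝔛 ^ N)) := by
      intro y hy
      obtain ⟨p, rfl⟩ := Ideal.Quotient.mk_surjective y
      rw [hgf, Ideal.Quotient.eq_zero_iff_mem] at hy
      exact Ideal.mem_map_of_mem _ hy
    have hnil : IsNilpotent (RingHom.ker (gf : (MvPolynomial (Fin d) R ⧸ 𝔛 ^ N) →+*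
        (MvPolynomial (Fin d) R ⧸ 𝔛 ^ 2))) := by
      refine ⟨N, ?_⟩
      rw [Ideal.zero_eq_bot, eq_bot_iff]
      have h1 : RingHom.ker (gf : (MvPolynomial (Fin d) R ⧸ 𝔛 ^ N) →+*
          (MvPolynomial (Fin d) R ⧸ 𝔛 ^ 2)) ≤
          𝔛.map (Ideal.Quotient.mk (𝔛 ^ N)) := by
        intro y hy
        have h2 := hker y (RingHom.mem_ker.mp hy)
        exact Ideal.map_mono (Ideal.pow_le_self two_ne_zero) h2
      calc RingHom.ker (gf : (MvPolynomial (Fin d) R ⧸ 𝔛 ^ N) →+*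
          (MvPolynomial (Fin d) R ⧸ 𝔛 ^ 2)) ^ N
          ≤ (𝔛.map (Ideal.Quotient.mk (𝔛 ^ N))) ^ N := Ideal.pow_right_mono h1 N
        _ = (𝔛 ^ N).map (Ideal.Quotient.mk (𝔛 ^ N)) := (Ideal.map_pow _ _ _).symm
        _ = ⊥ := Ideal.map_quotient_self _
    obtain ⟨ψ, hψ⟩ : ∃ ψ : S →ₐ[R] MvPolynomial (Fin d) R ⧸ 𝔛 ^ N, ∀ s, gf (ψ s) = ψ₂ s :=
      ⟨Algebra.FormallySmooth.liftOfSurjective ψ₂ gf hsurj hnil,
        Algebra.FormallySmooth.liftOfSurjective_apply ψ₂ gf hsurj hnil⟩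
    refine ⟨ψ, ?_, ?_⟩
    · intro i
      apply hker
      rw [map_sub, hψ, hψ₂, hpolyx, hgf, sub_self]
    · intro s hs
      obtain ⟨p, hp⟩ := Ideal.Quotient.mk_surjective (ψ s)
      have h1 : Ideal.Quotient.mk (𝔛 ^ 2) p = Ideal.Quotient.mk (𝔛 ^ 2) (poly s) := by
        rw [← hgf, hp, hψ, hψ₂]
      rw [Ideal.Quotient.eq] at h1
      have h2 : p ∈ 𝔛 := by
        have h3 : p = (p - poly s) + poly s := by ring
        rw [h3]
        exact Ideal.add_mem _ (Ideal.pow_le_self two_ne_zero h1) (hpolyI s hs)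
      rw [← hp]; exact Ideal.mem_map_of_mem _ h2
  have hdec : I ≤ Ideal.span (Set.range fun i => ((x i : I) : S)) ⊔ I ^ 2 := by
    intro y hy
    have h1 : I.toCotangent ⟨y, hy⟩ =
        I.toCotangent (∑ i, (e (I.toCotangent ⟨y, hy⟩) i) • x i) := by
      apply e.injective
      rw [map_sum, map_sum]
      simp only [LinearMap.map_smul_of_tower, map_smul, hx]
      funext j
      simp [Finset.sum_apply, Pi.single_apply]
    have h2 := (I.toCotangent_eq).mp h1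
    have h3 : ((∑ i, (e (I.toCotangent ⟨y, hy⟩) i) • x i : I) : S) ∈
        Ideal.span (Set.range fun i => ((x i : I) : S)) := by
      rw [Submodule.coe_sum]
      refine Ideal.sum_mem _ (fun i _ => ?_)
      rw [Submodule.coe_smul_of_tower, Algebra.smul_def]
      exact Ideal.mul_mem_left _ _ (Ideal.subset_span ⟨i, rfl⟩)
    exact Submodule.mem_sup.mpr ⟨_, h3, _, h2, by simp⟩
  obtain ⟨h1, h3⟩ := exists_aeval_sub_mem σ I hσ (fun i => ((x i : I) : S)) (fun i => (x i).2) hdec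
  rw [← h𝔛] at h1
  have h2 : ∀ n (f : MvPolynomial (Fin d) R),
      aeval (fun i => ((x i : I) : S)) f ∈ I ^ n → f ∈ 𝔛 ^ n := by
    intro n f hf
    obtain ⟨ψ, ha, hb⟩ := hψN (n + 2) (by omega)
    exact mem_pow_of_aeval_mem 𝔛 h𝔛 I _ (n + 2) ψ ha hb n (by omega) f hf
  obtain ⟨E⟩ := ComplEquiv.nonempty_equiv (R₀ := R) 𝔛 I (aeval (fun i => ((x i : I) : S))) h1 h2 h3
  subst h𝔛
  exact ⟨E.symm.trans ((MvPowerSeries.toAdicCompletionAlgEquiv (Fin d) R).restrictScalars R).symm⟩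

end main

end Groth.Agent.Helper12.SmoothSection
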