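import Mathlib
import Groth.Prelude.Def_FSch3
import Groth.Agent.S3869
import Groth.Agent.Lib.Helper8.LocalCrit
import Groth.Agent.Lib.Helper12.ComplFlat

/-!
# The stalk ring `A_{S}` of a formal spectrum (helper12; for S3871, S3870, S4358)

`A{S⁻¹}` is faithfully flat over `A_{S}` (union of the images of the `A_{f}`), `A_{S}` is
Noetherian and flat over `A`.  Uses helper20's `S3869` (directedness of the images, `A_{S}` local),
`ComplFlat.complMap_flat`, the equational criterion of flatness, and helper8's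
`flat_of_faithfullyFlat_module`.
-/

set_option autoImplicit false
universe u
open TensorProduct

namespace Groth.Agent.Helper12.StalkFlat

open Groth.Agent

theorem flat_cAwayToAtPrime (A : Type u) [CommRing A] [IsNoetherianRing A] (J 𝔭 : Ideal A)
    [𝔭.IsPrime] (f : A) (hf : f ∉ 𝔭) : (FSch.cAwayToAtPrime A J 𝔭 f hf).Flat := by
  unfold FSch.cAwayToAtPrime
  apply ComplFlat.complMap_flat
  letI : Algebra (Localization.Away f) (Localization.AtPrime 𝔭) :=
    (FSch.awayToAtPrime A 𝔭 f hf).toAlgebra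
  haveI : IsScalarTower A (Localization.Away f) (Localization.AtPrime 𝔭) :=
    IsScalarTower.of_algebraMap_eq fun a => (S3869.awayToAtPrime_algebraMap A 𝔭 f hf a).symm
  haveI : IsLocalization ((𝔭.primeCompl).map (algebraMap A (Localization.Away f)))
      (Localization.AtPrime 𝔭) :=
    IsLocalization.isLocalization_of_submonoid_le (Localization.Away f) (Localization.AtPrime 𝔭)
      (Submonoid.powers f) 𝔭.primeCompl (by rw [Submonoid.powers_le]; exact hf)
  exact IsLocalization.flat (Localization.AtPrime 𝔭)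
    ((𝔭.primeCompl).map (algebraMap A (Localization.Away f)))

theorem isLocalRing_cAtPrime (A : Type u) [CommRing A] (J 𝔭 : Ideal A) [𝔭.IsPrime] (hJ : J ≤ 𝔭) :
    IsLocalRing (FSch.cAtPrime A J 𝔭) := by
  haveI : IsLocalHom (S3869.psi A J 𝔭 hJ) := ⟨fun x hx => by
    obtain ⟨r, hr⟩ := Ideal.Quotient.mk_surjective
      (AdicCompletion.evalOneₐ (J.map (algebraMap A (Localization.AtPrime 𝔭))) x)
    rw [S3869.psi_apply A J 𝔭 hJ x r hr.symm] at hx
    have hr' : IsUnit r := (isUnit_map_iff (IsLocalRing.residue _) r).mp hx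
    apply S3869.isUnit_of_evalOne
    rw [← hr]
    exact hr'.map _⟩
  exact RingHom.domain_isLocalRing (S3869.psi A J 𝔭 hJ)

theorem flat_stalk (A : Type u) [CommRing A] [IsNoetherianRing A] (J 𝔭 : Ideal A) [h𝔭 : 𝔭.IsPrime] :
    Module.Flat (FSch.stalkSubring A J 𝔭) (FSch.cAtPrime A J 𝔭) := by
  classical
  apply Module.Flat.of_forall_isTrivialRelation
  intro l u x hsum
  have hmem : ∀ i, ∃ (f : A) (hf : f ∉ 𝔭),
      (u i : FSch.cAtPrime A J 𝔭) ∈ (FSch.cAwayToAtPrime A J 𝔭 f hf).range :=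
    fun i => (S3869.mem_stalk_iff A J 𝔭 _).mp (u i).2
  choose fi hfi hri using hmem
  have hf : (∏ i, fi i) ∉ 𝔭 := by
    intro h
    obtain ⟨i, -, hi⟩ := (Ideal.IsPrime.prod_mem_iff).mp h
    exact hfi i hi
  have hr : ∀ i, (u i : FSch.cAtPrime A J 𝔭) ∈
      (FSch.cAwayToAtPrime A J 𝔭 (∏ i, fi i) hf).range := fun i =>
    S3869.range_le A J 𝔭 (fi i) (∏ i, fi i) (hfi i) hf
      (by
        obtain ⟨a, ha⟩ := Finset.dvd_prod_of_mem fi (Finset.mem_univ i)
        exact ⟨a, ha⟩) (hri i)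
  choose p hp using hr
  have hφ := flat_cAwayToAtPrime A J 𝔭 (∏ i, fi i) hf
  letI : Algebra (FSch.cAway A J (∏ i, fi i)) (FSch.cAtPrime A J 𝔭) :=
    (FSch.cAwayToAtPrime A J 𝔭 (∏ i, fi i) hf).toAlgebra
  haveI : Module.Flat (FSch.cAway A J (∏ i, fi i)) (FSch.cAtPrime A J 𝔭) := hφ
  have hsmul : ∀ (q : FSch.cAway A J (∏ i, fi i)) (t : FSch.cAtPrime A J 𝔭),
      q • t = FSch.cAwayToAtPrime A J 𝔭 (∏ i, fi i) hf q * t := fun q t => by
    rw [Algebra.smul_def, RingHom.algebraMap_toAlgebra]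
  have hsum' : ∑ i, p i • x i = 0 := by
    rw [← hsum]
    refine Finset.sum_congr rfl fun i _ => ?_
    rw [hsmul, hp i, Subring.smul_def, smul_eq_mul]
  have H := Module.Flat.isTrivialRelation_of_sum_smul_eq_zero
    (R := FSch.cAway A J (∏ i, fi i)) (M := FSch.cAtPrime A J 𝔭) (f := p) (x := x) hsum'
  obtain ⟨k, a, y, hxy, hay⟩ := H
  refine ⟨k, fun i j => ⟨FSch.cAwayToAtPrime A J 𝔭 (∏ i, fi i) hf (a i j),
    (S3869.mem_stalk_iff A J 𝔭 _).mpr ⟨_, hf, a i j, rfl⟩⟩, y, ?_, ?_⟩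
  · intro i
    rw [hxy i]
    refine Finset.sum_congr rfl fun j _ => ?_
    rw [hsmul, Subring.smul_def, smul_eq_mul]
  · intro j
    apply (FSch.stalkSubring A J 𝔭).subtype_injective
    have h1 := congrArg (FSch.cAwayToAtPrime A J 𝔭 (∏ i, fi i) hf) (hay j)
    rw [map_sum, map_zero] at h1
    rw [map_sum, map_zero, ← h1]
    refine Finset.sum_congr rfl fun i _ => ?_
    rw [map_mul, map_mul, hp i]
    rfl

theorem main3871 (A : Type u) [CommRing A] [IsNoetherianRing A]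
    (J : Ideal A) (𝔭 : Ideal A) [𝔭.IsPrime] (hJ : J ≤ 𝔭) :
    Module.FaithfullyFlat (FSch.stalkSubring A J 𝔭) (FSch.cAtPrime A J 𝔭) := by
  obtain ⟨h1, h2⟩ := S3869.result A J 𝔭 hJ
  haveI := h1
  haveI := isLocalRing_cAtPrime A J 𝔭 hJ
  haveI : IsLocalHom (algebraMap (FSch.stalkSubring A J 𝔭) (FSch.cAtPrime A J 𝔭)) :=
    ⟨fun a ha => h2.map_nonunit a ha⟩
  haveI := flat_stalk A J 𝔭
  exact Module.FaithfullyFlat.of_flat_of_isLocalHom

theorem noeth_of_faithfullyFlat {U T : Type*} [CommRing U] [CommRing T] [Algebra U T]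
    [Module.FaithfullyFlat U T] [IsNoetherianRing T] : IsNoetherianRing U := by
  have hT : WellFoundedGT (Ideal T) := isNoetherian_iff'.mp ‹IsNoetherianRing T›
  let e : Ideal U ↪o Ideal T := OrderEmbedding.ofMapLEIff (Ideal.map (algebraMap U T))
    (fun I I' => ⟨fun h => by
      have := Ideal.comap_mono (f := algebraMap U T) h
      rwa [Ideal.comap_map_eq_self_of_faithfullyFlat,
        Ideal.comap_map_eq_self_of_faithfullyFlat] at this, fun h => Ideal.map_mono h⟩)
  exact isNoetherian_iff'.mpr e.wellFoundedGT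

theorem main3870 (A : Type u) [CommRing A] [IsNoetherianRing A] (J : Ideal A)
    (𝔭 : Ideal A) [𝔭.IsPrime] (hJ : J ≤ 𝔭) : IsNoetherianRing (FSch.stalkSubring A J 𝔭) := by
  haveI := main3871 A J 𝔭 hJ
  haveI : IsNoetherianRing (FSch.cAtPrime A J 𝔭) :=
    S19474.isNoetherianRing_adicCompletion _ _
  exact noeth_of_faithfullyFlat (T := FSch.cAtPrime A J 𝔭)

theorem main4358
    (A : Type u) [CommRing A] [IsNoetherianRing A] (J 𝔭 : Ideal A) [𝔭.IsPrime] (hJ : J ≤ 𝔭)
    (h : ∀ a : A, ((algebraMap (Localization.AtPrime 𝔭) (FSch.cAtPrime A J 𝔭)).comp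
      (algebraMap A (Localization.AtPrime 𝔭))) a ∈ FSch.stalkSubring A J 𝔭) :
    (((algebraMap (Localization.AtPrime 𝔭) (FSch.cAtPrime A J 𝔭)).comp
      (algebraMap A (Localization.AtPrime 𝔭))).codRestrict (FSch.stalkSubring A J 𝔭) h).Flat := by
  letI : Algebra A (FSch.stalkSubring A J 𝔭) :=
    (((algebraMap (Localization.AtPrime 𝔭) (FSch.cAtPrime A J 𝔭)).comp
      (algebraMap A (Localization.AtPrime 𝔭))).codRestrict (FSch.stalkSubring A J 𝔭) h).toAlgebra
  show Module.Flat A (FSch.stalkSubring A J 𝔭)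
  haveI := main3871 A J 𝔭 hJ
  haveI : IsScalarTower A (Localization.AtPrime 𝔭) (FSch.cAtPrime A J 𝔭) :=
    IsScalarTower.of_algebraMap_eq fun a => rfl
  haveI : Module.Flat A (FSch.cAtPrime A J 𝔭) :=
    Module.Flat.trans A (Localization.AtPrime 𝔭) (FSch.cAtPrime A J 𝔭)
  haveI : IsScalarTower A (FSch.stalkSubring A J 𝔭) (FSch.cAtPrime A J 𝔭) :=
    IsScalarTower.of_algebraMap_eq fun a => rfl
  exact Groth.Agent.Helper8.LocalCrit.flat_of_faithfullyFlat_module (R := A)
    (S := FSch.stalkSubring A J 𝔭) (M := FSch.cAtPrime A J 𝔭)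

end Groth.Agent.Helper12.StalkFlat
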