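import Mathlib
import Groth.Prelude.Def_Smoothing

set_option autoImplicit false

namespace Groth.Agent.Helper12.StdBC

open TensorProduct MvPolynomial

universe u

variable {R A R' : Type u} [CommRing R] [CommRing A] [Algebra R A] [CommRing R'] [Algebra R R']

/-- The base-changed hom. -/
noncomputable def hom' (P : Smoothing.MarkedPresentation R A) :
    MvPolynomial (Fin P.n) R' →ₐ[R'] R' ⊗[R] A :=
  MvPolynomial.aeval (fun i => (1 : R') ⊗ₜ[R] P.hom (X i))

lemma hom'_X (P : Smoothing.MarkedPresentation R A) (i : Fin P.n) :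
    hom' (R' := R') P (X i) = (1 : R') ⊗ₜ[R] P.hom (X i) := by
  unfold hom'; rw [aeval_X]

lemma hom'_map (P : Smoothing.MarkedPresentation R A) (p : MvPolynomial (Fin P.n) R) :
    hom' (R' := R') P (MvPolynomial.map (algebraMap R R') p) = (1 : R') ⊗ₜ[R] P.hom p := by
  induction p using MvPolynomial.induction_on with
  | C a =>
    have h1 : P.hom (C a) = algebraMap R A a := by
      rw [← MvPolynomial.algebraMap_eq]; exact P.hom.commutes a
    have h2 : hom' (R' := R') P (C (algebraMap R R' a)) =
        algebraMap R' (R' ⊗[R] A) (algebraMap R R' a) := by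
      rw [← MvPolynomial.algebraMap_eq]; exact (hom' P).commutes _
    rw [map_C, h2, h1, Algebra.TensorProduct.algebraMap_apply, Algebra.algebraMap_self,
      RingHom.id_apply, Algebra.algebraMap_eq_smul_one, Algebra.algebraMap_eq_smul_one (A := A),
      TensorProduct.smul_tmul]
  | add p q hp hq => rw [map_add, map_add, map_add, hp, hq, TensorProduct.tmul_add]
  | mul_X p i hp =>
    rw [map_mul (MvPolynomial.map _), map_mul (hom' P), hp, map_X, hom'_X,
      Algebra.TensorProduct.tmul_mul_tmul, one_mul, map_mul]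

noncomputable def gens (P : Smoothing.MarkedPresentation R A) :
    Algebra.Generators R A (Fin P.n) :=
  Algebra.Generators.ofAlgHom P.hom P.surj

lemma aeval_gens (P : Smoothing.MarkedPresentation R A) :
    (aeval (gens P).val : MvPolynomial (Fin P.n) R →ₐ[R] A) = P.hom := by
  show aeval (P.hom ∘ X) = P.hom
  ext i; simp

noncomputable def pres (P : Smoothing.MarkedPresentation R A) :
    Algebra.Presentation R A (Fin P.n) (Fin P.m) where
  __ := gens P
  relation := P.rel
  span_range_relation_eq_ker := by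
    rw [Algebra.Generators.ker_eq_ker_aeval_val]
    show _ = RingHom.ker (aeval (gens P).val)
    rw [aeval_gens P, ← P.ker_eq]
    rfl

lemma aeval_bc (P : Smoothing.MarkedPresentation R A) :
    (aeval ((pres P).baseChange R').val : MvPolynomial (Fin P.n) R' →ₐ[R'] R' ⊗[R] A) =
      hom' P := rfl

lemma ker_hom' (P : Smoothing.MarkedPresentation R A) :
    RingHom.ker (hom' (R' := R') P) =
      Ideal.span (Set.range fun j => MvPolynomial.map (algebraMap R R') (P.rel j)) := by
  have h := (pres P).span_range_relation_eq_ker_baseChange R'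
  exact h.symm

lemma surj_hom' (P : Smoothing.MarkedPresentation R A) :
    Function.Surjective (hom' (R' := R') P) := by
  intro s
  refine ⟨((pres P).baseChange R').σ' s, ?_⟩
  have := ((pres P).baseChange R').aeval_val_σ' s
  rw [aeval_bc] at this
  exact this

/-- The base-changed marked presentation. -/
noncomputable def P' (P : Smoothing.MarkedPresentation R A) :
    Smoothing.MarkedPresentation R' (R' ⊗[R] A) where
  n := P.n
  m := P.m
  c := P.c
  hcn := P.hcn
  hcm := P.hcm
  rel j := MvPolynomial.map (algebraMap R R') (P.rel j)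
  hom := hom' P
  surj := surj_hom' P
  ker_eq := by
    rw [← ker_hom' P]
    rfl

lemma minor_map {n m c : ℕ} (f : Fin m → MvPolynomial (Fin n) R) (rows : Fin c → Fin m)
    (cols : Fin c → Fin n) :
    Smoothing.jacobianMinor (fun j => MvPolynomial.map (algebraMap R R') (f j)) rows cols =
      MvPolynomial.map (algebraMap R R') (Smoothing.jacobianMinor f rows cols) := by
  unfold Smoothing.jacobianMinor
  rw [RingHom.map_det]
  congr 1
  ext j k
  simp [pderiv_map]

lemma key (P : Smoothing.MarkedPresentation R A) (cols : Fin P.c → Fin P.n) :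
    hom' (R' := R') P (Smoothing.jacobianMinor
        (fun j => MvPolynomial.map (algebraMap R R') (P.rel j)) (Fin.castLE P.hcm) cols) =
      (1 : R') ⊗ₜ[R] P.hom (Smoothing.jacobianMinor P.rel (Fin.castLE P.hcm) cols) := by
  rw [minor_map, hom'_map]

theorem killsTail_aux (P : Smoothing.MarkedPresentation R A) (a : A)
    (hk : Smoothing.KillsTail P a) (b' : MvPolynomial (Fin P.n) R')
    (hb' : hom' (R' := R') P b' = (1 : R') ⊗ₜ[R] a) (j : Fin P.m) (hj : P.c ≤ (j : ℕ)) :
    b' * MvPolynomial.map (algebraMap R R') (P.rel j) ∈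
      Ideal.span ((fun j => MvPolynomial.map (algebraMap R R') (P.rel j)) ''
        {j' : Fin P.m | (j' : ℕ) < P.c}) ⊔
      Ideal.span (Set.range fun j => MvPolynomial.map (algebraMap R R') (P.rel j)) ^ 2 := by
  obtain ⟨a₀, ha₀⟩ := P.surj a
  have h0 := hk a₀ ha₀ j hj
  let φ : MvPolynomial (Fin P.n) R →+* MvPolynomial (Fin P.n) R' :=
    MvPolynomial.map (algebraMap R R')
  have h1 := Ideal.mem_map_of_mem φ h0
  rw [Ideal.map_sup, Ideal.map_pow, Ideal.map_span, Ideal.map_span, ← Set.range_comp,
    Set.image_image] at h1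
  have h2 : b' - φ a₀ ∈ Ideal.span (Set.range fun j => φ (P.rel j)) := by
    have : b' - φ a₀ ∈ RingHom.ker (hom' (R' := R') P) := by
      rw [RingHom.mem_ker, map_sub, hom'_map, ha₀, hb', sub_self]
    rw [ker_hom'] at this
    exact this
  have h3 : (b' - φ a₀) * φ (P.rel j) ∈
      Ideal.span (Set.range fun j => φ (P.rel j)) ^ 2 := by
    have hj' : φ (P.rel j) ∈ Ideal.span (Set.range fun j => φ (P.rel j)) :=
      Ideal.subset_span (Set.mem_range_self j)
    have := Ideal.mul_mem_mul h2 hj'
    rwa [← pow_two] at this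
  have h4 : b' * φ (P.rel j) =
      φ (a₀ * P.rel j) + (b' - φ a₀) * φ (P.rel j) := by
    rw [map_mul]
    ring
  show b' * φ (P.rel j) ∈ _
  rw [h4]
  exact Ideal.add_mem _ h1 (Ideal.mem_sup_right h3)

theorem killsTail (P : Smoothing.MarkedPresentation R A) (a : A)
    (hk : Smoothing.KillsTail P a) :
    Smoothing.KillsTail (P' (R' := R') P) ((1 : R') ⊗ₜ[R] a) :=
  fun b' hb' j hj => killsTail_aux P a hk b' hb' j hj

theorem elem_aux (P : Smoothing.MarkedPresentation R A) (a a' : A)
    (ha' : a = a' * P.hom (Smoothing.jacobianMinor P.rel (Fin.castLE P.hcm)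
      (Fin.castLE P.hcn))) :
    (1 : R') ⊗ₜ[R] a = ((1 : R') ⊗ₜ[R] a') * hom' (R' := R') P (Smoothing.jacobianMinor
        (fun j => MvPolynomial.map (algebraMap R R') (P.rel j)) (Fin.castLE P.hcm)
        (Fin.castLE P.hcn)) := by
  rw [key, Algebra.TensorProduct.tmul_mul_tmul, one_mul, ← ha']

theorem elem (a : A) (h : Smoothing.IsElementaryStandard R A a) :
    Smoothing.IsElementaryStandard R' (R' ⊗[R] A) ((1 : R') ⊗ₜ[R] a) := by
  obtain ⟨P, ⟨a', ha'⟩, hk⟩ := h
  exact ⟨P' P, ⟨(1 : R') ⊗ₜ[R] a', elem_aux P a a' ha'⟩, killsTail P a hk⟩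

theorem strict_aux (P : Smoothing.MarkedPresentation R A) (a : A)
    (hmem : a ∈ Ideal.span (Set.range fun cols : Fin P.c → Fin P.n =>
        P.hom (Smoothing.jacobianMinor P.rel (Fin.castLE P.hcm) cols))) :
    (1 : R') ⊗ₜ[R] a ∈ Ideal.span (Set.range fun cols : Fin P.c → Fin P.n =>
        hom' (R' := R') P (Smoothing.jacobianMinor
          (fun j => MvPolynomial.map (algebraMap R R') (P.rel j)) (Fin.castLE P.hcm) cols)) := by
  have h1 : (Algebra.TensorProduct.includeRight : A →ₐ[R] R' ⊗[R] A) a ∈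
      Ideal.map (Algebra.TensorProduct.includeRight : A →ₐ[R] R' ⊗[R] A)
        (Ideal.span (Set.range fun cols : Fin P.c → Fin P.n =>
          P.hom (Smoothing.jacobianMinor P.rel (Fin.castLE P.hcm) cols))) :=
    Ideal.mem_map_of_mem _ hmem
  rw [Ideal.map_span] at h1
  refine Ideal.span_mono ?_ h1
  rintro _ ⟨_, ⟨cols, rfl⟩, rfl⟩
  exact ⟨cols, key P cols⟩

theorem strict (a : A) (h : Smoothing.IsStrictlyStandard R A a) :
    Smoothing.IsStrictlyStandard R' (R' ⊗[R] A) ((1 : R') ⊗ₜ[R] a) := by
  obtain ⟨P, hmem, hk⟩ := h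
  exact ⟨P' P, strict_aux P a hmem, killsTail P a hk⟩

theorem main {R A R' : Type u} [CommRing R] [CommRing A] [Algebra R A]
    [CommRing R'] [Algebra R R'] (a : A) :
    (Smoothing.IsElementaryStandard R A a →
        Smoothing.IsElementaryStandard R' (R' ⊗[R] A) ((1 : R') ⊗ₜ[R] a)) ∧
      (Smoothing.IsStrictlyStandard R A a →
        Smoothing.IsStrictlyStandard R' (R' ⊗[R] A) ((1 : R') ⊗ₜ[R] a)) :=
  ⟨elem a, strict a⟩

end Groth.Agent.Helper12.StdBC
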