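import Mathlib
import Groth.Prelude.Def_Coh

/-!
# Sections of `M~` over quasi-compact opens of `Spec R` are projective when `M` is

Dual-basis argument: the coordinate forms `l j : M → R` of a projective module induce maps of sheaves
`M~ → O`, hence coordinate forms on `Γ(M~, U)`; quasi-compactness of `U` gives finite support, and the
dual-basis identity is checked locally on basic opens.
-/

set_option autoImplicit false
universe u
open CategoryTheory AlgebraicGeometry TopologicalSpace Opposite

namespace Groth.Agent.Helper12.TildeProj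

variable (R : CommRingCat.{u}) (M : ModuleCat.{u} R)

/-- the map on sections over `V` induced by a linear form. -/
noncomputable def mu (l : M →ₗ[R] R) (V : (Spec R).Opens) :
    Γ(tilde M, V) →ₗ[Γ(Spec R, V)] Γ(Spec R, V) :=
  ((tilde.map (ModuleCat.ofHom (Y := ModuleCat.of R R) l)).val.app (op V)).hom

/-- the section of `M~` over `V` given by an element of `M`. -/
noncomputable def nn (V : (Spec R).Opens) (j : M) : Γ(tilde M, V) := (tilde.toOpen M V).hom j

theorem nn_smul (V : (Spec R).Opens) (r : R) (j : M) : nn R M V (r • j) = r • nn R M V j :=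
  (tilde.toOpen M V).hom.map_smul r j

theorem nn_zero (V : (Spec R).Opens) : nn R M V 0 = 0 := (tilde.toOpen M V).hom.map_zero

theorem nn_sum (V : (Spec R).Opens) {ι : Type*} (t : Finset ι) (f : ι → M) :
    nn R M V (∑ j ∈ t, f j) = ∑ j ∈ t, nn R M V (f j) := map_sum (tilde.toOpen M V).hom f t

theorem nn_res {U V : (Spec R).Opens} (i : V ⟶ U) (j : M) :
    (tilde M).presheaf.map i.op (nn R M U j) = nn R M V j := rfl

/-- the section of `O` over `V` given by an element of `R` (via `tilde R`). -/
noncomputable def cc (V : (Spec R).Opens) (r : R) : Γ(Spec R, V) :=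
  (tilde.toOpen (ModuleCat.of R R) V).hom r

theorem mu_toOpen (l : M →ₗ[R] R) (V : (Spec R).Opens) (p : M) :
    mu R M l V (nn R M V p) = cc R V (l p) := by
  have := tilde.toOpen_map_app (ModuleCat.ofHom (Y := ModuleCat.of R R) l) V
  exact congr($this p)

theorem mu_res (l : M →ₗ[R] R) {U V : (Spec R).Opens} (i : V ⟶ U) (n : Γ(tilde M, U)) :
    mu R M l V ((tilde M).presheaf.map i.op n) = (Spec R).presheaf.map i.op (mu R M l U n) := by
  have := PresheafOfModules.naturality_apply
    (tilde.map (ModuleCat.ofHom (Y := ModuleCat.of R R) l)).val i.op n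
  exact this

theorem toOpen_self_smul {V : (Spec R).Opens} (r : R) (y : Γ(tilde M, V)) :
    cc R V r • y = r • y := rfl

theorem cc_zero (V : (Spec R).Opens) : cc R V 0 = 0 :=
  (tilde.toOpen (ModuleCat.of R R) V).hom.map_zero

theorem mu_smul (l : M →ₗ[R] R) (V : (Spec R).Opens) (r : R) (y : Γ(tilde M, V)) :
    mu R M l V (r • y) = cc R V r * mu R M l V y := by
  rw [← toOpen_self_smul, map_smul]
  rfl

/-- sections agreeing locally are equal. -/
theorem eq_of_res_eq (F : (Spec R).Modules) {U : (Spec R).Opens} (s t : Γ(F, U))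
    (h : ∀ x ∈ U, ∃ (V : (Spec R).Opens) (i : V ⟶ U), x ∈ V ∧
      F.presheaf.map i.op s = F.presheaf.map i.op t) : s = t := by
  refine TopCat.Presheaf.section_ext ((SheafOfModules.toSheaf _).obj F) U s t (fun x hx => ?_)
  obtain ⟨V, i, hxV, hVeq⟩ := h x hx
  have h1 := TopCat.Presheaf.germ_res_apply F.presheaf i x hxV s
  have h2 := TopCat.Presheaf.germ_res_apply F.presheaf i x hxV t
  exact h1.symm.trans ((congrArg _ hVeq).trans h2)

/-- basic opens, typed as opens of the scheme `Spec R`. -/
abbrev D (a : R) : (Spec R).Opens := PrimeSpectrum.basicOpen a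

/-- local representation of a section of `M~` as a fraction. -/
theorem exists_local (U : (Spec R).Opens) (n : Γ(tilde M, U)) (x : Spec R) (hx : x ∈ U) :
    ∃ (a : R) (_ : x ∈ D R a) (hle : D R a ≤ U) (p : M) (m : ℕ),
      a ^ m • (tilde M).presheaf.map (homOfLE hle).op n = nn R M (D R a) p := by
  obtain ⟨_, ⟨_, ⟨a, rfl⟩, rfl⟩, hxa, haU⟩ :=
    PrimeSpectrum.isBasis_basic_opens.exists_subset_of_mem_open hx U.2
  have hle : D R a ≤ U := haU
  obtain ⟨⟨p, ⟨_, m, rfl⟩⟩, h⟩ := IsLocalizedModule.surj (Submonoid.powers (a : R))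
    (tilde.toOpen M (D R a)).hom ((tilde M).presheaf.map (homOfLE hle).op n)
  exact ⟨a, hxa, hle, p, m, h⟩

variable {R M}

theorem projective_sections (hM : Module.Projective R M) (U : (Spec R).Opens)
    (hU : IsCompact (U : Set (Spec R))) : Module.Projective Γ(Spec R, U) Γ(tilde M, U) := by
  classical
  obtain ⟨s, hs⟩ := (Module.projective_def' (R := R) (P := M)).mp hM
  let l : M → (M →ₗ[R] R) := fun j => (Finsupp.lapply j) ∘ₗ s
  have hl : ∀ j p, l j p = s p j := fun j p => rfl
  have hsum : ∀ p : M, ((s p).sum fun j r => r • j) = p := by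
    intro p
    have := congr($hs p)
    simpa [Finsupp.linearCombination_apply] using this
  -- finite support
  have hfin : ∀ n : Γ(tilde M, U), (Function.support fun j : M => mu R M (l j) U n).Finite := by
    intro n
    choose a hxa hle p m hloc using fun x : U => exists_local R M U n x.1 x.2
    obtain ⟨t, ht⟩ := hU.elim_finite_subcover
      (fun x : U => ((D R (a x) : (Spec R).Opens) : Set (Spec R)))
      (fun x => (D R (a x)).2) (fun y hy => Set.mem_iUnion.mpr ⟨⟨y, hy⟩, hxa ⟨y, hy⟩⟩)
    refine (t.biUnion fun x => (s (p x)).support).finite_toSet.subset ?_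
    intro j hj
    by_contra hjn
    apply hj
    refine eq_of_res_eq R (tilde (ModuleCat.of R R)) (U := U) (mu R M (l j) U n) 0 (fun y hy => ?_)
    obtain ⟨x, hxt, hyx⟩ : ∃ x ∈ t, y ∈ D R (a x) := by
      have := ht hy
      simpa using this
    refine ⟨D R (a x), homOfLE (hle x), hyx, ?_⟩
    have h1 : (tilde (ModuleCat.of R R)).presheaf.map (homOfLE (hle x)).op (mu R M (l j) U n) =
        mu R M (l j) (D R (a x)) ((tilde M).presheaf.map (homOfLE (hle x)).op n) :=
      (mu_res R M (l j) (homOfLE (hle x)) n).symm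
    rw [h1, map_zero]
    have hreg : IsSMulRegular Γ(tilde (ModuleCat.of R R), D R (a x)) (a x ^ m x) :=
      (Scheme.Modules.isSMulRegular_of_le_basicOpen (M := tilde (ModuleCat.of R R))
        (U := D R (a x)) (f := a x) le_rfl).pow (m x)
    have h2 : mu R M (l j) (D R (a x))
        (a x ^ m x • (tilde M).presheaf.map (homOfLE (hle x)).op n) = 0 := by
      rw [hloc x, mu_toOpen, hl]
      have : (s (p x)) j = 0 := by
        by_contra h0
        exact hjn (Finset.mem_coe.mpr (Finset.mem_biUnion.mpr
          ⟨x, hxt, Finsupp.mem_support_iff.mpr h0⟩))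
      rw [this, cc_zero]
    rw [mu_smul] at h2
    have key : a x ^ m x • (show Γ(tilde (ModuleCat.of R R), D R (a x)) from
        mu R M (l j) (D R (a x)) ((tilde M).presheaf.map (homOfLE (hle x)).op n)) = 0 := h2
    exact hreg (key.trans (smul_zero _).symm)
  let i : Γ(tilde M, U) →ₗ[Γ(Spec R, U)] (M →₀ Γ(Spec R, U)) :=
    { toFun := fun n => Finsupp.ofSupportFinite (fun j => mu R M (l j) U n) (hfin n)
      map_add' := fun n n' => by ext j; simp [Finsupp.ofSupportFinite_coe]
      map_smul' := fun c n => by ext j; simp [Finsupp.ofSupportFinite_coe] }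
  have hi : ∀ n j, i n j = mu R M (l j) U n := fun n j => rfl
  let s' : (M →₀ Γ(Spec R, U)) →ₗ[Γ(Spec R, U)] Γ(tilde M, U) :=
    Finsupp.linearCombination Γ(Spec R, U) (fun j : M => nn R M U j)
  refine Module.Projective.of_split i s' ?_
  refine LinearMap.ext fun n => ?_
  change (Finsupp.linearCombination Γ(Spec R, U) (fun j : M => nn R M U j)) (i n) = n
  rw [Finsupp.linearCombination_apply, Finsupp.sum]
  refine eq_of_res_eq R (tilde M) _ n (fun y hy => ?_)
  obtain ⟨a, hya, hle, p, m, hloc⟩ := exists_local R M U n y hy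
  refine ⟨D R a, homOfLE hle, hya, ?_⟩
  have hreg : IsSMulRegular Γ(tilde M, D R a) (a ^ m) :=
    (Scheme.Modules.isSMulRegular_of_le_basicOpen (M := tilde M) (U := D R a) (f := a) le_rfl).pow m
  refine hreg ?_
  show a ^ m • (tilde M).presheaf.map (homOfLE hle).op (∑ j ∈ (i n).support, (i n) j • nn R M U j) =
    a ^ m • (tilde M).presheaf.map (homOfLE hle).op n
  rw [hloc, map_sum, Finset.smul_sum]
  have hterm : ∀ j, a ^ m • (tilde M).presheaf.map (homOfLE hle).op
      ((i n) j • nn R M U j) = nn R M (D R a) ((s p j) • j) := by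
    intro j
    have e1 : (tilde M).presheaf.map (homOfLE hle).op ((i n) j • nn R M U j) =
        ((Spec R).presheaf.map (homOfLE hle).op ((i n) j)) • nn R M (D R a) j :=
      Scheme.Modules.map_smul (M := tilde M) (homOfLE hle) ((i n) j) _
    have e2 : (Spec R).presheaf.map (homOfLE hle).op ((i n) j) =
        mu R M (l j) (D R a) ((tilde M).presheaf.map (homOfLE hle).op n) :=
      (mu_res R M (l j) (homOfLE hle) n).symm
    have e3 : cc R (D R a) (a ^ m) *
        mu R M (l j) (D R a) ((tilde M).presheaf.map (homOfLE hle).op n) =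
        cc R (D R a) (s p j) := by
      have := mu_smul R M (l j) (D R a) (a ^ m) ((tilde M).presheaf.map (homOfLE hle).op n)
      rw [hloc, mu_toOpen, hl] at this
      exact this.symm
    rw [e1, e2, ← toOpen_self_smul, ← mul_smul, e3, toOpen_self_smul, nn_smul]
  rw [Finset.sum_congr rfl (fun j _ => hterm j)]
  conv_rhs => rw [← hsum p, Finsupp.sum, nn_sum]
  have hT1 : ∀ j, j ∉ (i n).support → nn R M (D R a) ((s p j) • j) = 0 := by
    intro j hj
    rw [← hterm j, Finsupp.notMem_support_iff.mp hj, zero_smul, map_zero, smul_zero]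
  have hT2 : ∀ j, j ∉ (s p).support → nn R M (D R a) ((s p j) • j) = 0 := by
    intro j hj
    rw [Finsupp.notMem_support_iff.mp hj, zero_smul, nn_zero]
  rw [Finset.sum_subset (Finset.subset_union_left (s₂ := (s p).support)) (fun j _ hj => hT1 j hj),
    Finset.sum_subset (Finset.subset_union_right (s₁ := (i n).support)) (fun j _ hj => hT2 j hj)]

variable (R M) in
/-- global sections: projective over `Γ(Spec R, ⊤)` implies `M` projective over `R`. -/
theorem projective_of_top (h : Module.Projective Γ(Spec R, ⊤) Γ(tilde M, ⊤)) :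
    Module.Projective R M := by
  let σ : Γ(Spec R, ⊤) →+* R := (Scheme.ΓSpecIso R).hom.hom
  let σ' : R →+* Γ(Spec R, ⊤) := (Scheme.ΓSpecIso R).inv.hom
  have i1 : RingHomInvPair σ σ' :=
    ⟨by ext x; exact congr($((Scheme.ΓSpecIso R).hom_inv_id) x),
     by ext x; exact congr($((Scheme.ΓSpecIso R).inv_hom_id) x)⟩
  have i2 : RingHomInvPair σ' σ :=
    ⟨by ext x; exact congr($((Scheme.ΓSpecIso R).inv_hom_id) x),
     by ext x; exact congr($((Scheme.ΓSpecIso R).hom_inv_id) x)⟩
  let e : Γ(tilde M, ⊤) ≃ₛₗ[σ] Γ(tilde M, ⊤) :=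
    { toFun := id
      map_add' := fun _ _ => rfl
      map_smul' := fun c x => by
        show c • x = σ c • x
        rw [Scheme.Modules.smul_Spec_def]
        have h1 : (Scheme.ΓSpecIso R).inv (σ c) = c :=
          congr($((Scheme.ΓSpecIso R).hom_inv_id) c)
        rw [h1]
        have h2 : (Spec R).presheaf.map (⊤ : (Spec R).Opens).leTop.op = 𝟙 _ :=
          (Spec R).presheaf.map_id _
        rw [h2]
        rfl
      invFun := id
      left_inv := fun _ => rfl
      right_inv := fun _ => rfl }
  have h3 : Module.Projective R Γ(tilde M, ⊤) := Module.Projective.of_equiv e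
  have h4 : Module.Projective R ↑((modulesSpecToSheaf.obj (tilde M)).presheaf.obj (op ⊤)) := h3
  exact Module.Projective.of_equiv' (tilde.isoTop M).toLinearEquiv.symm

variable (R M) in
theorem main :
    (∀ U : (Spec R).Opens, IsAffineOpen U →
      Module.Projective ((Spec R).ringCatSheaf.obj.obj (op U)) ((tilde M).val.obj (op U))) ↔
      Module.Projective R M := by
  constructor
  · intro h
    exact projective_of_top R M (h ⊤ (isAffineOpen_top _))
  · intro hM U hU
    exact projective_sections hM U hU.isCompact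

end Groth.Agent.Helper12.TildeProj
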