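import Mathlib

set_option autoImplicit false

namespace Groth.Agent.Helper12.TorsHom

open TensorProduct

universe u

section

variable (R S : Type u) [CommRing R] [CommRing S] [Algebra R S]

/-- the canonical map `T → S ⊗ T` -/
noncomputable def eta (T : Type*) [AddCommGroup T] [Module R T] : T →ₗ[R] S ⊗[R] T :=
  (TensorProduct.mk R S T) 1

lemma eta_apply (T : Type*) [AddCommGroup T] [Module R T] (t : T) :
    eta R S T t = (1 : S) ⊗ₜ[R] t := rfl

variable {R S}

lemma tmul_eq_zero_of_mem_map (𝔞 : Ideal R) (T : Type*) [AddCommGroup T] [Module R T]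
    (hT : ∀ a ∈ 𝔞, ∀ t : T, a • t = 0) (x : S) (hx : x ∈ 𝔞.map (algebraMap R S)) (t : T) :
    x ⊗ₜ[R] t = 0 := by
  let K : Ideal S :=
    { carrier := {x | ∀ t : T, x ⊗ₜ[R] t = (0 : S ⊗[R] T)}
      zero_mem' := fun t => zero_tmul _ _
      add_mem' := fun {a b} ha hb t => by rw [add_tmul, ha t, hb t, add_zero]
      smul_mem' := fun c x hx t => by
        show (c • x) ⊗ₜ[R] t = 0
        rw [← smul_tmul', hx t, smul_zero] }
  have hle : 𝔞.map (algebraMap R S) ≤ K := by
    rw [Ideal.map_le_iff_le_comap]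
    intro a ha t
    show (algebraMap R S a) ⊗ₜ[R] t = 0
    rw [Algebra.algebraMap_eq_smul_one, smul_tmul, hT a ha t, tmul_zero]
  exact hle hx t

lemma eta_surj_A (𝔞 : Ideal R)
    (hq : Function.Surjective (algebraMap (R ⧸ 𝔞) (S ⧸ 𝔞.map (algebraMap R S))))
    (T : Type*) [AddCommGroup T] [Module R T]
    (hT : ∀ a ∈ 𝔞, ∀ t : T, a • t = 0) : Function.Surjective (eta R S T) := by
  intro z
  induction z using TensorProduct.induction_on with
  | zero => exact ⟨0, map_zero _⟩
  | tmul s t =>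
    obtain ⟨rbar, hr⟩ := hq (Ideal.Quotient.mk _ s)
    obtain ⟨r, rfl⟩ := Ideal.Quotient.mk_surjective rbar
    have h1 : s - algebraMap R S r ∈ 𝔞.map (algebraMap R S) := by
      rw [← Ideal.Quotient.eq, ← hr]
      rfl
    refine ⟨r • t, ?_⟩
    have h2 := tmul_eq_zero_of_mem_map 𝔞 T hT _ h1 t
    rw [sub_tmul, sub_eq_zero] at h2
    rw [h2, eta_apply, Algebra.algebraMap_eq_smul_one, smul_tmul]
  | add x y hx hy =>
    obtain ⟨a, rfl⟩ := hx
    obtain ⟨b, rfl⟩ := hy
    exact ⟨a + b, map_add _ _ _⟩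

lemma eta_inj_A (𝔞 : Ideal R)
    (hq : Function.Bijective (algebraMap (R ⧸ 𝔞) (S ⧸ 𝔞.map (algebraMap R S))))
    (T : Type*) [AddCommGroup T] [Module R T]
    (hT : ∀ a ∈ 𝔞, ∀ t : T, a • t = 0) : Function.Injective (eta R S T) := by
  let l : (R ⧸ 𝔞) →ₗ[R] (S ⧸ 𝔞.map (algebraMap R S)) :=
    (IsScalarTower.toAlgHom R (R ⧸ 𝔞) (S ⧸ 𝔞.map (algebraMap R S))).toLinearMap
  have hl : Function.Bijective l := hq
  let e : (R ⧸ 𝔞) ≃ₗ[R] (S ⧸ 𝔞.map (algebraMap R S)) := LinearEquiv.ofBijective l hl
  let q : S →ₗ[R] (S ⧸ 𝔞.map (algebraMap R S)) :=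
    (Ideal.Quotient.mkₐ R (𝔞.map (algebraMap R S))).toLinearMap
  let ρ : S →ₗ[R] (R ⧸ 𝔞) := e.symm.toLinearMap ∘ₗ q
  have hρ : ρ 1 = 1 := by
    show e.symm (q 1) = 1
    rw [LinearEquiv.symm_apply_eq]
    show q 1 = l 1
    simp [q, l]
  let χ : S ⊗[R] T →ₗ[R] T ⧸ (𝔞 • (⊤ : Submodule R T)) :=
    (TensorProduct.quotTensorEquivQuotSMul T 𝔞).toLinearMap ∘ₗ LinearMap.rTensor T ρ
  have hχ : ∀ t : T, χ (eta R S T t) = Submodule.Quotient.mk t := by
    intro t
    show (TensorProduct.quotTensorEquivQuotSMul T 𝔞) (LinearMap.rTensor T ρ ((1 : S) ⊗ₜ[R] t)) = _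
    rw [LinearMap.rTensor_tmul, hρ, TensorProduct.quotTensorEquivQuotSMul_mk_one_tmul]
  have hbot : 𝔞 • (⊤ : Submodule R T) = ⊥ := by
    rw [eq_bot_iff]
    intro x hx
    refine Submodule.smul_induction_on hx (fun a ha t _ => ?_) (fun x y hx hy => ?_)
    · rw [hT a ha t]; exact Submodule.zero_mem _
    · exact Submodule.add_mem _ hx hy
  rw [injective_iff_map_eq_zero]
  intro t ht
  have h1 : (Submodule.Quotient.mk t : T ⧸ (𝔞 • (⊤ : Submodule R T))) = 0 := by
    rw [← hχ, ht, map_zero]
  rw [Submodule.Quotient.mk_eq_zero, hbot] at h1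
  exact h1

lemma eta_bij_A (𝔞 : Ideal R)
    (hq : Function.Bijective (algebraMap (R ⧸ 𝔞) (S ⧸ 𝔞.map (algebraMap R S))))
    (T : Type*) [AddCommGroup T] [Module R T]
    (hT : ∀ a ∈ 𝔞, ∀ t : T, a • t = 0) : Function.Bijective (eta R S T) :=
  ⟨eta_inj_A 𝔞 hq T hT, eta_surj_A 𝔞 hq.2 T hT⟩

lemma eta_bij_of_sub_quot [Module.Flat R S] (T : Type*) [AddCommGroup T] [Module R T]
    (T' : Submodule R T)
    (h1 : Function.Bijective (eta R S T')) (h2 : Function.Bijective (eta R S (T ⧸ T'))) :
    Function.Bijective (eta R S T) := by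
  have hflat : Function.Injective (LinearMap.lTensor S T'.subtype) :=
    Module.Flat.lTensor_preserves_injective_linearMap _ T'.injective_subtype
  have hex : Function.Exact (LinearMap.lTensor S T'.subtype) (LinearMap.lTensor S T'.mkQ) :=
    lTensor_exact S (LinearMap.exact_subtype_mkQ T') (Submodule.mkQ_surjective T')
  constructor
  · rw [injective_iff_map_eq_zero]
    intro t ht
    have h3 : eta R S (T ⧸ T') (T'.mkQ t) = 0 := by
      have := congrArg (LinearMap.lTensor S T'.mkQ) ht
      rw [eta_apply, LinearMap.lTensor_tmul, map_zero] at this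
      exact this
    have h4 : T'.mkQ t = 0 := h2.1 (by rw [h3, map_zero])
    have h5 : t ∈ T' := by
      rw [Submodule.mkQ_apply, Submodule.Quotient.mk_eq_zero] at h4
      exact h4
    have h6 : eta R S T' ⟨t, h5⟩ = 0 := by
      apply hflat
      rw [map_zero, eta_apply, LinearMap.lTensor_tmul]
      exact ht
    have h7 := h1.1 (by rw [h6, map_zero] : eta R S T' ⟨t, h5⟩ = eta R S T' 0)
    exact congrArg Subtype.val h7
  · intro z
    obtain ⟨q, hq⟩ := h2.2 (LinearMap.lTensor S T'.mkQ z)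
    obtain ⟨t0, rfl⟩ := Submodule.mkQ_surjective T' q
    have h3 : LinearMap.lTensor S T'.mkQ (z - eta R S T t0) = 0 := by
      rw [map_sub, ← hq, eta_apply, eta_apply, LinearMap.lTensor_tmul, sub_self]
    obtain ⟨w, hw⟩ := (hex _).mp h3
    obtain ⟨t1, rfl⟩ := h1.2 w
    refine ⟨t0 + t1, ?_⟩
    rw [map_add]
    have h4 : eta R S T (t1 : T) = LinearMap.lTensor S T'.subtype (eta R S T' t1) := by
      rw [eta_apply, eta_apply, LinearMap.lTensor_tmul]
      rfl
    rw [h4, hw]
    abel

end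

section

variable {R S : Type u} [CommRing R] [CommRing S] [Algebra R S]

lemma eta_bij_pow [Module.Flat R S] (I : Ideal R)
    (hq : Function.Bijective (algebraMap (R ⧸ I) (S ⧸ I.map (algebraMap R S)))) :
    ∀ (n : ℕ) (T : Type u) [AddCommGroup T] [Module R T],
      (∀ a ∈ I ^ n, ∀ t : T, a • t = 0) → Function.Bijective (eta R S T) := by
  intro n
  induction n with
  | zero =>
    intro T _ _ hT
    have hsub : ∀ t : T, t = 0 := fun t => by
      have h1 : (1 : R) ∈ I ^ 0 := by rw [pow_zero, Ideal.one_eq_top]; exact Submodule.mem_top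
      have := hT 1 h1 t
      rwa [one_smul] at this
    constructor
    · intro x y _
      rw [hsub x, hsub y]
    · intro z
      refine ⟨0, ?_⟩
      rw [map_zero]
      induction z using TensorProduct.induction_on with
      | zero => rfl
      | tmul s t => rw [hsub t, tmul_zero]
      | add x y hx hy => rw [← hx, ← hy, add_zero]
  | succ n ih =>
    intro T _ _ hT
    have h1 : ∀ a ∈ I ^ n, ∀ t : (I • (⊤ : Submodule R T) : Submodule R T), a • t = 0 := by
      intro a ha t
      apply Subtype.ext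
      show a • (t : T) = 0
      refine Submodule.smul_induction_on t.2 (fun b hb x _ => ?_) (fun x y hx hy => ?_)
      · rw [smul_smul]
        exact hT _ (by rw [pow_succ]; exact Ideal.mul_mem_mul ha hb) x
      · rw [smul_add, hx, hy, add_zero]
    have h2 : ∀ a ∈ I, ∀ t : T ⧸ (I • (⊤ : Submodule R T) : Submodule R T), a • t = 0 := by
      intro a ha t
      obtain ⟨t, rfl⟩ := Submodule.mkQ_surjective _ t
      rw [← map_smul, Submodule.mkQ_apply, Submodule.Quotient.mk_eq_zero]
      exact Submodule.smul_mem_smul ha Submodule.mem_top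
    exact eta_bij_of_sub_quot T (I • (⊤ : Submodule R T)) (ih _ h1)
      (eta_bij_A I hq _ h2)

/-- the `I^n`-torsion submodule -/
def tors (I : Ideal R) (n : ℕ) (T : Type*) [AddCommGroup T] [Module R T] : Submodule R T where
  carrier := {x | ∀ a ∈ I ^ n, a • x = 0}
  zero_mem' := fun a _ => smul_zero a
  add_mem' := fun {x y} hx hy a ha => by rw [smul_add, hx a ha, hy a ha, add_zero]
  smul_mem' := fun c x hx a ha => by rw [smul_comm, hx a ha, smul_zero]

lemma tors_killed (I : Ideal R) (n : ℕ) (T : Type*) [AddCommGroup T] [Module R T] :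
    ∀ a ∈ I ^ n, ∀ t : tors I n T, a • t = 0 :=
  fun a ha t => Subtype.ext (t.2 a ha)

lemma eta_inj_on_tors [Module.Flat R S] (I : Ideal R)
    (hq : Function.Bijective (algebraMap (R ⧸ I) (S ⧸ I.map (algebraMap R S))))
    (T : Type u) [AddCommGroup T] [Module R T] (t : T) (n : ℕ)
    (hn : ∀ a ∈ I ^ n, a • t = 0) (ht : (1 : S) ⊗ₜ[R] t = 0) : t = 0 := by
  have hb := eta_bij_pow (S := S) I hq n (tors I n T) (tors_killed I n T)
  have hflat : Function.Injective (LinearMap.lTensor S (tors I n T).subtype) :=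
    Module.Flat.lTensor_preserves_injective_linearMap _ (Submodule.injective_subtype _)
  have h6 : eta R S (tors I n T) ⟨t, hn⟩ = 0 := by
    apply hflat
    rw [map_zero, eta_apply, LinearMap.lTensor_tmul]
    exact ht
  have h7 := hb.1 (by rw [h6, map_zero] :
    eta R S (tors I n T) ⟨t, hn⟩ = eta R S (tors I n T) 0)
  exact congrArg Subtype.val h7

lemma eta_bij_tors [Module.Flat R S] (I : Ideal R)
    (hq : Function.Bijective (algebraMap (R ⧸ I) (S ⧸ I.map (algebraMap R S))))
    (T : Type u) [AddCommGroup T] [Module R T]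
    (hT : ∀ x : T, ∃ n : ℕ, ∀ a ∈ I ^ n, a • x = 0) : Function.Bijective (eta R S T) := by
  constructor
  · rw [injective_iff_map_eq_zero]
    intro t ht
    obtain ⟨n, hn⟩ := hT t
    exact eta_inj_on_tors I hq T t n hn ht
  · intro z
    induction z using TensorProduct.induction_on with
    | zero => exact ⟨0, map_zero _⟩
    | tmul s t =>
      obtain ⟨n, hn⟩ := hT t
      have hb := eta_bij_pow (S := S) I hq n (tors I n T) (tors_killed I n T)
      obtain ⟨t', ht'⟩ := hb.2 (s ⊗ₜ[R] (⟨t, hn⟩ : tors I n T))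
      refine ⟨(t' : T), ?_⟩
      have := congrArg (LinearMap.lTensor S (tors I n T).subtype) ht'
      rw [eta_apply, LinearMap.lTensor_tmul, LinearMap.lTensor_tmul] at this
      exact this
    | add x y hx hy =>
      obtain ⟨a, rfl⟩ := hx
      obtain ⟨b, rfl⟩ := hy
      exact ⟨a + b, map_add _ _ _⟩

lemma mem_range_of_killed [Module.Flat R S] (I : Ideal R) (hI : I.FG) (n : ℕ)
    (N : Type u) [AddCommGroup N] [Module R N] (z : S ⊗[R] N)
    (hz : ∀ a ∈ I ^ n, a • z = 0) :
    z ∈ LinearMap.range (LinearMap.lTensor S (tors I n N).subtype) := by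
  classical
  obtain ⟨s, hs⟩ := hI.pow (n := n)
  let ψ : N →ₗ[R] (s → N) := LinearMap.pi (fun g => (g : R) • LinearMap.id)
  have hψ : ∀ (y : N) (g : s), ψ y g = (g : R) • y := fun y g => rfl
  have hker : Function.Exact (tors I n N).subtype ψ := by
    intro y
    constructor
    · intro hy
      refine ⟨⟨y, ?_⟩, rfl⟩
      intro a ha
      rw [← hs] at ha
      refine Submodule.span_induction (p := fun a _ => a • y = 0) ?_ ?_ ?_ ?_ ha
      · intro g hg
        have := congrFun hy ⟨g, hg⟩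
        rwa [hψ] at this
      · exact zero_smul _ _
      · intro a b _ _ ha hb
        rw [add_smul, ha, hb, add_zero]
      · intro c a _ ha
        rw [smul_eq_mul, mul_smul, ha, smul_zero]
    · rintro ⟨y', rfl⟩
      funext g
      rw [hψ]
      exact y'.2 g (hs ▸ Ideal.subset_span g.2)
  have hex := Module.Flat.lTensor_exact S hker
  refine (hex z).mp ?_
  apply (TensorProduct.piRight R S S (fun _ : s => N)).injective
  rw [map_zero]
  have key : ∀ (w : S ⊗[R] N) (g : s),
      (TensorProduct.piRight R S S (fun _ : s => N)) (LinearMap.lTensor S ψ w) g =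
        (g : R) • w := by
    intro w g
    induction w using TensorProduct.induction_on with
    | zero => simp
    | tmul s' y =>
      rw [LinearMap.lTensor_tmul, TensorProduct.piRight_apply, TensorProduct.piRightHom_tmul]
      show s' ⊗ₜ[R] ψ y g = _
      rw [hψ, tmul_smul]
    | add x y hx hy =>
      rw [map_add, map_add, Pi.add_apply, hx, hy, smul_add]
  funext g
  rw [key z g]
  exact hz g (hs ▸ Ideal.subset_span g.2)

lemma baseChange_eq_of {M N : Type u} [AddCommGroup M] [Module R M] [AddCommGroup N]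
    [Module R N] (f : M →ₗ[R] N) (h : S ⊗[R] M →ₗ[S] S ⊗[R] N)
    (hf : ∀ m : M, (1 : S) ⊗ₜ[R] f m = h ((1 : S) ⊗ₜ[R] m)) :
    LinearMap.baseChange S f = h := by
  apply TensorProduct.AlgebraTensorModule.ext
  intro s m
  rw [LinearMap.baseChange_tmul]
  have h1 : s ⊗ₜ[R] f m = s • ((1 : S) ⊗ₜ[R] f m) := by
    rw [smul_tmul', smul_eq_mul, mul_one]
  have h2 : s ⊗ₜ[R] m = s • ((1 : S) ⊗ₜ[R] m) := by
    rw [smul_tmul', smul_eq_mul, mul_one]
  rw [h1, h2, map_smul, hf]

theorem main {R S M N : Type u} [CommRing R] [CommRing S]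
    [Algebra R S] [Module.Flat R S] (I : Ideal R) (hI : I.FG)
    (hq : Function.Bijective (algebraMap (R ⧸ I) (S ⧸ I.map (algebraMap R S))))
    [AddCommGroup M] [Module R M] [AddCommGroup N] [Module R N]
    (hMN : (∀ x : M, ∃ n : ℕ, ∀ a ∈ I ^ n, a • x = 0) ∨
      (∀ y : N, ∃ n : ℕ, ∀ a ∈ I ^ n, a • y = 0)) :
    Function.Bijective (fun f : M →ₗ[R] N => LinearMap.baseChange S f) := by
  rcases hMN with hM | hN
  · -- M torsion
    constructor
    · intro f1 f2 h12
      ext m
      obtain ⟨n, hn⟩ := hM m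
      have h1 : (1 : S) ⊗ₜ[R] (f1 m - f2 m) = 0 := by
        have := LinearMap.congr_fun h12 ((1 : S) ⊗ₜ[R] m)
        simp only [LinearMap.baseChange_tmul] at this
        rw [tmul_sub, this, sub_self]
      have h2 : ∀ a ∈ I ^ n, a • (f1 m - f2 m) = 0 := by
        intro a ha
        rw [smul_sub, ← map_smul, ← map_smul, hn a ha, map_zero, map_zero, sub_self]
      exact sub_eq_zero.mp (eta_inj_on_tors (S := S) I hq N _ n h2 h1)
    · intro h
      -- torsion submodule of N
      let N' : Submodule R N :=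
        { carrier := {y | ∃ n : ℕ, ∀ a ∈ I ^ n, a • y = 0}
          zero_mem' := ⟨0, fun a _ => smul_zero a⟩
          add_mem' := by
            rintro x y ⟨n, hn⟩ ⟨k, hk⟩
            refine ⟨n + k, fun a ha => ?_⟩
            rw [smul_add, hn a (Ideal.pow_le_pow_right (Nat.le_add_right n k) ha),
              hk a (Ideal.pow_le_pow_right (Nat.le_add_left k n) ha), add_zero]
          smul_mem' := by
            rintro c x ⟨n, hn⟩
            exact ⟨n, fun a ha => by rw [smul_comm, hn a ha, smul_zero]⟩ }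
      let η' : N' →ₗ[R] S ⊗[R] N := eta R S N ∘ₗ N'.subtype
      have hη'inj : Function.Injective η' := by
        rw [injective_iff_map_eq_zero]
        intro y hy
        obtain ⟨n, hn⟩ := y.2
        exact Subtype.ext (eta_inj_on_tors (S := S) I hq N (y : N) n hn hy)
      have hmem : ∀ m : M, (h.restrictScalars R ∘ₗ eta R S M) m ∈ LinearMap.range η' := by
        intro m
        obtain ⟨n, hn⟩ := hM m
        have hk : ∀ a ∈ I ^ n, a • h ((1 : S) ⊗ₜ[R] m) = 0 := by
          intro a ha
          have : a • h ((1 : S) ⊗ₜ[R] m) = h (a • ((1 : S) ⊗ₜ[R] m)) :=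
            (LinearMap.map_smul_of_tower h a _).symm
          rw [this, ← tmul_smul, hn a ha, tmul_zero, map_zero]
        obtain ⟨w, hw⟩ := mem_range_of_killed (S := S) I hI n N _ hk
        have hb := eta_bij_pow (S := S) I hq n (tors I n N) (tors_killed I n N)
        obtain ⟨y, rfl⟩ := hb.2 w
        refine ⟨⟨(y : N), ⟨n, y.2⟩⟩, ?_⟩
        show (1 : S) ⊗ₜ[R] (y : N) = h ((1 : S) ⊗ₜ[R] m)
        rw [← hw, eta_apply, LinearMap.lTensor_tmul]
        rfl
      let f : M →ₗ[R] N := N'.subtype ∘ₗ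
        (LinearEquiv.ofInjective η' hη'inj).symm.toLinearMap ∘ₗ
        LinearMap.codRestrict (LinearMap.range η') (h.restrictScalars R ∘ₗ eta R S M) hmem
      refine ⟨f, baseChange_eq_of f h (fun m => ?_)⟩
      have h3 : η' ((LinearEquiv.ofInjective η' hη'inj).symm
          ⟨(h.restrictScalars R ∘ₗ eta R S M) m, hmem m⟩) = h ((1 : S) ⊗ₜ[R] m) := by
        have := (LinearEquiv.ofInjective η' hη'inj).apply_symm_apply
          ⟨(h.restrictScalars R ∘ₗ eta R S M) m, hmem m⟩
        exact congrArg Subtype.val this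
      exact h3
  · -- N torsion
    have hηN := eta_bij_tors (S := S) I hq N hN
    constructor
    · intro f1 f2 h12
      ext m
      apply hηN.1
      have := LinearMap.congr_fun h12 ((1 : S) ⊗ₜ[R] m)
      simp only [LinearMap.baseChange_tmul] at this
      exact this
    · intro h
      let e : N ≃ₗ[R] S ⊗[R] N := LinearEquiv.ofBijective (eta R S N) hηN
      let f : M →ₗ[R] N := e.symm.toLinearMap ∘ₗ (h.restrictScalars R) ∘ₗ eta R S M
      refine ⟨f, baseChange_eq_of f h (fun m => ?_)⟩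
      show e (e.symm (h ((1 : S) ⊗ₜ[R] m))) = _
      rw [LinearEquiv.apply_symm_apply]

end

end Groth.Agent.Helper12.TorsHom
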