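import Mathlib
import Groth.Agent.Lib.Helper12.TorsHom

set_option autoImplicit false

namespace Groth.Agent.Helper12.TorsGlue

open TensorProduct Function
open Groth.Agent.Helper12.TorsHom

universe u

lemma mem_range_lTensor_ker {R S : Type u} [CommRing R] [CommRing S] [Algebra R S]
    [Module.Flat R S] (I : Ideal R)
    (hq : Function.Bijective (algebraMap (R ⧸ I) (S ⧸ I.map (algebraMap R S))))
    (N : Type u) [AddCommGroup N] [Module R N] (P : Submodule S (S ⊗[R] N))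
    (hP : ∀ y : S ⊗[R] N, ∃ n : ℕ, ∀ a ∈ I ^ n, a • y ∈ P) (y : S ⊗[R] N) (hy : y ∈ P) :
    y ∈ LinearMap.range (LinearMap.lTensor S
      (LinearMap.ker ((P.mkQ.restrictScalars R) ∘ₗ eta R S N)).subtype) := by
  have hQtors : ∀ q : (S ⊗[R] N) ⧸ P, ∃ n : ℕ, ∀ a ∈ I ^ n, a • q = 0 := by
    intro q
    obtain ⟨y, rfl⟩ := P.mkQ_surjective q
    obtain ⟨n, hn⟩ := hP y
    refine ⟨n, fun a ha => ?_⟩
    have : a • P.mkQ y = P.mkQ (a • y) := ((P.mkQ.restrictScalars R).map_smul a y).symm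
    rw [this]
    exact (Submodule.Quotient.mk_eq_zero P).mpr (hn a ha)
  have hηQ := (eta_bij_tors (S := S) I hq ((S ⊗[R] N) ⧸ P) hQtors).2
  have hμ : ∀ w : S ⊗[R] N,
      ((LinearMap.id : ((S ⊗[R] N) ⧸ P) →ₗ[R] ((S ⊗[R] N) ⧸ P)).liftBaseChange S)
        ((LinearMap.lTensor S ((P.mkQ.restrictScalars R) ∘ₗ eta R S N)) w) = P.mkQ w := by
    intro w
    induction w using TensorProduct.induction_on with
    | zero => simp
    | tmul s n =>
      rw [LinearMap.lTensor_tmul, LinearMap.liftBaseChange_tmul]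
      show s • P.mkQ ((1 : S) ⊗ₜ[R] n) = P.mkQ (s ⊗ₜ[R] n)
      rw [← map_smul, smul_tmul', smul_eq_mul, mul_one]
    | add a b ha hb => rw [map_add, map_add, map_add, ha, hb]
  have h0 : (LinearMap.lTensor S ((P.mkQ.restrictScalars R) ∘ₗ eta R S N)) y = 0 := by
    obtain ⟨q, hq'⟩ := hηQ ((LinearMap.lTensor S ((P.mkQ.restrictScalars R) ∘ₗ eta R S N)) y)
    have h1 := hμ y
    rw [← hq', eta_apply, LinearMap.liftBaseChange_tmul, one_smul] at h1
    have h2 : q = 0 := by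
      have : q = P.mkQ y := h1
      rw [this]
      exact (Submodule.Quotient.mk_eq_zero P).mpr hy
    rw [← hq', h2, map_zero]
  exact ((Module.Flat.lTensor_exact S
    (LinearMap.exact_subtype_ker_map ((P.mkQ.restrictScalars R) ∘ₗ eta R S N))) y).mp h0

theorem core {R S : Type u} [CommRing R] [CommRing S] [Algebra R S] [Module.Flat R S]
    (I : Ideal R)
    (hq : Function.Bijective (algebraMap (R ⧸ I) (S ⧸ I.map (algebraMap R S))))
    (N : Type u) [AddCommGroup N] [Module R N] (M' : Type u) [AddCommGroup M'] [Module S M']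
    [Module R M'] [IsScalarTower R S M'] (φ : M' →ₗ[S] S ⊗[R] N)
    (hker : ∀ x : M', φ x = 0 → ∃ n : ℕ, ∀ a ∈ I ^ n, a • x = 0)
    (hcoker : ∀ y : S ⊗[R] N, ∃ n : ℕ, ∀ a ∈ I ^ n, a • y ∈ LinearMap.range φ) :
    ∃ (M : Type u) (_ : AddCommGroup M) (_ : Module R M) (ψ : M →ₗ[R] N)
      (e : S ⊗[R] M ≃ₗ[S] M'), φ ∘ₗ e.toLinearMap = ψ.baseChange S := by
  classical
  let Msub : Submodule R (M' × N) :=
    { carrier := {p | φ p.1 = (1 : S) ⊗ₜ[R] p.2}
      zero_mem' := by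
        show φ (0 : M' × N).1 = (1 : S) ⊗ₜ[R] (0 : M' × N).2
        simp
      add_mem' := by
        intro p q hp hq
        have hp' : φ p.1 = (1 : S) ⊗ₜ[R] p.2 := hp
        have hq' : φ q.1 = (1 : S) ⊗ₜ[R] q.2 := hq
        show φ (p.1 + q.1) = (1 : S) ⊗ₜ[R] (p.2 + q.2)
        rw [map_add, tmul_add, hp', hq']
      smul_mem' := by
        intro a p hp
        have hp' : φ p.1 = (1 : S) ⊗ₜ[R] p.2 := hp
        show φ (a • p.1) = (1 : S) ⊗ₜ[R] (a • p.2)
        rw [LinearMap.map_smul_of_tower, tmul_smul, hp'] }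
  let ψ : Msub →ₗ[R] N := (LinearMap.snd R M' N) ∘ₗ Msub.subtype
  let pr1 : Msub →ₗ[R] M' := (LinearMap.fst R M' N) ∘ₗ Msub.subtype
  have hM : ∀ p : Msub, φ (pr1 p) = (1 : S) ⊗ₜ[R] ψ p := fun p => p.2
  let e₀ : S ⊗[R] Msub →ₗ[S] M' := pr1.liftBaseChange S
  have he₀ : ∀ (s : S) (p : Msub), e₀ (s ⊗ₜ[R] p) = s • pr1 p :=
    fun s p => LinearMap.liftBaseChange_tmul _ _ _ _
  have hcomm : φ ∘ₗ e₀ = ψ.baseChange S := by
    apply TensorProduct.AlgebraTensorModule.ext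
    intro s p
    rw [LinearMap.comp_apply, he₀, map_smul, hM, LinearMap.baseChange_tmul, smul_tmul',
      smul_eq_mul, mul_one]
  have hcomm' : ∀ z, φ (e₀ z) = (ψ.baseChange S) z := fun z => LinearMap.congr_fun hcomm z
  let K : Submodule R M' := LinearMap.ker (φ.restrictScalars R)
  have hK : ∀ x : K, φ (x : M') = 0 := fun x => x.2
  let iK : K →ₗ[R] Msub := LinearMap.codRestrict Msub ((LinearMap.inl R M' N) ∘ₗ K.subtype)
    (fun x => by
      show φ (x : M') = (1 : S) ⊗ₜ[R] (0 : N)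
      rw [tmul_zero]
      exact hK x)
  have hiK1 : ∀ x : K, pr1 (iK x) = (x : M') := fun x => rfl
  have hiK2 : ∀ x : K, ψ (iK x) = 0 := fun x => rfl
  have hexK : Exact iK ψ := by
    intro p
    constructor
    · intro hp
      have h1 : φ (pr1 p) = 0 := by rw [hM, hp, tmul_zero]
      refine ⟨⟨pr1 p, h1⟩, ?_⟩
      apply Subtype.ext
      apply Prod.ext
      · rfl
      · exact hp.symm
    · rintro ⟨x, rfl⟩
      exact hiK2 x
  have hKtors : ∀ x : K, ∃ n : ℕ, ∀ a ∈ I ^ n, a • x = 0 := by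
    intro x
    obtain ⟨n, hn⟩ := hker x (hK x)
    exact ⟨n, fun a ha => Subtype.ext (hn a ha)⟩
  have hηK := (eta_bij_tors (S := S) I hq K hKtors).2
  have hinj : Injective e₀ := by
    rw [injective_iff_map_eq_zero]
    intro z hz
    have h1 : (LinearMap.lTensor S ψ) z = 0 := by
      have := hcomm' z
      rw [hz, map_zero] at this
      exact this.symm
    obtain ⟨w, rfl⟩ := ((Module.Flat.lTensor_exact S hexK) z).mp h1
    obtain ⟨x, rfl⟩ := hηK w
    rw [eta_apply, LinearMap.lTensor_tmul, he₀, one_smul, hiK1] at hz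
    have : x = 0 := Subtype.ext hz
    rw [this, map_zero, map_zero]
  have hsurj : Surjective e₀ := by
    intro x
    obtain ⟨v, hv⟩ := mem_range_lTensor_ker I hq N (LinearMap.range φ) hcoker (φ x)
      (LinearMap.mem_range_self φ x)
    have hψc : ∀ p : Msub, ψ p ∈
        LinearMap.ker (((LinearMap.range φ).mkQ.restrictScalars R) ∘ₗ eta R S N) := by
      intro p
      rw [LinearMap.mem_ker]
      show (LinearMap.range φ).mkQ ((1 : S) ⊗ₜ[R] ψ p) = 0
      rw [← hM p]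
      exact (Submodule.Quotient.mk_eq_zero _).mpr (LinearMap.mem_range_self φ _)
    let ψ₀ : Msub →ₗ[R]
        LinearMap.ker (((LinearMap.range φ).mkQ.restrictScalars R) ∘ₗ eta R S N) :=
      LinearMap.codRestrict _ ψ hψc
    have hψ₀surj : Surjective ψ₀ := by
      rintro ⟨n, hn⟩
      rw [LinearMap.mem_ker] at hn
      have h1 : (1 : S) ⊗ₜ[R] n ∈ LinearMap.range φ :=
        (Submodule.Quotient.mk_eq_zero _).mp hn
      obtain ⟨x', hx'⟩ := h1
      exact ⟨⟨(x', n), hx'⟩, Subtype.ext rfl⟩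
    obtain ⟨z₁, rfl⟩ := LinearMap.lTensor_surjective S hψ₀surj v
    have h2 : (ψ.baseChange S) z₁ = φ x := by
      rw [← hv, ← LinearMap.comp_apply, ← LinearMap.lTensor_comp]
      rfl
    have h3 : φ (x - e₀ z₁) = 0 := by rw [map_sub, hcomm', h2, sub_self]
    refine ⟨z₁ + (1 : S) ⊗ₜ[R] iK ⟨x - e₀ z₁, h3⟩, ?_⟩
    rw [map_add, he₀, one_smul, hiK1]
    show e₀ z₁ + (x - e₀ z₁) = x
    abel
  exact ⟨Msub, inferInstance, inferInstance, ψ, LinearEquiv.ofBijective e₀ ⟨hinj, hsurj⟩,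
    LinearMap.ext fun z => hcomm' z⟩

theorem main (R S : Type u) [CommRing R] [CommRing S] [Algebra R S] [Module.Flat R S]
    (I : Ideal R) (hI : I.FG)
    (hq : Function.Bijective (Ideal.quotientMap (I.map (algebraMap R S)) (algebraMap R S)
      Ideal.le_comap_map))
    (N : Type u) [AddCommGroup N] [Module R N] (M' : Type u) [AddCommGroup M'] [Module S M']
    (φ : M' →ₗ[S] S ⊗[R] N)
    (hker : ∀ x : M', φ x = 0 → ∃ n : ℕ, ∀ a ∈ I ^ n, algebraMap R S a • x = 0)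
    (hcoker : ∀ y : S ⊗[R] N, ∃ n : ℕ, ∀ a ∈ I ^ n,
      algebraMap R S a • y ∈ LinearMap.range φ) :
    ∃ (M : Type u) (_ : AddCommGroup M) (_ : Module R M) (ψ : M →ₗ[R] N)
      (e : S ⊗[R] M ≃ₗ[S] M'), φ ∘ₗ e.toLinearMap = ψ.baseChange S := by
  letI : Module R M' := Module.compHom M' (algebraMap R S)
  haveI : IsScalarTower R S M' := IsScalarTower.of_algebraMap_smul (fun r x => rfl)
  refine core I hq N M' φ (fun x hx => ?_) (fun y => ?_)
  · obtain ⟨n, hn⟩ := hker x hx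
    exact ⟨n, fun a ha => hn a ha⟩
  · obtain ⟨n, hn⟩ := hcoker y
    exact ⟨n, fun a ha => by rw [← algebraMap_smul S a y]; exact hn a ha⟩

end Groth.Agent.Helper12.TorsGlue
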