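import Mathlib

set_option autoImplicit false

namespace Groth.Agent.Helper12.Unibranch

theorem going_down_core {A A' B C : Type*} [CommRing A] [IsLocalRing A] [CommRing A']
    [IsLocalRing A'] [IsIntegrallyClosed A'] [CommRing B] [CommRing C] [IsDomain C]
    [Algebra A' C] [FaithfulSMul A' C] [Algebra.IsIntegral A' C]
    (f : A →+* B) (g : A →+* A') (ιB : B →+* C) (hg : g.IsIntegral)
    (hginj : Function.Injective g) (hιB : ιB.IsIntegral) (hιBinj : Function.Injective ιB)
    (hcomm : (algebraMap A' C).comp g = ιB.comp f)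
    (n : Ideal B) [n.IsPrime] (hn : n.comap f = IsLocalRing.maximalIdeal A)
    (p : Ideal A) [p.IsPrime] :
    ∃ q : Ideal B, q.IsPrime ∧ q ≤ n ∧ q.comap f = p := by
  obtain ⟨n'', hn''prime, hn''⟩ : ∃ Q : Ideal C, Q.IsPrime ∧ Q.comap ιB = n := by
    letI := ιB.toAlgebra
    haveI : Algebra.IsIntegral B C := ⟨hιB⟩
    obtain ⟨Q, -, hQ, hQ'⟩ := Ideal.exists_ideal_over_prime_of_isIntegral n (⊥ : Ideal C) (by
      have : Ideal.comap (algebraMap B C) ⊥ = ⊥ := Ideal.comap_bot_of_injective _ hιBinj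
      rw [this]; exact bot_le)
    exact ⟨Q, hQ, hQ'⟩
  haveI := hn''prime
  have hm'' : n''.comap (algebraMap A' C) = IsLocalRing.maximalIdeal A' := by
    haveI : (n''.comap (algebraMap A' C)).IsPrime := Ideal.comap_isPrime _ _
    apply IsLocalRing.eq_maximalIdeal
    apply Ideal.isMaximal_of_isIntegral_of_isMaximal_comap' g hg
    rw [Ideal.comap_comap, hcomm, ← Ideal.comap_comap, hn'', hn]
    exact IsLocalRing.maximalIdeal.isMaximal A
  obtain ⟨p', hp'prime, hp'⟩ : ∃ Q : Ideal A', Q.IsPrime ∧ Q.comap g = p := by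
    letI := g.toAlgebra
    haveI : Algebra.IsIntegral A A' := ⟨hg⟩
    obtain ⟨Q, -, hQ, hQ'⟩ := Ideal.exists_ideal_over_prime_of_isIntegral p (⊥ : Ideal A') (by
      have : Ideal.comap (algebraMap A A') ⊥ = ⊥ := Ideal.comap_bot_of_injective _ hginj
      rw [this]; exact bot_le)
    exact ⟨Q, hQ, hQ'⟩
  haveI := hp'prime
  have hle : p' ≤ IsLocalRing.maximalIdeal A' := IsLocalRing.le_maximalIdeal hp'prime.ne_top
  haveI : n''.LiesOver (IsLocalRing.maximalIdeal A') := ⟨hm''.symm⟩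
  obtain ⟨P, hPle, hPprime, hPlies⟩ :=
    Ideal.exists_ideal_le_liesOver_of_le (p := p') (q := IsLocalRing.maximalIdeal A') n'' hle
  haveI := hPprime
  refine ⟨P.comap ιB, Ideal.comap_isPrime _ _, ?_, ?_⟩
  · rw [← hn'']; exact Ideal.comap_mono hPle
  · rw [Ideal.comap_comap, ← hcomm, ← Ideal.comap_comap]
    have h1 : P.comap (algebraMap A' C) = p' := hPlies.over.symm
    rw [h1, hp']

end Groth.Agent.Helper12.Unibranch
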