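import Mathlib
import Groth.Agent.Lib.Helper12.RetractP

/-!
Over a ring in which every proper finitely generated ideal has a nonzero annihilator, injective
maps between projective modules are universally injective.
-/

namespace Groth.Agent.Helper12

universe u

open TensorProduct

variable {R : Type u} [CommRing R]

/-- Split injective maps are universally injective. -/
lemma rTensor_injective_of_retraction {N M : Type*} [AddCommMonoid N] [Module R N]
    [AddCommMonoid M] [Module R M] (u : N →ₗ[R] M) (v : M →ₗ[R] N) (hv : v.comp u = LinearMap.id)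
    (Q : Type*) [AddCommMonoid Q] [Module R Q] : Function.Injective (u.rTensor Q) := by
  apply Function.LeftInverse.injective (g := v.rTensor Q)
  intro z
  rw [← LinearMap.comp_apply, ← LinearMap.rTensor_comp, hv, LinearMap.rTensor_id,
    LinearMap.id_apply]

lemma exists_finset_le_supported {ι : Type*} (N₀ : Submodule R (ι →₀ R)) (h : N₀.FG) :
    ∃ s : Finset ι, N₀ ≤ Finsupp.supported R R (s : Set ι) := by
  classical
  obtain ⟨t, rfl⟩ := h
  refine ⟨t.biUnion Finsupp.support, Submodule.span_le.mpr fun f hf => ?_⟩
  rw [SetLike.mem_coe, Finsupp.mem_supported]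
  intro i hi
  rw [Finset.mem_coe] at hi ⊢
  exact Finset.mem_biUnion.mpr ⟨f, hf, hi⟩

instance finite_supported_finset {ι : Type*} (s : Finset ι) :
    Module.Finite R (Finsupp.supported R R (s : Set ι)) :=
  Module.Finite.equiv (Finsupp.supportedEquivFinsupp (R := R) (M := R) (s : Set ι)).symm

instance projective_supported {ι : Type*} (s : Set ι) :
    Module.Projective R (Finsupp.supported R R s) :=
  Module.Projective.of_equiv (Finsupp.supportedEquivFinsupp (R := R) (M := R) s).symm

lemma rTensor_injective_finsupp (hP : ∀ I : Ideal R, I.FG → I ≠ ⊤ → I.annihilator ≠ ⊥)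
    {ι κ : Type u} (u : (ι →₀ R) →ₗ[R] (κ →₀ R)) (hu : Function.Injective u)
    (Q : Type u) [AddCommGroup Q] [Module R Q] : Function.Injective (u.rTensor Q) := by
  classical
  rw [injective_iff_map_eq_zero]
  intro z hz
  obtain ⟨N₀, hN₀, hzN₀⟩ :=
    TensorProduct.exists_finite_submodule_left_of_setFinite ({z} : Set ((ι →₀ R) ⊗[R] Q))
      (Set.finite_singleton z)
  obtain ⟨z₀, hz₀⟩ := hzN₀ (Set.mem_singleton z)
  obtain ⟨s, hs⟩ := exists_finset_le_supported N₀ (Module.Finite.iff_fg.mp hN₀)
  -- the finite free summand `N₁`
  have hsub : N₀.subtype = (Finsupp.supported R R (s : Set ι)).subtype.comp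
      (Submodule.inclusion hs) := by
    ext x
    rfl
  -- the restriction `u₁` of `u` to `N₁`
  have hu₁inj : Function.Injective (u.comp (Finsupp.supported R R (s : Set ι)).subtype) := by
    rw [LinearMap.coe_comp]
    exact hu.comp (Submodule.subtype_injective _)
  have hfg : (LinearMap.range (u.comp (Finsupp.supported R R (s : Set ι)).subtype)).FG := by
    rw [LinearMap.range_eq_map]
    exact Module.Finite.fg_top.map _
  obtain ⟨t, ht⟩ := exists_finset_le_supported _ hfg
  have hmem : ∀ x, (u.comp (Finsupp.supported R R (s : Set ι)).subtype) x ∈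
      Finsupp.supported R R (t : Set κ) := fun x => ht ⟨x, rfl⟩
  have hu₁'inj : Function.Injective
      ((u.comp (Finsupp.supported R R (s : Set ι)).subtype).codRestrict _ hmem) := by
    intro x y hxy
    apply hu₁inj
    exact congrArg Subtype.val hxy
  obtain ⟨v₁, hv₁⟩ := hasRetr_of_finite_projective hP (Finsupp.supported R R (s : Set ι))
    (Finsupp.supported R R (t : Set κ)) _ hu₁'inj
  have hretr : (v₁.comp (Finsupp.restrictDom R R (t : Set κ))).comp
      (u.comp (Finsupp.supported R R (s : Set ι)).subtype) = LinearMap.id := by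
    refine LinearMap.ext fun x => ?_
    have h1 : Finsupp.restrictDom R R (t : Set κ)
        ((u.comp (Finsupp.supported R R (s : Set ι)).subtype) x) =
        (u.comp (Finsupp.supported R R (s : Set ι)).subtype).codRestrict _ hmem x :=
      LinearMap.congr_fun (Finsupp.restrictDom_comp_subtype (M := R) (R := R) (t : Set κ))
        ((u.comp (Finsupp.supported R R (s : Set ι)).subtype).codRestrict _ hmem x)
    rw [LinearMap.comp_apply, LinearMap.comp_apply, h1]
    exact LinearMap.congr_fun hv₁ x
  have hinj₁ : Function.Injective
      ((u.comp (Finsupp.supported R R (s : Set ι)).subtype).rTensor Q) :=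
    rTensor_injective_of_retraction (u.comp (Finsupp.supported R R (s : Set ι)).subtype)
      (v₁.comp (Finsupp.restrictDom R R (t : Set κ))) hretr Q
  -- conclude
  have hz₁ : (u.comp (Finsupp.supported R R (s : Set ι)).subtype).rTensor Q
      ((Submodule.inclusion hs).rTensor Q z₀) = 0 := by
    have e1 : (u.comp (Finsupp.supported R R (s : Set ι)).subtype).rTensor Q
        ((Submodule.inclusion hs).rTensor Q z₀) = (u.rTensor Q) ((N₀.subtype).rTensor Q z₀) := by
      rw [hsub]
      simp only [LinearMap.rTensor_comp, LinearMap.comp_apply]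
    rw [e1, hz₀, hz]
  have hz₁' := hinj₁ (hz₁.trans (map_zero _).symm)
  have e2 : z = ((Finsupp.supported R R (s : Set ι)).subtype.rTensor Q)
      ((Submodule.inclusion hs).rTensor Q z₀) := by
    rw [← hz₀, hsub]
    simp only [LinearMap.rTensor_comp, LinearMap.comp_apply]
  rw [e2, hz₁', map_zero]

lemma rTensor_injective_of_projective (hP : ∀ I : Ideal R, I.FG → I ≠ ⊤ → I.annihilator ≠ ⊥)
    {N M : Type u} [AddCommGroup N] [Module R N] [AddCommGroup M] [Module R M]
    [Module.Projective R N] [Module.Projective R M]
    (u : N →ₗ[R] M) (hu : Function.Injective u) (Q : Type u) [AddCommGroup Q] [Module R Q] :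
    Function.Injective (u.rTensor Q) := by
  obtain ⟨i, hi⟩ := Module.projective_def'.mp (inferInstance : Module.Projective R N)
  have hi' : ∀ n, Finsupp.linearCombination R (id : N → N) (i n) = n :=
    fun n => LinearMap.congr_fun hi n
  obtain ⟨j, hj⟩ := Module.projective_def'.mp
    (inferInstance : Module.Projective R (M × (N →₀ R)))
  have hj' : ∀ n, Finsupp.linearCombination R (id : M × (N →₀ R) → M × (N →₀ R)) (j n) = n :=
    fun n => LinearMap.congr_fun hj n
  have hjinj : Function.Injective j := Function.LeftInverse.injective hj'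
  let U : (N →₀ R) →ₗ[R] M × (N →₀ R) :=
    LinearMap.prod (u.comp (Finsupp.linearCombination R (id : N → N)))
      (LinearMap.id - i.comp (Finsupp.linearCombination R (id : N → N)))
  have hU : ∀ f, U f = (u (Finsupp.linearCombination R (id : N → N) f),
      f - i (Finsupp.linearCombination R (id : N → N) f)) := fun f => rfl
  have hUinj : Function.Injective U := by
    rw [injective_iff_map_eq_zero]
    intro f hf
    rw [hU] at hf
    have h1 : u (Finsupp.linearCombination R (id : N → N) f) = 0 := congrArg Prod.fst hf
    have h2 : f - i (Finsupp.linearCombination R (id : N → N) f) = 0 := congrArg Prod.snd hf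
    have h3 : Finsupp.linearCombination R (id : N → N) f = 0 := hu (h1.trans (map_zero u).symm)
    rw [h3, map_zero, sub_zero] at h2
    exact h2
  have hWinj : Function.Injective (j.comp U) := by
    rw [LinearMap.coe_comp]
    exact hjinj.comp hUinj
  have hW := rTensor_injective_finsupp hP (j.comp U) hWinj Q
  have hcomp : (j.comp U).comp i = (j.comp (LinearMap.inl R M (N →₀ R))).comp u := by
    refine LinearMap.ext fun n => ?_
    simp only [LinearMap.comp_apply, LinearMap.inl_apply]
    rw [hU, hi', sub_self]
  rw [injective_iff_map_eq_zero]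
  intro z hz
  have h1 : ((j.comp U).rTensor Q) ((i.rTensor Q) z) = 0 := by
    rw [← LinearMap.comp_apply, ← LinearMap.rTensor_comp, hcomp, LinearMap.rTensor_comp,
      LinearMap.comp_apply, hz, map_zero]
  have h2 : (i.rTensor Q) z = 0 := hW (h1.trans (map_zero _).symm)
  have h3 : ((Finsupp.linearCombination R (id : N → N)).rTensor Q) ((i.rTensor Q) z) = z := by
    rw [← LinearMap.comp_apply, ← LinearMap.rTensor_comp, hi, LinearMap.rTensor_id,
      LinearMap.id_apply]
  rw [← h3, h2, map_zero]

end Groth.Agent.Helper12
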