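import Mathlib
import Groth.Prelude.Def_EGA43

/-!
Universal openness at a point: transport along arbitrary pullback squares, and the
factorisation of the base change of a composite.
-/

open CategoryTheory CategoryTheory.Limits AlgebraicGeometry

namespace Groth.Agent.Helper12

universe u

lemma isOpenAt_comp {α β γ : Type*} [TopologicalSpace α] [TopologicalSpace β] [TopologicalSpace γ]
    (ψ : α → β) (φ : β → γ) (a : α) (h1 : EGA43.IsOpenAt ψ a) (h2 : EGA43.IsOpenAt φ (ψ a)) :
    EGA43.IsOpenAt (φ ∘ ψ) a := by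
  intro U hU
  have := h2 _ (h1 U hU)
  rwa [Set.image_image] at this

lemma isOpenAt_of_isOpenAt_comp {α β α' : Type*} [TopologicalSpace α] [TopologicalSpace β]
    [TopologicalSpace α'] (ψ : α → β) (γ : α' → α) (hγ : Continuous γ)
    (x' : α') (h : EGA43.IsOpenAt (ψ ∘ γ) x') : EGA43.IsOpenAt ψ (γ x') := by
  intro U hU
  have h1 : γ ⁻¹' U ∈ nhds x' := hγ.continuousAt hU
  refine Filter.mem_of_superset (h _ h1) ?_
  rintro _ ⟨a, ha, rfl⟩
  exact ⟨γ a, ha, rfl⟩

/-- Universal openness at a point can be tested on any pullback square. -/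
lemma isOpenAt_of_isPullback {X Y Y' P : Scheme.{u}} {f : X ⟶ Y} {x : X}
    (hf : EGA43.IsUnivOpenAt f x) {g : Y' ⟶ Y} {fst' : P ⟶ X} {snd' : P ⟶ Y'}
    (hP : IsPullback fst' snd' f g) (p : P) (hp : fst'.base p = x) :
    EGA43.IsOpenAt snd'.base p := by
  obtain ⟨e, h1, h2⟩ : ∃ e : P ≅ pullback f g, e.hom ≫ pullback.snd f g = snd' ∧
      e.hom ≫ pullback.fst f g = fst' :=
    ⟨hP.isoPullback, hP.isoPullback_hom_snd, hP.isoPullback_hom_fst⟩
  subst h1 h2
  have hx : (pullback.fst f g).base (e.hom.base p) = x := hp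
  have hopen := hf Y' g (e.hom.base p) hx
  have hiso : EGA43.IsOpenAt e.hom.base p := by
    intro U hU
    exact e.hom.isOpenEmbedding.isOpenMap.image_mem_nhds hU
  exact isOpenAt_comp e.hom.base (pullback.snd f g).base p hiso hopen

/-- The base change of a composite `f ≫ g` factors through the base change of `g`, the first
factor being a base change of `f`. -/
lemma exists_factor_pullback_comp {X Y Z Z' : Scheme.{u}} (f : X ⟶ Y) (g : Y ⟶ Z) (h : Z' ⟶ Z) :
    ∃ f' : pullback (f ≫ g) h ⟶ pullback g h,
      IsPullback (pullback.fst (f ≫ g) h) f' f (pullback.fst g h) ∧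
      f' ≫ pullback.snd g h = pullback.snd (f ≫ g) h := by
  have s : IsPullback (pullback.snd (f ≫ g) h) (pullback.fst (f ≫ g) h) h (f ≫ g) :=
    (IsPullback.of_hasPullback (f ≫ g) h).flip
  have t : IsPullback (pullback.snd g h) (pullback.fst g h) h g :=
    (IsPullback.of_hasPullback g h).flip
  exact ⟨_, (IsPullback.of_right' s t).flip, t.lift_fst _ _ _⟩

/-- Universal openness at a point is stable under base change along any pullback square. -/
lemma isUnivOpenAt_of_isPullback {X Y Y' P : Scheme.{u}} {f : X ⟶ Y} {x : X}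
    (hf : EGA43.IsUnivOpenAt f x) {g : Y' ⟶ Y} {fst' : P ⟶ X} {snd' : P ⟶ Y'}
    (hP : IsPullback fst' snd' f g) (p : P) (hp : fst'.base p = x) :
    EGA43.IsUnivOpenAt snd' p := by
  intro Y'' h p' hp'
  have t := IsPullback.of_hasPullback snd' h
  have big : IsPullback (pullback.fst snd' h ≫ fst') (pullback.snd snd' h) f (h ≫ g) :=
    (IsPullback.paste_vert t.flip hP.flip).flip
  refine isOpenAt_of_isPullback hf big p' ?_
  have : (pullback.fst snd' h ≫ fst').base p' = fst'.base ((pullback.fst snd' h).base p') := rfl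
  rw [this, hp', hp]

/-- Pasting: the base change of `pullback.snd f g` along `pullback.snd v g` is a base change of
`pullback.snd f v`. -/
lemma isOpenAt_snd_snd_of_forall {X Y Y₁ Y' : Scheme.{u}} (f : X ⟶ Y) (v : Y₁ ⟶ Y) (g : Y' ⟶ Y)
    (x : X)
    (h : ∀ x₁ : ↥(pullback f v), (pullback.fst f v).base x₁ = x →
      EGA43.IsUnivOpenAt (pullback.snd f v) x₁)
    (q : ↥(pullback (pullback.snd f g) (pullback.snd v g)))
    (hq : (pullback.fst f g).base
      ((pullback.fst (pullback.snd f g) (pullback.snd v g)).base q) = x) :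
    EGA43.IsOpenAt (pullback.snd (pullback.snd f g) (pullback.snd v g)).base q := by
  have s := IsPullback.of_hasPullback (pullback.snd f g) (pullback.snd v g)
  have t := IsPullback.of_hasPullback f g
  have big : IsPullback (pullback.fst (pullback.snd f g) (pullback.snd v g) ≫ pullback.fst f g)
      (pullback.snd (pullback.snd f g) (pullback.snd v g)) f (pullback.snd v g ≫ g) :=
    s.paste_horiz t
  rw [← pullback.condition] at big
  have key := IsPullback.of_right' big (IsPullback.of_hasPullback f v)
  have hx₁ : (pullback.fst f v).base (((IsPullback.of_hasPullback f v).lift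
      (pullback.fst (pullback.snd f g) (pullback.snd v g) ≫ pullback.fst f g)
      (pullback.snd (pullback.snd f g) (pullback.snd v g) ≫ pullback.fst v g)
      (by rw [big.w, Category.assoc])).base q) = x := by
    have e : (IsPullback.of_hasPullback f v).lift
        (pullback.fst (pullback.snd f g) (pullback.snd v g) ≫ pullback.fst f g)
        (pullback.snd (pullback.snd f g) (pullback.snd v g) ≫ pullback.fst v g)
        (by rw [big.w, Category.assoc]) ≫ pullback.fst f v =
        pullback.fst (pullback.snd f g) (pullback.snd v g) ≫ pullback.fst f g :=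
      (IsPullback.of_hasPullback f v).lift_fst _ _ _
    have e' := congrArg (fun φ => φ.base q) e
    exact e'.trans hq
  exact isOpenAt_of_isPullback (h _ hx₁) key q rfl

/-- Openness at a point can be tested on a finite cover by closed embeddings. -/
lemma isOpenAt_of_finite_closedEmbedding_cover {A B ι : Type*} [TopologicalSpace A]
    [TopologicalSpace B] [Finite ι] (ψ : A → B) (a : A) {C : ι → Type*}
    [∀ i, TopologicalSpace (C i)] (j : ∀ i, C i → B)
    (hj : ∀ i, Topology.IsClosedEmbedding (j i)) (hcov : ⋃ i, Set.range (j i) = Set.univ)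
    (h : ∀ i (c : C i), j i c = ψ a → ∀ U ∈ nhds a, (j i) ⁻¹' (ψ '' U) ∈ nhds c) :
    EGA43.IsOpenAt ψ a := by
  intro U hU
  have h1 : nhds (ψ a) = ⨆ i, nhdsWithin (ψ a) (Set.range (j i)) := by
    rw [← nhdsWithin_iUnion, hcov, nhdsWithin_univ]
  rw [h1, Filter.mem_iSup]
  intro i
  by_cases hi : ψ a ∈ Set.range (j i)
  · obtain ⟨c, hc⟩ := hi
    rw [← hc, ← (hj i).isEmbedding.map_nhds_eq, Filter.mem_map]
    exact h i c hc U hU
  · have : nhdsWithin (ψ a) (Set.range (j i)) = ⊥ := by
      rw [← notMem_closure_iff_nhdsWithin_eq_bot, (hj i).isClosed_range.closure_eq]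
      exact hi
    rw [this]
    exact Filter.mem_bot

end Groth.Agent.Helper12
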