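import Mathlib

set_option autoImplicit false
universe u

namespace Groth.Agent.Helper12.UnramGen

open Polynomial

variable {A B : Type u} [CommRing A] [IsLocalRing A] [CommRing B] [Algebra A B]

theorem aeval_mem_of_map_eq_zero (u : B) (p : A[X]) (hp : p.map (IsLocalRing.residue A) = 0) :
    aeval u p ∈ Ideal.map (algebraMap A B) (IsLocalRing.maximalIdeal A) := by
  rw [Polynomial.aeval_eq_sum_range]
  refine Ideal.sum_mem _ fun i _ => ?_
  have hi : p.coeff i ∈ IsLocalRing.maximalIdeal A := by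
    rw [← IsLocalRing.residue_eq_zero_iff, ← Polynomial.coeff_map, hp, Polynomial.coeff_zero]
  rw [Algebra.smul_def]
  exact Ideal.mul_mem_right _ _ (Ideal.mem_map_of_mem _ hi)

theorem star0 (u : B) (F₀ : A[X]) (hF₀ : F₀.Monic)
    (hF₀u : aeval u F₀ ∈ Ideal.map (algebraMap A B) (IsLocalRing.maximalIdeal A))
    (hmin : ∀ G : A[X], G.Monic →
      aeval u G ∈ Ideal.map (algebraMap A B) (IsLocalRing.maximalIdeal A) →
      F₀.natDegree ≤ G.natDegree)
    (g : A[X]) (hg : aeval u g ∈ Ideal.map (algebraMap A B) (IsLocalRing.maximalIdeal A)) :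
    (g %ₘ F₀).map (IsLocalRing.residue A) = 0 := by
  by_contra hne
  have hF1 : F₀ ≠ 1 := by
    rintro rfl
    apply hne
    rw [Polynomial.modByMonic_one, Polynomial.map_zero]
  have hdeg : (g %ₘ F₀).natDegree < F₀.natDegree := Polynomial.natDegree_modByMonic_lt g hF₀ hF1
  have hru : aeval u (g %ₘ F₀) ∈ Ideal.map (algebraMap A B) (IsLocalRing.maximalIdeal A) := by
    have h1 := congrArg (aeval u) (Polynomial.modByMonic_add_div g F₀)
    rw [map_add, map_mul] at h1
    have h2 : aeval u (g %ₘ F₀) = aeval u g - aeval u F₀ * aeval u (g /ₘ F₀) := by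
      linear_combination h1
    rw [h2]
    exact Ideal.sub_mem _ hg (Ideal.mul_mem_right _ _ hF₀u)
  have hlc : ((g %ₘ F₀).map (IsLocalRing.residue A)).leadingCoeff ≠ 0 :=
    Polynomial.leadingCoeff_ne_zero.mpr hne
  have hmonic : (C ((g %ₘ F₀).map (IsLocalRing.residue A)).leadingCoeff⁻¹ *
      (g %ₘ F₀).map (IsLocalRing.residue A)).Monic :=
    Polynomial.monic_C_mul_of_mul_leadingCoeff_eq_one (inv_mul_cancel₀ hlc)
  obtain ⟨G, hGmap, hGdeg, hGmonic⟩ := Polynomial.lifts_and_natDegree_eq_and_monic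
    ((Polynomial.mem_lifts _).mpr
      (Polynomial.map_surjective _ IsLocalRing.residue_surjective _)) hmonic
  obtain ⟨c', hc'⟩ := IsLocalRing.residue_surjective
    (((g %ₘ F₀).map (IsLocalRing.residue A)).leadingCoeff⁻¹)
  have hGu : aeval u G ∈ Ideal.map (algebraMap A B) (IsLocalRing.maximalIdeal A) := by
    have h3 : (G - C c' * (g %ₘ F₀)).map (IsLocalRing.residue A) = 0 := by
      rw [Polynomial.map_sub, Polynomial.map_mul, Polynomial.map_C, hGmap, hc', sub_self]
    have h4 := aeval_mem_of_map_eq_zero u _ h3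
    have h5 : aeval u G = aeval u (G - C c' * (g %ₘ F₀)) +
        algebraMap A B c' * aeval u (g %ₘ F₀) := by
      rw [map_sub, map_mul, Polynomial.aeval_C]; ring
    rw [h5]
    exact Ideal.add_mem _ h4 (Ideal.mul_mem_left _ _ hru)
  have h6 := hmin G hGmonic hGu
  have h7 : G.natDegree ≤ (g %ₘ F₀).natDegree := by
    rw [hGdeg, Polynomial.natDegree_C_mul (inv_ne_zero hlc)]
    exact Polynomial.natDegree_map_le
  omega

omit [IsLocalRing A] in
theorem exists_deriv_notMem (u : B) (hsurj : ∀ b : B, ∃ g : A[X], aeval u g = b)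
    (n : Ideal B) [n.IsPrime] (hun : Algebra.IsUnramifiedAt A n) :
    ∃ g : A[X], aeval u g = 0 ∧ aeval u (derivative g) ∉ n := by
  by_contra H
  push_neg at H
  choose σ hσ using hsurj
  let D₀ : B → B ⧸ n := fun b => Ideal.Quotient.mk n (aeval u (derivative (σ b)))
  have key : ∀ g : A[X], D₀ (aeval u g) = Ideal.Quotient.mk n (aeval u (derivative g)) := by
    intro g
    show Ideal.Quotient.mk n _ = Ideal.Quotient.mk n _
    rw [Ideal.Quotient.eq, ← map_sub, ← Polynomial.derivative_sub]
    apply H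
    rw [map_sub, hσ, sub_self]
  have e1 : ∀ (c x : B), c • (Ideal.Quotient.mk n x) = Ideal.Quotient.mk n (c * x) :=
    fun c x => rfl
  let Dl : B →ₗ[A] B ⧸ n :=
    { toFun := D₀
      map_add' := fun b b' => by
        have h : D₀ (b + b') = D₀ (aeval u (σ b + σ b')) := by rw [map_add, hσ, hσ]
        rw [h, key, Polynomial.derivative_add, map_add, map_add]
      map_smul' := fun a b => by
        have h : D₀ (a • b) = D₀ (aeval u (a • σ b)) := by rw [map_smul, hσ]
        rw [h, key, Polynomial.derivative_smul, map_smul, RingHom.id_apply]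
        rfl }
  let D : Derivation A B (B ⧸ n) := Derivation.mk' Dl (fun b b' => by
    show D₀ (b * b') = b • D₀ b' + b' • D₀ b
    have h : D₀ (b * b') = D₀ (aeval u (σ b * σ b')) := by rw [map_mul, hσ, hσ]
    rw [h, key, Polynomial.derivative_mul, map_add, map_mul, map_mul, hσ, hσ]
    show _ = b • Ideal.Quotient.mk n _ + b' • Ideal.Quotient.mk n _
    rw [e1, e1, ← map_add]
    congr 1
    ring)
  have hDu : D u = 1 := by
    have h := key X
    rw [aeval_X, derivative_X, map_one, map_one] at h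
    exact h
  haveI : Subsingleton Ω[Localization.AtPrime n⁄A] := (Algebra.formallyUnramified_iff _ _).mp hun
  have h0 : KaehlerDifferential.map A A B (Localization.AtPrime n) (KaehlerDifferential.D A B u) = 0 :=
    Subsingleton.elim _ _
  haveI := KaehlerDifferential.isLocalizedModule_map A B (Localization.AtPrime n) n.primeCompl
  obtain ⟨s, hs⟩ := (IsLocalizedModule.eq_zero_iff n.primeCompl
    (KaehlerDifferential.map A A B (Localization.AtPrime n))).mp h0
  have h1 := congrArg D.liftKaehlerDifferential hs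
  rw [map_zero, Submonoid.smul_def, map_smul, Derivation.liftKaehlerDifferential_comp_D, hDu] at h1
  apply s.2
  have : Ideal.Quotient.mk n (s : B) = 0 := by
    rw [← h1]
    show _ = Ideal.Quotient.mk n ((s : B) * 1)
    rw [mul_one]
  exact Ideal.Quotient.eq_zero_iff_mem.mp this

theorem main [Module.Finite A B] (u : B) (hu : Algebra.adjoin A ({u} : Set B) = ⊤) :
    ∃ F : Polynomial A, F.Monic ∧ Polynomial.aeval u F = 0 ∧
      ∀ (n : Ideal B) [n.IsMaximal], Algebra.IsUnramifiedAt A n →
        Polynomial.aeval u (Polynomial.derivative F) ∉ n := by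
  classical
  have hsurj : ∀ b : B, ∃ g : A[X], aeval u g = b := by
    intro b
    have : b ∈ (Polynomial.aeval u : A[X] →ₐ[A] B).range := by
      rw [← Algebra.adjoin_singleton_eq_range_aeval, hu]; exact Algebra.mem_top
    exact this
  have hex : ∃ d : ℕ, ∃ F : A[X], F.Monic ∧ F.natDegree = d ∧
      aeval u F ∈ Ideal.map (algebraMap A B) (IsLocalRing.maximalIdeal A) := by
    obtain ⟨p, hpm, hp0⟩ := Algebra.IsIntegral.isIntegral (R := A) u
    refine ⟨p.natDegree, p, hpm, rfl, ?_⟩
    rw [Polynomial.aeval_def, hp0]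
    exact Ideal.zero_mem _
  obtain ⟨F₀, hF₀m, hF₀d, hF₀u⟩ := Nat.find_spec hex
  have hmin : ∀ G : A[X], G.Monic →
      aeval u G ∈ Ideal.map (algebraMap A B) (IsLocalRing.maximalIdeal A) →
      F₀.natDegree ≤ G.natDegree := by
    intro G hG hGu
    rw [hF₀d]
    exact Nat.find_min' hex ⟨G, hG, rfl, hGu⟩
  let v : Fin F₀.natDegree → B := fun i => u ^ (i : ℕ)
  have hspan : (⊤ : Submodule A B) ≤ Submodule.span A (Set.range v) := by
    refine Submodule.le_of_le_smul_of_le_jacobson_bot Module.Finite.fg_top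
      (le_of_eq (IsLocalRing.jacobson_eq_maximalIdeal ⊥ bot_ne_top).symm) ?_
    rintro b -
    obtain ⟨g, rfl⟩ := hsurj b
    have h1 := Polynomial.modByMonic_add_div g F₀
    have h2 : aeval u g = aeval u (g %ₘ F₀) + aeval u F₀ * aeval u (g /ₘ F₀) := by
      rw [← map_mul, ← map_add, h1]
    rw [h2]
    refine Submodule.add_mem_sup ?_ ?_
    · by_cases hF1 : F₀ = 1
      · have h0 : g %ₘ F₀ = 0 := by rw [hF1, Polynomial.modByMonic_one]
        rw [h0, map_zero]; exact Submodule.zero_mem _
      · rw [Polynomial.aeval_eq_sum_range' (Polynomial.natDegree_modByMonic_lt g hF₀m hF1)]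
        refine Submodule.sum_mem _ fun i hi => ?_
        exact Submodule.smul_mem _ _ (Submodule.subset_span ⟨⟨i, Finset.mem_range.mp hi⟩, rfl⟩)
    · rw [Ideal.smul_top_eq_map]
      exact Ideal.mul_mem_right _ _ hF₀u
  have hF₀u' : aeval u F₀ ∈ (IsLocalRing.maximalIdeal A) • Submodule.span A (Set.range v) := by
    have : Submodule.span A (Set.range v) = ⊤ := top_le_iff.mp hspan
    rw [this, Ideal.smul_top_eq_map]
    exact hF₀u
  obtain ⟨a, ha, hsum⟩ := (Submodule.mem_ideal_smul_span_iff_exists_sum _ v _).mp hF₀u'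
  rw [Finsupp.sum_fintype a (fun i c => c • v i) (fun i => zero_smul A (v i))] at hsum
  set Δ : A[X] := ∑ i : Fin F₀.natDegree, C (a i) * X ^ (i : ℕ) with hΔ
  have hΔdeg : Δ.degree < F₀.natDegree := Polynomial.degree_sum_fin_lt (fun i => a i)
  have hΔu : aeval u Δ = aeval u F₀ := by
    rw [hΔ, map_sum, ← hsum]
    refine Finset.sum_congr rfl fun i _ => ?_
    rw [map_mul, Polynomial.aeval_C, map_pow, Polynomial.aeval_X, Algebra.smul_def]
  have hΔmap : Δ.map (IsLocalRing.residue A) = 0 := by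
    rw [hΔ, Polynomial.map_sum]
    refine Finset.sum_eq_zero fun i _ => ?_
    rw [Polynomial.map_mul, Polynomial.map_C, (IsLocalRing.residue_eq_zero_iff _).mpr (ha i),
      map_zero, zero_mul]
  have hF0 : aeval u (F₀ - Δ) = 0 := by rw [map_sub, hΔu, sub_self]
  refine ⟨F₀ - Δ, hF₀m.sub_of_left ?_, hF0, ?_⟩
  · rw [Polynomial.degree_eq_natDegree hF₀m.ne_zero]; exact hΔdeg
  · intro n hn hun
    obtain ⟨g, hg0, hgn⟩ := exists_deriv_notMem u hsurj n hun
    intro hFn
    apply hgn
    have hJn : Ideal.map (algebraMap A B) (IsLocalRing.maximalIdeal A) ≤ n := by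
      rw [Ideal.map_le_iff_le_comap]
      have := Ideal.isMaximal_comap_of_isIntegral_of_isMaximal (R := A) n
      rw [IsLocalRing.eq_maximalIdeal this]
    have hstar := star0 u F₀ hF₀m hF₀u hmin g (by rw [hg0]; exact Ideal.zero_mem _)
    have hρmap : (g %ₘ F₀ + Δ * (g /ₘ F₀)).map (IsLocalRing.residue A) = 0 := by
      rw [Polynomial.map_add, hstar, Polynomial.map_mul, hΔmap, zero_mul, add_zero]
    have hgeq : g = (g %ₘ F₀ + Δ * (g /ₘ F₀)) + (F₀ - Δ) * (g /ₘ F₀) := by
      have h1 := Polynomial.modByMonic_add_div g F₀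
      linear_combination -h1
    have hder : derivative g = derivative (g %ₘ F₀ + Δ * (g /ₘ F₀)) +
        (derivative (F₀ - Δ) * (g /ₘ F₀) + (F₀ - Δ) * derivative (g /ₘ F₀)) := by
      conv_lhs => rw [hgeq]
      rw [Polynomial.derivative_add, Polynomial.derivative_mul]
    rw [hder, map_add (aeval u), map_add (aeval u), map_mul (aeval u), map_mul (aeval u), hF0,
      zero_mul, add_zero]
    refine Ideal.add_mem _ (hJn ?_) (Ideal.mul_mem_right _ _ hFn)
    apply aeval_mem_of_map_eq_zero
    rw [← Polynomial.derivative_map, hρmap, Polynomial.derivative_zero]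

end Groth.Agent.Helper12.UnramGen
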