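import Mathlib

/-!
Finitely presented modules over a ring whose divisibility relation is total are finite direct
sums of cyclic modules `R ⧸ (f)`.
-/

set_option linter.style.haveILetI false
set_option linter.unusedSectionVars false

namespace Groth.Agent.Helper12.ValCyclic

universe u
variable {R : Type u} [CommRing R]

theorem exists_min_dvd (h : ∀ a b : R, a ∣ b ∨ b ∣ a) (T : Finset R) (hT : T.Nonempty) :
    ∃ a ∈ T, ∀ b ∈ T, a ∣ b := by
  induction hT using Finset.Nonempty.cons_induction with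
  | singleton a =>
    exact ⟨a, Finset.mem_singleton_self a, fun b hb => by rw [Finset.mem_singleton.mp hb]⟩
  | cons a s ha hs ih =>
    obtain ⟨m, hm, hmin⟩ := ih
    rcases h a m with h1 | h1
    · refine ⟨a, Finset.mem_cons_self a s, fun b hb => ?_⟩
      rcases Finset.mem_cons.mp hb with rfl | hb
      · exact dvd_rfl
      · exact h1.trans (hmin b hb)
    · refine ⟨m, Finset.mem_cons.mpr (Or.inr hm), fun b hb => ?_⟩
      rcases Finset.mem_cons.mp hb with rfl | hb
      · exact h1
      · exact hmin b hb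

theorem exists_pivot (h : ∀ a b : R, a ∣ b ∨ b ∣ a) {n : ℕ}
    (K : Submodule R (Fin (n + 1) → R)) (hK : K.FG) :
    ∃ ρ ∈ K, ∃ i0 : Fin (n + 1), ∀ k ∈ K, ∀ i, ρ i0 ∣ k i := by
  classical
  obtain ⟨S, hS⟩ := hK
  rcases S.eq_empty_or_nonempty with rfl | hne
  · refine ⟨0, K.zero_mem, 0, fun k hk i => ?_⟩
    rw [Finset.coe_empty, Submodule.span_empty] at hS
    rw [← hS, Submodule.mem_bot] at hk
    rw [hk]; exact dvd_zero _
  · let T : Finset R := S.biUnion (fun v => Finset.univ.image v)
    have hT : T.Nonempty := by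
      obtain ⟨v, hv⟩ := hne
      exact ⟨v 0, Finset.mem_biUnion.mpr ⟨v, hv, Finset.mem_image.mpr ⟨0, Finset.mem_univ _, rfl⟩⟩⟩
    obtain ⟨a, haT, hmin⟩ := exists_min_dvd h T hT
    obtain ⟨v0, hv0, ha⟩ := Finset.mem_biUnion.mp haT
    obtain ⟨i0, -, rfl⟩ := Finset.mem_image.mp ha
    have hv0K : v0 ∈ K := by rw [← hS]; exact Submodule.subset_span hv0
    refine ⟨v0, hv0K, i0, fun k hk i => ?_⟩
    rw [← hS] at hk
    induction hk using Submodule.span_induction generalizing i with
    | mem v hv =>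
      exact hmin _ (Finset.mem_biUnion.mpr ⟨v, hv, Finset.mem_image.mpr ⟨i, Finset.mem_univ _, rfl⟩⟩)
    | zero => exact dvd_zero _
    | add x y _ _ hx hy => exact dvd_add (hx i) (hy i)
    | smul c x _ hx =>
      show v0 i0 ∣ c * x i
      exact dvd_mul_of_dvd_right (hx i) c

theorem key (h : ∀ a b : R, a ∣ b ∨ b ∣ a) (n : ℕ) :
    ∀ (M : Type u) [AddCommGroup M] [Module R M] [Module.FinitePresentation R M]
      (π : (Fin n → R) →ₗ[R] M), Function.Surjective π →
      ∃ f : Fin n → R, Nonempty (M ≃ₗ[R] ((i : Fin n) → R ⧸ Ideal.span {f i})) := by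
  induction n with
  | zero =>
    intro M _ _ _ π hπ
    haveI : Subsingleton M := hπ.subsingleton
    exact ⟨fun i => i.elim0, ⟨LinearEquiv.ofSubsingleton _ _⟩⟩
  | succ n ih =>
    intro M _ _ _ π hπ
    classical
    obtain ⟨ρ, hρK, i0, hdiv⟩ :=
      exists_pivot h (LinearMap.ker π) (Module.FinitePresentation.fg_ker π hπ)
    obtain ⟨a, ha⟩ : ∃ a : R, a = ρ i0 := ⟨_, rfl⟩
    rw [← ha] at hdiv
    have hb : ∀ i, ∃ c, ρ i = a * c := fun i => hdiv ρ hρK i
    choose b hb using hb
    obtain ⟨b', hb'⟩ : ∃ b' : Fin (n + 1) → R, b' = Function.update b i0 1 := ⟨_, rfl⟩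
    have hb'0 : b' i0 = 1 := by rw [hb', Function.update_self]
    have hρb : ρ = a • b' := by
      ext i
      by_cases hi : i = i0
      · subst hi
        rw [Pi.smul_apply, hb'0, smul_eq_mul, mul_one, ha]
      · rw [Pi.smul_apply, hb', Function.update_of_ne hi, smul_eq_mul, hb i]
    obtain ⟨y, hy⟩ : ∃ y : M, y = π b' := ⟨_, rfl⟩
    have hay : a • y = 0 := by
      rw [hy, ← map_smul, ← hρb]; exact hρK
    -- the retraction onto `R ⧸ (a)`
    let pr : (Fin (n + 1) → R) →ₗ[R] R ⧸ Ideal.span {a} :=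
      (Submodule.mkQ (Ideal.span {a})) ∘ₗ (LinearMap.proj i0)
    have hpr : LinearMap.ker π ≤ LinearMap.ker pr := by
      intro k hk
      rw [LinearMap.mem_ker]
      show Submodule.Quotient.mk (k i0) = 0
      rw [Submodule.Quotient.mk_eq_zero]
      exact Ideal.mem_span_singleton.mpr (hdiv k hk i0)
    let r : M →ₗ[R] R ⧸ Ideal.span {a} :=
      (Submodule.liftQ _ pr hpr) ∘ₗ (π.quotKerEquivOfSurjective hπ).symm.toLinearMap
    have hr : ∀ c, r (π c) = Submodule.Quotient.mk (c i0) := by
      intro c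
      have h1 : (π.quotKerEquivOfSurjective hπ).symm (π c) = Submodule.Quotient.mk c := by
        rw [LinearEquiv.symm_apply_eq, LinearMap.quotKerEquivOfSurjective_apply_mk]
      show (Submodule.liftQ _ pr hpr) ((π.quotKerEquivOfSurjective hπ).symm (π c)) = _
      rw [h1, Submodule.liftQ_apply]
      rfl
    have hry : r y = Submodule.Quotient.mk 1 := by rw [hy, hr, hb'0]
    have hrty : ∀ t : R, r (t • y) = Submodule.Quotient.mk t := by
      intro t
      rw [map_smul, hry, ← Submodule.Quotient.mk_smul, smul_eq_mul, mul_one]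
    -- the quotient by `R y`
    let Q := M ⧸ Submodule.span R {y}
    haveI : Module.FinitePresentation R Q :=
      Module.finitePresentation_of_surjective (Submodule.mkQ _) (Submodule.mkQ_surjective _)
        (by rw [Submodule.ker_mkQ]; exact Submodule.fg_span_singleton y)
    let ι0 : (Fin n → R) →ₗ[R] (Fin (n + 1) → R) :=
      Function.ExtendByZero.linearMap R i0.succAbove
    have hι0s : ∀ (c : Fin n → R) (j : Fin n), ι0 c (i0.succAbove j) = c j := by
      intro c j
      show Function.extend i0.succAbove c 0 (i0.succAbove j) = c j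
      exact Fin.succAbove_right_injective.extend_apply _ _ _
    have hι00 : ∀ (c : Fin n → R), ι0 c i0 = 0 := by
      intro c
      show Function.extend i0.succAbove c 0 i0 = 0
      rw [Function.extend_apply']
      · rfl
      · rintro ⟨j, hj⟩
        exact Fin.succAbove_ne i0 j hj
    let π'' : (Fin n → R) →ₗ[R] Q := (Submodule.mkQ _) ∘ₗ π ∘ₗ ι0
    have hπ'' : Function.Surjective π'' := by
      intro q
      obtain ⟨m, rfl⟩ := Submodule.mkQ_surjective _ q
      obtain ⟨c, rfl⟩ := hπ m
      obtain ⟨c0, hc0⟩ : ∃ c0 : Fin (n + 1) → R, c0 = c - c i0 • b' := ⟨_, rfl⟩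
      have hc00 : c0 i0 = 0 := by
        rw [hc0, Pi.sub_apply, Pi.smul_apply, hb'0, smul_eq_mul, mul_one, sub_self]
      have hc0ι : c0 = ι0 (fun j => c0 (i0.succAbove j)) := by
        ext i
        rcases Fin.eq_self_or_eq_succAbove i0 i with rfl | ⟨j, rfl⟩
        · rw [hc00, hι00]
        · rw [hι0s]
      refine ⟨fun j => c0 (i0.succAbove j), ?_⟩
      show Submodule.mkQ _ (π (ι0 fun j => c0 (i0.succAbove j))) = Submodule.mkQ _ (π c)
      rw [← hc0ι, Submodule.mkQ_apply, Submodule.mkQ_apply, Submodule.Quotient.eq, ← map_sub,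
        hc0, sub_sub_cancel_left, map_neg, map_smul, ← hy]
      exact Submodule.neg_mem _ (Submodule.smul_mem _ _ (Submodule.mem_span_singleton_self y))
    obtain ⟨f, ⟨e⟩⟩ := ih Q π'' hπ''
    -- the splitting
    let Θ : M →ₗ[R] (R ⧸ Ideal.span {a}) × Q := r.prod (Submodule.mkQ _)
    have hΘinj : Function.Injective Θ := by
      rw [injective_iff_map_eq_zero]
      intro m hm
      have h1 : r m = 0 := congrArg Prod.fst hm
      have h2 : Submodule.mkQ (Submodule.span R {y}) m = 0 := congrArg Prod.snd hm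
      rw [Submodule.mkQ_apply, Submodule.Quotient.mk_eq_zero, Submodule.mem_span_singleton] at h2
      obtain ⟨c, rfl⟩ := h2
      rw [hrty, Submodule.Quotient.mk_eq_zero, Ideal.mem_span_singleton] at h1
      obtain ⟨d, rfl⟩ := h1
      rw [mul_comm, mul_smul, hay, smul_zero]
    have hΘsurj : Function.Surjective Θ := by
      rintro ⟨q, m''⟩
      obtain ⟨m, rfl⟩ := Submodule.mkQ_surjective _ m''
      obtain ⟨t, ht⟩ := Submodule.Quotient.mk_surjective _ (q - r m)
      refine ⟨m + t • y, Prod.ext ?_ ?_⟩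
      · show r (m + t • y) = q
        rw [map_add, hrty, ht, add_sub_cancel]
      · show Submodule.mkQ _ (m + t • y) = Submodule.mkQ _ m
        rw [Submodule.mkQ_apply, Submodule.mkQ_apply, Submodule.Quotient.eq, add_sub_cancel_left]
        exact Submodule.smul_mem _ _ (Submodule.mem_span_singleton_self y)
    refine ⟨Fin.cons a f, ⟨?_⟩⟩
    exact (LinearEquiv.ofBijective Θ ⟨hΘinj, hΘsurj⟩).trans
      (((LinearEquiv.refl R (R ⧸ Ideal.span {a})).prodCongr e).trans
        (Fin.consLinearEquiv R (fun i : Fin (n + 1) => R ⧸ Ideal.span {(Fin.cons a f : Fin (n + 1) → R) i})))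

theorem main (h : ∀ a b : R, a ∣ b ∨ b ∣ a)
    (M : Type u) [AddCommGroup M] [Module R M] [Module.FinitePresentation R M] :
    ∃ (n : ℕ) (f : Fin n → R), Nonempty (M ≃ₗ[R] ((i : Fin n) → R ⧸ Ideal.span {f i})) := by
  obtain ⟨n, π, hπ⟩ := Module.Finite.exists_fin' R M
  obtain ⟨f, hf⟩ := key h n M π hπ
  exact ⟨n, f, hf⟩

end Groth.Agent.Helper12.ValCyclic
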