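import Mathlib
import Groth.Agent.Lib.Helper12.ValCyclic

/-!
Rings whose localizations at maximal ideals have total divisibility: every finitely presented
module is a direct summand of a finite direct sum of cyclic modules `R ⧸ (f)`.
-/

set_option linter.style.haveILetI false
set_option linter.unusedSectionVars false

namespace Groth.Agent.Helper12.ValCyclicGlobal

universe u

theorem sum_comp_proj_single {A : Type*} [CommRing A] {ι : Type*} [Fintype ι] [DecidableEq ι]
    {κ : ι → Type*} [∀ i, AddCommGroup (κ i)] [∀ i, Module A (κ i)] {N : Type*} [AddCommGroup N]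
    [Module A N] (F : ∀ i, κ i →ₗ[A] N) (i : ι) (x : κ i) :
    (∑ j, (F j) ∘ₗ (LinearMap.proj j : (∀ i, κ i) →ₗ[A] κ j)) (Pi.single i x) = F i x := by
  rw [LinearMap.sum_apply, Finset.sum_eq_single i]
  · rw [LinearMap.comp_apply, LinearMap.proj_apply, Pi.single_eq_same]
  · intro j _ hj
    rw [LinearMap.comp_apply, LinearMap.proj_apply, Pi.single_eq_of_ne hj, map_zero]
  · intro h; exact absurd (Finset.mem_univ i) h

variable {R : Type u} [CommRing R]
variable (M : Type u) [AddCommGroup M] [Module R M]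

/-- `g • id_M` factors through a finite product of cyclic modules. -/
def P (g : R) : Prop :=
  ∃ (ι : Type) (_ : Fintype ι) (f : ι → R)
    (φ : (∀ i, R ⧸ Ideal.span {f i}) →ₗ[R] M) (ψ : M →ₗ[R] (∀ i, R ⧸ Ideal.span {f i})),
    φ ∘ₗ ψ = g • LinearMap.id

theorem P_zero : P M (0 : R) :=
  ⟨Empty, inferInstance, fun e => e.elim, 0, 0, by rw [zero_smul, LinearMap.comp_zero]⟩

theorem P_smul (a : R) {g : R} (h : P M g) : P M (a * g) := by
  obtain ⟨ι, _, f, φ, ψ, hφψ⟩ := h
  exact ⟨ι, inferInstance, f, φ, a • ψ, by rw [LinearMap.comp_smul, hφψ, smul_smul]⟩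

theorem P_add {g g' : R} (h : P M g) (h' : P M g') : P M (g + g') := by
  obtain ⟨ι, _, f, φ, ψ, hφψ⟩ := h
  obtain ⟨ι', _, f', φ', ψ', hφψ'⟩ := h'
  let E := LinearEquiv.sumPiEquivProdPi R ι ι' (fun i => R ⧸ Ideal.span {Sum.elim f f' i})
  let φc : ((∀ i, R ⧸ Ideal.span {Sum.elim f f' (Sum.inl i)}) ×
      (∀ i', R ⧸ Ideal.span {Sum.elim f f' (Sum.inr i')})) →ₗ[R] M := LinearMap.coprod φ φ'
  let ψc : M →ₗ[R] ((∀ i, R ⧸ Ideal.span {Sum.elim f f' (Sum.inl i)}) ×
      (∀ i', R ⧸ Ideal.span {Sum.elim f f' (Sum.inr i')})) := LinearMap.prod ψ ψ'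
  refine ⟨ι ⊕ ι', inferInstance, Sum.elim f f', φc ∘ₗ E.toLinearMap, E.symm.toLinearMap ∘ₗ ψc, ?_⟩
  ext m
  have h1 : φ (ψ m) = g • m := LinearMap.congr_fun hφψ m
  have h2 : φ' (ψ' m) = g' • m := LinearMap.congr_fun hφψ' m
  show φc (E (E.symm (ψc m))) = (g + g') • m
  rw [LinearEquiv.apply_symm_apply]
  show φ (ψ m) + φ' (ψ' m) = (g + g') • m
  rw [h1, h2, add_smul]

/-- The ideal of those `g` with `P M g`. -/
def J : Ideal R where
  carrier := {g | P M g}
  add_mem' := fun h h' => P_add M h h'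
  zero_mem' := P_zero M
  smul_mem' := fun a _ h => P_smul M a h

theorem stepA_aux [Module.FinitePresentation R M] (S : Submonoid R) (n : ℕ)
    (f' : Fin n → Localization S)
    (e : LocalizedModule S M ≃ₗ[Localization S] (∀ i, Localization S ⧸ Ideal.span {f' i})) :
    ∃ g ∈ S, P M g := by
  classical
  have hone : ∀ i, f' i • (Pi.single i (Submodule.Quotient.mk 1) :
      ∀ j, Localization S ⧸ Ideal.span {f' j}) = 0 := by
    intro i
    rw [← Pi.single_smul]
    have h0 : f' i • (Submodule.Quotient.mk 1 : Localization S ⧸ Ideal.span {f' i}) = 0 := by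
      rw [← Submodule.Quotient.mk_smul, Submodule.Quotient.mk_eq_zero, smul_eq_mul, mul_one]
      exact Ideal.mem_span_singleton_self _
    rw [h0, Pi.single_zero]
  obtain ⟨y, hydef⟩ : ∃ y : Fin n → LocalizedModule S M,
      y = fun i => e.symm (Pi.single i (Submodule.Quotient.mk 1)) := ⟨_, rfl⟩
  have hy : ∀ i, f' i • y i = 0 := fun i => by
    rw [hydef]
    show f' i • e.symm (Pi.single i (Submodule.Quotient.mk 1)) = 0
    rw [← map_smul, hone, map_zero]
  have hx : ∀ i, ∃ p : M × S, p.2 • y i = LocalizedModule.mkLinearMap S M p.1 := fun i =>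
    IsLocalizedModule.surj S (LocalizedModule.mkLinearMap S M) (y i)
  choose xs hxs using hx
  have hr : ∀ i, ∃ p : R × S,
      f' i * algebraMap R (Localization S) p.2 = algebraMap R (Localization S) p.1 := fun i =>
    IsLocalization.surj S (f' i)
  choose rt hrt using hr
  have hkill : ∀ i, ∃ u : S, u • ((rt i).1 • (xs i).1) = 0 := by
    intro i
    rw [← IsLocalizedModule.eq_zero_iff S (LocalizedModule.mkLinearMap S M)]
    rw [map_smul, ← hxs i, Submonoid.smul_def, smul_comm,
      ← algebraMap_smul (Localization S) (rt i).1 (y i), ← hrt i, mul_comm (f' i), mul_smul, hy i,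
      smul_zero, smul_zero]
  choose u hu using hkill
  obtain ⟨f, hfdef⟩ : ∃ f : Fin n → R, f = fun i => (u i : R) * (rt i).1 := ⟨_, rfl⟩
  have hfx : ∀ i, f i • (xs i).1 = 0 := fun i => by
    rw [hfdef]
    show ((u i : R) * (rt i).1) • (xs i).1 = 0
    rw [mul_smul]; exact hu i
  have hv : ∀ i, ∃ v' : Localization S, f' i = algebraMap R (Localization S) (f i) * v' := by
    intro i
    have hunit : IsUnit (algebraMap R (Localization S) ((u i * (rt i).2 : S) : R)) :=
      IsLocalization.map_units (Localization S) (u i * (rt i).2)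
    obtain ⟨v', hv'⟩ := hunit.exists_right_inv
    refine ⟨v', ?_⟩
    have h1 : f' i * algebraMap R (Localization S) ((u i * (rt i).2 : S) : R) =
        algebraMap R (Localization S) (f i) := by
      rw [hfdef]
      show f' i * algebraMap R (Localization S) ((u i : R) * ((rt i).2 : R)) =
        algebraMap R (Localization S) ((u i : R) * (rt i).1)
      rw [map_mul, map_mul, ← hrt i]; ring
    rw [← h1, mul_assoc, hv', mul_one]
  choose v' hv' using hv
  have hσ : ∀ i, ∃ σ : Localization S,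
      σ * algebraMap R (Localization S) ((xs i).2 : R) = 1 := fun i =>
    (IsLocalization.map_units (Localization S) (xs i).2).exists_left_inv
  choose σ hσ using hσ
  -- the map `C → M`
  let lift : ∀ i, (R ⧸ Ideal.span {f i}) →ₗ[R] M := fun i =>
    Submodule.liftQ (Ideal.span {f i}) (LinearMap.toSpanSingleton R M (xs i).1)
      (Submodule.span_le.mpr (by
        rw [Set.singleton_subset_iff, SetLike.mem_coe, LinearMap.mem_ker,
          LinearMap.toSpanSingleton_apply]
        exact hfx i))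
  let φ : (∀ i, R ⧸ Ideal.span {f i}) →ₗ[R] M := ∑ i, (lift i) ∘ₗ (LinearMap.proj i)
  have hφs : ∀ i, φ (Pi.single i (Submodule.Quotient.mk 1)) = (xs i).1 := by
    intro i
    show (∑ j, (lift j) ∘ₗ (LinearMap.proj j)) (Pi.single i (Submodule.Quotient.mk 1)) = _
    rw [sum_comp_proj_single]
    show Submodule.liftQ _ _ _ (Submodule.Quotient.mk 1) = _
    rw [Submodule.liftQ_apply, LinearMap.toSpanSingleton_apply, one_smul]
  -- the localized side
  let mkC := LocalizedModule.mkLinearMap S (∀ i, R ⧸ Ideal.span {f i})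
  let mkM := LocalizedModule.mkLinearMap S M
  let φm : LocalizedModule S (∀ i, R ⧸ Ideal.span {f i}) →ₗ[Localization S] LocalizedModule S M :=
    LocalizedModule.map S φ
  have hφm : ∀ c, φm (mkC c) = mkM (φ c) := fun c => by
    show LocalizedModule.map S φ (LocalizedModule.mk c 1) = LocalizedModule.mk (φ c) 1
    rw [LocalizedModule.map_mk]
  have hw : ∀ i, algebraMap R (Localization S) (f i) •
      mkC (Pi.single i (Submodule.Quotient.mk 1)) = 0 := by
    intro i
    rw [algebraMap_smul, ← map_smul, ← Pi.single_smul]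
    have h0 : f i • (Submodule.Quotient.mk 1 : R ⧸ Ideal.span {f i}) = 0 := by
      rw [← Submodule.Quotient.mk_smul, Submodule.Quotient.mk_eq_zero, smul_eq_mul, mul_one]
      exact Ideal.mem_span_singleton_self _
    rw [h0, Pi.single_zero, map_zero]
  obtain ⟨z, hzdef⟩ : ∃ z : Fin n → LocalizedModule S (∀ i, R ⧸ Ideal.span {f i}),
      z = fun i => σ i • mkC (Pi.single i (Submodule.Quotient.mk 1)) := ⟨_, rfl⟩
  have hφz : ∀ i, φm (z i) = y i := by
    intro i
    rw [hzdef]
    show φm (σ i • mkC _) = y i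
    rw [map_smul, hφm, hφs, ← hxs i, Submonoid.smul_def,
      ← algebraMap_smul (Localization S) ((xs i).2 : R) (y i), smul_smul, hσ i, one_smul]
  have hfz : ∀ i, f' i • z i = 0 := by
    intro i
    rw [hzdef]
    show f' i • (σ i • mkC (Pi.single i (Submodule.Quotient.mk 1))) = 0
    have e1 : f' i • (σ i • mkC (Pi.single i (Submodule.Quotient.mk 1))) =
        (v' i * σ i) • (algebraMap R (Localization S) (f i) •
          mkC (Pi.single i (Submodule.Quotient.mk 1))) := by
      rw [smul_smul, smul_smul, hv' i]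
      congr 1
      ring
    rw [e1, hw, smul_zero]
  let γ : ∀ i, (Localization S ⧸ Ideal.span {f' i}) →ₗ[Localization S]
      LocalizedModule S (∀ i, R ⧸ Ideal.span {f i}) := fun i =>
    Submodule.liftQ (Ideal.span {f' i}) (LinearMap.toSpanSingleton (Localization S) _ (z i))
      (Submodule.span_le.mpr (by
        rw [Set.singleton_subset_iff, SetLike.mem_coe, LinearMap.mem_ker,
          LinearMap.toSpanSingleton_apply]
        exact hfz i))
  let Γ : (∀ i, Localization S ⧸ Ideal.span {f' i}) →ₗ[Localization S]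
      LocalizedModule S (∀ i, R ⧸ Ideal.span {f i}) := ∑ i, (γ i) ∘ₗ (LinearMap.proj i)
  have hΓ : φm ∘ₗ Γ = e.symm.toLinearMap := by
    apply LinearMap.pi_ext'
    intro i
    apply Submodule.linearMap_qext
    apply LinearMap.ext_ring
    show φm (Γ (Pi.single i (Submodule.Quotient.mk 1))) =
      e.symm (Pi.single i (Submodule.Quotient.mk 1))
    have h1 : Γ (Pi.single i (Submodule.Quotient.mk 1)) = z i := by
      show (∑ j, (γ j) ∘ₗ (LinearMap.proj j)) (Pi.single i (Submodule.Quotient.mk 1)) = _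
      rw [sum_comp_proj_single]
      show Submodule.liftQ _ _ _ (Submodule.Quotient.mk 1) = _
      rw [Submodule.liftQ_apply, LinearMap.toSpanSingleton_apply, one_smul]
    rw [h1, hφz, hydef]
  let g₀ : M →ₗ[R] LocalizedModule S (∀ i, R ⧸ Ideal.span {f i}) :=
    (Γ.restrictScalars R) ∘ₗ (e.toLinearMap.restrictScalars R) ∘ₗ mkM
  have hg₀ : ∀ x, φm (g₀ x) = mkM x := by
    intro x
    show φm (Γ (e (mkM x))) = mkM x
    have h1 := LinearMap.congr_fun hΓ (e (mkM x))
    rw [LinearMap.comp_apply] at h1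
    rw [h1]
    exact e.symm_apply_apply _
  obtain ⟨ψ, s₀, hψ⟩ := Module.FinitePresentation.exists_lift_of_isLocalizedModule S mkC g₀
  have hcomp : mkM ∘ₗ (φ ∘ₗ ψ) = mkM ∘ₗ ((s₀ : R) • LinearMap.id) := by
    ext x
    show mkM (φ (ψ x)) = mkM ((s₀ : R) • x)
    have h1 : mkC (ψ x) = s₀ • g₀ x := LinearMap.congr_fun hψ x
    rw [← hφm, h1, Submonoid.smul_def, ← algebraMap_smul (Localization S) (s₀ : R) (g₀ x),
      map_smul, hg₀, algebraMap_smul, map_smul mkM]
  obtain ⟨u₀, hu₀⟩ := Module.Finite.exists_smul_of_comp_eq_of_isLocalizedModule S mkM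
    (φ ∘ₗ ψ) ((s₀ : R) • LinearMap.id) hcomp
  refine ⟨(u₀ : R) * (s₀ : R), S.mul_mem u₀.2 s₀.2, Fin n, inferInstance, f, φ, (u₀ : R) • ψ, ?_⟩
  rw [LinearMap.comp_smul, mul_smul]
  exact hu₀

theorem main (h : ∀ (m : Ideal R) [m.IsMaximal], ∀ a b : Localization.AtPrime m, a ∣ b ∨ b ∣ a)
    [Module.FinitePresentation R M] :
    ∃ (n : ℕ) (f : Fin n → R) (N : Type u) (_ : AddCommGroup N) (_ : Module R N),
      Nonempty ((M × N) ≃ₗ[R] ((i : Fin n) → R ⧸ Ideal.span {f i})) := by
  classical
  have hJ : J (R := R) M = ⊤ := by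
    by_contra hne
    obtain ⟨m, hm, hle⟩ := Ideal.exists_le_maximal _ hne
    haveI := hm
    obtain ⟨n, f', ⟨e⟩⟩ := ValCyclic.main (h m) (LocalizedModule m.primeCompl M)
    obtain ⟨g, hgS, hg⟩ := stepA_aux M m.primeCompl n f' e
    exact hgS (hle (show g ∈ J (R := R) M from hg))
  have h1 : P M (1 : R) := by
    have h2 : (1 : R) ∈ J (R := R) M := by rw [hJ]; trivial
    exact h2
  obtain ⟨ι, _, f, φ, ψ, hφψ⟩ := h1
  rw [one_smul] at hφψ
  have hφψ' : ∀ m, φ (ψ m) = m := fun m => LinearMap.congr_fun hφψ m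
  let T : (M × LinearMap.ker φ) →ₗ[R] (∀ i, R ⧸ Ideal.span {f i}) :=
    ψ.coprod (LinearMap.ker φ).subtype
  have hT : Function.Bijective T := by
    constructor
    · rw [injective_iff_map_eq_zero]
      rintro ⟨m, k⟩ hmk
      have h2 : ψ m + (k : ∀ i, R ⧸ Ideal.span {f i}) = 0 := hmk
      have h3 : m = 0 := by
        have h4 := congrArg φ h2
        rw [map_add, hφψ', LinearMap.mem_ker.mp k.2, add_zero, map_zero] at h4
        exact h4
      subst h3
      rw [map_zero, zero_add] at h2
      exact Prod.ext rfl (Subtype.ext h2)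
    · intro c
      refine ⟨(φ c, ⟨c - ψ (φ c), ?_⟩), ?_⟩
      · rw [LinearMap.mem_ker, map_sub, hφψ', sub_self]
      · show ψ (φ c) + (c - ψ (φ c)) = c
        abel
  refine ⟨Fintype.card ι, fun j => f ((Fintype.equivFin ι).symm j), LinearMap.ker φ,
    inferInstance, inferInstance, ⟨?_⟩⟩
  exact (LinearEquiv.ofBijective T hT).trans
    (LinearEquiv.piCongrLeft' R (fun i => R ⧸ Ideal.span {f i}) (Fintype.equivFin ι))

end Groth.Agent.Helper12.ValCyclicGlobal
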