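import Mathlib
import Groth.Agent.Lib.Helper12.ValCyclic

/-! Products of valuation rings: every ideal is flat. -/

namespace Groth.Agent.Helper12.ValProd

theorem comp {V : Type*} [CommRing V] [IsDomain V] [ValuationRing V] (l : ℕ) (v : Fin l → V) :
    ∃ (c : V) (a u : Fin l → V), (∀ i, v i = a i * c) ∧ c = ∑ i, u i * v i ∧
      (c = 0 → ∀ i, a i = 0) := by
  classical
  rcases Nat.eq_zero_or_pos l with hl | hl
  · subst hl
    exact ⟨0, fun _ => 0, fun _ => 0, fun i => i.elim0, by simp, fun _ i => i.elim0⟩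
  · have hne : (Finset.univ.image v).Nonempty :=
      ⟨v ⟨0, hl⟩, Finset.mem_image_of_mem v (Finset.mem_univ _)⟩
    obtain ⟨m, hm, hmin⟩ := Groth.Agent.Helper12.ValCyclic.exists_min_dvd
      (fun a b : V => ValuationRing.dvd_total a b) (Finset.univ.image v) hne
    obtain ⟨i₀, -, hi₀⟩ := Finset.mem_image.mp hm
    have hdvd : ∀ i, m ∣ v i := fun i => hmin (v i) (Finset.mem_image_of_mem v (Finset.mem_univ i))
    by_cases hm0 : m = 0
    · refine ⟨0, fun _ => 0, fun _ => 0, fun i => ?_, by simp, fun _ _ => rfl⟩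
      have := hdvd i
      rw [hm0, zero_dvd_iff] at this
      rw [this, zero_mul]
    · choose q hq using hdvd
      refine ⟨m, q, Pi.single i₀ 1, fun i => ?_, ?_, fun h => absurd h hm0⟩
      · rw [hq i, mul_comm]
      · rw [Finset.sum_eq_single i₀]
        · rw [Pi.single_eq_same, one_mul, hi₀]
        · intro i _ hi
          rw [Pi.single_eq_of_ne hi, zero_mul]
        · intro h; exact absurd (Finset.mem_univ _) h

theorem flat_ideal {J : Type*} (A : J → Type*) [∀ j, CommRing (A j)] [∀ j, IsDomain (A j)]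
    [∀ j, ValuationRing (A j)] (I : Ideal (∀ j, A j)) : Module.Flat (∀ j, A j) I := by
  classical
  rw [Module.Flat.iff_forall_isTrivialRelation]
  intro l f x h
  -- componentwise data
  have hc := fun j : J => comp l (fun i => ((x i : ∀ j, A j) j))
  choose c a u h1 h2 h3 using hc
  have hcI : c ∈ I := by
    have : c = ∑ i, (fun j => u j i) * (x i : ∀ j, A j) := by
      funext j
      rw [h2 j, Finset.sum_apply]
      rfl
    rw [this]
    exact I.sum_mem fun i _ => I.mul_mem_left _ (x i).2
  refine ⟨1, fun i _ => (fun j => a j i), fun _ => ⟨c, hcI⟩, fun i => ?_, fun _ => ?_⟩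
  · rw [Fin.sum_univ_one]
    apply Subtype.ext
    funext j
    rw [Submodule.coe_smul, smul_eq_mul, Pi.mul_apply]
    exact h1 j i
  · funext j
    rw [Finset.sum_apply]
    simp only [Pi.mul_apply, Pi.zero_apply]
    have hj : ∑ i, f i j * ((x i : ∀ j, A j) j) = 0 := by
      have h' := congrArg (fun z : ↥I => (z : ∀ j, A j) j) h
      simp only [Submodule.coe_sum, Submodule.coe_smul, smul_eq_mul, Finset.sum_apply,
        Pi.mul_apply, ZeroMemClass.coe_zero, Pi.zero_apply] at h'
      exact h'
    by_cases hcj : c j = 0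
    · refine Finset.sum_eq_zero fun i _ => ?_
      rw [h3 j hcj i, mul_zero]
    · have : (∑ i, f i j * a j i) * c j = 0 := by
        rw [Finset.sum_mul, ← hj]
        refine Finset.sum_congr rfl fun i _ => ?_
        rw [h1 j i, mul_assoc]
      rcases mul_eq_zero.mp this with h0 | h0
      · exact h0
      · exact absurd h0 hcj

theorem nzd_eq {J : Type*} (A : J → Type*) [∀ j, CommRing (A j)] [∀ j, IsDomain (A j)] :
    nonZeroDivisors (∀ j, A j) = Submonoid.pi Set.univ (fun j => nonZeroDivisors (A j)) := by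
  classical
  ext x
  rw [Submonoid.mem_pi]
  constructor
  · intro hx j _
    rw [mem_nonZeroDivisors_iff_ne_zero]
    intro hxj
    have h1 : x * Pi.single j (1 : A j) = 0 := by
      funext j'
      rw [Pi.mul_apply, Pi.zero_apply]
      by_cases hjj : j' = j
      · subst hjj; rw [hxj, zero_mul]
      · rw [Pi.single_eq_of_ne hjj, mul_zero]
    have h2 := (mul_left_mem_nonZeroDivisors_eq_zero_iff hx).mp h1
    have h3 := congrFun h2 j
    rw [Pi.single_eq_same, Pi.zero_apply] at h3
    exact one_ne_zero h3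
  · intro hx
    rw [mem_nonZeroDivisors_iff_right]
    intro z hz
    funext j
    have h1 := congrFun hz j
    rw [Pi.mul_apply, Pi.zero_apply] at h1
    have h2 := hx j (Set.mem_univ j)
    exact (mul_right_mem_nonZeroDivisors_eq_zero_iff h2).mp h1

theorem isLocalization {J : Type*} (A : J → Type*) [∀ j, CommRing (A j)] [∀ j, IsDomain (A j)]
    (K : J → Type*) [∀ j, Field (K j)] [∀ j, Algebra (A j) (K j)]
    [∀ j, IsFractionRing (A j) (K j)] :
    IsLocalization (nonZeroDivisors (∀ j, A j)) (∀ j, K j) := by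
  rw [nzd_eq]
  infer_instance

end Groth.Agent.Helper12.ValProd
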