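import Mathlib

/-!
# A Weierstrass scheme over a DVR is regular at the origin of the special fibre (helper12)
-/

set_option autoImplicit false
set_option linter.style.haveILetI false

namespace Groth.Agent.Helper12.WeierReg

open Polynomial IsLocalRing
open scoped Polynomial.Bivariate

universe u

variable {R : Type u} [CommRing R] (W : WeierstrassCurve.Affine R)

/-- class of `x` -/
noncomputable abbrev xx : W.CoordinateRing := WeierstrassCurve.Affine.CoordinateRing.mk W (C X)
/-- class of `y` -/
noncomputable abbrev yy : W.CoordinateRing := WeierstrassCurve.Affine.CoordinateRing.mk W X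

lemma algebraMap_eq (r : R) : algebraMap R W.CoordinateRing r =
    WeierstrassCurve.Affine.CoordinateRing.mk W (C (C r)) := rfl

lemma a6_mem : algebraMap R W.CoordinateRing W.a₆ ∈ Ideal.span {xx W, yy W} := by
  have key : (C (C W.a₆) : R[X][Y]) = (Y + C (C W.a₁ * X + C W.a₃)) * Y +
      C (-(X ^ 2) - C W.a₂ * X - C W.a₄) * C X - W.polynomial := by
    unfold WeierstrassCurve.Affine.polynomial
    simp only [map_add, map_sub, map_mul, map_pow, map_neg]
    ring
  have h1 := congrArg (WeierstrassCurve.Affine.CoordinateRing.mk W) key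
  rw [map_sub, AdjoinRoot.mk_self, sub_zero, map_add, map_mul, map_mul] at h1
  rw [Ideal.mem_span_pair, algebraMap_eq, h1]
  exact ⟨WeierstrassCurve.Affine.CoordinateRing.mk W (C (-(X ^ 2) - C W.a₂ * X - C W.a₄)),
    WeierstrassCurve.Affine.CoordinateRing.mk W (Y + C (C W.a₁ * X + C W.a₃)), add_comm _ _⟩

lemma exists_sub_mem (c : W.CoordinateRing) :
    ∃ r : R, c - algebraMap R W.CoordinateRing r ∈ Ideal.span {xx W, yy W} := by
  obtain ⟨p, q, rfl⟩ := WeierstrassCurve.Affine.CoordinateRing.exists_smul_basis_eq c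
  refine ⟨p.coeff 0, ?_⟩
  rw [Ideal.mem_span_pair]
  refine ⟨WeierstrassCurve.Affine.CoordinateRing.mk W (C p.divX),
    WeierstrassCurve.Affine.CoordinateRing.mk W (C q), ?_⟩
  rw [WeierstrassCurve.Affine.CoordinateRing.smul, WeierstrassCurve.Affine.CoordinateRing.smul,
    mul_one, algebraMap_eq]
  have hp : p = p.divX * X + C (p.coeff 0) := (Polynomial.divX_mul_X_add p).symm
  have h1 : WeierstrassCurve.Affine.CoordinateRing.mk W (C p) =
      WeierstrassCurve.Affine.CoordinateRing.mk W (C p.divX) * xx W +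
        WeierstrassCurve.Affine.CoordinateRing.mk W (C (C (p.coeff 0))) := by
    conv_lhs => rw [hp]
    simp only [map_add, map_mul]
  rw [h1]
  ring

section DVR

variable [IsDomain R] [IsDiscreteValuationRing R]

lemma maximalIdeal_le (h6 : W.a₆ ∈ maximalIdeal R) (h6' : W.a₆ ∉ maximalIdeal R ^ 2) :
    ∀ r ∈ maximalIdeal R, algebraMap R W.CoordinateRing r ∈ Ideal.span {xx W, yy W} := by
  obtain ⟨ϖ, hϖ⟩ := IsDiscreteValuationRing.exists_irreducible R
  have hm : maximalIdeal R = Ideal.span {ϖ} := hϖ.maximalIdeal_eq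
  rw [hm, Ideal.mem_span_singleton'] at h6
  obtain ⟨c, hc⟩ := h6
  have hcu : IsUnit c := by
    by_contra hcn
    have hcm : c ∈ maximalIdeal R := hcn
    rw [hm, Ideal.mem_span_singleton'] at hcm
    obtain ⟨c', hc'⟩ := hcm
    apply h6'
    rw [hm, Ideal.span_singleton_pow, Ideal.mem_span_singleton']
    exact ⟨c', by rw [← hc, ← hc']; ring⟩
  intro r hr
  rw [hm, Ideal.mem_span_singleton'] at hr
  obtain ⟨t, rfl⟩ := hr
  obtain ⟨u, rfl⟩ := hcu
  have h1 : t * ϖ = W.a₆ * (↑u⁻¹ * t) := by
    rw [← hc]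
    have : (↑u : R) * ↑u⁻¹ = 1 := Units.mul_inv u
    linear_combination (-(t * ϖ)) * this
  rw [h1, map_mul]
  exact Ideal.mul_mem_right _ _ (a6_mem W)

theorem main (h6 : W.a₆ ∈ maximalIdeal R) (h6' : W.a₆ ∉ maximalIdeal R ^ 2)
    (P : Ideal W.CoordinateRing) [P.IsMaximal]
    (hP : ∀ r ∈ maximalIdeal R, algebraMap R W.CoordinateRing r ∈ P)
    (hx : WeierstrassCurve.Affine.CoordinateRing.mk W (C X) ∈ P)
    (hy : WeierstrassCurve.Affine.CoordinateRing.mk W X ∈ P) :
    IsRegularLocalRing (Localization.AtPrime P) := by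
  have hJP : Ideal.span {xx W, yy W} ≤ P := by
    rw [Ideal.span_le]
    rintro _ (rfl | rfl)
    exacts [hx, hy]
  have hPJ : P ≤ Ideal.span {xx W, yy W} := by
    intro c hc
    obtain ⟨r, hr⟩ := exists_sub_mem W c
    have hrP : algebraMap R W.CoordinateRing r ∈ P := by
      have := P.sub_mem hc (hJP hr)
      simpa using this
    have hrm : r ∈ maximalIdeal R := by
      by_contra hn
      have hu : IsUnit r := by
        by_contra h'
        exact hn h'
      exact (Ideal.IsPrime.ne_top inferInstance)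
        (Ideal.eq_top_of_isUnit_mem _ hrP (hu.map (algebraMap R W.CoordinateRing)))
    have h2 := maximalIdeal_le W h6 h6' r hrm
    have h3 : c = (c - algebraMap R W.CoordinateRing r) + algebraMap R W.CoordinateRing r := by ring
    rw [h3]
    exact Ideal.add_mem _ hr h2
  have hPeq : P = Ideal.span {xx W, yy W} := le_antisymm hPJ hJP
  apply IsRegularLocalRing.of_spanFinrank_maximalIdeal_le
  -- the maximal ideal is generated by two elements
  have hmax : maximalIdeal (Localization.AtPrime P) =
      Ideal.span {algebraMap W.CoordinateRing (Localization.AtPrime P) (xx W),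
        algebraMap W.CoordinateRing (Localization.AtPrime P) (yy W)} := by
    rw [← Localization.AtPrime.map_eq_maximalIdeal]
    have := congrArg (Ideal.map (algebraMap W.CoordinateRing (Localization.AtPrime P))) hPeq
    rw [this, Ideal.map_span, Set.image_pair]
  have hfin : (maximalIdeal (Localization.AtPrime P)).spanFinrank ≤ 2 := by
    rw [hmax]
    refine le_trans (Submodule.spanFinrank_span_le_ncard_of_finite (by simp)) ?_
    exact (Set.ncard_insert_le _ _).trans (by simp)
  -- the height of `P` is at least two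
  obtain ⟨ϖ, hϖ⟩ := IsDiscreteValuationRing.exists_irreducible R
  have hm : maximalIdeal R = Ideal.span {ϖ} := hϖ.maximalIdeal_eq
  have hϖm : ϖ ∈ maximalIdeal R := by rw [hm]; exact Ideal.mem_span_singleton_self ϖ
  have hX : (X : R[X]) ∈ P.under R[X] := hx
  have hC : (C ϖ : R[X]) ∈ P.under R[X] := hP ϖ hϖm
  haveI hXp : (Ideal.span {(X : R[X])}).IsPrime :=
    (Ideal.span_singleton_prime Polynomial.X_ne_zero).mpr Polynomial.prime_X
  have hlt1 : (⊥ : Ideal R[X]) < Ideal.span {(X : R[X])} := by
    rw [bot_lt_iff_ne_bot, Ne, Ideal.span_singleton_eq_bot]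
    exact Polynomial.X_ne_zero
  have hlt2 : Ideal.span {(X : R[X])} < P.under R[X] := by
    refine lt_of_le_of_ne ((Ideal.span_singleton_le_iff_mem _).mpr hX) ?_
    intro heq
    rw [← heq, Ideal.mem_span_singleton, Polynomial.X_dvd_iff, Polynomial.coeff_C_zero] at hC
    exact hϖ.ne_zero hC
  haveI : (⊥ : Ideal R[X]).IsPrime := Ideal.isPrime_bot
  have hh1 := Ideal.height_add_one_le_of_lt_of_isPrime hlt1
  have hh2 := Ideal.height_add_one_le_of_lt_of_isPrime hlt2
  have hh3 : (2 : ℕ∞) ≤ (P.under R[X]).height := by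
    have : (1 : ℕ∞) ≤ (Ideal.span {(X : R[X])}).height := le_trans (by simp) hh1
    calc (2 : ℕ∞) = 1 + 1 := by norm_num
      _ ≤ (Ideal.span {(X : R[X])}).height + 1 := by gcongr
      _ ≤ _ := hh2
  haveI : Module.Flat R[X] W.CoordinateRing := inferInstance
  have hh4 := Ideal.height_eq_height_add_of_liesOver_of_hasGoingDown (P.under R[X]) P
  have hh5 : (2 : ℕ∞) ≤ P.height := by
    rw [hh4]
    exact le_trans hh3 le_self_add
  rw [IsLocalization.AtPrime.ringKrullDim_eq_height P (Localization.AtPrime P)]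
  have h7 : ((maximalIdeal (Localization.AtPrime P)).spanFinrank : ℕ∞) ≤ P.height :=
    le_trans (by exact_mod_cast hfin) hh5
  exact WithBot.coe_le_coe.mpr h7

end DVR

end Groth.Agent.Helper12.WeierReg
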