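import Mathlib

set_option autoImplicit false
universe u

namespace Groth.Agent.Helper12.WeilSym

open Polynomial

theorem core (P : ℤ[X]) (hP : P.Monic) (q : ℕ)
    (hweil : ∀ z ∈ P.aroots ℂ, z * (starRingEnd ℂ) z = (q : ℂ))
    (hnr : ∀ z ∈ P.aroots ℂ, z.im ≠ 0) :
    ∃ c : ℕ, P.natDegree = 2 * c ∧ ∀ i ≤ P.natDegree,
      P.coeff (P.natDegree - i) * (q : ℤ) ^ (P.natDegree - i) = (q : ℤ) ^ c * P.coeff i := by
  classical
  have hPcm : (P.map (algebraMap ℤ ℂ)).Monic := hP.map _
  have hdeg : (P.map (algebraMap ℤ ℂ)).natDegree = P.natDegree := hP.natDegree_map _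
  have hsplit : (P.map (algebraMap ℤ ℂ)).Splits := IsAlgClosed.splits _
  have hSdef : P.aroots ℂ = (P.map (algebraMap ℤ ℂ)).roots := rfl
  have hcard : Multiset.card (P.aroots ℂ) = P.natDegree := by
    rw [← hdeg, hSdef]; exact splits_iff_card_roots.mp hsplit
  have hprod : P.map (algebraMap ℤ ℂ) = ((P.aroots ℂ).map (fun z => X - C z)).prod :=
    hsplit.eq_prod_roots_of_monic hPcm
  have hconj : (P.aroots ℂ).map (starRingEnd ℂ) = P.aroots ℂ := by
    have h1 : (P.map (algebraMap ℤ ℂ)).map (starRingEnd ℂ) = P.map (algebraMap ℤ ℂ) := by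
      rw [Polynomial.map_map]
      congr 1
      exact RingHom.ext_int _ _
    have h2 := Polynomial.roots_map_of_map_ne_zero_of_card_eq_natDegree
      (p := P.map (algebraMap ℤ ℂ)) (starRingEnd ℂ) (by rw [h1]; exact hPcm.ne_zero)
      (by rw [hdeg, ← hSdef]; exact hcard)
    rw [h1] at h2
    exact h2
  have hSm : (P.aroots ℂ).filter (fun z => ¬ 0 < z.im) =
      ((P.aroots ℂ).filter (fun z => 0 < z.im)).map (starRingEnd ℂ) := by
    have h1 : (P.aroots ℂ).filter (fun z => ¬ 0 < z.im) =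
        (P.aroots ℂ).filter (fun z => z.im < 0) :=
      Multiset.filter_congr (fun z hz => by
        constructor
        · intro h; exact lt_of_le_of_ne (not_lt.mp h) (hnr z hz)
        · intro h; exact not_lt.mpr h.le)
    rw [h1]
    conv_lhs => rw [← hconj]
    rw [Multiset.filter_map]
    congr 1
    refine Multiset.filter_congr (fun z _ => ?_)
    simp only [Function.comp_apply, Complex.conj_im, neg_lt_zero]
  have hsplitS : P.aroots ℂ = (P.aroots ℂ).filter (fun z => 0 < z.im) +
      ((P.aroots ℂ).filter (fun z => 0 < z.im)).map (starRingEnd ℂ) := by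
    rw [← hSm]; exact (Multiset.filter_add_not _ _).symm
  have hn : P.natDegree = 2 * Multiset.card ((P.aroots ℂ).filter (fun z => 0 < z.im)) := by
    rw [← hcard]
    conv_lhs => rw [hsplitS]
    rw [Multiset.card_add, Multiset.card_map]; omega
  have hprodS : (P.aroots ℂ).prod =
      (q : ℂ) ^ Multiset.card ((P.aroots ℂ).filter (fun z => 0 < z.im)) := by
    conv_lhs => rw [hsplitS]
    rw [Multiset.prod_add]
    have h1 : ((P.aroots ℂ).filter (fun z => 0 < z.im)).prod *
        (((P.aroots ℂ).filter (fun z => 0 < z.im)).map (starRingEnd ℂ)).prod =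
        (((P.aroots ℂ).filter (fun z => 0 < z.im)).map (fun z => z * (starRingEnd ℂ) z)).prod := by
      rw [Multiset.prod_map_mul, Multiset.map_id']
    rw [h1]
    have h2 : ((P.aroots ℂ).filter (fun z => 0 < z.im)).map (fun z => z * (starRingEnd ℂ) z) =
        ((P.aroots ℂ).filter (fun z => 0 < z.im)).map (fun _ => (q : ℂ)) :=
      Multiset.map_congr rfl (fun z hz => hweil z (Multiset.mem_of_mem_filter hz))
    rw [h2, Multiset.map_const', Multiset.prod_replicate]
  set c := Multiset.card ((P.aroots ℂ).filter (fun z => 0 < z.im)) with hc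
  have hR2 : ((P.aroots ℂ).map (fun z => C (q : ℂ) - C z * X)).prod =
      C ((q : ℂ) ^ c) * P.map (algebraMap ℤ ℂ) := by
    have h1 : (P.aroots ℂ).map (fun z => C (q : ℂ) - C z * X) =
        (P.aroots ℂ).map (fun z => C (-z) * (X - C ((starRingEnd ℂ) z))) :=
      Multiset.map_congr rfl (fun z hz => by
        rw [← hweil z hz]
        simp only [map_mul, map_neg]
        ring)
    rw [h1, Multiset.prod_map_mul]
    have h3 : ((P.aroots ℂ).map (fun z => C (-z))).prod = C ((q : ℂ) ^ c) := by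
      have h4 : (P.aroots ℂ).map (fun z => C (-z)) = ((P.aroots ℂ).map Neg.neg).map C := by
        rw [Multiset.map_map]; rfl
      rw [h4, ← map_multiset_prod, Multiset.prod_map_neg, hcard, hn, hprodS, pow_mul]
      simp
    have h5 : ((P.aroots ℂ).map (fun z => X - C ((starRingEnd ℂ) z))).prod =
        P.map (algebraMap ℤ ℂ) := by
      have h6 : (P.aroots ℂ).map (fun z => X - C ((starRingEnd ℂ) z)) =
          ((P.aroots ℂ).map (starRingEnd ℂ)).map (fun w => X - C w) := by
        rw [Multiset.map_map]; rfl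
      rw [h6, hconj, ← hprod]
    rw [h3, h5]
  have hR12 : (∑ j ∈ Finset.range (P.natDegree + 1),
      C ((P.coeff j : ℂ) * (q : ℂ) ^ j) * X ^ (P.natDegree - j) : ℂ[X]) =
      ((P.aroots ℂ).map (fun z => C (q : ℂ) - C z * X)).prod := by
    apply Polynomial.eq_of_infinite_eval_eq
    refine Set.Infinite.mono ?_ (Set.Finite.infinite_compl (Set.finite_singleton (0 : ℂ)))
    intro x hx
    have hx0 : x ≠ 0 := hx
    show eval x _ = eval x _
    rw [Polynomial.eval_multiset_prod, Multiset.map_map]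
    have hr : ((P.aroots ℂ).map (eval x ∘ fun z => C (q : ℂ) - C z * X)) =
        (P.aroots ℂ).map (fun z => x * ((q : ℂ) / x - z)) :=
      Multiset.map_congr rfl (fun z _ => by
        simp only [Function.comp_apply, eval_sub, eval_C, eval_mul, eval_X]
        field_simp)
    rw [hr, Multiset.prod_map_mul, Multiset.map_const', Multiset.prod_replicate, hcard]
    have he : eval ((q : ℂ) / x) (P.map (algebraMap ℤ ℂ)) =
        ((P.aroots ℂ).map (fun z => (q : ℂ) / x - z)).prod := by
      conv_lhs => rw [hprod]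
      rw [Polynomial.eval_multiset_prod, Multiset.map_map]
      congr 1
      refine Multiset.map_congr rfl (fun z _ => ?_)
      simp
    rw [← he, Polynomial.eval_eq_sum_range (p := P.map (algebraMap ℤ ℂ)) ((q : ℂ) / x), hdeg,
      Finset.mul_sum, Polynomial.eval_finset_sum]
    refine Finset.sum_congr rfl fun j hj => ?_
    have hjn : j ≤ P.natDegree := Nat.lt_succ_iff.mp (Finset.mem_range.mp hj)
    rw [eval_mul, eval_C, eval_pow, eval_X, Polynomial.coeff_map]
    have hxx : x ^ P.natDegree = x ^ (P.natDegree - j) * x ^ j := by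
      rw [← pow_add, Nat.sub_add_cancel hjn]
    rw [hxx, div_pow]
    simp only [eq_intCast]
    field_simp
  have hcoef : ∀ i ≤ P.natDegree, (∑ j ∈ Finset.range (P.natDegree + 1),
      C ((P.coeff j : ℂ) * (q : ℂ) ^ j) * X ^ (P.natDegree - j) : ℂ[X]).coeff i =
      (P.coeff (P.natDegree - i) : ℂ) * (q : ℂ) ^ (P.natDegree - i) := by
    intro i hi
    rw [Polynomial.finsetSum_coeff]
    rw [Finset.sum_eq_single (P.natDegree - i)]
    · rw [Polynomial.coeff_C_mul, Polynomial.coeff_X_pow, Nat.sub_sub_self hi, if_pos rfl, mul_one]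
    · intro j hj hne
      have hjn : j ≤ P.natDegree := Nat.lt_succ_iff.mp (Finset.mem_range.mp hj)
      rw [Polynomial.coeff_C_mul, Polynomial.coeff_X_pow, if_neg (by omega), mul_zero]
    · intro h
      exfalso
      apply h
      rw [Finset.mem_range]
      omega
  refine ⟨c, hn, fun i hi => ?_⟩
  have h1 := hcoef i hi
  rw [hR12, hR2, Polynomial.coeff_C_mul, Polynomial.coeff_map] at h1
  simp only [eq_intCast] at h1
  have h2 : ((P.coeff (P.natDegree - i) * (q : ℤ) ^ (P.natDegree - i) : ℤ) : ℂ) =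
      (((q : ℤ) ^ c * P.coeff i : ℤ) : ℂ) := by
    push_cast
    exact h1.symm
  exact_mod_cast h2

theorem main (p e : ℕ) [Fact p.Prime] (he : 0 < e)
    (K : Type u) [Field K] [CharZero K] (π : K) (hπ : IsIntegral ℤ π)
    (hweil : ∀ z ∈ (minpoly ℤ π).aroots ℂ, ‖z‖ = Real.sqrt ((p : ℝ) ^ e))
    (hnr : ∀ z ∈ (minpoly ℤ π).aroots ℂ, z.im ≠ 0) :
    Even (minpoly ℤ π).natDegree ∧
      ∀ r ≤ (minpoly ℤ π).natDegree / 2,
        (minpoly ℤ π).coeff ((minpoly ℤ π).natDegree / 2 - r) =
          (p : ℤ) ^ (e * r) * (minpoly ℤ π).coeff ((minpoly ℤ π).natDegree / 2 + r) := by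
  have hweil' : ∀ z ∈ (minpoly ℤ π).aroots ℂ, z * (starRingEnd ℂ) z = ((p ^ e : ℕ) : ℂ) := by
    intro z hz
    rw [Complex.mul_conj, Complex.normSq_eq_norm_sq, hweil z hz, Real.sq_sqrt (by positivity)]
    push_cast
    rfl
  obtain ⟨c, hn, hco⟩ := core (minpoly ℤ π) (minpoly.monic hπ) (p ^ e) hweil' hnr
  refine ⟨⟨c, by omega⟩, fun r hr => ?_⟩
  have hd : (minpoly ℤ π).natDegree / 2 = c := by omega
  rw [hd] at hr ⊢
  have h := hco (c + r) (by omega)
  have h3 : (minpoly ℤ π).natDegree - (c + r) = c - r := by omega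
  rw [h3] at h
  have hp0 : (p : ℤ) ≠ 0 := by
    have := (Fact.out : p.Prime).pos
    exact_mod_cast this.ne'
  have hq0 : (((p ^ e : ℕ) : ℤ)) ^ (c - r) ≠ 0 := by
    push_cast
    exact pow_ne_zero _ (pow_ne_zero _ hp0)
  apply mul_right_cancel₀ hq0
  rw [h]
  have hpow : (((p ^ e : ℕ) : ℤ)) ^ c = (p : ℤ) ^ (e * r) * (((p ^ e : ℕ) : ℤ)) ^ (c - r) := by
    push_cast
    rw [← pow_mul, ← pow_mul, ← pow_add]
    congr 1
    rw [← Nat.mul_add, Nat.add_sub_cancel' hr]
  rw [hpow]
  ring

end Groth.Agent.Helper12.WeilSym
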